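import Cfsg.Agent.H18.InvMax1
import Cfsg.Agent.H18.NilMax
import Cfsg.Agent.H7.ThompsonNPC
import Cfsg.Agent.H5.ThompsonCond
import Cfsg.Agent.H17.FrobSys
import Cfsg.Agent.H42.OddOrder

/-! A nilpotent maximal invariant subgroup under coprime action. -/

set_option autoImplicit false

namespace H18.IM

open Cfsg Subgroup H98 H1.Gold
open scoped commutatorElement

universe u

structure Hyp {X : Type*} [Group X] (G A M : Subgroup X) : Prop where
  nG : A ≤ nor G
  cop : (Nat.card A).Coprime (Nat.card G)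
  lt : M < G
  nM : A ≤ nor M
  max : ∀ H, M ≤ H → H ≤ G → A ≤ nor H → H = M ∨ H = G
  nil : Group.IsNilpotent M
  cl : ∃ S, IsSyl 2 S M ∧ ∀ a ∈ S, ∀ b ∈ S, ⁅a, b⁆ ∈ cen S

variable {X : Type*} [Group X] [Finite X] {G A M : Subgroup X}

theorem Hyp.map (h : Hyp G A M) {Z : Type*} [Group Z] (f : X →* Z) (hk : f.ker ≤ M) :
    Hyp (G.map f) (A.map f) (M.map f) := by
  have := h.nil
  refine ⟨(map_mono h.nG).trans (le_normalizer_map f),
    (h.cop.coprime_dvd_left (card_map_dvd _ f)).coprime_dvd_right (card_map_dvd _ f),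
    lt_of_le_not_ge (map_mono h.lt.le) fun k => h.lt.not_ge ?_,
    (map_mono h.nM).trans (le_normalizer_map f), fun H h1 h2 h3 => ?_, H2.isNilpotent_map _ _, ?_⟩
  · exact (map_le_map_iff.1 k).trans (sup_le le_rfl hk)
  · have e : (H.comap f).map f = H := map_comap_eq_self (h2.trans (map_le_range _ _))
    refine (h.max (H.comap f) (map_le_iff_le_comap.1 h1) ((comap_mono h2).trans ?_)
      ((map_le_iff_le_comap.1 h3).trans (le_normalizer_comap f))).imp
      (fun k => by rw [← e, k]) fun k => by rw [← e, k]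
    rw [comap_map_eq]
    exact sup_le le_rfl (hk.trans h.lt.le)
  · obtain ⟨S, h1, h2⟩ := h.cl
    have : Fact (Nat.Prime 2) := ⟨Nat.prime_two⟩
    refine ⟨_, h1.map f, ?_⟩
    rintro _ ⟨a, ha, rfl⟩ _ ⟨b, hb, rfl⟩ _ ⟨c, hc, rfl⟩
    rw [← map_commutatorElement, ← map_mul, h2 a ha b hb c hc, map_mul]

omit [Finite X] in
theorem Hyp.sub (h : Hyp G A M) {Y : Subgroup X} (hG : G ≤ Y) (hA : A ≤ Y) :
    Hyp (G.subgroupOf Y) (A.subgroupOf Y) (M.subgroupOf Y) := by
  have := h.nil
  have hM := h.lt.le.trans hG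
  refine ⟨(subgroupOf_mono Y h.nG).trans (le_normalizer_comap _), ?_,
    lt_of_le_not_ge (subgroupOf_mono Y h.lt.le) fun k =>
      h.lt.not_ge fun g hg => k (x := ⟨g, hG hg⟩) hg,
    (subgroupOf_mono Y h.nM).trans (le_normalizer_comap _), fun H h1 h2 h3 => ?_,
    H2.isNilpotent_subgroupOf _ _, ?_⟩
  · rw [Nat.card_congr (subgroupOfEquivOfLe hA).toEquiv,
      Nat.card_congr (subgroupOfEquivOfLe hG).toEquiv]
    exact h.cop
  · have e : (H.map Y.subtype).subgroupOf Y = H :=
      comap_map_eq_self_of_injective Y.subtype_injective H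
    refine (h.max (H.map Y.subtype) ?_ (map_le_iff_le_comap.2 h2) ?_).imp
      (fun k => by rw [← e, k]) fun k => by rw [← e, k]
    · rw [← map_subgroupOf_eq_of_le hM]; exact map_mono h1
    · rw [← map_subgroupOf_eq_of_le hA]; exact (map_mono h3).trans (le_normalizer_map _)
  · obtain ⟨S, h1, h2⟩ := h.cl
    exact ⟨_, h1.subgroupOf hM, fun a ha b hb c hc => Subtype.ext (h2 a ha b hb c hc)⟩

theorem nor_syl {p : ℕ} [Fact p.Prime] {P : Subgroup X} [Group.IsNilpotent M] (hP : IsSyl p P M) :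
    nor M ≤ nor P := by
  rw [hP.eq_pCoreOf (le_normalizer_of_isNilpotent hP)]
  exact normalizer_le_normalizer_pCoreOf M

theorem npc_of_zj {p : ℕ} [Fact p.Prime] (hp : p ≠ 2) {P : Subgroup X} [Group.IsNilpotent M]
    (hP : IsSyl p P G) (h : G ⊓ nor (centerThompsonOf p P) ≤ M) : HasNormalPComplement p G := by
  obtain ⟨Q, rfl⟩ := hP.exists_sylow_map
  refine H7.hasNPC_of_centerThompson hp Q (H7.hasNPC_of_le (K := M.subgroupOf G) (fun g hg => ?_)
    (H7.hasNPC_subgroupOf (H5.hasNPC_of_isNilpotent p) G))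
  refine h ⟨g.2, ?_⟩
  rw [← (H10.isCharFunctor_centerThompsonOf p).map _ _ G.subtype G.subtype_injective]
  exact le_normalizer_map _ ⟨g, hg, rfl⟩

theorem Hyp.solvable : ∀ (n : ℕ) {X : Type u} [Group X] [Finite X] {G A M : Subgroup X},
    Nat.card G = n → Hyp G A M → Group.IsSolvable G := by
  intro n
  induction n using Nat.strong_induction_on with | _ n ih => ?_
  intro X _ _ G A M hn h
  have := h.nil
  have : Fact (Nat.Prime 2) := ⟨Nat.prime_two⟩
  by_cases hcf : ∀ N ≤ M, N ≠ ⊥ → M ≤ nor N → A ≤ nor N → G ⊓ nor N ≤ M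
  swap
  · push Not at hcf
    obtain ⟨N, h1, h2, h3, h4, h5⟩ := hcf
    have hG : G ≤ nor N := inf_eq_left.1 ((h.max _ (le_inf h.lt.le h3) inf_le_left
      (le_normalizer_inf h.nG (h4.trans le_normalizer))).resolve_left fun e => h5 e.le)
    have hk : (QuotientGroup.mk' (N.subgroupOf (nor N))).ker ≤ M.subgroupOf (nor N) := by
      rw [QuotientGroup.ker_mk']; exact subgroupOf_mono _ h1
    have h6 := ih _ ?_ rfl ((h.sub hG h4).map _ hk)
    · have : Group.IsSolvable (N ⊓ G : Subgroup X) := H2.isSolvable_of_le (inf_le_left.trans h1)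
      refine Group.isSolvable_of_ker_le_range (inclusion (inf_le_right (a := N)))
        (((QuotientGroup.mk' (N.subgroupOf (nor N))).subgroupMap (G.subgroupOf (nor N))).comp
          (subgroupOfEquivOfLe hG).symm.toMonoidHom) fun x hx => ⟨⟨x, ?_, x.2⟩, rfl⟩
      exact (QuotientGroup.eq_one_iff (N := N.subgroupOf (nor N)) ⟨x, hG x.2⟩).1
        (congrArg Subtype.val hx)
    · rw [← hn, ← relIndex_ker, QuotientGroup.ker_mk', relIndex_subgroupOf hG,
        ← H46.card_mul_relIndex (h1.trans h.lt.le)]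
      exact lt_mul_of_one_lt_left (H46.relIndex_pos _ _) (one_lt_card_iff_ne_bot _ |>.2 h2)
  by_cases hodd : ∃ p, p.Prime ∧ p ≠ 2 ∧ p ∣ Nat.card M
  · obtain ⟨p, hp, hp2, hd⟩ := hodd
    have := Fact.mk hp
    obtain ⟨P, hP⟩ := exists_isSyl p M
    have h0 : P ≠ ⊥ := fun e => hP.eq_bot_iff.1 e hd
    have hn1 := nor_syl hP
    have hPG : IsSyl p P G := isSyl_of_isSyl_normalizer ((hP.of_le le_rfl hP.le).eq_of_le
      hP.isPGroup le_rfl le_rfl ▸ by
        rw [le_antisymm (hcf P hP.le h0 (le_normalizer.trans hn1) (h.nM.trans hn1))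
          (le_inf h.lt.le (le_normalizer.trans hn1))]
        exact hP)
    have hn2 := hn1.trans (H7.normalizer_le_normalizer_centerThompsonOf (p := p) P)
    have hZ := H10.isCharFunctor_centerThompsonOf.{u} p
    have h1 := H7.hasNPC_iff_not_dvd.1 (npc_of_zj hp2 hPG (hcf _ ((hZ.le _ P).trans hP.le)
      (hZ.ne_bot _ P hP.isPGroup h0) (le_normalizer.trans hn2) (h.nM.trans hn2)))
    rw [← res_subgroupOf, Nat.card_congr (subgroupOfEquivOfLe (res_le G)).toEquiv] at h1
    have hs := hPG.sup_res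
    have hGK := self_le_normalizer_res (p := p) G
    have hAK := le_normalizer_res (p := p) h.nG
    have hKG := res_le (p := p) G
    generalize res p G = K at h1 hs hGK hAK hKG
    have hPK : P ⊓ K = ⊥ := (isSyl_self hP.isPGroup.to_inf_left).eq_bot_iff.2
      fun k => h1 (k.trans (card_dvd_of_le inf_le_right))
    have hPn := hPG.le.trans hGK
    have dd : ∀ H, P ≤ H → H ≤ G → H ≤ P ⊔ (H ⊓ K) := fun H a b x hx => by
      obtain ⟨s, hs', k, hk, rfl⟩ := (mem_sup_left_norm hPn).1 (hs.ge (b hx))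
      exact mul_mem (mem_sup_left hs') (mem_sup_right ⟨(H.mul_mem_cancel_left (a hs')).1 hx, hk⟩)
    have h2 : Group.IsSolvable K := by
      refine ih _ ?_ rfl (A := P ⊔ A) (M := M ⊓ K) ⟨sup_le hPn hAK, ?_, inf_lt_right.2 fun k => ?_,
        le_normalizer_inf (sup_le (hP.le.trans le_normalizer) h.nM) (sup_le hPn hAK),
        fun H k1 k2 k3 => ?_, H2.isNilpotent_of_le inf_le_left, ?_⟩
      · rw [← hn]
        refine card_lt_of_lt (lt_of_le_of_ne hKG fun e => h0 ?_)
        rw [← hPK, e, inf_of_le_left hPG.le]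
      · refine Nat.Coprime.coprime_dvd_left (H46.card_sup_dvd (h.nM.trans hn1))
          (Nat.Coprime.mul_left ?_ (h.cop.coprime_dvd_right (card_dvd_of_le hKG)))
        obtain ⟨k, hk⟩ := hP.isPGroup.exists_card_eq
        rw [hk]
        exact ((Nat.Prime.coprime_iff_not_dvd hp).2 h1).pow_left k
      · exact h.lt.not_ge (hs.ge.trans (sup_le hP.le k))
      · have e : (P ⊔ H) ⊓ K = H := le_antisymm (fun x hx => by
          obtain ⟨s, hs', y, hy, rfl⟩ := (mem_sup_left_norm (le_sup_left.trans k3)).1 hx.1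
          have : s ∈ P ⊓ K := ⟨hs', (K.mul_mem_cancel_right (k2 hy)).1 hx.2⟩
          rw [hPK, mem_bot] at this
          rwa [this, one_mul]) (le_inf le_sup_right k2)
        refine (h.max (P ⊔ H) ((dd M hP.le h.lt.le).trans (sup_le_sup_left k1 _))
          (sup_le hPG.le (k2.trans hKG))
          (le_normalizer_sup (h.nM.trans hn1) (le_sup_right.trans k3))).imp
          (fun k => by rw [← e, k]) fun k => by rw [← e, k, inf_of_le_right hKG]
      · obtain ⟨S, k1, k2⟩ := h.cl
        exact ⟨_, k1.inf_of_le_normalizer inf_le_left (k1.le.trans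
          (le_normalizer_inf le_normalizer (h.lt.le.trans hGK))),
          fun a ha b hb c hc => k2 a ha.1 b hb.1 c hc.1⟩
    rw [← hs, sup_comm]
    exact H46.sol_sup hPn h2 (H1.isSolvable_of_isPGroup hP.isPGroup)
  push Not at hodd
  rcases Nat.even_or_odd (Nat.card G) with he | ho
  swap
  · exact H42.odd_order ho
  have hA : (Nat.card A).Coprime 2 := h.cop.coprime_dvd_right he.two_dvd
  obtain ⟨S, k1, k2⟩ := h.cl
  obtain rfl : S = M := le_antisymm k1.le (le_of_forall_prime_pow_mem fun q hq hd x hx hk => by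
    obtain rfl : q = 2 := by_contra fun e => hodd q hq e hd
    obtain ⟨k, hk⟩ := hk
    exact k1.le_of_le_normalizer' (isPGroup_zpowers hk) (zpowers_le.2 hx)
      ((zpowers_le.2 hx).trans (le_normalizer_of_isNilpotent k1)) (mem_zpowers x))
  obtain ⟨T, h1, h2⟩ := H1.exists_invariant_sylow_ge_subgroup A G h.nG h.cop
    (Or.inl (H42.odd_order (Nat.coprime_two_right.1 hA))) 2 S h.lt.le k1.isPGroup h.nM
  have hT := isSyl_map_subtype T
  rcases h.max _ h1 hT.le h2 with e | e
  · rw [e] at hT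
    have h0 : S ≠ ⊥ := fun e => hT.eq_bot_iff.1 e he.two_dvd
    exact H17.sol_of_hasNPC (two_case ⟨hT, hcf S le_rfl h0 le_normalizer h.nM, k2⟩ h0 h.nG h.nM
      (fun a ha => hA.coprime_dvd_left (A.orderOf_dvd_natCard ha)) hcf)
  · exact H1.isSolvable_of_isPGroup (e ▸ hT.isPGroup)

end H18.IM
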