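import Cfsg.Agent.H18.QTXi3
import Cfsg.Agent.H97.QTPU
import Cfsg.Agent.H11.QTC0
import Cfsg.Agent.H82.Known
import Cfsg.Agent.H9.Cube

/-! Quasithin tower, `JobXi`. -/

set_option autoImplicit false

namespace H18.QT

open Cfsg Subgroup H98 H97.QT
open scoped commutatorElement

universe u

variable {G : Type u} [Group G] [Finite G] {T X : Subgroup G}

theorem exists_PD (hT : IsSyl 2 T ⊤) (hX : X ∈ Xi T) : ∃ (p : ℕ) (_ : Fact p.Prime) (P : Subgroup G),
    p ≠ 2 ∧ P ⊔ pCoreOf 2 X = X ∧ PD p (T ⊓ normalizer (P : Set G)) P := by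
  obtain ⟨-, hn, -, ⟨p, hp, h2, hc⟩, hirr⟩ := hX
  have := Fact.mk hp
  have h1 := hp.one_lt
  let π := QuotientGroup.mk' (pCore 2 X)
  have hπ : Function.Surjective π := QuotientGroup.mk'_surjective _
  have hQ : IsPGroup p (X ⧸ pCore 2 X) := hc.elim (fun h => .of_card h.1) fun h => .of_card h.1
  obtain ⟨R, hR⟩ := exists_isSyl p (⊤ : Subgroup X)
  have hm : R.map π = ⊤ := by
    have := hR.map π
    rw [map_top_of_surjective π hπ] at this
    exact this.eq_of_isPGroup (isPGroup_top_iff.2 hQ)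
  have hs : R ⊔ pCore 2 X = ⊤ := by
    have := congrArg (comap π) hm
    rwa [comap_map_eq, QuotientGroup.ker_mk', comap_top] at this
  have inj : ∀ a ∈ R, π a = 1 → a = 1 := fun a ha h => (IsPGroup.disjoint_of_ne p 2 h2 _ _ hR.isPGroup
    (H2.pCore_isPGroup 2 X)).le_bot (mem_inf.2 ⟨ha, (QuotientGroup.eq_one_iff a).1 h⟩)
  have inj' : ∀ a ∈ R, ∀ b ∈ R, π a = π b → a = b := fun a ha b hb h => mul_inv_eq_one.1
    (inj _ (R.mul_mem ha (R.inv_mem hb)) (by rw [map_mul, map_inv, h, mul_inv_cancel]))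
  have hP : IsSyl p (R.map X.subtype) X := by
    simpa only [H98.map_subtype_top] using hR.map_of_injective X.subtype_injective
  have hcd : Nat.card (R.map X.subtype) = Nat.card (X ⧸ pCore 2 X) := by
    rw [card_map_of_injective X.subtype_injective, ← card_map_of_inf_ker π R inj, hm, card_top]
  have hD : ⁅R, R⁆.map π = commutator _ := by rw [map_commutator, hm, commutator_def]
  have hcm : ⁅R.map X.subtype, R.map X.subtype⁆ = ⊥ ↔ IsMulCommutative (X ⧸ pCore 2 X) := by
    rw [← map_commutator, map_eq_bot_iff_of_injective _ X.subtype_injective, ← commutator_eq_bot_iff, ← hD]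
    exact ⟨fun h => by rw [h, Subgroup.map_bot], fun h => eq_bot_iff.2 fun x hx =>
      inj x (commutator_le_self R hx) ((Subgroup.map_eq_bot_iff _).1 h hx)⟩
  have hF : frattini (X ⧸ pCore 2 X) ≤ commutator _ := by
    rcases hc with ⟨-, -, h⟩ | ⟨h, h'⟩
    · exact H9.frattini_le_of_forall (p := p) (fun x y => commutator_mem_commutator (mem_top x) (mem_top y))
        fun x => h x ▸ one_mem _
    · have := (H9.isExtraspecial_of_card_cube h h').1.2
      rw [this.1, this.2]
  have hOT : pCoreOf 2 X ≤ T := hT.le_of_le_normalizer (isPGroup_pCoreOf X) le_top (le_normalizer_pCoreOf hn)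
  have irr : ∀ U : Subgroup G, U ≤ R.map X.subtype →
      T ⊓ normalizer ((R.map X.subtype : Subgroup G) : Set G) ≤ normalizer (U : Set G) →
      U ≤ ⁅R.map X.subtype, R.map X.subtype⁆ ∨ R.map X.subtype ≤ U := by
    intro U hU hUn
    have hUX := hU.trans hP.le
    have hΦ : twoPhiCore X ≤ X := map_subtype_le _
    have := Characteristic.comap_quotient_mk (H := pCore 2 X) (K := frattini _) inferInstance
    have hΦn : normalizer (X : Set G) ≤ normalizer (twoPhiCore X : Set G) :=
      normalizer_le_normalizer_map_subtype _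
    have hXn : X ≤ normalizer ((U ⊔ twoPhiCore X : Subgroup G) : Set G) :=
      H14.le_normalizer_of_commutator_le (sup_le hUX hΦ) (le_trans (b := twoPhiCore X)
        (commutator_le.2 fun a ha b hb => mem_map.2 ⟨⁅(⟨a, ha⟩ : X), ⟨b, hb⟩⁆, by
          rw [mem_comap, map_commutatorElement]
          exact H9.commutatorElement_mem_frattini hQ _ _, rfl⟩) le_sup_right)
    rcases hirr (U ⊔ twoPhiCore X) le_sup_right (sup_le hUX hΦ) (fun t ht => by
      obtain ⟨a, ha, n, hn', rfl⟩ := hP.frattini_mem (hn ht)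
      obtain ⟨y, hy, o, ho, e⟩ := mem_sup_of_normal_right.1 (hs ▸ mem_top (⟨n, hn'⟩ : X))
      obtain rfl : (y : G) * o = n := congrArg Subtype.val e
      have b1 : a * y ∈ T ⊓ normalizer ((R.map X.subtype : Subgroup G) : Set G) := mem_inf.2 ⟨by
        simpa [mul_assoc] using T.mul_mem ht (T.inv_mem (hOT ⟨o, ho, rfl⟩)),
        mul_mem ha (le_normalizer (mem_map_of_mem X.subtype hy))⟩
      rw [← mul_assoc]
      exact mul_mem (le_normalizer_sup hUn (inf_le_left.trans (hn.trans hΦn)) b1) (hXn o.2)) with k | k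
    · left
      intro u hu
      obtain ⟨x, hx, rfl⟩ := hU hu
      obtain ⟨y, hy, e⟩ : X.subtype x ∈ twoPhiCore X := k ▸ mem_sup_left hu
      obtain rfl : y = x := Subtype.ext e
      obtain ⟨c, hc', e'⟩ : π y ∈ ⁅R, R⁆.map π := hD ▸ hF hy
      rw [← map_commutator, ← inj' c (commutator_le_self R hc') y hx e']
      exact mem_map_of_mem _ hc'
    · right
      have b1 : U.subgroupOf X ⊔ (frattini _).comap π = ⊤ := map_injective X.subtype_injective (by
        rw [Subgroup.map_sup, map_subgroupOf_eq_of_le hUX, H98.map_subtype_top]; exact k)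
      have b2 : (U.subgroupOf X).map π = ⊤ := frattini_nongenerating (by
        have := congrArg (map π) b1
        rwa [Subgroup.map_sup, map_comap_eq_self_of_surjective hπ, map_top_of_surjective π hπ] at this)
      rintro _ ⟨x, hx, rfl⟩
      obtain ⟨u, hu, e⟩ : π x ∈ (U.subgroupOf X).map π := b2 ▸ mem_top _
      obtain ⟨y, hy, e'⟩ := hU hu
      obtain rfl : y = u := Subtype.ext e'
      exact inj' y hy x hx e ▸ hu
  refine ⟨p, this, R.map X.subtype, h2, ?_, inf_le_right, ?_, ?_, irr⟩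
  · rw [pCoreOf, ← Subgroup.map_sup, hs, H98.map_subtype_top]
  · rcases hc with ⟨-, -, h⟩ | ⟨h, h'⟩
    · rintro _ ⟨x, hx, rfl⟩
      rw [← map_pow, inj _ (R.pow_mem hx p) (by rw [map_pow, h]), map_one]
    rw [← hcd] at h
    rw [← hcm] at h'
    generalize R.map X.subtype = P at *
    obtain ⟨d1, d2⟩ := card_der_le h
    have hnc : ¬ IsCyclic P := fun c => h' (H14.commutator_eq_bot_iff_comm.2
      (H9.isMulCommutative_iff_forall.1 inferInstance))
    rcases irr (omegaOne p P) (H48.omegaOne_le' P) (inf_le_right.trans (by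
      rw [← H48.map_Om_subtype]; exact normalizer_le_normalizer_map_subtype _)) with k | k
    · have := (card_le_of_le k).trans d1
      rw [H48.card_omegaOne] at this
      have := (H48.sq_le_card_Om h2 hP.isPGroup hnc).trans this
      nlinarith
    · refine fun x hx => H48.pow_eq_one_of_mem_omegaOne (fun y hy =>
        H9.pow_eq_one_of_mem_closure_of_class_two (hp.odd_of_ne_two h2) (fun z hz => ?_) hy) (k hx)
      exact mem_center_iff.2 fun g => Subtype.ext (H14.commutator_eq_bot_iff_comm.1 d2 z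
        (map_subtype_commutator P ▸ mem_map_of_mem P.subtype hz) g g.2).symm
  · rw [hcd, Ne, hcm]
    exact hc.imp (fun h => ⟨h.1, h.2.1⟩) id

theorem sqtk_of_surjective {H Y : Type u} [Group H] [Finite H] [Group Y] (h : SQTK H) (f : H →* Y)
    (hf : Function.Surjective f) (hk : IsPGroup 2 f.ker) : SQTK Y := by
  refine ⟨fun p hp h2 => ?_, fun A N _ hs hc => ?_⟩
  · have := Fact.mk hp
    exact H48.pRankLE_of_surjective (h.1 p hp h2) f hf
      (H2.coprime_card_of_isPGroup hk ((Nat.coprime_primes hp Nat.prime_two).2 h2))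
  · exact H82.known_of_surjective h.2 (A.comap f) ((QuotientGroup.mk' N).comp (f.subgroupComap A))
      ((QuotientGroup.mk'_surjective N).comp (f.subgroupComap_surjective_of_surjective A hf)) hs hc

theorem sqtk_of_calH [IsSimpleGroup G] (hG : ¬ IsMulCommutative G) (hQ : IsQTKE G) {H : Subgroup G}
    (hH : H ∈ calH G) : SQTK H := by
  have h1 : pCoreOf 2 H ≠ ⊥ := fun x => hH (pCoreOf_eq_bot_iff.1 x)
  refine ⟨fun p hp h2 => H48.pRankLE_of_le (hQ.1 p hp h2 _ ⟨_, isPGroup_pCoreOf H, h1, rfl⟩)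
    (self_le_normalizer_pCoreOf H), hQ.2.1 H fun e => ?_⟩
  rw [e, pCoreOf_top] at h1
  have h3 := H2.pCore_eq_top_iff.1 ((IsSimpleGroup.eq_bot_or_eq_top_of_normal (pCore 2 G)
    inferInstance).resolve_left h1)
  have := h3.isNilpotent
  exact H14.quasi_not_solvable (H14.quasi_of_simple hG) inferInstance

/-- The preimage of a component of `H / O₂(H)` gives a member of `ℒ(G, T)`. -/
theorem exists_calL {H : Subgroup G} (hT : IsSyl 2 T ⊤) (hH : H ∈ calHOver T) {K : Subgroup (H ⧸ pCore 2 H)}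
    (hK : IsComponent K) : ∃ L ∈ calL T, IsQuasisimple (L ⧸ pCore 2 L) ∧
      (K.comap (QuotientGroup.mk' _)).map H.subtype ≤ L ⊔ T := by
  let f := QuotientGroup.mk' (pCore 2 H)
  have hf : Function.Surjective f := QuotientGroup.mk'_surjective _
  have hk : IsPGroup 2 f.ker := by rw [QuotientGroup.ker_mk']; exact H2.pCore_isPGroup 2 H
  obtain ⟨h1, h2⟩ := H11.QT.C.exists_lift hf (by have := hk.isNilpotent; infer_instance) (comp_mem_calC hK)
  generalize H11.QT.pc (K.comap f) = M at h1 h2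
  have hOT : pCoreOf 2 H ≤ T := (hT.of_le hH.2 le_top).pCoreOf_le
  have hW : M.map H.subtype ⊔ T ≤ H := sup_le (map_subtype_le M) hH.2
  refine ⟨M.map H.subtype, ⟨?_, (hT.of_le le_sup_right le_top).exists_sylow, fun e => hH.1 ?_⟩, ?_, ?_⟩
  · have h3 : M ≤ (M.map H.subtype ⊔ T).subgroupOf H := fun x hx => mem_sup_left (mem_map_of_mem _ hx)
    have h4 := H11.QT.C.map_of_solv (H11.QT.C.subgroupOf h1 h3) (f := (subgroupOfEquivOfLe hW).toMonoidHom)
      (subgroupOfEquivOfLe hW).surjective (by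
        rw [(MonoidHom.ker_eq_bot_iff _).2 (subgroupOfEquivOfLe hW).injective]; infer_instance)
    convert h4 using 1
    ext x
    constructor
    · rintro ⟨y, hy, e⟩
      exact ⟨⟨y, h3 hy⟩, hy, Subtype.ext e⟩
    · rintro ⟨y, hy, rfl⟩
      exact ⟨y, hy, rfl⟩
  · have := pCoreOf_le_pCoreOf (p := 2) hW (hOT.trans le_sup_right)
    rw [pCoreOf_eq_bot_iff.2 e, le_bot_iff, pCoreOf_eq_bot_iff] at this
    exact this
  · let ψ : M.map H.subtype →* K := (f.comp (inclusion (map_subtype_le M))).codRestrict K (by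
      rintro ⟨_, x, hx, rfl⟩
      exact h2 ▸ mem_map_of_mem f hx)
    have hψ : Function.Surjective ψ := fun y => by
      obtain ⟨x, hx, e⟩ : (y : H ⧸ pCore 2 H) ∈ M.map f := h2 ▸ y.2
      exact ⟨⟨x, mem_map_of_mem _ hx⟩, Subtype.ext e⟩
    have h5 := H2.comap_pCore_of_ker_isPGroup (p := 2) ψ hψ (by
      rw [MonoidHom.ker_codRestrict, ← MonoidHom.comap_ker]
      exact hk.comap_of_injective _ (inclusion_injective _))
    rw [H2.pCore_eq_subgroupOf_of_isSubnormal hK.1, H2.pCore_quotient_pCore, bot_subgroupOf,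
      MonoidHom.comap_bot] at h5
    exact H14.quasi_of_mulEquiv hK.2 ((QuotientGroup.quotientMulEquivOfEq h5.symm).trans
      (QuotientGroup.quotientKerEquivOfSurjective ψ hψ)).symm
  · rw [← h2, comap_map_eq, QuotientGroup.ker_mk', Subgroup.map_sup]
    exact sup_le_sup_left hOT _

theorem le_normalizer_Xi [IsSimpleGroup G] (kf : KF.{u}) (cs : CStruct.{u}) (hG : ¬ IsMulCommutative G)
    (hQ : IsQTKE G) (hT : IsSyl 2 T ⊤) (hX : X ∈ XiStar T) {H : Subgroup G} (hH : H ∈ calH G)
    (hle : X ⊔ T ≤ H) : H ≤ normalizer (X : Set G) := by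
  obtain ⟨p, hp, P, h2, hs, h⟩ := exists_PD hT hX.1
  have hres : res 2 X = X := oddGenerated_eq X ▸ hX.1.1
  have hn := hX.1.2.1
  have hTH := le_sup_right.trans hle
  have hPH : P ≤ H := (le_sup_left.trans hs.le).trans (le_sup_left.trans hle)
  have hOT : pCoreOf 2 X ≤ T := hT.le_of_le_normalizer (isPGroup_pCoreOf X) le_top (le_normalizer_pCoreOf hn)
  have hOT' : pCoreOf 2 H ≤ T := (hT.of_le hTH le_top).pCoreOf_le
  let f := QuotientGroup.mk' (pCore 2 H)
  have hf : Function.Surjective f := QuotientGroup.mk'_surjective _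
  have hk : IsPGroup 2 f.ker := by rw [QuotientGroup.ker_mk']; exact H2.pCore_isPGroup 2 H
  have h3 : PD p ((T ⊓ normalizer (P : Set G)).subgroupOf H) (P.subgroupOf H) := PD.of_map H.subtype_injective
    (by rwa [map_subgroupOf_eq_of_le (inf_le_left.trans hTH), map_subgroupOf_eq_of_le hPH])
  have h4 := h3.map f fun a ha e => (IsPGroup.disjoint_of_ne p 2 h2 _ _ h3.isPGroup hk).le_bot
    (mem_inf.2 ⟨ha, e⟩)
  have h5 : IsSyl 2 ((T.subgroupOf H).map f) ⊤ := by
    have := ((hT.of_le hTH le_top).subgroupOf_top).map f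
    rwa [map_top_of_surjective f hf] at this
  have h6 := h4.normal kf cs (sqtk_of_surjective (sqtk_of_calH hG hQ hH) f hf hk)
    (H2.pCore_quotient_pCore 2 H) h2 h5 fun K hK k => by
      obtain ⟨L, hL1, hL2, hL3⟩ := exists_calL hT ⟨hH, hTH⟩ hK
      refine hX.2 L hL1 hL2 (sup_le (hs.ge.trans (sup_le ?_ (hOT.trans le_sup_right))) le_sup_right)
      have := map_mono (f := H.subtype) (map_le_iff_le_comap.1 k)
      rw [map_subgroupOf_eq_of_le hPH, ← comap_sup_eq f _ _ hf, Subgroup.map_sup, comap_map_eq,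
        Subgroup.map_sup, map_subgroupOf_eq_of_le hTH, QuotientGroup.ker_mk'] at this
      exact this.trans (sup_le hL3 (sup_le le_sup_right (hOT'.trans le_sup_right)))
  have h7 := le_normalizer_map_subtype (((P.subgroupOf H).map f).comap f)
  rw [comap_map_eq, QuotientGroup.ker_mk', Subgroup.map_sup, map_subgroupOf_eq_of_le hPH] at h7
  change H ≤ normalizer ((P ⊔ pCoreOf 2 H : Subgroup G) : Set G) at h7
  have h8 : X ≤ P ⊔ pCoreOf 2 H := by
    have := res_sup_le_right (isPGroup_pCoreOf (p := 2) X) ((hOT.trans hTH).trans h7)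
    refine hres.ge.trans ((res_mono (hs.ge.trans ?_)).trans this)
    exact sup_le (le_sup_left.trans le_sup_right) le_sup_left
  have h9 : res 2 (P ⊔ pCoreOf 2 H) = X := by
    refine le_antisymm (le_trans (res_mono ?_) (res_sup_le_right (isPGroup_pCoreOf (p := 2) H)
      (hOT'.trans hn))) (hres.ge.trans (res_mono h8))
    exact sup_le ((le_sup_left.trans hs.le).trans le_sup_right) le_sup_left
  exact h9 ▸ le_normalizer_res h7

theorem jobXi : JobXi.{u} := by
  intro kf cs G _ _ _ hG hQ T X hX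
  have hT := isSyl_sylow T
  have hn : X ⊔ (T : Subgroup G) ≤ normalizer (X : Set G) := sup_le le_normalizer hX.1.2.1
  have hO : pCoreOf 2 X ≠ ⊥ := fun e => by
    obtain ⟨p, hp, P, h2, hs, h⟩ := exists_PD hT hX.1
    have h1 := calH_charP hQ.2.2 T (H := X ⊔ T) ⟨hX.1.2.2.1, le_sup_right⟩
    have h3 := pCoreOf_eq_inf_of_normal (p := 2) le_sup_left hn
    have h4 : X ≤ pCoreOf 2 (X ⊔ (T : Subgroup G)) := le_trans (le_inf le_sup_left
      (commutator_eq_bot_iff_le_centralizer.1 (eq_bot_iff.2 (le_trans (le_inf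
        (le_normalizer_iff_commutator_le_right.1 (le_normalizer_pCoreOf_of_le le_sup_left))
        (le_normalizer_iff_commutator_le_left.1 ((pCoreOf_le _).trans hn))) (h3.symm.trans e).le)))) h1
    have h5 := (IsPGroup.disjoint_of_ne p 2 h2 _ _ h.isPGroup (isPGroup_pCoreOf _)).eq_bot_of_le
      ((le_sup_left.trans hs.le).trans h4)
    have := h.sq_le
    have := hp.out.one_lt
    rw [h5, card_bot] at *
    nlinarith
  have key : ∀ N : Subgroup G, IsTwoLocal N → X ⊔ (T : Subgroup G) ≤ N → N ≤ normalizer (X : Set G) := by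
    rintro _ ⟨Q, h1, h2, rfl⟩ hle
    refine le_normalizer_Xi kf cs hG hQ hT hX (fun e => h2 ?_) hle
    have := le_pCoreOf h1 le_normalizer le_rfl
    rwa [pCoreOf_eq_bot_iff.2 e, le_bot_iff] at this
  have hloc : IsTwoLocal (normalizer (pCoreOf 2 X : Set G)) := ⟨_, isPGroup_pCoreOf X, hO, rfl⟩
  have hle := normalizer_le_normalizer_pCoreOf (p := 2) X
  have e := le_antisymm hle (key _ hloc (hn.trans hle))
  rw [← e] at hloc
  ext M
  constructor
  · rintro ⟨h1, h2⟩
    exact (h1.2 _ hloc (key M h1.1 h2)).symm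
  · rintro rfl
    exact ⟨⟨hloc, fun N hN k => le_antisymm (key N hN (hn.trans k)) k⟩, hn⟩

end H18.QT
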