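import Cfsg.Agent.H57.DPCSpec

/-! Tower DPC57 (S3275), slot `Pr`: the projection on `K` when `N(K) = K × C(K)`. -/

set_option autoImplicit false

namespace H18.DPCPr

open Subgroup Cfsg H48.DP H57.DPC

universe u

variable {G : Type u} [Group G] {K : Subgroup G}

theorem uniq (hK : K ⊓ Ce K = ⊥) {g l m : G} (hl : l ∈ K) (hm : m ∈ K) (h1 : l⁻¹ * g ∈ Ce K)
    (h2 : m⁻¹ * g ∈ Ce K) : l = m := by
  have h : l⁻¹ * m ∈ K ⊓ Ce K := mem_inf.2 ⟨mul_mem (inv_mem hl) hm, by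
    simpa [mul_assoc] using mul_mem h1 (inv_mem h2)⟩
  rwa [hK, mem_bot, inv_mul_eq_one] at h

theorem exists_pi (hK : K ⊓ Ce K = ⊥) (hI : H57.DPC.Inn K) :
    ∃ π : No K →* G, (∀ g, π g ∈ K) ∧ ∀ g : No K, (π g)⁻¹ * g ∈ Ce K := by
  choose f f1 f2 using fun g : No K => hI g g.2
  refine ⟨MonoidHom.mk' f fun g h => uniq hK (f1 _) (mul_mem (f1 g) (f1 h)) (f2 _) ?_, f1, f2⟩
  have h1 := mem_centralizer_iff.1 (f2 g) _ (inv_mem (f1 h))
  have h2 := mul_mem (f2 g) (f2 h)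
  rw [← mul_assoc, ← h1] at h2
  simpa [mul_assoc] using h2

theorem jobPr : JobPr.{u} := by
  intro G _ _ K hK hI
  obtain ⟨π, p1, p2⟩ := exists_pi hK hI
  have p3 : ∀ g : No K, π g = 1 ↔ (g : G) ∈ Ce K := fun g =>
    ⟨fun h => by simpa [h] using p2 g, fun h => uniq hK (p1 g) (one_mem _) (p2 g) (by simpa using h)⟩
  have hr : ∀ (B : Subgroup G) (hB : B ≤ No K), pr K B = (π.comp (inclusion hB)).range := by
    intro B hB
    refine le_antisymm (fun l hl => ?_) ?_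
    · have hX : B ⊔ Ce K ≤ ((π.comp (inclusion hB)).range.comap π).map (No K).subtype :=
        sup_le (fun b hb => ⟨⟨b, hB hb⟩, ⟨⟨b, hb⟩, rfl⟩, rfl⟩) fun c hc =>
          ⟨⟨c, centralizer_le_normalizer _ hc⟩, by
            rw [SetLike.mem_coe, mem_comap, (p3 _).2 hc]; exact one_mem _, rfl⟩
      obtain ⟨g, h1, rfl⟩ := hX hl.2
      have h2 : π g = g := uniq hK (p1 g) hl.1 (p2 g) (by simp)
      rw [SetLike.mem_coe, mem_comap, h2] at h1
      exact h1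
    · rintro _ ⟨b, rfl⟩
      refine ⟨p1 _, ?_⟩
      have := mul_mem (mem_sup_left (T := Ce K) b.2)
        (mem_sup_right (inv_mem (p2 (inclusion hB b))))
      simpa using this
  refine ⟨⟨π, p1, p2, p3⟩, fun B hB => ⟨?_, fun p h => ?_, fun p h => ?_, fun h b hb => ?_,
    fun T hT hBT => ?_⟩⟩
  · have h1 : (π.comp (inclusion hB)).ker = (B ⊓ Ce K).subgroupOf B := by
      ext b
      rw [MonoidHom.mem_ker, MonoidHom.comp_apply, p3, mem_subgroupOf]
      exact ⟨fun h => ⟨b.2, h⟩, fun h => h.2⟩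
    rw [hr B hB, ← index_ker, ← Nat.card_congr (subgroupOfEquivOfLe inf_le_left).toEquiv, ← h1,
      card_mul_index]
  · rw [hr B hB]
    exact h.of_surjective _ (MonoidHom.rangeRestrict_surjective _)
  · rw [hr B hB]
    refine ⟨⟨⟨?_⟩⟩, ?_⟩
    · rintro ⟨_, a, rfl⟩ ⟨_, b, rfl⟩
      refine Subtype.ext ?_
      simp only [coe_mul]
      rw [← map_mul, h.1.is_comm.comm a b, map_mul]
    · rintro _ ⟨a, rfl⟩
      rw [← map_pow, show a ^ p = 1 from Subtype.ext (h.2 a a.2), map_one]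
  · rw [hr B hB] at h
    exact (p3 ⟨b, hB hb⟩).1 (mem_bot.1 (h ▸ ⟨⟨b, hb⟩, rfl⟩))
  · rw [hr B hB, hr T hT]
    have key : ∀ b : B, ∀ y ∈ (π.comp (inclusion hT)).range,
        π.comp (inclusion hB) b * y * (π.comp (inclusion hB) b)⁻¹ ∈
          (π.comp (inclusion hT)).range := by
      rintro b _ ⟨t, rfl⟩
      refine ⟨⟨b * t * b⁻¹, (mem_normalizer_iff.1 (hBT b.2) t).1 t.2⟩, ?_⟩
      simp only [MonoidHom.comp_apply]
      rw [← map_inv, ← map_mul, ← map_mul]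
      rfl
    rintro _ ⟨b, rfl⟩
    refine mem_normalizer_iff.2 fun y => ⟨key b y, fun h => ?_⟩
    simpa [mul_assoc] using key b⁻¹ _ h

end H18.DPCPr
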