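import Cfsg.Agent.H14.CBSpec
import Cfsg.Agent.H14.FEKit

/-! # S1308, tower CB: job Ln -/

set_option autoImplicit false

namespace H18.CB

open Cfsg Subgroup MulAction H14 H98 H1.Gold H31.S2 H14.GC H14.FE H14.NF H14.CB
open scoped commutatorElement

universe u

/-- `y ↦ ⁅t, y⁆` is a homomorphism on `P` with kernel `E`. -/
theorem card_range {G : Type u} [Group G] [Finite G] {E P : Subgroup G} {t : G} (hEP : E ≤ P)
    (hP : P ≤ cen E) (ht : t ∈ cen E) (cm : ∀ y ∈ P, ⁅t, y⁆ ∈ E)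
    (nd : ∀ y ∈ P, y ∉ E → ⁅t, y⁆ ≠ 1) : ∃ R : Subgroup G, R ≤ E ∧
      Nat.card P = Nat.card E * Nat.card R ∧ ∀ r, r ∈ R ↔ ∃ y ∈ P, ⁅t, y⁆ = r := by
  let φ : P →* G := MonoidHom.mk' (fun y => ⁅t, (y : G)⁆) fun y z => by
    have h1 : ⁅t, (z : G)⁆ * y = y * ⁅t, (z : G)⁆ := hP y.2 _ (cm z z.2)
    have h2 : ⁅t, ((y * z : P) : G)⁆ = ⁅t, (y : G)⁆ * (y * ⁅t, (z : G)⁆ * (y : G)⁻¹) := by
      simp only [commutatorElement_def, coe_mul]; group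
    rw [h2, ← h1, mul_inv_cancel_right]
  have hk : φ.ker = E.subgroupOf P := by
    ext y
    rw [MonoidHom.mem_ker, mem_subgroupOf]
    refine ⟨fun h => by_contra fun hy => nd y y.2 hy h, fun h => ?_⟩
    exact commutatorElement_eq_one_iff_mul_comm.2 (ht _ h).symm
  refine ⟨φ.range, ?_, ?_, fun r => ⟨fun ⟨y, e⟩ => ⟨y, y.2, e⟩, fun ⟨y, hy, e⟩ => ⟨⟨y, hy⟩, e⟩⟩⟩
  · rintro _ ⟨y, rfl⟩
    exact cm y y.2
  · rw [← card_mul_index φ.ker, index_ker, hk, Nat.card_congr (subgroupOfEquivOfLe hEP).toEquiv]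

theorem jobLn : JLn.{u} := by
  intro G _ _ Q E tg Q₁ T P ln
  have hEP := ln.pg.lt.le
  have hP : P ≤ cen E := ln.pg.le.trans inf_le_right
  have hc : Nat.card P = Nat.card E * Nat.card E := by
    obtain ⟨g, -, hg⟩ := ln.col.p2
    obtain ⟨t, ht, h2⟩ := four_exists_inv (hg ▸ tg.four.cj g : Four T)
    obtain ⟨R, h3, h4, h5⟩ := card_range hEP hP (ln.col.comm ht) (ln.pg.cm t ht)
      fun y hy hn => ln.pg.nd y hy hn t ht h2.1
    rw [h4, le_antisymm h3 fun r hr => (h5 r).2 (ln.fu t ht h2.1 r hr)]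
  refine ⟨hc, fun Q₂ T₂ col cm => ?_⟩
  have nd : ∀ y ∈ P, y ∉ E → ∀ a ∈ T₂, a ≠ 1 → ⁅a, y⁆ ≠ 1 := by
    intro y hy hn a ha a1 e
    obtain ⟨g, hQ, hT⟩ := col.p2
    have aa : a * a = 1 := by
      rw [hT] at ha
      obtain ⟨b, hb, rfl⟩ := ha
      rw [← map_mul, tg.el b hb, map_one]
    have h1 : cen1 a ≤ nor Q₂ := by
      rw [hQ]
      refine tg.cen_le g a ?_ ⟨a1, aa⟩
      rw [hT] at ha
      exact map_mono tg.le ha
    refine hn (tg.exc _ _ _ _ (tg.sym _ _ _ _ col) (P ⊓ nor Q₂)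
      (inf_le_inf_right _ (ln.pg.le.trans inf_le_left)) (ln.pg.two.to_le inf_le_left)
      (le_inf hEP fun r hr => h1 (mem_cen1.2 (col.comm ha r hr))) ⟨hy, h1 (mem_cen1.2 ?_)⟩)
    exact (commutatorElement_eq_one_iff_mul_comm.1 e).symm
  refine ⟨col, ⟨ln.pg.two, ln.pg.le, ln.pg.lt, cm, nd, ln.pg.sq⟩, fun a ha a1 r hr => ?_⟩
  obtain ⟨R, h3, h4, h5⟩ := card_range hEP hP (col.comm ha) (cm a ha)
    fun y hy hn => nd y hy hn a ha a1
  have h6 : Nat.card E = Nat.card R := Nat.eq_of_mul_eq_mul_left Nat.card_pos (hc.symm.trans h4)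
  have h7 : R = E := eq_of_le_of_card_ge h3 h6.le
  exact (h5 r).1 (h7 ▸ hr)

end H18.CB
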