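import Cfsg.Agent.H18.SAK

/-! STD-A, wreath case: `JobNQ`. -/

set_option autoImplicit false
set_option linter.unusedSectionVars false

namespace H18.SA

open H64.SG (O2 Syl Cz Cs Ns cjs Is2 Inv2 UF IsO2 fx mem_Cs mem_Cz mem_fx is2_of_sq
  isPGroup_iff_is2 mem_of_sq_mem)
open H57 H98 H67.SA Subgroup
open scoped commutatorElement

universe u

variable {n : ℕ} {F : Type} [Field F] [Finite F] [CharP F 2] {G : Type u} [Group G] [Finite G]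
  {e e₁ e₂ : SLn n F →* G} {g m r t : G} {β : Au n F} {A B : Subgroup (SLn n F)}
  {a b : SLn n F}

theorem nor_of_odd {X Y : Subgroup G} (ho : Odd (orderOf m)) (hc : Nat.card X = Nat.card Y)
    (h1 : cjs m X ≤ X ∨ cjs m X ≤ Y) (h2 : cjs m Y ≤ Y ∨ cjs m Y ≤ X) : m ∈ Ns X := by
  rcases h1 with h1 | h1
  · exact mem_normalizer_of_cj_le h1
  rcases h2 with h2 | h2
  · have k := mem_normalizer_of_cj_le h2
    rwa [eq_of_le_of_card_ge (cj_le_cj_iff.1 (h1.trans (cj_eq_self k).ge)) hc.ge]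
  · exact mem_of_sq_mem (mem_normalizer_of_cj_le
      ((cj_cj m m X).ge.trans ((cj_mono m h1).trans h2))) ho

theorem cm_QQ (ha : a ∈ QQ n F) (hb : b ∈ QQ n F) : cm a b ∈ ZZ n F := by
  have z : ∀ A ≤ QQ n F, A ≤ Ns (ZZ n F) := fun A h =>
    le_normalizer_of_le_centralizer (h.trans (QQ_le_UU.trans UU_le_Cs))
  have k1 : ⁅Er n F, Ec n F⁆ ≤ ZZ n F := (le_inf
    (commutator_le_left' (Ec_le_QQ.trans (QQ_le_UU.trans (UU_le_P00.trans (P00_le_Pr.trans Pr_le_Ns)))))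
    (commutator_le_right' (Er_le_QQ.trans (QQ_le_UU.trans (UU_le_P00.trans
      (P00_le_Pc.trans Pc_le_Ns)))))).trans (Er_inf_Ec (n := n) (F := F)).le
  have k2 : ∀ A : Subgroup (SLn n F), A ≤ Cs A → ⁅A, A⁆ ≤ ZZ n F := fun A h =>
    (commutator_eq_bot_iff_le_centralizer.2 h).le.trans bot_le
  exact commutator_sup_left_le (z _ Er_le_QQ) (z _ Ec_le_QQ)
    (commutator_sup_right_le (z _ Er_le_QQ) (z _ Ec_le_QQ) (k2 _ (Row_le_Cs _)) k1)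
    (commutator_sup_right_le (z _ Er_le_QQ) (z _ Ec_le_QQ) (by rwa [Subgroup.commutator_comm])
      (k2 _ (Col_le_Cs _))) (commutator_mem_commutator ha hb)

theorem cm_ZZ (ha : a ∈ ZZ n F) (hb : b ∈ QQ n F) : cm a b = 1 :=
  cm_eq_one.2 (UU_le_Cs (QQ_le_UU hb) a ha)

theorem exists_QZ (hn : 2 ≤ n) : ∃ a ∈ QQ n F, a ∉ ZZ n F := SetLike.not_le_iff_exists.1 fun k => by
  have := card_le_of_le (Er_le_QQ.trans k)
  rw [card_Er, card_ZZ (by omega)] at this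
  exact absurd ((Nat.pow_le_pow_iff_right one_lt_card).1 (this.trans_eq (pow_one _).symm)) (by omega)

namespace HB

variable (h : HB e t e₁ e₂)
include h

theorem cm2 (a b c d : SLn n F) :
    cm (e₁ a * e₂ b) (e₁ c * e₂ d) = e₁ (cm a c) * e₂ (cm b d) := by
  rw [cm, h.conj2, mul_inv_eq_iff_eq_mul, h.mul_mul, inv_mul_cancel_right, inv_mul_cancel_right]

/-- `[v, Q*] ≤ Z₁` for `v ∈ Q₁ Z₂` -/
theorem cm_mem (h1 : m ∈ Ns (two e₁ e₂ (QQ n F))) (ha : a ∈ QQ n F) (hb : b ∈ ZZ n F)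
    (hg : g ∈ two e₁ e₂ (QQ n F)) : cm (m * (e₁ a * e₂ b) * m⁻¹) g ∈ cjs m ((ZZ n F).map e₁) := by
  obtain ⟨c, hc, d, hd, k⟩ := h.mem_two.1 (conj_mem_of_mem_normalizer' h1 hg)
  refine mem_cjs.2 ⟨_, cm_QQ ha hc, ?_⟩
  rw [← mul_one (e₁ _), ← map_one e₂, ← cm_ZZ hb hd, ← h.cm2, ← k, cm, cm]
  group

variable (fc : FC n F) (h1 : m ∈ Ns (two e₁ e₂ (QQ n F)))
include fc h1

theorem z_or : cjs m ((ZZ n F).map e₁) ≤ (ZZ n F).map e₁ ∨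
    cjs m ((ZZ n F).map e₁) ≤ (ZZ n F).map e₂ := by
  obtain ⟨a, ha, a1⟩ := exists_QZ (F := F) h.hn
  obtain ⟨a', ha', b', hb', k⟩ := h.mem_two.1 (conj_mem_of_mem_normalizer h1
    (h.mem_two.2 ⟨a, ha, 1, one_mem _, rfl⟩))
  have k1 : ∀ w ∈ cjs m ((ZZ n F).map e₁), ∃ c ∈ QQ n F, ∃ d ∈ QQ n F,
      w = e₁ (cm a' c) * e₂ (cm b' d) := by
    rintro _ ⟨_, ⟨z, hz, rfl⟩, rfl⟩
    obtain ⟨u, hu, rfl⟩ := fc.qz a ha a1 z hz
    obtain ⟨c, hc, d, hd, k1⟩ := h.mem_two.1 (conj_mem_of_mem_normalizer h1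
      (mem_sup_left ⟨u, hu, rfl⟩))
    exact ⟨c, hc, d, hd, by rw [← h.cm2, ← k, ← k1]; simp [cm, mul_assoc]⟩
  by_cases b1 : b' ∈ ZZ n F
  · refine .inl fun w hw => ?_
    obtain ⟨c, hc, d, hd, rfl⟩ := k1 w hw
    exact ⟨_, cm_QQ ha' hc, by rw [cm_ZZ b1 hd, map_one, mul_one]⟩
  by_cases a2 : a' ∈ ZZ n F
  · refine .inr fun w hw => ?_
    obtain ⟨c, hc, d, hd, rfl⟩ := k1 w hw
    exact ⟨_, cm_QQ hb' hd, by rw [cm_ZZ a2 hc, map_one, one_mul]⟩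
  have k2 : two e₁ e₂ (ZZ n F) ≤ cjs m ((ZZ n F).map e₁) := fun w hw => by
    obtain ⟨y, hy, z, hz, rfl⟩ := h.mem_two.1 hw
    obtain ⟨c, hc, rfl⟩ := fc.qz a' ha' a2 y hy
    obtain ⟨d, hd, rfl⟩ := fc.qz b' hb' b1 z hz
    rw [← h.cm2, ← k]
    exact h.cm_mem h1 ha (one_mem _) (h.mem_two.2 ⟨c, hc, d, hd, rfl⟩)
  have := card_le_of_le k2
  rw [card_cjs, card_map2 h.ker isP_ZZ, h.card_two h.hn isP_ZZ, card_ZZ (by have := h.hn; omega)]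
    at this
  exact absurd ((Nat.pow_le_pow_iff_right one_lt_card).1 (this.trans_eq (pow_one _).symm)) (by omega)

variable (ho : Odd (orderOf m))
include ho

theorem nZ : m ∈ Ns ((ZZ n F).map e₁) := nor_of_odd ho
  (by rw [card_map2 h.ker isP_ZZ, card_map2 h.ker₂ isP_ZZ]) (h.z_or fc h1)
  (h.symm.z_or fc (by rwa [two_comm]))

theorem nB : m ∈ Ns ((QQ n F).map e₁ ⊔ (ZZ n F).map e₂) := mem_normalizer_of_cj_le (by
  rintro _ ⟨w, hw, rfl⟩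
  obtain ⟨a, ha, b, hb, rfl⟩ := h.mem_sup.1 hw
  obtain ⟨a', ha', b', hb', k⟩ := h.mem_two.1 (conj_mem_of_mem_normalizer h1
    (h.mem_two.2 ⟨a, ha, b, ZZ_le_QQ hb, rfl⟩))
  refine h.mem_sup.2 ⟨a', ha', b', by_contra fun b1 => ?_, k⟩
  obtain ⟨d, hd, k1⟩ := fc.qz b' hb' b1 _ (x_mem_ZZ 1)
  have := (cj_eq_self (h.nZ fc h1 ho)).le
    (h.cm_mem h1 ha hb (h.mem_two.2 ⟨1, one_mem _, d, hd, rfl⟩))
  rw [k, h.cm2, ← k1] at this
  exact x0_ne h.hn (h.eq_one₂ (is2_of_sq (x_mul_self ..)) (map_le_range _ _ this)))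

variable (fa : FA n F) (cu : Cs ((Er n F).map e) ≤ Ns (G12 e₁ e₂))
include fa cu

theorem nE (h2 : m ∈ Cs ((QQ n F).map e₂ ⊔ (ZZ n F).map e₁)) :
    m ∈ Ns ((Er n F).map e₁) ∧ m ∈ Ns ((Ec n F).map e₁) := by
  have t1 : cjs t ((QQ n F).map e₁ ⊔ (ZZ n F).map e₂) = (QQ n F).map e₂ ⊔ (ZZ n F).map e₁ := by
    exact (cj_sup t _ _).trans (congrArg₂ _ (h.cjs_map _) (h.symm.cjs_map _))
  obtain ⟨k, k1, k2⟩ := ktr h.uf (h.nB fc h1 ho) (t1 ▸ h2) (by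
    rw [t1, ← centralizer_sup]
    exact (centralizer_anti ((h.map_le _).trans ((two_mono Er_le_QQ).trans
      (sup_le_sup le_sup_left le_sup_left)))).trans cu)
  have k3 : ∀ z ∈ ZZ n F, k * e₁ z * k⁻¹ = e₁ z := fun z hz => by
    rw [k2 _ (mem_sup_left ⟨z, ZZ_le_QQ hz, rfl⟩), ← h2 _ (mem_sup_right ⟨z, hz, rfl⟩),
      mul_inv_cancel_right]
  obtain ⟨β, i⟩ := exists_ind h.hn h.ker (h.nor k1 (is2_of_sq (x_mul_self ..)) (x0_ne h.hn)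
    (by rw [k3 _ (x_mem_ZZ 1)]; exact ⟨_, rfl⟩)).1
  have k4 : ∀ A ≤ QQ n F, ∀ B : Subgroup (SLn n F), (∀ a, a ∈ A ↔ β a ∈ B) →
      cjs m (A.map e₁) ≤ B.map e₁ := by
    rintro A hA B hB _ ⟨_, ⟨a, ha, rfl⟩, rfl⟩
    exact ⟨_, (hB a).1 ha, (i a).symm.trans (k2 _ (mem_sup_left ⟨a, hA ha, rfl⟩))⟩
  rcases (fa.nz β (mem_St_of_finite fun z hz => by
    have z2 := isPGroup_iff_is2.1 isP_ZZ z hz
    rwa [(i.eq_iff h.ker z2 z2).1 (k3 z hz)])).2 with k | k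
  · exact ⟨mem_normalizer_of_cj_le (k4 _ Er_le_QQ _ k.2.1),
      mem_normalizer_of_cj_le (k4 _ Ec_le_QQ _ k.2.2)⟩
  · have c : Nat.card ((Er n F).map e₁) = Nat.card ((Ec n F).map e₁) := by
      rw [card_map2 h.ker isP_Er, card_map2 h.ker isP_Ec, card_Er, card_Ec]
    have k5 := k4 _ Er_le_QQ _ k.2.1
    have k6 := k4 _ Ec_le_QQ _ k.2.2
    exact ⟨nor_of_odd ho c (.inr k5) (.inr k6), nor_of_odd ho c.symm (.inr k6) (.inr k5)⟩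

theorem e_or (hA : A = Er n F ∨ A = Ec n F) :
    cjs m (A.map e₁ ⊔ (ZZ n F).map e₂) ≤ (Er n F).map e₁ ⊔ (ZZ n F).map e₂ ∨
      cjs m (A.map e₁ ⊔ (ZZ n F).map e₂) ≤ (Ec n F).map e₁ ⊔ (ZZ n F).map e₂ := by
  have h1' : m ∈ Ns (two e₂ e₁ (QQ n F)) := by rwa [two_comm]
  have a1 : A ≤ QQ n F := by rcases hA with rfl | rfl; exacts [Er_le_QQ, Ec_le_QQ]
  have a2 : ∀ a ∈ A, a * a = 1 := by rcases hA with rfl | rfl; exacts [fun _ => sq_Row, fun _ => sq_Col]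
  have a3 : Nat.card A = Nat.card F ^ n := by rcases hA with rfl | rfl; exacts [card_Er, card_Ec]
  generalize hY : cjs m (A.map e₁ ⊔ (ZZ n F).map e₂) = Y
  have k1 : Y ≤ (Y.comap e₁ ⊓ QQ n F).map e₁ ⊔ (ZZ n F).map e₂ := fun w hw => by
    obtain ⟨a, ha, b, hb, rfl⟩ := h.mem_sup.1 (cj_le_of_le (sup_le_sup_right (map_mono a1) _)
      (h.nB fc h1 ho) (hY.ge hw))
    exact h.mem_sup.2 ⟨a, ⟨(Y.mul_mem_cancel_right (hY.le (le_trans (cj_eq_self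
      (h.symm.nZ fc h1' ho)).ge (cj_mono m le_sup_right) ⟨b, hb, rfl⟩))).1 hw, ha⟩, b, hb, rfl⟩
  have k2 := card_le_of_le k1
  rw [h.card_sup h.hn (isP_QQ.to_le inf_le_right) isP_ZZ, ← hY, card_cjs,
    h.card_sup h.hn (isP_QQ.to_le a1) isP_ZZ, a3, hY] at k2
  refine Or.imp (fun k => by rwa [k] at k1) (fun k => by rwa [k] at k1)
    (fc.li (Y.comap e₁ ⊓ QQ n F) inf_le_right
      (fun u hu => sq_of_e h.ker (isPGroup_iff_is2.1 isP_QQ u hu.2) ?_)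
      (Nat.le_of_mul_le_mul_right k2 Nat.card_pos) ((closure_le _).2 fun p hp => ?_))
  · obtain ⟨w, hw, k⟩ := hY.ge hu.1
    obtain ⟨a, ha, b, hb, rfl⟩ := h.mem_sup.1 hw
    rw [← k, ← map_mul, h.mul_mul, a2 a ha, sq_ZZ hb]
    simp
  · have p1 : p ∈ Ns (QQ n F) := conj_mem_St.1 (fa.nz _ (conj_mem_St.2 (H64.SG.Cs_le_Ns _ hp.1))).1
    have p2 : e₁ p ∈ Ns (two e₁ e₂ (QQ n F)) := by simpa using h.nor_two p1 (one_mem _)
    have p3 : ∀ B : Subgroup (SLn n F), e₁ p ∈ Cs (B.map e₂) := fun B => Cs_range_le _ (h.le_Cs' ⟨p, rfl⟩)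
    have p4 := h.nE fc (mul_mem (mul_mem (inv_mem h1) p2) h1) (by
      have := (MulAut.conj m⁻¹).orderOf_eq (e₁ p)
      rw [MulAut.conj_apply, inv_inv] at this
      exact this ▸ hp.2.of_dvd_nat (orderOf_map_dvd _ _)) fa cu (conj_mem_of_mem_normalizer'
        (normalizer_le_normalizer_centralizer _ (h.symm.nB fc h1' ho)) (by
          exact (centralizer_sup _ _).ge ⟨p3 _, map_mem_Cs hp.1⟩))
    have p5 : e₁ p ∈ Ns Y := by
      rw [← hY, ← H64.SG.cj_Ns, mem_cjs]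
      refine le_normalizer_sup (zpowers_le.2 ?_) (zpowers_le.2 (H64.SG.Cs_le_Ns _
        (conj_mem_of_mem_normalizer' (normalizer_le_normalizer_centralizer _
          (h.symm.nZ fc h1' ho)) (p3 _)))) (mem_zpowers _)
      rcases hA with rfl | rfl
      exacts [p4.1, p4.2]
    exact le_normalizer_inf (zpowers_le.2 (comap_le_normalizer_comap e₁ le_rfl p5))
      (zpowers_le.2 p1) (mem_zpowers p)

theorem nEZ : m ∈ Ns ((Er n F).map e₁ ⊔ (ZZ n F).map e₂) ∧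
    m ∈ Ns ((Ec n F).map e₁ ⊔ (ZZ n F).map e₂) := by
  have c : Nat.card ↥((Er n F).map e₁ ⊔ (ZZ n F).map e₂) =
      Nat.card ↥((Ec n F).map e₁ ⊔ (ZZ n F).map e₂) := by
    rw [h.card_sup h.hn isP_Er isP_ZZ, h.card_sup h.hn isP_Ec isP_ZZ, card_Er, card_Ec]
  have k1 := h.e_or fc h1 ho fa cu (.inl rfl)
  have k2 := h.e_or fc h1 ho fa cu (.inr rfl)
  exact ⟨nor_of_odd ho c k1 k2.symm, nor_of_odd ho c.symm k2.symm k1⟩

end HB

theorem nor_two_of (hA : ZZ n F ≤ A) (h1 : m ∈ Ns (A.map e₁ ⊔ (ZZ n F).map e₂))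
    (h2 : m ∈ Ns (A.map e₂ ⊔ (ZZ n F).map e₁)) : m ∈ Ns (two e₁ e₂ A) := by
  have : two e₁ e₂ A = (A.map e₁ ⊔ (ZZ n F).map e₂) ⊔ (A.map e₂ ⊔ (ZZ n F).map e₁) :=
    le_antisymm (sup_le_sup le_sup_left le_sup_left) (sup_le (sup_le_sup_left (map_mono hA) _)
      (sup_le le_sup_right (le_sup_of_le_left (map_mono hA))))
  rw [this]
  exact le_normalizer_sup (zpowers_le.2 h1) (zpowers_le.2 h2) (mem_zpowers m)

theorem jobNQ (hA : JobFA) (hC : JobFC) : JobNQ.{u} := by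
  intro n F _ _ _ hp G _ _ e t e₁ e₂ _ c w nw
  have h := hb_of hp c w
  have hn := hp.two_le
  have cu := Ml_one (n := n) (F := F) ▸ w.cu 1 le_rfl (by omega)
  refine jobK11 h.uf (IsConj.refl t) h.uf.mem _ (h.t_mem_Ns h.tt _) fun m h1 ho => ?_
  have k1 := h.nEZ (hC n F hp) h1 ho (hA n F hp) cu
  have k2 := h.symm.nEZ (hC n F hp) (by rwa [two_comm]) ho (hA n F hp) (by rwa [G12_comm])
  exact nw ⟨nor_two_of ZZ_le_Er k1.1 k2.1, nor_two_of ZZ_le_Ec k1.2 k2.2⟩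

end H18.SA
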