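import Cfsg.Agent.H18.CGrp

/-! If `p`-subgroups of equal order are conjugate for all `p`, no Sylow subgroup is `p^{1+2}`. -/

namespace H18.CG

open Cfsg hiding pRank
open H46 Subgroup
open scoped commutatorElement

universe u
variable {G : Type u} [Group G] [Finite G] {p : ℕ} [hp : Fact p.Prime]

/-- `t` inverts `E` -/
def Inv (t : G) (E : Subgroup G) : Prop := ∀ e ∈ E, t * e * t⁻¹ = e⁻¹

omit [Finite G] in
theorem Inv.pow_odd {t : G} {E : Subgroup G} (h : Inv t E) {m : ℕ} (hm : Odd m) :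
    Inv (t ^ m) E := by
  obtain ⟨k, rfl⟩ := hm
  induction k with
  | zero => simpa using h
  | succ k ih =>
    intro e he
    have e1 : t ^ (2 * (k + 1) + 1) * e * (t ^ (2 * (k + 1) + 1))⁻¹ =
        t * (t * (t ^ (2 * k + 1) * e * (t ^ (2 * k + 1))⁻¹) * t⁻¹) * t⁻¹ := by group
    rw [e1, ih e he, h _ (E.inv_mem he), inv_inv, h e he]

omit [Finite G] in
theorem inv_of_gen {t z x : G} (hc : Commute z x) (hz : t * z * t⁻¹ = z⁻¹)
    (hx : t * x * t⁻¹ = x⁻¹) : Inv t (zpowers z ⊔ zpowers x) := by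
  intro e he
  obtain ⟨_, ⟨i, rfl⟩, _, ⟨j, rfl⟩, rfl⟩ :=
    (mem_sup_of_nrm (zpowers_le.2 (cent1_le_nrm_zpowers z (mem_cent1.2 hc.symm)))).1 he
  have : t * (z ^ i * x ^ j) * t⁻¹ = (t * z * t⁻¹) ^ i * (t * x * t⁻¹) ^ j := by
    rw [conj_zpow, conj_zpow]; group
  simp only [this, hz, hx]
  rw [(hc.zpow_zpow i j).eq, mul_inv_rev, inv_zpow, inv_zpow]

theorem Inv.nrm {t : G} {E : Subgroup G} (h : Inv t E) : t ∈ Nrm E := by
  apply mem_nrm_of_cj_le
  rintro _ ⟨x, hx, rfl⟩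
  change t * x * t⁻¹ ∈ E
  rw [h x hx]; exact E.inv_mem hx

theorem exists_odd_pow (s : G) : ∃ m, Odd m ∧ IsPiElt {2} (s ^ m) := by
  obtain ⟨k, m, hm, e⟩ := Nat.exists_eq_two_pow_mul_odd (orderOf_pos s).ne'
  refine ⟨m, hm, (pnat_singleton_pow Nat.prime_two k).of_dvd ?_⟩
  rw [orderOf_dvd_iff_pow_eq_one, ← pow_mul, mul_comm, ← e, pow_orderOf_eq_one]

omit [Finite G] in
theorem eq_one_of_inv (hp2 : p ≠ 2) {x : G} (hx : x ^ p = 1) (h : x = x⁻¹) : x = 1 := by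
  have h2 : x ^ 2 = 1 := by rw [pow_two]; nth_rewrite 1 [h]; exact inv_mul_cancel x
  have := pow_gcd_eq_one.2 ⟨hx, h2⟩
  rwa [(Nat.coprime_primes hp.out Nat.prime_two).2 hp2, pow_one] at this

/-- Sylow 2-subgroups look like `Q₈`. -/
def QLike (G : Type u) [Group G] : Prop :=
  (∀ x : G, IsPiElt {2} x → x ^ 4 = 1) ∧
    ∀ T : Subgroup G, IsPi {2} T → ∀ a ∈ T, ∀ b ∈ T, a ≠ 1 → a ^ 2 = 1 → b ≠ 1 → b ^ 2 = 1 → a = b

theorem qlike_of {S : Subgroup G} (hS : IsSylowOf 2 S ⊤) (e : S ≃* QuaternionGroup 2) :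
    QLike G := by
  have h1 : ∀ x : QuaternionGroup 2, x ^ 4 = 1 := by decide
  have h2 : ∀ a b : QuaternionGroup 2, a ≠ 1 → a ^ 2 = 1 → b ≠ 1 → b ^ 2 = 1 → a = b := by decide
  have key : ∀ T : Subgroup G, IsPi {2} T → ∃ f : T →* QuaternionGroup 2, Function.Injective f := by
    intro T hT
    obtain ⟨g, -, hg⟩ := sylow_cj_le Nat.prime_two hS (hT.isPGroup Nat.prime_two) le_top
    exact ⟨e.toMonoidHom.comp ((inclusion hg).comp (cjEquiv g T).toMonoidHom),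
      e.injective.comp ((inclusion_injective hg).comp (cjEquiv g T).injective)⟩
  constructor
  · intro x hx
    obtain ⟨f, hf⟩ := key _ (isPi_zpowers.2 hx)
    have : (⟨x, mem_zpowers x⟩ : zpowers x) ^ 4 = 1 := hf (by rw [map_pow, h1, map_one])
    exact congrArg Subtype.val this
  · intro T hT a ha b hb ha1 ha2 hb1 hb2
    obtain ⟨f, hf⟩ := key T hT
    have key2 : ∀ c (hc : c ∈ T), c ≠ 1 → c ^ 2 = 1 → f ⟨c, hc⟩ ≠ 1 ∧ f ⟨c, hc⟩ ^ 2 = 1 :=
      fun c hc h1 h2 => ⟨fun h => h1 (congrArg Subtype.val (hf (h.trans (map_one f).symm))),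
        by rw [← map_pow, show (⟨c, hc⟩ : T) ^ 2 = 1 from Subtype.ext h2, map_one]⟩
    exact congrArg Subtype.val (hf (h2 _ _ (key2 a ha ha1 ha2).1 (key2 a ha ha1 ha2).2
      (key2 b hb hb1 hb2).1 (key2 b hb hb1 hb2).2))

section
variable {P : Subgroup G} (hC : CP p G) (hP : IsSylowOf p P ⊤) (h : Ex3 p P) {z x : G}
  (hz : z ∈ Zc P) (hz1 : z ≠ 1) (hx : x ∈ P) (hxZ : x ∉ Zc P)
include hC hP h hz hz1 hx hxZ

theorem exists_s : ∃ u v : G, u ^ p = 1 ∧ v ^ p = 1 ∧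
    Inv ((u * v * u) ^ 2) (zpowers z ⊔ zpowers x) := by
  have hZ : zpowers z = Zc P := eq_zpowers_of_card_prime (h.zc.1.symm ▸ hp.out) hz hz1
  have hx1 : x ≠ 1 := fun e => hxZ (e ▸ one_mem _)
  have hox : Nat.card (zpowers x) = p := by
    rw [card_zpowers', orderOf_eq_prime (h.exp x hx) hx1]
  have hc : Commute z x := (mem_cent.1 hz.2 x hx).symm
  obtain ⟨g, hg⟩ := hC (Zc P) (zpowers x) (h.isPGroup.to_le inf_le_left)
    (h.isPGroup.to_le (zpowers_le.2 hx)) (h.zc.1.trans hox.symm)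
  rw [cj_zc] at hg
  have h1 : IsSylowOf p (cj g P) (Cent1 x) := by
    have := hP.cj g
    rw [cj_top] at this
    refine this.of_le ?_ le_top
    rw [← cent_zpowers, hg]
    exact le_cent_symm inf_le_right
  obtain ⟨c, hcx, hc2⟩ := sylow_le_cj hp.out h1 (h.isPGroup.to_le
    ((zpowers_le.2 hz).trans inf_le_left)) (zpowers_le.2 (mem_cent1.2 hc))
  have hP' : Ex3 p (cj c (cj g P)) := (h.cj g).cj c
  have hZ' : Zc (cj c (cj g P)) = zpowers x := by
    rw [← cj_zc, ← hg, cj_of_mem_nrm (cent1_le_nrm_zpowers x hcx)]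
  obtain ⟨u, hu, e1⟩ := h.exists_comm hx hxZ hz
  obtain ⟨v, hv, e2⟩ := hP'.exists_comm (x := z) (z := x⁻¹) (hc2 (mem_zpowers z)) (by
    rw [hZ']
    intro hh
    apply hxZ
    rw [← hZ, eq_zpowers_of_card_prime (hox.symm ▸ hp.out) hh hz1]
    exact mem_zpowers x) (hZ' ▸ inv_mem (mem_zpowers x))
  have e3 : u * z * u⁻¹ = z := by rw [mem_cent.1 hz.2 u hu, mul_inv_cancel_right]
  have e4 : v * x * v⁻¹ = x := by
    have : x ∈ Zc (cj c (cj g P)) := hZ' ▸ mem_zpowers x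
    rw [mem_cent.1 this.2 v hv, mul_inv_cancel_right]
  have f1 : (u * v * u) * x * (u * v * u)⁻¹ = z := by
    calc _ = u * (v * (u * x * u⁻¹) * v⁻¹) * u⁻¹ := by group
      _ = u * ((v * z * v⁻¹) * (v * x * v⁻¹)) * u⁻¹ := by rw [e1]; group
      _ = u * z * u⁻¹ := by rw [e2, e4, mul_assoc x⁻¹, hc.eq, inv_mul_cancel_left]
      _ = z := e3
  have f2 : (u * v * u) * z * (u * v * u)⁻¹ = x⁻¹ := by
    calc _ = u * (v * (u * z * u⁻¹) * v⁻¹) * u⁻¹ := by group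
      _ = u * (x⁻¹ * z) * u⁻¹ := by rw [e3, e2]
      _ = (u * x * u⁻¹)⁻¹ * (u * z * u⁻¹) := by group
      _ = x⁻¹ := by rw [e1, e3]; group
  refine ⟨u, v, h.exp u hu, hP'.exp v hv, inv_of_gen hc ?_ ?_⟩
  · set s := u * v * u
    calc s ^ 2 * z * (s ^ 2)⁻¹ = s * (s * z * s⁻¹) * s⁻¹ := by rw [pow_two]; group
      _ = (s * x * s⁻¹)⁻¹ := by rw [f2]; group
      _ = _ := by rw [f1]
  · set s := u * v * u
    calc s ^ 2 * x * (s ^ 2)⁻¹ = s * (s * x * s⁻¹) * s⁻¹ := by rw [pow_two]; group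
      _ = _ := by rw [f1, f2]

theorem qlike (hp2 : p ≠ 2) (h2 : CP 2 G) : QLike G := by
  haveI : Fact (Nat.Prime 2) := ⟨Nat.prime_two⟩
  obtain ⟨u, v, hu, hv, hs⟩ := exists_s hC hP h hz hz1 hx hxZ
  have hno : ∀ m, Odd m → ((u * v * u) ^ 2) ^ m ≠ 1 := fun m hm e => by
    have := hs.pow_odd hm z (mem_sup_left (mem_zpowers z))
    rw [e, one_mul, inv_one, mul_one] at this
    exact hz1 (eq_one_of_inv hp2 (h.exp z hz.1) this)
  obtain ⟨S⟩ : Nonempty (Sylow 2 G) := inferInstance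
  rcases h2.sylow S.isPGroup' with h1 | h1 | ⟨-, ⟨e⟩⟩ | ⟨h1, -⟩
  · exfalso
    by_cases hev : 2 ∣ Nat.card G
    · have hmin : (Nat.card G).minFac = 2 := (Nat.minFac_eq_two_iff _).2 hev
      have hK := h1.isComplement' hmin
      set K := (MonoidHom.transferSylow S (h1.normalizer_le_centralizer hmin)).ker
      have hmem : ∀ w : G, w ^ p = 1 → w ∈ K := fun w hw => by
        rw [MonoidHom.mem_ker]
        set f := MonoidHom.transferSylow S (h1.normalizer_le_centralizer hmin)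
        obtain ⟨k, hk⟩ := S.isPGroup' (f w)
        have h3 : f w ^ p = 1 := by rw [← map_pow, hw, map_one]
        have := pow_gcd_eq_one.2 ⟨h3, hk⟩
        rwa [((Nat.coprime_primes hp.out Nat.prime_two).2 hp2).pow_right k, pow_one] at this
      have hs : u * v * u ∈ K := K.mul_mem (K.mul_mem (hmem u hu) (hmem v hv)) (hmem u hu)
      refine hno (Nat.card K) ?_ ?_
      · rw [← hK.index_eq_card]
        exact Nat.odd_iff.2 (Nat.two_dvd_ne_zero.1 S.not_dvd_index)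
      · exact congrArg Subtype.val (pow_card_eq_one' (G := K) (x := ⟨_, K.pow_mem hs 2⟩))
    · exact hno (Nat.card G) (Nat.odd_iff.2 (Nat.two_dvd_ne_zero.1 hev)) pow_card_eq_one'
  · exfalso
    obtain ⟨m, hm, h3⟩ := exists_odd_pow (u * v * u)
    obtain ⟨g, -, hg⟩ := sylow_le_cj Nat.prime_two (isSylowOf_top S)
      ((isPi_zpowers.2 h3).isPGroup Nat.prime_two) le_top
    obtain ⟨y, hy, e⟩ := hg (mem_zpowers _)
    apply hno m hm
    rw [← pow_mul, mul_comm, pow_mul, ← e, ← map_pow, h1.2 y hy, map_one]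
  · exact qlike_of (isSylowOf_top S) e
  · exact absurd rfl h1

theorem exists_inv (hp2 : p ≠ 2) (hQ : QLike G) : (∃ t : G, Inv t (zpowers z ⊔ zpowers x)) ∧
    ∀ j ∈ Nrm (zpowers z ⊔ zpowers x), j ≠ 1 → j ^ 2 = 1 → Inv j (zpowers z ⊔ zpowers x) := by
  obtain ⟨u, v, hu, hv, hs⟩ := exists_s hC hP h hz hz1 hx hxZ
  refine ⟨⟨_, hs⟩, fun j hj hj1 hj2 => ?_⟩
  obtain ⟨m, hm, h3⟩ := exists_odd_pow (u * v * u)
  have ht := hs.pow_odd hm
  set t := ((u * v * u) ^ 2) ^ m with htd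
  set E := zpowers z ⊔ zpowers x
  have ht2 : t ^ 2 = 1 := by
    rw [← hQ.1 _ h3, htd, ← pow_mul, ← pow_mul, ← pow_mul]; congr 1; ring
  have ht1 : t ≠ 1 := fun e => by
    have := ht z (mem_sup_left (mem_zpowers z))
    rw [e, one_mul, inv_one, mul_one] at this
    exact hz1 (eq_one_of_inv hp2 (h.exp z hz.1) this)
  have pg : ∀ w : G, w ^ 2 = 1 → IsPGroup 2 (zpowers w) := fun w hw =>
    (isPi_zpowers.2 ((pnat_singleton_pow Nat.prime_two 1).of_dvd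
      (orderOf_dvd_of_pow_eq_one hw))).isPGroup Nat.prime_two
  obtain ⟨T, hT, htT⟩ := exists_sylow_ge Nat.prime_two (pg t ht2) (zpowers_le.2 ht.nrm)
  obtain ⟨n, hn, hnT⟩ := sylow_cj_le Nat.prime_two hT (pg j hj2) (zpowers_le.2 hj)
  have e : n * j * n⁻¹ = t := hQ.2 T hT.isPi _ (hnT (conj_mem_cj.2 (mem_zpowers j))) _
    (htT (mem_zpowers t)) (fun e => hj1 (by simpa using e)) (by rw [conj_pow, hj2]; group) ht1 ht2
  intro w hw
  have := ht _ (conj_mem_of_mem_nrm hn hw)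
  rw [← e] at this
  calc j * w * j⁻¹ = n⁻¹ * (n * j * n⁻¹ * (n * w * n⁻¹) * (n * j * n⁻¹)⁻¹) * n := by group
    _ = _ := by rw [this]; group

end

theorem not_ex3 (hC : CP p G) (h2 : CP 2 G) (hp2 : p ≠ 2) {P : Subgroup G}
    (hP : IsSylowOf p P ⊤) : ¬ Ex3 p P := by
  intro h
  obtain ⟨z, hz, hz1⟩ := exists_ne_one_of_ne_bot (zc_ne_bot_of_isPGroup hp.out h.isPGroup h.ne_bot)
  have hZ : zpowers z = Zc P := eq_zpowers_of_card_prime (h.zc.1.symm ▸ hp.out) hz hz1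
  obtain ⟨x, hx, hxZ⟩ : ∃ x ∈ P, x ∉ Zc P := by
    by_contra hh
    push Not at hh
    exact h.nc (comm_iff_le_cent.2 fun x hx => (hh x hx).2)
  have hQ := qlike hC hP h hz hz1 hx hxZ hp2 h2
  obtain ⟨⟨t, ht⟩, hall⟩ := exists_inv hC hP h hz hz1 hx hxZ hp2 hQ
  set E := zpowers z ⊔ zpowers x with hE
  have hEP : E ≤ P := sup_le ((zpowers_le.2 hz).trans inf_le_left) (zpowers_le.2 hx)
  have hPE : P ≤ Nrm E := commutator_le_right_iff.1 (by
    rw [Subgroup.commutator_le]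
    intro a ha b hb
    exact mem_sup_left (hZ ▸ h.zc.2 a ha b (hEP hb)))
  have hM : IsSylowOf p P (Cent E ⊔ P) := hP.of_le le_sup_right le_top
  have hle : cj t P ≤ Cent E ⊔ P := by
    rintro _ ⟨y, hy, rfl⟩
    change t * y * t⁻¹ ∈ _
    have e : t * y * t⁻¹ = (t * y * t⁻¹ * y⁻¹) * y := by group
    rw [e]
    refine mul_mem (mem_sup_left (mem_cent.2 fun w hw => ?_)) (mem_sup_right hy)
    have h1 := ht _ (conj_mem_of_mem_nrm' (hPE hy) hw)
    have h3 := ht _ (E.inv_mem hw)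
    have h4 : t⁻¹ * (y⁻¹ * w * y) * t = (y⁻¹ * w * y)⁻¹ := by
      have := ht _ (E.inv_mem (conj_mem_of_mem_nrm' (hPE hy) hw))
      rw [inv_inv] at this
      rw [← this]
      conv_rhs => rw [this]
      group
    symm
    calc t * y * t⁻¹ * y⁻¹ * w = t * y * (t⁻¹ * (y⁻¹ * w * y) * t) * t⁻¹ * y⁻¹ := by group
      _ = (t * w⁻¹ * t⁻¹) * (t * y * t⁻¹ * y⁻¹) := by rw [h4]; group
      _ = _ := by rw [h3, inv_inv]
  have hM2 : IsSylowOf p (cj t P) (Cent E ⊔ P) := by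
    have := hP.cj t
    rw [cj_top] at this
    exact this.of_le hle le_top
  obtain ⟨m, hm, e⟩ := sylow_trans hp.out hM hM2
  obtain ⟨c, hc, y, hy, rfl⟩ := (mem_sup_of_nrm (nrm_cent hPE)).1 hm
  rw [cj_mul, cj_of_mem hy] at e
  have hn : c⁻¹ * t ∈ Nrm P := by rw [mem_nrm_iff_cj, cj_mul, e, cj_inv_cj]
  have hni : Inv (c⁻¹ * t) E := fun w hw => by
    calc c⁻¹ * t * w * (c⁻¹ * t)⁻¹ = c⁻¹ * (t * w * t⁻¹) * c := by group
      _ = _ := by rw [ht w hw, mul_assoc, mem_cent.1 hc _ (E.inv_mem hw), inv_mul_cancel_left]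
  obtain ⟨k, hk, h3⟩ := exists_odd_pow (c⁻¹ * t)
  have hj := hni.pow_odd hk
  have hjP : (c⁻¹ * t) ^ k ∈ Nrm P := pow_mem hn k
  set j := (c⁻¹ * t) ^ k
  have hzE : z ∈ E := mem_sup_left (mem_zpowers z)
  have hzp : z ^ p = 1 := h.exp z hz.1
  have hj1 : j ≠ 1 := fun e => by
    have := hj z hzE
    rw [e, one_mul, inv_one, mul_one] at this
    exact hz1 (eq_one_of_inv hp2 hzp this)
  have hj2 : j ^ 2 = 1 := by
    by_contra hh
    have h4 := hall (j ^ 2) (pow_mem hj.nrm 2) hh (by rw [← pow_mul]; exact hQ.1 j h3) z hzE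
    have h5 : j ^ 2 * z * (j ^ 2)⁻¹ = j * (j * z * j⁻¹) * j⁻¹ := by rw [pow_two]; group
    rw [h5, hj z hzE, hj _ (E.inv_mem hzE), inv_inv] at h4
    exact hz1 (eq_one_of_inv hp2 hzp h4)
  obtain ⟨w, hw, hw1, hwj⟩ : ∃ w ∈ P, w ≠ 1 ∧ j * w * j⁻¹ = w := by
    by_contra hh
    push Not at hh
    let φ : MulAut P := P.normalizerMonoidHom ⟨j, hjP⟩
    have hφ : ∀ x : P, (φ x : G) = j * x * j⁻¹ := fun x => rfl
    have h1 : MonoidHom.FixedPointFree φ := fun x hx => by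
      by_contra hx1
      exact hh x x.2 (fun e => hx1 (Subtype.ext e)) (by rw [← hφ, hx])
    have h2 : Function.Involutive φ := fun x => Subtype.ext (by
      rw [hφ, hφ]
      calc j * (j * x * j⁻¹) * j⁻¹ = j ^ 2 * x * (j ^ 2)⁻¹ := by rw [pow_two]; group
        _ = x := by rw [hj2]; group)
    exact h.nc ⟨⟨fun a b => (h1.commute_all_of_involutive h2 a b).eq⟩⟩
  have hwZ : w ∉ Zc P := fun hh => by
    have := hj w (mem_sup_left (hZ ▸ hh))
    rw [hwj] at this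
    exact hw1 (eq_one_of_inv hp2 (h.exp w hw) this)
  have h6 := (exists_inv hC hP h hz hz1 hw hwZ hp2 hQ).2 j (by
    apply mem_nrm_of_cj_le
    rw [cj_sup, cj_zpowers, cj_zpowers, hwj, hj z hzE, zpowers_inv]) hj1 hj2 w
    (mem_sup_right (mem_zpowers w))
  rw [hwj] at h6
  exact hw1 (eq_one_of_inv hp2 (h.exp w hw) h6)

end H18.CG
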