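/- Finite computations for job Y1 of blueprints/A12.md. -/
import Cfsg.Agent.H51.A12Spec
import Cfsg.Agent.H20.AFY1a

set_option autoImplicit false
set_option linter.unusedSectionVars false
set_option maxRecDepth 100000

namespace H18.A12Y1

open Cfsg Subgroup H14 H98 H1.Gold H31.S2 H20.X16.BV Function Equiv H51.X12
open H20.X16 (BV pw map_pw)
open H20.AF (P12 t0)
open H20.AR (Cen mem_Cen)
open H20.AF.Y (V xr cl rp wt ob N2 Tm L1 L2 L3 L4 L5 cl_lt N2_inv Tm_inv five c1 c2 c3 c4 c5 c6 c7)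

universe u

/-! ### Finite computations -/

def vb : V ≃ BV 6 := ⟨fun n => el n.1, fun a => Fin.ofNat 64 a.1, by decide +kernel, by decide +kernel⟩

def ea (n : V) : M := iA (vb n)

theorem vb_xr : ∀ m n, vb (xr m n) = vb m * vb n := by decide +kernel

theorem ea_xr (m n : V) : ea (xr m n) = ea m * ea n := by rw [ea, vb_xr, map_mul]; rfl

theorem ea_t : ea 63 = tM := by decide +kernel

theorem ea_sq : ∀ n, ea n * ea n = 1 := by decide +kernel

theorem ea_lab : ∀ n, lab (ea n) = wt n := by decide +kernel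

theorem ea_tw : ∀ n, tw (ea n) = ea (H20.AF.Y.tw n) := by decide +kernel

theorem ea_A : ∀ n, ∀ w ∈ A, w * ea n = ea n * w := by decide +kernel

theorem tw_t : tw tM = tM := by decide +kernel

theorem lam_tw : ∀ x, lam (tw x) = lam x := by decide +kernel

theorem tw_A : ∀ x, tw x ∈ A ↔ x ∈ A := by decide +kernel

theorem lam_inv : ∀ x : M, lam x⁻¹ = lam x := by decide +kernel

theorem orb : ∀ n : V, ∃ r : R, act r (vb n) = vb (rp (cl n)) ∨
    act r (rot (vb n)) = vb (rp (cl n)) ∨ act r (rot (rot (vb n))) = vb (rp (cl n)) := by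
  decide +kernel

theorem par_rot : ∀ a, par (rot a) = par a := by decide +kernel

def sR : Perm (Fin 6) := swap 0 4 * swap 0 2 * swap 1 5 * swap 1 3

theorem rot_pt : ∀ a p, la0 sR (psi (iA a) p) = psi (iA (rot a)) (la0 sR p) := by decide +kernel

theorem sqZ : (∃ m : M, m * m = ea 0) ∧ (∃ m : M, m * m = ea 3) ∧ ∃ m : M, m * m = ea 15 := by
  decide +kernel

def tbl : List (ℕ × V × Fin 6) := [(128, 3, 4), (191, 60, 4), (132, 7, 4), (64, 3, 2), (112, 51, 2),
  (80, 19, 2), (256, 5, 2), (272, 21, 2), (288, 37, 2), (304, 53, 2)]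

theorem cls : ∀ x : M, x * x = 1 → (∃ n, x = ea n) ∨ ∃ m : M, ∃ q ∈ tbl, m * x * m⁻¹ = mm q.1 := by
  decide +kernel

theorem tbl_pt : ∀ q ∈ tbl, lam (mm q.1) = lam (ea q.2.1) ∧
    ∀ p, la0 (swap 1 q.2.2) (psi (mm q.1) p) = psi (ea q.2.1) (la0 (swap 1 q.2.2) p) := by
  decide +kernel

theorem unit : ∀ x : M, x * x = 1 → lab x = 1 → lam x = true → ∃ i, x = tau i := by decide +kernel

theorem tau_ea : ∀ i, ∃ n, tau i = ea n ∧ ob L2 n := by decide +kernel

theorem cl0 : ∀ n, cl n = 0 → wt n = 1 ∧ lam (ea n) = true := by decide +kernel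

theorem ep0_empty : ep0 ∅ = 1 := Equiv.ext (by decide +kernel)

end H18.A12Y1
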