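/- Job Y1 of blueprints/A12.md. -/
import Cfsg.Agent.H18.A12Y1a

set_option autoImplicit false
set_option linter.unusedSectionVars false

namespace H18.A12Y1

open Cfsg Subgroup H14 H98 H1.Gold H31.S2 H20.X16.BV Function Equiv H51.X12
open H20.X16 (BV pw map_pw)
open H20.AF (P12 t0)
open H20.AR (Cen mem_Cen)
open H20.AF.Y (V xr cl rp wt ob N2 Tm L1 L2 L3 L4 L5 cl_lt N2_inv Tm_inv five c1 c2 c3 c4 c5 c6 c7)

universe u

/-- Conjugacy in `W(D₆)`. -/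
def Wj (x y : M) : Prop := lam x = lam y ∧ ∃ c ∈ Cen t0, c * psi x * c⁻¹ = psi y

variable {a b d : M}

theorem Wj.rfl' (a : M) : Wj a a := ⟨rfl, 1, one_mem _, by simp⟩

theorem Wj.trans (h : Wj a b) (k : Wj b d) : Wj a d := by
  obtain ⟨h1, c, hc, e⟩ := h
  obtain ⟨k1, c', hc', e'⟩ := k
  exact ⟨h1.trans k1, c' * c, mul_mem hc' hc, by rw [← e', ← e]; group⟩

theorem wj_conj (ps : Psi) (m a : M) : Wj a (m * a * m⁻¹) :=
  ⟨by rw [lam_mul, lam_mul, lam_inv]; cases lam m <;> cases lam a <;> rfl, psi m, ps.le m, by simp⟩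

theorem la_mem (wm : WM) (σ : Perm (Fin 6)) : la0 σ ∈ Cen t0 :=
  (wm.wr.mem _).2 ⟨σ, ∅, by simp, by rw [ep0_empty, one_mul]⟩

theorem wj_la (wm : WM) {σ : Perm (Fin 6)} (h : lam a = lam b)
    (e : ∀ p, la0 σ (psi a p) = psi b (la0 σ p)) : Wj a b :=
  ⟨h, la0 σ, la_mem wm σ, mul_inv_eq_iff_eq_mul.2 (Equiv.ext e)⟩

theorem wj_rot (wm : WM) (v : BV 6) : Wj (iA v) (iA (rot v)) :=
  wj_la wm (par_rot v).symm (rot_pt v)

theorem wj_act (ps : Psi) (r : R) (v : BV 6) : Wj (iA v) (iA (act r v)) := by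
  have := wj_conj ps (iR r) (iA v)
  rwa [conj_iA] at this

theorem wj_rp (ps : Psi) (wm : WM) (n : V) : Wj (ea n) (ea (rp (cl n))) := by
  obtain ⟨r, h | h | h⟩ := orb n <;> rw [ea, ea, ← h]
  · exact wj_act ps r _
  · exact (wj_rot wm _).trans (wj_act ps r _)
  · exact (wj_rot wm _).trans ((wj_rot wm _).trans (wj_act ps r _))

theorem into (ps : Psi) (wm : WM) (h : a * a = 1) : ∃ n, Wj a (ea n) := by
  rcases cls a h with ⟨n, rfl⟩ | ⟨m, q, hq, e⟩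
  · exact ⟨n, Wj.rfl' _⟩
  · exact ⟨q.2.1, (wj_conj ps m a).trans (e ▸ wj_la wm (tbl_pt q hq).1 (tbl_pt q hq).2)⟩

theorem Wj.tw (ps : Psi) (h : Wj a b) : Wj (tw a) (tw b) := by
  obtain ⟨h1, c, hc, e⟩ := h
  refine ⟨by rw [lam_tw, lam_tw, h1], c, hc, ?_⟩
  show c * psi (a * pw (lam a) tM) * c⁻¹ = psi (b * pw (lam b) tM)
  rw [map_mul, map_mul, map_pw, map_pw, ps.t, ← e, h1]
  cases lam b
  · simp [pw]
  · show c * (psi a * t0) * c⁻¹ = c * psi a * c⁻¹ * t0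
    rw [mul_assoc _ c⁻¹, (mem_Cen.1 hc).2.inv_left.eq]; group

theorem Wj.eq_t (ps : Psi) (h : Wj a tM) : a = tM := by
  obtain ⟨-, c, hc, e⟩ := h
  rw [ps.t, mul_inv_eq_iff_eq_mul, ← (mem_Cen.1 hc).2.eq, ← ps.t] at e
  exact ps.inj (mul_left_cancel e)

theorem Wj.lab (ps : Psi) {n : V} (h : Wj a (ea n)) (h2 : a * a = 1) : lab a = wt n := by
  obtain ⟨-, c, -, e⟩ := h
  have := ps.supp _ (ea_sq n)
  rw [← e, Perm.card_support_conj, ps.supp _ h2, ea_lab] at this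
  omega

variable {G : Type u} [Group G] [Finite G] {φ : M →* G} {x y : V} {L : List Bool}

structure Hy (φ : M →* G) : Prop where
  sy : Sy φ
  wc : WC 2 (A.map φ) ⊤
  wj : ∀ {x y}, Wj x y → Fu φ x y

theorem Hy.tw (ps : Psi) (h : Hy φ) : Hy (φ.comp tw) := by
  refine ⟨h.sy.comp (LeftInverse.injective tw_tw), ?_, fun k => h.wj (k.tw ps)⟩
  have e : A.map H51.X12.tw = A := Subgroup.ext fun z =>
    ⟨by rintro ⟨w, hw, rfl⟩; exact (tw_A w).2 hw, fun hz => ⟨_, (tw_A z).2 hz, tw_tw z⟩⟩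
  rw [← map_map, e]
  exact h.wc

/-- The pattern of the class of `t` in `A`. -/
def Cs (φ : M →* G) (L : List Bool) : Prop := ∀ n, Fu φ tM (ea n) ↔ ob L n

section
variable (ps : Psi) (wm : WM) (h : Hy φ)
include ps wm h

theorem cj_rp (n : V) : Fu φ (ea n) (ea (rp (cl n))) := h.wj (wj_rp ps wm n)

theorem nu (c : Fu φ (ea x) (ea y)) : ∃ ν : Perm V, (∀ x y, ν (xr x y) = xr (ν x) (ν y)) ∧
    ν x = y ∧ ∀ n, Fu φ (ea n) (ea (ν n)) := by
  obtain ⟨g, e⟩ := Fu.ex c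
  obtain ⟨k, hk, e'⟩ := wc_ctl h.wc (I := Unit) (p := fun _ => ea x) (q := fun _ => ea y)
    (fun _ => e) (fun _ => ea_A x) (fun _ => ea_A y)
  obtain ⟨F, hF⟩ := h.sy.indA hk.le
  refine ⟨(vb.trans F.toEquiv).trans vb.symm, fun a b => vb.injective ?_, vb.injective ?_, fun n => ?_⟩
  · simp [vb_xr]
  · simpa using iA_inj (h.sy.uniq (hF (vb x)) (e' ()))
  · simpa [ea] using hF.fu (vb n)

omit ps wm h in
theorem nu_ob (c : Cs φ L) {ν : Perm V} (hν : ∀ n, Fu φ (ea n) (ea (ν n))) (n : V) :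
    ob L (ν n) = ob L n := by
  rw [Bool.eq_iff_iff, ← c, ← c]
  exact ⟨fun k => k.trans (hν n).symm, fun k => k.trans (hν n)⟩

theorem cases : ∃ L ∈ [L1, L2, L3, L4, L5], Cs φ L := by
  classical
  let b : ℕ → Bool := fun k => decide (Fu φ tM (ea (rp k)))
  have c : Cs φ [b 0, b 1, b 2, b 3, b 4, b 5, b 6, true] := fun n => by
    rw [show Fu φ tM (ea n) ↔ Fu φ tM (ea (rp (cl n))) from
      ⟨fun k => k.trans (cj_rp ps wm h n), fun k => k.trans (cj_rp ps wm h n).symm⟩, ob]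
    have := cl_lt n
    obtain ⟨⟨m0, e0⟩, ⟨m1, e1⟩, m2, e2⟩ := sqZ
    generalize cl n = k at this
    interval_cases k
    iterate 7 simp [b]
    · exact iff_of_true (by rw [show rp 7 = 63 from rfl, ea_t]) rfl
    · exact iff_of_false (e0 ▸ h.sy.nsq m0 : ¬ Fu φ tM (ea 0)) (by simp)
    · exact iff_of_false (e1 ▸ h.sy.nsq m1 : ¬ Fu φ tM (ea 3)) (by simp)
    · exact iff_of_false (e2 ▸ h.sy.nsq m2 : ¬ Fu φ tM (ea 15)) (by simp)
  have key : ∀ k, ob [b 0, b 1, b 2, b 3, b 4, b 5, b 6, true] (rp k) → ∃ ν : Perm V,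
      (∀ x y, ν (xr x y) = xr (ν x) (ν y)) ∧ ν 63 = rp k ∧ ∀ n,
        ob [b 0, b 1, b 2, b 3, b 4, b 5, b 6, true] (ν n) = ob [b 0, b 1, b 2, b 3, b 4, b 5, b 6, true] n :=
    fun k hk => by
      obtain ⟨ν, h1, h2, h3⟩ := nu ps wm h (x := 63) (ea_t ▸ (c _).2 hk)
      exact ⟨ν, h1, h2, nu_ob c h3⟩
  rcases five _ _ _ _ _ _ _ _ (List.mem_singleton_self _) (fun k hk => by
    obtain ⟨ν, h1, h2, h3⟩ := key k hk
    rw [← h2, N2_inv h1 h3]) with r | ⟨k, hk, r⟩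
  · exact ⟨_, r, c⟩
  · obtain ⟨ν, h1, h2, h3⟩ := key k hk
    exact absurd (by rw [← h2, Tm_inv h1 h3 (N2_inv h1 h3)]) r

omit ps wm in
theorem sq_of (c : Fu φ tM a) : a * a = 1 := by
  obtain ⟨g, e⟩ := Fu.ex c
  exact h.sy.sq e (ea_t ▸ ea_sq 63)

theorem isol (c : Cs φ L1) (a : M) (k : Fu φ tM a) : a = tM := by
  obtain ⟨n, e⟩ := into ps wm (sq_of h k)
  rw [c1 n ((c n).1 (k.trans (h.wj e))), ea_t] at e
  exact e.eq_t ps

theorem frm (c : Cs φ L2) : Frm φ := fun a => ⟨fun k => by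
    have a2 := sq_of h k
    obtain ⟨n, e⟩ := into ps wm a2
    rcases (c2 n).1 ((c n).1 (k.trans (h.wj e))) with s | s
    · rw [s, ea_t] at e
      exact ⟨0, e.eq_t ps⟩
    · exact unit a a2 ((e.lab ps a2).trans (cl0 n s).1) (e.1.trans (cl0 n s).2), by
  rintro ⟨i, rfl⟩
  obtain ⟨n, e, k⟩ := tau_ea i
  exact e ▸ (c n).2 k⟩

theorem nu_wt (c : Cs φ L4) (k : Fu φ (ea x) (ea y)) : wt x = wt y := by
  obtain ⟨ν, h1, rfl, h3⟩ := nu ps wm h k
  have := N2_inv h1 (nu_ob c h3) x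
  obtain ⟨a1, a2⟩ := c6 x
  obtain ⟨b1, b2⟩ := c6 (ν x)
  rw [a1, b1] at this
  generalize wt x = i at *
  generalize wt (ν x) = j at *
  interval_cases i <;> interval_cases j <;> simp_all

theorem comp (c : Cs φ L4) (h3 : wt x = 3) (h1 : wt y = 1) (h2 : wt (xr x y) = 2) :
    Fu φ (ea y) (ea 3) ∧ Fu φ (ea (xr x y)) (ea 15) := by
  obtain ⟨ν, k1, k2, k3⟩ := nu ps wm h (x := 63) (ea_t ▸ (c x).2 ((c4 x).2 h3))
  obtain ⟨z, rfl⟩ := ν.surjective y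
  rw [← k2, ← k1] at h2 ⊢
  obtain ⟨e1, e2⟩ := c7 z (by rw [nu_wt ps wm h c (k3 z), h1]) (by rw [nu_wt ps wm h c (k3 _), h2])
  have a1 := cj_rp ps wm h z
  have a2 := cj_rp ps wm h (xr 63 z)
  rw [e1] at a1
  rw [e2] at a2
  exact ⟨(k3 z).symm.trans a1, (k3 _).symm.trans a2⟩

theorem wt_cj (c : Cs φ L4) (n : V) :
    Fu φ (ea n) (ea (([0, 3, 15, 63] : List V).getD (wt n) 0)) := by
  by_cases h3 : wt n = 3
  · rw [h3]; exact (ea_t ▸ (c n).2 ((c4 n).2 h3) : Fu φ (ea 63) _).symm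
  refine (cj_rp ps wm h n).trans ?_
  have := cl_lt n
  rw [wt] at h3 ⊢
  generalize cl n = k at this h3
  interval_cases k <;> try exact absurd rfl h3
  · exact (comp ps wm h c (x := 61) (y := 1) (by decide +kernel) (by decide +kernel) (by decide +kernel)).1
  · exact (comp ps wm h c (x := 53) (y := 48) (by decide +kernel) (by decide +kernel) (by decide +kernel)).2
  · exact (comp ps wm h c (x := 23) (y := 16) (by decide +kernel) (by decide +kernel) (by decide +kernel)).2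
  all_goals rfl

theorem pat (c : Cs φ L4) : PatM φ := fun a b a2 b2 => by
  obtain ⟨x, e⟩ := into ps wm a2
  obtain ⟨y, e'⟩ := into ps wm b2
  have r := h.wj e
  have r' := h.wj e'
  rw [e.lab ps a2, e'.lab ps b2]
  refine ⟨fun k => nu_wt ps wm h c (r.symm.trans (k.trans r')), fun k => ?_⟩
  have := wt_cj ps wm h c y
  rw [← k] at this
  exact r.trans ((wt_cj ps wm h c x).trans (this.symm.trans r'.symm))

end

theorem jobY1 : JobY1.{u} := by
  intro ps wm G _ _ φ N p sy wc yw lf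
  have h : Hy φ := ⟨sy, wc.a, fun {x y} ⟨_, c, hc, e⟩ => by
    rw [← yw.range] at hc
    obtain ⟨n₀, rfl⟩ := hc
    obtain ⟨n, -, hn⟩ := lf n₀ (zpowers x) (by
      rintro _ ⟨k, rfl⟩
      exact ⟨y ^ k, by simp only [map_zpow, ← e, conj_zpow]⟩)
    exact (hn x (mem_zpowers x) y e).fu⟩
  have h' := h.tw ps
  have k : ∀ n, Fu (φ.comp tw) tM (ea n) ↔ Fu φ tM (ea (H20.AF.Y.tw n)) := fun n => by
    show IsConj (φ (tw tM)) (φ (tw (ea n))) ↔ _
    rw [tw_t, ea_tw]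
  obtain ⟨L, hL, c⟩ := cases ps wm h
  simp only [List.mem_cons, List.not_mem_nil, or_false] at hL
  rcases hL with rfl | rfl | rfl | rfl | rfl
  · exact Or.inl (isol ps wm h c)
  · exact Or.inr (Or.inr (Or.inr (Or.inl (frm ps wm h c))))
  · exact Or.inr (Or.inr (Or.inr (Or.inr (frm ps wm h' fun n => by rw [k, c, c3]))))
  · exact Or.inr (Or.inl (pat ps wm h c))
  · exact Or.inr (Or.inr (Or.inl (pat ps wm h' fun n => by rw [k, c, c5])))

end H18.A12Y1
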