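import Cfsg.Agent.H18.SAW1
import Cfsg.Agent.H63.A8Def

/-! A8S, wreath case: `J8W1` (clone of `H18.SAW1`). -/

set_option autoImplicit false
set_option linter.unusedSectionVars false

namespace H18.SA

open H64.SG (O2 Syl Cz Cs Ns cjs Is2 Inv2 UF IsO2 fx mem_Cs mem_Cz mem_fx is2_of_sq
  isPGroup_iff_is2)
open H57 H98 H67.SA Subgroup
open scoped commutatorElement

universe u

variable {n : ℕ} {F : Type} [Field F] [Finite F] [CharP F 2] {G : Type u} [Group G] [Finite G]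
  {e e₁ e₂ f₁ f₂ : SLn n F →* G} {g m t : G} {β β₁ β₂ : Au n F} {A B : Subgroup (SLn n F)}
  {a b : SLn n F} {W P N : Subgroup G}

namespace HB

variable (h : HB e t e₁ e₂)
include h

section

variable (fa : FA n F) (fc : H63.A8.FC8 n F) (hW : IsPGroup 2 W) (h1 : W ≤ Ns (G12 e₁ e₂))
  (h2 : two e₁ e₂ (UU n F) ≤ W)
include hW h1 h2

include fc

theorem low18 (hg : g ∈ W) (i : Ind e₁ g β) (b1 : β ∉ cI (ZZ n F)) :
    Nat.card F ≤ (Cz g).relIndex ((UU n F).map e₁) :=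
  rel_eq h.ker i isP_UU ▸ (fc.si1 β (h.stU (h.norU hW h1 h2 hg) i)).resolve_left b1

theorem low28 (hg : g ∈ W) (i1 : Ind e₁ g β₁) (i2 : Ind e₂ g β₂) (b1 : β₁ ∉ cI (ZZ n F))
    (h3 : ¬ W ≤ Ns e₁.range) : 2 * Nat.card F ≤ (Cz g).relIndex W := by
  have k := h.low18 fc hW h1 h2 hg i1 b1
  by_cases h4 : Cz g ⊓ W ≤ Ns e₁.range
  · rw [← inf_relIndex_right, ← inf_eq_left.2 h4, inf_right_comm, inf_relIndex_right,
      ← relIndex_inf_mul_relIndex, mul_comm]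
    refine Nat.mul_le_mul (k.trans (rel_mono (le_inf ((map_le_range _ _).trans le_normalizer)
      (le_sup_left.trans h2)))) ?_
    have k1 : (Ns e₁.range).relIndex W ≠ 0 := index_ne_zero_of_finite
    have k2 := mt relIndex_eq_one.1 h3
    omega
  · obtain ⟨w, hw, k1⟩ := SetLike.not_le_iff_exists.1 h4
    have k2 := ((h.pm w (h1 hw.2)).resolve_left fun k => k1 k.1).1
    have k3 := h.swap_map (h.nor₁ isP_UU (h.swap_nor k2)
      (mul_mem (h.t_mem_Ns h.tt _) (h.norU hW h1 h2 hw.2)))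
    have k4 : (Cz g).relIndex ((UU n F).map e₂) = (Cz g).relIndex ((UU n F).map e₁) := by
      rw [← k3]
      conv_lhs => rw [← cj_eq_self_of_mem hw.1]
      exact relIndex_map_map_of_injective _ _ (MulAut.conj w).injective
    refine le_trans ?_ ((h.rel_two i1 i2 isP_UU).trans (rel_mono h2))
    rw [rel_eq h.ker i1 isP_UU, rel_eq h.ker₂ i2 isP_UU, k4]
    exact Nat.mul_le_mul (le_trans one_lt_card k) k

include fa

theorem cjZ8 (hm : m ∈ Ns W) : cjs m ((ZZ n F).map e₁) ≤ two e₁ e₂ (ZZ n F) := by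
  rintro _ ⟨z, hz, rfl⟩
  change m * z * m⁻¹ ∈ _
  by_contra h3
  have hG : G12 e₂ e₁ = G12 e₁ e₂ := G12_comm
  have h1' : W ≤ Ns (G12 e₂ e₁) := by rwa [hG]
  have h2' : two e₂ e₁ (UU n F) ≤ W := by rwa [two_comm]
  have nU := h.norU hW h1 h2
  have z1 : ∀ w : G, w * z * w⁻¹ ≠ 1 := fun w k => h3 (by
    rw [conj_eq_one_iff.1 k]; simp)
  have hg := conj_mem_of_mem_normalizer hm (h2 (mem_sup_left (map_mono ZZ_le_UU hz)))
  have e1 := rel_cj (g := z) m hm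
  generalize m * z * m⁻¹ = g at hg h3 e1
  have c1 : ((ZZ n F).map e₁ : Set G).ncard = Nat.card F := h.card_Z
  have c2 : ((ZZ n F).map e₂ : Set G).ncard = Nat.card F := h.symm.card_Z
  have low : g ∈ Ns e₁.range → g ∈ Ns e₂.range → ∃ β₁ β₂, Ind e₁ g β₁ ∧ Ind e₂ g β₂ ∧
      (β₁ ∉ cI (ZZ n F) ∨ β₂ ∉ cI (ZZ n F)) := fun k1 k2 => by
    obtain ⟨β₁, i1⟩ := exists_ind h.hn h.ker k1
    obtain ⟨β₂, i2⟩ := exists_ind h.hn h.ker₂ k2
    exact ⟨β₁, β₂, i1, i2, not_and_or.1 fun k => h3 (h.mem_Z hW h2 hg i1 i2 k.1 k.2)⟩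
  have nn : ∀ w ∈ W, w ∈ Ns e₁.range ↔ w ∈ Ns e₂.range := fun w hw => by
    rcases h.pm w (h1 hw) with k | k
    · exact iff_of_true k.1 k.2
    · exact iff_of_false (fun k1 => h.ne h.hn (k.1.ge.trans (cj_eq_self k1).le))
        fun k1 => h.ne h.hn ((cj_eq_self k1).ge.trans k.2.le)
  by_cases h4 : W ≤ Ns e₁.range
  · have u1 := (rel_le_ncard (B := W) (g := z) (S := (ZZ n F).map e₁ \ {1}) (Set.toFinite _)
      fun w hw => ⟨conj_mem_of_mem_normalizer (h.norZ fa (nU hw) (h4 hw)) hz, z1 w⟩).trans_lt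
      (Set.ncard_sdiff_singleton_lt_of_mem (one_mem _) (Set.toFinite _))
    rw [c1, ← e1] at u1
    obtain ⟨β₁, β₂, i1, i2, k | k⟩ := low (h4 hg) ((nn g hg).1 (h4 hg))
    · exact u1.not_ge ((h.low18 fc hW h1 h2 hg i1 k).trans (rel_mono (le_sup_left.trans h2)))
    · exact u1.not_ge ((h.symm.low18 fc hW h1' h2' hg i2 k).trans (rel_mono (le_sup_right.trans h2)))
  · have u1 := ((rel_le_ncard (B := W) (g := z) (S := ((ZZ n F).map e₁ ∪ (ZZ n F).map e₂) \ {1})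
      (Set.toFinite _) fun w hw => ⟨(h.pm w (h1 hw)).imp
        (fun k => conj_mem_of_mem_normalizer (h.norZ fa (nU hw) k.1) hz) fun k => (h.swap_map
          (h.norZ fa (mul_mem (h.t_mem_Ns h.tt _) (nU hw)) (h.swap_nor k.1))).le (conj_mem_cj hz),
        z1 w⟩).trans_lt (Set.ncard_sdiff_singleton_lt_of_mem (.inl (one_mem _))
          (Set.toFinite _))).trans_le (Set.ncard_union_le _ _)
    rw [c1, c2, ← e1, ← two_mul] at u1
    rcases h.pm g (h1 hg) with k | k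
    · obtain ⟨β₁, β₂, i1, i2, k | k⟩ := low k.1 k.2
      · exact u1.not_ge (h.low28 fc hW h1 h2 hg i1 i2 k h4)
      · exact u1.not_ge (h.symm.low28 fc hW h1' h2' hg i2 i1 k fun k => h4 fun w hw =>
          (nn w hw).2 (k hw))
    · refine u1.not_ge (le_trans ?_ (rel_mono (le_sup_left.trans h2)))
      rw [h.rel_swap k.1 isP_UU, card_UU]
      refine le_trans ?_ (Nat.pow_le_pow_right Nat.card_pos ((by omega : 2 ≤ 3).trans
        (three_le_NN h.hn)))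
      rw [sq]
      exact Nat.mul_le_mul_right _ one_lt_card

end

end HB

namespace HB

variable (h : HB e t e₁ e₂) (p : PR P e₁ e₂) (fc : H63.A8.FC8 n F)
include h p

include fc

theorem zle8 (h1 : P ≤ Ns N) (hg : g ∈ N) (hP : g ∈ P) (i : Ind e₁ g β) (b1 : β ∉ cI (ZZ n F)) :
    (ZZ n F).map e₁ ≤ N := map_le_iff_le_comap.2 (fc.nzn β (h.stU (p.nu hP) i) b1 _
  (le_trans (fun _ hu => p.mem hu) (comap_le_normalizer_comap e₁ h1)) fun u hu => by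
    rw [mem_comap, map_mul, ← i, map_inv]
    simpa only [mul_assoc] using
      mul_mem hg (conj_mem_of_mem_normalizer (h1 (p.mem hu)) (inv_mem hg)))

theorem perm8 (h1 : m ∈ Ns P) (h2 : m ∈ Ns (two e₁ e₂ (ZZ n F))) :
    cjs m ((ZZ n F).map e₁) ≤ (ZZ n F).map e₁ ∨ cjs m ((ZZ n F).map e₁) ≤ (ZZ n F).map e₂ := by
  have k1 : P ≤ Ns (cjs m ((UU n F).map e₁)) := by
    rw [← H64.SG.cj_Ns]
    exact (cj_eq_self h1).ge.trans (cj_mono m fun w hw => h.nor₁ isP_UU (p.n1 hw) (p.nu hw))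
  have k2 : ¬ cjs m ((UU n F).map e₁) ≤ two e₁ e₂ (ZZ n F) := fun k => by
    have := card_le_of_le k
    rw [card_cjs, card_map2 h.ker isP_UU, h.card_two h.hn isP_ZZ, card_UU,
      card_ZZ (by have := h.hn; omega), Nat.pow_le_pow_iff_right one_lt_card] at this
    have := three_le_NN h.hn
    omega
  have k3 : cjs m ((UU n F).map e₁) ⊓ two e₁ e₂ (ZZ n F) ≤ cjs m ((ZZ n F).map e₁) := by
    conv_lhs => rw [← cj_eq_self h2]
    exact (cj_inf m _ _).ge.trans (cj_mono m ((le_inf inf_le_right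
      (inf_le_left.trans (map_le_range _ _))).trans (h.inf₁ isP_ZZ).le))
  obtain ⟨g, hg, k4⟩ := SetLike.not_le_iff_exists.1 k2
  have hP : g ∈ P := cj_le_of_le (le_sup_left.trans p.le) h1 hg
  obtain ⟨β₁, i1⟩ := exists_ind h.hn h.ker (p.n1 hP)
  obtain ⟨β₂, i2⟩ := exists_ind h.hn h.ker₂ (p.n2 hP)
  refine (not_and_or.1 fun k => k4 (h.mem_Z p.p2 p.le hP i1 i2 k.1 k.2)).imp (fun k => ?_) fun k => ?_
  · exact (eq_of_le_of_card_ge ((le_inf (h.zle8 p fc k1 hg hP i1 k) le_sup_left).trans k3)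
      (by rw [card_cjs])).ge
  · exact (eq_of_le_of_card_ge ((le_inf (h.symm.zle8 p.symm fc k1 hg hP i2 k) le_sup_right).trans k3)
      (by rw [card_cjs, h.card_Z, h.symm.card_Z])).ge

variable (h' : HB e t f₁ f₂) (p' : PR P f₁ f₂) (h1 : m ∈ Ns P)
  (h2 : cjs m ((ZZ n F).map e₂) = (ZZ n F).map f₂)
include h' p' h1 h2

theorem th08 (hg : g ∈ P ⊓ Cs e₂.range) : ∃ ζ ∈ ZZ n F, Ind f₂ (m * g * m⁻¹) (MulAut.conj ζ) := by
  have hP := conj_mem_of_mem_normalizer h1 hg.1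
  obtain ⟨β, i⟩ := exists_ind h.hn h'.ker₂ (p'.n2 hP)
  by_cases k : β ∈ cI (ZZ n F)
  · obtain ⟨ζ, k', rfl⟩ := mem_cI.1 k
    exact ⟨ζ, k', i⟩
  · have := h'.symm.zle8 p'.symm fc (N := cjs m (P ⊓ Cs e₂.range)) (by
      rw [← H64.SG.cj_Ns]
      exact (cj_eq_self h1).ge.trans (cj_mono m (le_normalizer_inf le_normalizer
        (le_normalizer_centralizer p.n2)))) (conj_mem_cj hg) hP i k
    rw [← h2] at this
    exact absurd (eq_one_of_Cs h.hn h.ker₂ ⟨_, rfl⟩ (cj_le_cj_iff.1 this ⟨_, x_mem_ZZ 1, rfl⟩).2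
      ((is2_of_sq (x_mul_self ..)).map e₂)) (inv2_x0 h.hn h.ker₂).2

theorem th18 : ∃ θ : Au n F → Au n F,
    (∀ g ∈ P ⊓ Cs e₂.range, ∀ α, Ind e₁ g α → Ind f₁ (m * g * m⁻¹) (θ α)) ∧
    Set.MapsTo θ (DD P e₁ e₂) (DD P f₁ f₂) ∧ Set.InjOn θ (DD P e₁ e₂) := by
  have : ∀ α, ∃ α', ∀ g ∈ P ⊓ Cs e₂.range, Ind e₁ g α → Ind f₁ (m * g * m⁻¹) α' := fun α => by
    by_cases k : α ∈ DD P e₁ e₂
    · obtain ⟨g, hg, i⟩ := k
      obtain ⟨β, j⟩ := exists_ind h.hn h'.ker (p'.n1 (conj_mem_of_mem_normalizer h1 hg.1))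
      refine ⟨β, fun g' hg' i' => ?_⟩
      have k := mul_mem hg' (inv_mem hg)
      have := h.eq_mul (a := 1) (b := 1) p.p2 k.1 (by simp) (by simp)
        (by simpa using i'.mul i.inv) (by simpa using ind_one_iff.2 k.2)
      rwa [mul_inv_eq_iff_eq_mul.1 this, map_one, map_one, one_mul, one_mul]
    · exact ⟨1, fun g hg i => absurd ⟨g, hg, i⟩ k⟩
  choose θ hθ using this
  refine ⟨θ, fun g hg α => hθ α g hg, fun α ⟨g, hg, i⟩ => ?_, fun α ⟨g, hg, i⟩ α' ⟨g', hg', i'⟩ k => ?_⟩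
  · obtain ⟨ζ, z1, z2⟩ := h.th08 p fc h' p' h1 h2 hg
    exact ⟨_, ⟨P.mul_mem (conj_mem_of_mem_normalizer h1 hg.1) (P.inv_mem (p'.symm.mem (ZZ_le_UU z1))),
      ind_conj_iff.1 z2⟩, by
        simpa using (hθ α g hg i).mul (ind_one_iff.2 (h'.le_Cs ⟨ζ, rfl⟩)).inv⟩
  · have k1 := mul_mem hg (inv_mem hg')
    obtain ⟨ζ, z1, z2⟩ := h.th08 p fc h' p' h1 h2 k1
    have k2 := h'.eq_mul (a := 1) p.p2 (conj_mem_of_mem_normalizer h1 k1.1) (by simp)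
      (p'.symm.mem (ZZ_le_UU z1)) (by
        simpa [k, mul_assoc] using (hθ α g hg i).mul (hθ α' g' hg' i').inv) z2
    have k3 : g * g'⁻¹ ∈ (ZZ n F).map e₂ := conj_mem_cjs.1 (h2.ge ⟨ζ, z1, by simp [k2]⟩)
    rw [mul_inv_eq_one.1 (eq_one_of_Cs h.hn h.ker₂ (map_le_range _ _ k3) k1.2
      (isPGroup_iff_is2.1 p.p2 _ k1.1))] at i
    exact i.unique h.hn h.ker i'

theorem th28 (fd : FD n F) (h3 : cjs m ((ZZ n F).map e₁) = (ZZ n F).map f₁) :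
    cjs m ((QQ n F).map e₁) ≤ two f₁ f₂ (QQ n F) := by
  obtain ⟨θ, t1, t2, t3⟩ := h.th18 p fc h' p' h1 h2
  obtain ⟨θ', -, t4, t5⟩ := h'.th18 p' fc h p (inv_mem h1) (by rw [← h2]; exact cj_inv_cj m _)
  have k : ∀ a ∈ UU n F, Ind f₁ (m * e₁ a * m⁻¹) (θ (MulAut.conj a)) := fun a ha =>
    t1 _ ⟨p.mem ha, h.le_Cs' ⟨a, rfl⟩⟩ _ (ind_conj a)
  obtain ⟨d1, d2, d3⟩ := h.dd p
  obtain ⟨d4, d5, d6⟩ := h'.dd p'
  have := fd.th _ _ d4 d1 d5 d2 d6 d3 θ (fun _ ⟨a, ha, i⟩ _ ⟨b, hb, j⟩ =>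
    (t1 _ (mul_mem ha hb) _ (i.mul j)).unique h.hn h'.ker
      (by simpa only [conj_mul] using (t1 a ha _ i).mul (t1 b hb _ j)))
    ⟨t2, t3, (Set.eq_of_subset_of_ncard_le t2.image_subset (by
      rw [t3.ncard_image]
      exact Set.ncard_le_ncard_of_injOn θ' t4 t5 (Set.toFinite _)) (Set.toFinite _)).ge⟩ (by
      rintro _ ⟨z, hz, rfl⟩
      obtain ⟨z', hz', k1⟩ := h3.le (conj_mem_cj ⟨z, hz, rfl⟩)
      exact ⟨z', hz', (ind_conj z').unique h.hn h'.ker (k1 ▸ k z (ZZ_le_UU hz))⟩)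
  rintro _ ⟨_, ⟨a, ha, rfl⟩, rfl⟩
  obtain ⟨a', ha', k1⟩ := mem_cI.1 (this _ ⟨a, ha, rfl⟩)
  have k2 := p.mem (QQ_le_UU ha)
  obtain ⟨ζ, z1, z2⟩ := h.th08 p fc h' p' h1 h2 ⟨k2, h.le_Cs' ⟨a, rfl⟩⟩
  exact h'.mem_two.2 ⟨a', ha', ζ, ZZ_le_QQ z1, h'.eq_mul p.p2 (conj_mem_of_mem_normalizer h1 k2)
    (p'.mem (QQ_le_UU ha')) (p'.symm.mem (ZZ_le_UU z1)) (k1 ▸ k a (QQ_le_UU ha)) z2⟩

end HB

theorem jobW18 (hA : H63.A8.J8FA) (hC : H63.A8.J8FC) (hD : H63.A8.J8FD) : H63.A8.J8W1.{u} := by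
  intro n F _ _ _ hp G _ _ e t e₁ e₂ _ c w W hW h1 h2 m hm
  have h : HB e t e₁ e₂ := ⟨c, hp.two_le, w.uf, w.odd, w.pm⟩
  have fa := hA n F hp
  have fc := hC n F hp
  have fd := hD n F hp
  have hG : G12 e₂ e₁ = G12 e₁ e₂ := G12_comm
  have k1 : m ∈ Ns (two e₁ e₂ (ZZ n F)) := mem_normalizer_of_cj_le (by
    rw [cj_sup]
    exact sup_le (h.cjZ8 fa fc hW h1 h2 hm)
      ((h.symm.cjZ8 fa fc hW (by rwa [hG]) (by rwa [two_comm]) hm).trans (two_comm _).le))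
  have k2 : ∀ g ∈ W ⊓ Cs (two e₁ e₂ (ZZ n F)), g ∈ Ns e₁.range ∧ g ∈ Ns e₂.range := fun g hg =>
    h.nor (h1 hg.1) (is2_of_sq (x_mul_self ..)) (x0_ne h.hn) (by
      rw [← hg.2 _ (mem_sup_left ⟨_, x_mem_ZZ 1, rfl⟩), mul_inv_cancel_right]; exact ⟨_, rfl⟩)
  have p : PR (W ⊓ Cs (two e₁ e₂ (ZZ n F))) e₁ e₂ := ⟨hW.to_le inf_le_left, le_inf h2 fun g hg => by
    obtain ⟨a, ha, b, hb, rfl⟩ := h.mem_two.1 hg
    intro z hz
    obtain ⟨y, hy, z, hz', rfl⟩ := h.mem_two.1 hz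
    rw [h.mul_mul, h.mul_mul, UU_le_Cs ha y hy, UU_le_Cs hb z hz'], fun g hg => (k2 g hg).1,
    fun g hg => (k2 g hg).2, inf_le_left.trans (h.norU hW h1 h2), inf_le_right⟩
  have k3 : m ∈ Ns (W ⊓ Cs (two e₁ e₂ (ZZ n F))) := le_normalizer_inf (zpowers_le.2 hm)
    (le_normalizer_centralizer (zpowers_le.2 k1)) (mem_zpowers m)
  refine mem_normalizer_of_cj_le ?_
  rw [cj_sup]
  rcases h.fix_or isP_ZZ (x_mem_ZZ 1) (h.perm8 p fc k3 k1)
    (h.symm.perm8 p.symm fc k3 (by rwa [two_comm])) with k | k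
  · exact sup_le (h.th28 p fc h p k3 k.2 fd k.1)
      ((h.symm.th28 p.symm fc h.symm p.symm k3 k.1 fd k.2).trans (two_comm _).le)
  · exact sup_le ((h.th28 p fc h.symm p.symm k3 k.2 fd k.1).trans (two_comm _).le)
      (h.symm.th28 p.symm fc h p k3 k.1 fd k.2)

end H18.SA

namespace H18.A8W

universe u

theorem jobW1 (hA : H63.A8.J8FA) (hC : H63.A8.J8FC) (hD : H63.A8.J8FD) : H63.A8.J8W1.{u} :=
  H18.SA.jobW18 hA hC hD

end H18.A8W
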