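/- Solvable groups in which abelian subgroups of the same order are conjugate: tools. -/
import Cfsg.Agent.H18.BGrp
import Cfsg.Agent.H46.Misc
import Cfsg.Agent.H11.SPIso

set_option autoImplicit false

open Subgroup H46 Cfsg
open scoped commutatorElement

namespace H18.BG2

universe u

variable {G : Type u} [Group G] {A B C D E K L M N Q R T V W X : Subgroup G} {x y : G} {p : ℕ}

/-- quaternion subgroup of order eight -/
def IsQ (Q : Subgroup G) : Prop := Nonempty (Q ≃* QuaternionGroup 2)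

theorem IsQ.card (h : IsQ Q) : Nat.card Q = 8 := by
  obtain ⟨e⟩ := h
  rw [Nat.card_congr e.toEquiv, Nat.card_eq_fintype_card, QuaternionGroup.card]

theorem IsQ.ord (h : IsQ Q) (hx : x ∈ Q) : x ^ 2 = 1 ∨ orderOf x = 4 := by
  obtain ⟨e⟩ := h
  exact (BG.q8_facts.1 (e ⟨x, hx⟩)).imp (fun h => by
      rw [← map_pow, EmbeddingLike.map_eq_one_iff] at h; exact congrArg Subtype.val h)
      fun h => by rwa [MulEquiv.orderOf_eq, ← orderOf_coe] at h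

theorem IsQ.uniq (h : IsQ Q) (hx : x ∈ Q) (hy : y ∈ Q) (h1 : x ^ 2 = 1) (h2 : y ^ 2 = 1) :
    x = 1 ∨ y = 1 ∨ x = y := by
  obtain ⟨e⟩ := h
  have := BG.q8_facts.2 (e ⟨x, hx⟩) (e ⟨y, hy⟩) (by rw [← map_pow]; simp [← Subtype.coe_inj, h1])
    (by rw [← map_pow]; simp [← Subtype.coe_inj, h2])
  simpa [← Subtype.coe_inj] using this

theorem IsQ.conj (h : IsQ Q) (hx : x ∈ Q) (hy : y ∈ Q) :
    y * x * y⁻¹ = x ∨ y * x * y⁻¹ = x⁻¹ := by
  obtain ⟨e⟩ := h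
  have := (by decide : ∀ x y : QuaternionGroup 2, y * x * y⁻¹ = x ∨ y * x * y⁻¹ = x⁻¹)
    (e ⟨x, hx⟩) (e ⟨y, hy⟩)
  simp only [← map_inv, ← map_mul, EmbeddingLike.apply_eq_iff_eq, ← Subtype.coe_inj] at this
  exact this

theorem IsQ.ij (h : IsQ Q) : ∃ i ∈ Q, ∃ j ∈ Q, orderOf i = 4 ∧ orderOf j = 4 ∧
    orderOf (i * j) = 4 ∧ i ^ 2 = ⁅i, j⁆ ∧ j ^ 2 = ⁅i, j⁆ := by
  obtain ⟨e⟩ := h
  let ψ : QuaternionGroup 2 →* G := Q.subtype.comp e.symm.toMonoidHom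
  have inj : Function.Injective ψ := Q.subtype_injective.comp e.symm.injective
  have o : ∀ x : QuaternionGroup 2, x ^ 2 ≠ 1 → orderOf (ψ x) = 4 := fun x hx => by
    rw [orderOf_injective ψ inj]; exact (BG.q8_facts.1 x).resolve_left hx
  refine ⟨ψ (.a 1), (e.symm _).2, ψ (.xa 0), (e.symm _).2, o _ (by decide), o _ (by decide),
    by rw [← map_mul]; exact o _ (by decide), ?_, ?_⟩ <;>
  · rw [← map_pow, ← map_commutatorElement]
    exact congrArg ψ (by decide)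

theorem ne_of_four (h : orderOf x = 4) : x ^ 2 ≠ 1 := fun e => by
  have := orderOf_dvd_of_pow_eq_one e
  rw [h] at this
  omega

theorem IsQ.isP (h : IsQ Q) : IsPGroup 2 Q := IsPGroup.of_card (n := 3) h.card

theorem IsQ.le_of (h : IsQ Q) (hL : ∀ x ∈ Q, orderOf x = 4 → x ∈ L) : Q ≤ L := by
  intro x hx
  obtain ⟨i, hi, -, -, o, -⟩ := h.ij
  rcases h.ord hx with h1 | h1
  · rcases h.uniq hx (Q.pow_mem hi 2) h1 (by rw [← pow_mul, ← pow_orderOf_eq_one i, o]) with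
      h2 | h2 | h2
    · rw [h2]; exact L.one_mem
    · exact absurd h2 (ne_of_four o)
    · rw [h2]; exact L.pow_mem (hL i hi o) 2
  · exact hL x hx h1

theorem IsQ.not_le_zc (h : IsQ Q) : ¬ Q ≤ Zc Q := fun l => by
  obtain ⟨i, hi, j, hj, o, -, -, e, -⟩ := h.ij
  exact ne_of_four o (e.trans (commutatorElement_eq_one_iff_mul_comm.2
    (mem_cent.1 (l hj).2 i hi)))

theorem IsQ.mem_zc (h : IsQ Q) (hx : x ∈ Q) (h2 : x ^ 2 = 1) : x ∈ Zc Q := by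
  refine ⟨hx, mem_cent.2 fun y hy => mul_inv_eq_iff_eq_mul.1 ?_⟩
  rcases h.conj hx hy with e | e
  · exact e
  · rw [e, inv_eq_iff_mul_eq_one, ← pow_two, h2]

variable [Finite G]

theorem IsQ.nrm (h : IsQ Q) (hC : C ≤ Q) : Q ≤ Nrm C := fun y hy => mem_nrm_of_cj_le (by
  rintro _ ⟨x, hx, rfl⟩
  change y * x * y⁻¹ ∈ C
  rcases h.conj (hC hx) hy with e | e <;> rw [e]
  exacts [hx, C.inv_mem hx])

theorem IsQ.eq_zpowers (h : IsQ Q) (hC : C < Q) (hx : x ∈ C) (o : orderOf x = 4) :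
    zpowers x = C := by
  have h1 := card_dvd_of_le hC.le
  have h2 := card_lt_of_lt hC
  have h3 := orderOf_dvd_card hx
  have h4 := card_pos' C
  rw [h.card] at h1 h2
  rw [o] at h3
  refine eq_of_le_of_card_eq (zpowers_le.2 hx) ?_
  rw [card_zpowers', o]; omega

theorem IsQ.cyc (h : IsQ Q) (hC : C < Q) : IsCyclic C := by
  rw [cyclic_iff_exists_zpowers]
  by_cases h1 : ∃ x ∈ C, orderOf x = 4
  · obtain ⟨x, hx, o⟩ := h1
    exact ⟨x, h.eq_zpowers hC hx o⟩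
  have h2 : ∀ x ∈ C, x ^ 2 = 1 := fun x hx =>
    (h.ord (hC.le hx)).resolve_right fun o => h1 ⟨x, hx, o⟩
  by_cases h0 : C = ⊥
  · exact ⟨1, by rw [h0, zpowers_one_eq_bot]⟩
  obtain ⟨x, hx, hx1⟩ := exists_ne_one_of_ne_bot h0
  refine ⟨x, le_antisymm (zpowers_le.2 hx) fun y hy => ?_⟩
  rcases h.uniq (hC.le hx) (hC.le hy) (h2 x hx) (h2 y hy) with e | e | e
  · exact absurd e hx1
  · rw [e]; exact one_mem _
  · rw [← e]; exact mem_zpowers x

theorem IsQ.kq (h : IsQ Q) (hp : p.Prime) (hX : Nat.card X = p) (hn : Q ≤ Nrm X) :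
    ∃ a ∈ Q, orderOf a = 4 ∧ a ∈ Cent X := by
  classical
  obtain ⟨i, hi, j, hj, o1, o2, o3, e1, e2⟩ := h.ij
  have hc : IsCyclic (MulAut X) := (H11.SP.aut_cyc hp hX).1
  let f := X.normalizerMonoidHom
  have ker : ∀ a : Nrm X, f a = 1 → (a : G) ∈ Cent X := fun a ha => by
    have : a ∈ f.ker := ha
    rwa [normalizerMonoidHom_ker] at this
  have cm : f ⁅(⟨i, hn hi⟩ : Nrm X), ⟨j, hn hj⟩⁆ = 1 := by
    rw [map_commutatorElement, commutatorElement_eq_one_iff_mul_comm]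
    exact hc.isMulCommutative.1.1 _ _
  have s1 : f ⟨i, hn hi⟩ ^ 2 = 1 := by
    rw [← map_pow, ← cm]; exact congrArg f (Subtype.ext e1)
  have s2 : f ⟨j, hn hj⟩ ^ 2 = 1 := by
    rw [← map_pow, ← cm]; exact congrArg f (Subtype.ext e2)
  by_cases h1 : f ⟨i, hn hi⟩ = 1
  · exact ⟨i, hi, o1, ker _ h1⟩
  by_cases h2 : f ⟨j, hn hj⟩ = 1
  · exact ⟨j, hj, o2, ker _ h2⟩
  refine ⟨i * j, Q.mul_mem hi hj, o3, ker (⟨i, hn hi⟩ * ⟨j, hn hj⟩) ?_⟩
  have e := eq_of_cyclic_of_card_eq (K := (⊤ : Subgroup (MulAut X)))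
    (A := zpowers (f ⟨i, hn hi⟩)) (B := zpowers (f ⟨j, hn hj⟩)) inferInstance le_top le_top
    (by rw [card_zpowers', card_zpowers', orderOf_eq_prime s1 h1, orderOf_eq_prime s2 h2])
  have m := mem_zpowers (f ⟨j, hn hj⟩)
  rw [← e, mem_zpowers_iff_mem_range_orderOf, orderOf_eq_prime s1 h1] at m
  simp only [Finset.mem_image, Finset.mem_range] at m
  obtain ⟨k, hk, ek⟩ := m
  interval_cases k
  · exact absurd ek.symm (by simpa using h2)
  · rw [map_mul, ← ek, pow_one, ← pow_two, s1]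

theorem card_inf (h : IsSd M T D) (hc : (Nat.card M).Coprime (Nat.card T)) (hA : A ≤ D)
    (hB : B ≤ D) (e : Nat.card A = Nat.card B) : Nat.card ↥(A ⊓ M) = Nat.card ↥(B ⊓ M) := by
  have h1 := h.hall_left (isPi_piOf M) (isPi_compl_piOf.2 hc.symm)
  have a := h1.inf_of_normal' h.normalIn.nrm hA
  have b := h1.inf_of_normal' h.normalIn.nrm hB
  exact Nat.dvd_antisymm (b.dvd_card a.isPi (e ▸ card_dvd_of_le inf_le_left))
    (a.dvd_card b.isPi (e ▸ card_dvd_of_le inf_le_left))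

theorem red0 (h : IsSd M T D) (hc : (Nat.card M).Coprime (Nat.card T))
    (hs : Group.IsSolvable M) (hA : A ≤ D) (hM : M ≤ Nrm (A ⊓ M)) :
    ∃ n ∈ M, ∃ X, X ≤ T ⊓ Nrm (A ⊓ M) ∧ IsSd (A ⊓ M) X (cj n A) := by
  have h1 := h.hall_left (isPi_piOf M) (isPi_compl_piOf.2 hc.symm)
  have a := h1.inf_of_normal' h.normalIn.nrm hA
  obtain ⟨Y, hY⟩ := exists_sd_of_hall a.isHallOf (nrm_inf le_nrm_self (hA.trans h.normalIn.nrm))
  obtain ⟨n, hn, l⟩ := exists_cj_le_of_le_sup ((hY.le_right.trans hA).trans h.normalIn.nrm) h.norm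
    (isPi_compl_piOf.1 (hY.hall_compl_right a).isPi) (Or.inr hs)
    (h.sup ▸ hY.le_right.trans hA)
  have := hY.cj n
  rw [cj_of_mem_nrm (hM hn)] at this
  exact ⟨n, hn, _, le_inf l this.norm, this⟩

theorem red (h : IsSd M T D) (hc : (Nat.card M).Coprime (Nat.card T))
    (hs : Group.IsSolvable M) (hA : A ≤ D) (hB : B ≤ D) (e : Nat.card A = Nat.card B)
    (h1 : A ⊓ M = W) (h2 : B ⊓ M = W) (hM : M ≤ Nrm W)
    (hL : ∀ X Y, X ≤ T ⊓ Nrm W → Y ≤ T ⊓ Nrm W → Nat.card X = Nat.card Y →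
      ∃ g ∈ T ⊓ Nrm W, Y = cj g X) : ∃ g ∈ D, B = cj g A := by
  obtain ⟨n, hn, X, hX, sX⟩ := red0 h hc hs hA (h1 ▸ hM)
  obtain ⟨m, hm, Y, hY, sY⟩ := red0 h hc hs hB (h2 ▸ hM)
  rw [h1] at hX sX
  rw [h2] at hY sY
  obtain ⟨g, hg, eg⟩ := hL X Y hX hY (Nat.eq_of_mul_eq_mul_left (card_pos' W)
    (by rw [sX.card, sY.card, card_cj, card_cj, e]))
  refine ⟨m⁻¹ * (g * n), D.mul_mem (D.inv_mem (h.le_left hm))
    (D.mul_mem (h.le_right hg.1) (h.le_left hn)), ?_⟩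
  rw [cj_mul, ← cj_eq_iff, cj_mul, ← sX.sup, ← sY.sup, cj_sup, cj_of_mem_nrm hg.2, eg]

theorem zconj (hL : IsZGroup L) (hA : A ≤ L) (hB : B ≤ L) (e : Nat.card A = Nat.card B) :
    ∃ g ∈ L, B = cj g A := by
  have hM : IsCyclic ↥⁅L, L⁆ := by
    rw [← map_subtype_commutator]
    have := IsZGroup.isCyclic_commutator (G := L)
    exact isCyclic_of_surjective _ (equivMapOfInjective _ _ L.subtype_injective).surjective
  have hH : IsHallOf ⁅L, L⁆ L := ⟨der_le L, by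
    rw [← map_subtype_commutator, card_map_subtype, relIndex_map_subtype]
    exact IsZGroup.coprime_commutator_index _⟩
  obtain ⟨T, hT⟩ := exists_sd_of_hall hH (normalIn_der L).nrm
  have hc : (Nat.card ↥⁅L, L⁆).Coprime (Nat.card T) := hT.relIndex_left ▸ hH.2
  have cT : IsCyclic T := cyclic_of_nil_of_isZGroup (isZGroup_of_le hL hT.le_right)
    (nil_of_comm (der_eq_bot_iff.1 (le_bot_iff.1 (hT.inf ▸ le_inf (der_mono hT.le_right) (der_le T)))))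
  refine red hT hc (sol_of_comm (comm_of_cyclic hM)) hA hB e rfl
    (eq_of_cyclic_of_card_eq hM inf_le_right inf_le_right (card_inf hT hc hB hA e.symm))
    (nrm_of_comm (comm_of_cyclic hM) inf_le_right) fun X Y hX hY e => ⟨1, one_mem _, ?_⟩
  rw [cj_of_mem X.one_mem]
  exact eq_of_cyclic_of_card_eq cT (hY.trans inf_le_left) (hX.trans inf_le_left) e.symm

/-- an element fixing one element of order `p` of `V` fixes them all -/
theorem ht (hB : BG.BP G) (hp : p.Prime) (hN : IsMulCommutative N) (hD : (N ⊔ E).Normal)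
    (hE : E ≤ Nrm N) (hc : (Nat.card E).Coprime (Nat.card N)) (hV : V ≤ N) (hEV : E ≤ Nrm V)
    (hP : IsPGroup p V) (hx : x ∈ V) (o : orderOf x = p) (hn : E ≤ Nrm (E ⊓ Cent1 x)) :
    E ⊓ Cent1 x ≤ Cent V := by
  have sd := isSd_sup hE (inf_comm E N ▸ inf_eq_bot_of_coprime' hc)
  have cd : ∀ y ∈ N, Nat.card N * Nat.card ↥(E ⊓ Cent1 y) = Nat.card ↥((N ⊔ E) ⊓ Cent1 y) :=
    fun y hy => (sd.modl ((comm_iff_le_cent.1 hN).trans (cent_le_cent1 hy))).card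
  set Y := E ⊓ Cent1 x with hY
  have hVc := comm_of_le hN hV
  have dp := coprime_abelian_cent_dprod hVc (inf_le_left.trans hEV : Y ≤ _)
    (coprime_of_le hc inf_le_left hV)
  rw [← H46.commutator_eq_bot_iff']
  by_contra h0
  haveI := Fact.mk hp
  obtain ⟨w, hw, ow⟩ := cauchy hp
    ((isPi_of_isPGroup hp (hP.to_le dp.le_left)).prime_and_dvd h0).2
  have hxC : x ∈ V ⊓ Cent Y := ⟨hx, le_cent1_iff.1 inf_le_right⟩
  have w1 : w ≠ 1 := fun e => hp.one_lt.ne (by rw [← ow, e, orderOf_one])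
  have cm : Commute x w := (mem_cent.1 (dp.cent hxC) w hw).symm
  have oxw : orderOf (x * w) = p := orderOf_eq_prime
    (by rw [cm.mul_pow, ← o, pow_orderOf_eq_one, o, ← ow, pow_orderOf_eq_one, one_mul]) fun e => by
      have : w ∈ ⁅V, Y⁆ ⊓ (V ⊓ Cent Y) :=
        ⟨hw, by rw [eq_inv_of_mul_eq_one_right e]; exact (V ⊓ Cent Y).inv_mem hxC⟩
      exact w1 (mem_bot.1 (dp.inf ▸ this))
  obtain ⟨g, hg⟩ := hB (zpowers x) (zpowers (x * w)) inferInstance inferInstance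
    (by rw [card_zpowers', card_zpowers', o, oxw])
  change _ = cj g _ at hg
  have e1 : (N ⊔ E) ⊓ Cent1 (x * w) = cj g ((N ⊔ E) ⊓ Cent1 x) := by
    rw [cj_inf, ← cent_zpowers, ← cent_zpowers, cj_cent, hg,
      cj_of_mem_nrm ((normalIn_top_iff.2 hD).nrm (mem_top g))]
  have hxw : x * w ∈ N := hV (V.mul_mem hx (dp.le_left hw))
  have e2 : Nat.card ↥(E ⊓ Cent1 (x * w)) = Nat.card Y :=
    Nat.eq_of_mul_eq_mul_left (card_pos' N) (by rw [cd _ hxw, cd _ (hV hx), e1, card_cj])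
  have l : E ⊓ Cent1 (x * w) ≤ Y := by
    intro t ht
    refine ⟨ht.1, mem_cent1.2 (mul_inv_eq_iff_eq_mul.1 ?_)⟩
    have a1 : t * x * t⁻¹ ∈ V ⊓ Cent Y := conj_mem_of_mem_nrm (nrm_inf hEV (nrm_cent hn) ht.1) hxC
    have a2 : t * w * t⁻¹ ∈ ⁅V, Y⁆ := conj_mem_of_mem_nrm (nrm_commutator hEV hn ht.1) hw
    have a3 : t * (x * w) = x * w * t := mem_cent1.1 ht.2
    have a4 : x⁻¹ * (t * x * t⁻¹) = w * (t * w * t⁻¹)⁻¹ := by
      rw [inv_mul_eq_iff_eq_mul, ← mul_assoc, eq_mul_inv_iff_mul_eq]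
      calc t * x * t⁻¹ * (t * w * t⁻¹) = t * (x * w) * t⁻¹ := by group
        _ = x * w := by rw [a3]; group
    have a5 : x⁻¹ * (t * x * t⁻¹) ∈ ⁅V, Y⁆ ⊓ (V ⊓ Cent Y) :=
      ⟨a4 ▸ mul_mem hw (Subgroup.inv_mem _ a2), (V ⊓ Cent Y).mul_mem ((V ⊓ Cent Y).inv_mem hxC) a1⟩
    exact (inv_mul_eq_one.1 (mem_bot.1 (dp.inf ▸ a5))).symm
  have e3 := eq_of_le_of_card_eq l e2
  have : w ∈ ⁅V, Y⁆ ⊓ (V ⊓ Cent Y) := ⟨hw, dp.le_left hw, by
    have a1 : x * w ∈ Cent Y := le_cent1_iff.1 (e3 ▸ inf_le_right)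
    simpa using (Cent Y).mul_mem ((Cent Y).inv_mem hxC.2) a1⟩
  exact w1 (mem_bot.1 (dp.inf ▸ this))

end H18.BG2
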