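/- Soft subgroups of finite `p`-groups: self-centralising abelian subgroups of index `p` in
their normaliser. -/
import Cfsg.Agent.H46.Quo
import Cfsg.Agent.H46.Nil

set_option autoImplicit false

open Subgroup H46
open scoped commutatorElement

namespace H18.Soft

universe u

variable {G : Type u} [Group G] {p : ℕ} {A H K L M E : Subgroup G}

/-- upper central series of a subgroup, in the ambient group -/
def U (L : Subgroup G) (n : ℕ) : Subgroup G := (Subgroup.upperCentralSeries L n).map L.subtype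

theorem U_le (n : ℕ) : U L n ≤ L := map_subtype_le _

theorem U_zero : U L 0 = ⊥ := by simp [U]

theorem mem_U {n : ℕ} {x : G} : x ∈ U L (n + 1) ↔ x ∈ L ∧ ∀ y ∈ L, ⁅x, y⁆ ∈ U L n := by
  constructor
  · rintro ⟨x, hx, rfl⟩
    exact ⟨x.2, fun y hy => ⟨⁅x, ⟨y, hy⟩⁆, Subgroup.mem_upperCentralSeries_succ_iff.1 hx _, rfl⟩⟩
  · rintro ⟨h1, h2⟩
    refine ⟨⟨x, h1⟩, Subgroup.mem_upperCentralSeries_succ_iff.2 fun y => ?_, rfl⟩
    obtain ⟨z, hz, e⟩ := h2 y y.2
    have : z = ⁅(⟨x, h1⟩ : L), y⁆ := Subtype.ext e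
    exact this ▸ hz

theorem le_U {n : ℕ} : H ≤ U L (n + 1) ↔ H ≤ L ∧ ⁅H, L⁆ ≤ U L n :=
  ⟨fun h => ⟨h.trans (U_le _), commutator_le.2 fun _ hx y hy => (mem_U.1 (h hx)).2 y hy⟩,
    fun h _ hx => mem_U.2 ⟨h.1 hx, fun _ hy => h.2 (commutator_mem_commutator hx hy)⟩⟩

theorem nrm_U (n : ℕ) : Nrm L ≤ Nrm (U L n) := by
  induction n with
  | zero => rw [U_zero]; intro x _; exact mem_nrm_iff_cj.2 (cj_bot x)
  | succ n ih =>
    have key : ∀ g ∈ Nrm L, cj g (U L (n + 1)) ≤ U L (n + 1) := by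
      intro g hg
      refine le_U.2 ⟨(cj_mono g (U_le _)).trans (cj_of_mem_nrm hg).le, ?_⟩
      have := cj_mono g (le_U.1 (le_refl (U L (n + 1)))).2
      rwa [cj_commutator, cj_of_mem_nrm hg, cj_of_mem_nrm (ih hg)] at this
    intro g hg
    refine mem_nrm_iff_cj.2 (le_antisymm (key g hg) ?_)
    exact le_cj_iff.2 (key _ (inv_mem hg))

theorem U_class [Group.IsNilpotent L] : U L (Group.nilpotencyClass L) = L := by
  rw [U, Subgroup.upperCentralSeries_nilpotencyClass, ← MonoidHom.range_eq_map, range_subtype]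

variable [Finite G] [hp : Fact p.Prime]

theorem rel_ne (H K : Subgroup G) : H.relIndex K ≠ 0 := index_ne_zero_of_finite

theorem rel_pow (hG : IsPGroup p G) (H K : Subgroup G) : ∃ n, H.relIndex K = p ^ n :=
  (hG.to_subgroup K).index _

theorem le_rel (hG : IsPGroup p G) (h : ¬ K ≤ H) : p ≤ H.relIndex K := by
  obtain ⟨n, e⟩ := rel_pow hG H K
  rcases n with _ | n
  · exact absurd (relIndex_eq_one.1 (by simpa using e)) h
  · rw [e]; exact Nat.le_self_pow (by omega) p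

theorem exists_nrm (hG : IsPGroup p G) (h : H < K) : ∃ x ∈ K, x ∈ Nrm H ∧ x ∉ H := by
  haveI := (hG.to_subgroup K).isNilpotent
  have h1 : H.subgroupOf K < ⊤ := lt_top_iff_ne_top.2 fun e => h.not_ge (subgroupOf_eq_top.1 e)
  obtain ⟨x, hx, hx'⟩ := SetLike.exists_of_lt (Group.normalizerCondition_of_isNilpotent _ h1)
  rw [← subgroupOf_normalizer_eq h.le] at hx
  exact ⟨x, x.2, hx, hx'⟩

theorem eq_of_rel (h1 : H ≤ M) (h2 : M ≤ K) (h : H.relIndex K = p) (h3 : ¬ M ≤ H) : M = K := by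
  have e := relIndex_mul_relIndex H M K h1 h2
  rw [h] at e
  rcases (Nat.dvd_prime hp.out).1 (Dvd.intro _ e) with h4 | h4
  · exact absurd (relIndex_eq_one.1 h4) h3
  · rw [h4] at e
    exact le_antisymm h2 (relIndex_eq_one.1 (by
      have := hp.out.pos
      exact Nat.eq_of_mul_eq_mul_left this (by rw [e, mul_one])))

theorem nrm_le (hG : IsPGroup p G) (h : H.relIndex (Nrm H) = p) (l : H < K) : Nrm H ≤ K := by
  obtain ⟨x, h1, h2, h3⟩ := exists_nrm hG l
  have := eq_of_rel (M := K ⊓ Nrm H) (le_inf l.le le_nrm_self) inf_le_right h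
    fun h4 => h3 (h4 ⟨h1, h2⟩)
  rw [← this]; exact inf_le_left

omit [Finite G] hp in
theorem comm_sup_le {Y W : Subgroup G} (hA : IsMulCommutative A) (h1 : A ≤ L) (h2 : Y ≤ L)
    (hW : L ≤ Nrm W) (h : ⁅Y, L⁆ ≤ W) : ⁅A ⊔ Y, A ⊔ Y⁆ ≤ W := by
  rw [← comm_quo_iff ((sup_le h1 h2).trans hW), quo_sup (h1.trans hW) (h2.trans hW)]
  refine comm_sup (comm_quo hA W) ((comm_quo_iff (h2.trans hW)).2
    ((commutator_mono le_rfl h2).trans h)) ?_
  exact (quo_le_cent_iff (h2.trans hW) (h1.trans hW)).2 ((commutator_mono le_rfl h1).trans h)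

/-- the index step -/
theorem step (hG : IsPGroup p G) (hA : IsMulCommutative A) (hC : Cent A ≤ A) (l : A < K)
    (hK : K ≠ ⊤) (ih : ∀ H, A ≤ H → H < K → H.relIndex (Nrm H) = p) :
    K.relIndex (Nrm K) = p := by
  classical
  haveI := (hG.to_subgroup K).isNilpotent
  have hex : ∃ n, U K n = K := ⟨_, U_class⟩
  have hn := Nat.find_spec hex
  have hmin := fun m => Nat.find_min hex (m := m)
  obtain ⟨n, e⟩ : ∃ n, Nat.find hex = n + 2 := by
    rcases h : Nat.find hex with _ | _ | n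
    · rw [h, U_zero] at hn
      exact absurd (hn ▸ l) not_lt_bot
    · rw [h] at hn
      have := (le_U.1 hn.ge).2
      rw [U_zero, le_bot_iff, H46.commutator_eq_bot_iff] at this
      exact absurd (this.trans ((cent_anti l.le).trans hC)) l.not_ge
    · exact ⟨n, rfl⟩
  rw [e] at hn hmin
  set Y := U K (n + 1) with hY
  set W := U K n with hW
  have hKW : K ≤ Nrm W := le_nrm_self.trans (nrm_U n)
  have hYW : ⁅Y, K⁆ ≤ W := (le_U.1 le_rfl).2
  have hYK : Y ≤ K := U_le _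
  have hder : ⁅K, K⁆ ≤ Y := (le_U.1 hn.ge).2
  set H := A ⊔ Y with hH
  have hHK : H ≤ K := sup_le l.le hYK
  have hHH : ⁅H, H⁆ ≤ W := comm_sup_le hA l.le hYK hKW hYW
  have hlt : H < K := lt_of_le_of_ne hHK fun e' =>
    hmin (n + 1) (by omega) (le_antisymm hYK (le_U.2 ⟨le_rfl, by rw [e'] at hHH; exact hHH⟩))
  have hi := ih H le_sup_left hlt
  have hN : Nrm H = K :=
    le_antisymm (nrm_le hG hi hlt) (nrm_of_der_le (hder.trans le_sup_right) hHK)
  rw [hN] at hi
  have key : ∀ t ∈ Nrm K, t ∉ K → H ⊓ cj t H ≤ Y := by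
    intro t ht htK
    have h1 : cj t H ≤ K := (cj_mono t hHK).trans (cj_of_mem_nrm ht).le
    have h2 : H ⊔ cj t H = K := eq_of_rel le_sup_left (sup_le hHK h1) hi fun h =>
      htK (hN ▸ mem_nrm_of_cj_le (le_sup_right.trans h))
    have h3 : ⁅cj t H, cj t H⁆ ≤ W := by
      rw [← cj_commutator]
      exact (cj_mono t hHH).trans (cj_of_mem_nrm (nrm_U (L := K) n ht)).le
    refine le_U.2 ⟨inf_le_left.trans hHK, ?_⟩
    have h4 : H ⊓ cj t H ≤ Nrm W := (inf_le_left.trans hHK).trans hKW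
    rw [← quo_le_cent_iff h4 hKW, ← h2, quo_sup (hHK.trans hKW) (h1.trans hKW), cent_sup]
    exact le_inf ((quo_le_cent_iff h4 (hHK.trans hKW)).2 ((commutator_mono inf_le_left le_rfl).trans hHH))
      ((quo_le_cent_iff h4 (h1.trans hKW)).2 ((commutator_mono inf_le_right le_rfl).trans h3))
  obtain ⟨x, -, hx, hxK⟩ := exists_nrm hG (lt_top_iff_ne_top.2 hK)
  have hNY : Nrm K ≤ Nrm Y := nrm_U _
  obtain ⟨a, ha, haY⟩ : ∃ a ∈ H, a ∉ Y := by
    by_contra h
    push Not at h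
    have e' : H = Y := le_antisymm h le_sup_right
    exact hxK (hN ▸ e' ▸ hNY hx)
  have hsq : Y.relIndex K ≤ p * p := by
    refine (relIndex_le_of_le_left (key x hx hxK) (rel_ne _ _)).trans (relIndex_inf_le.trans ?_)
    have := relIndex_cj x H K
    rw [cj_of_mem_nrm hx] at this
    rw [this, hi]
  let f : (Nrm K) ⧸ K.subgroupOf (Nrm K) → {q : K ⧸ Y.subgroupOf K // q ≠ ((1 : K) : _)} :=
    fun q => ⟨((⟨q.out * a * (q.out : G)⁻¹, conj_mem_of_mem_nrm q.out.2 (hHK ha)⟩ : K) : _), by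
      intro h
      have := QuotientGroup.eq.1 h.symm
      rw [inv_one, one_mul, mem_subgroupOf] at this
      apply haY
      simpa [mul_assoc] using conj_mem_of_mem_nrm' (hNY q.out.2) this⟩
  have hf : Function.Injective f := by
    intro q r h
    have h1 := QuotientGroup.eq.1 (congrArg Subtype.val h)
    rw [mem_subgroupOf] at h1
    rw [← q.out_eq', ← r.out_eq', QuotientGroup.eq, mem_subgroupOf]
    by_contra h2
    set t : G := ((q.out⁻¹ * r.out : Nrm K) : G) with ht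
    have ht' : t ∈ Nrm K := (q.out⁻¹ * r.out).2
    have h3 : a⁻¹ * (t * a * t⁻¹) ∈ Y := by
      have := conj_mem_of_mem_nrm' (hNY q.out.2) h1
      simpa [ht, mul_assoc] using this
    have h4 : t * a * t⁻¹ ∈ H := by
      simpa using H.mul_mem ha (mem_sup_right h3 : _ ∈ A ⊔ Y)
    have h5 := key t ht' h2 ⟨h4, conj_mem_cj.2 ha⟩
    exact haY (by simpa [mul_assoc] using conj_mem_of_mem_nrm' (hNY ht') h5)
  have h1 := Nat.card_le_card_of_injective f hf
  have h2 : Nat.card {q : K ⧸ Y.subgroupOf K // q ≠ ((1 : K) : _)} <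
      Nat.card (K ⧸ Y.subgroupOf K) :=
    Finite.card_subtype_lt (x := ((1 : K) : _)) (by simp)
  have h3 : K.relIndex (Nrm K) < p * p := lt_of_le_of_lt h1 (lt_of_lt_of_le h2 hsq)
  have h4 := le_rel hG (H := K) (K := Nrm K) fun h => hxK (h hx)
  obtain ⟨m, em⟩ := rel_pow hG K (Nrm K)
  rw [em] at h3 h4 ⊢
  have h5 : m < 2 := (Nat.pow_lt_pow_iff_right hp.out.one_lt).1 (by rwa [pow_two])
  have h6 : 1 ≤ m := (Nat.pow_le_pow_iff_right hp.out.one_lt).1 (by rwa [pow_one])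
  rw [show m = 1 by omega, pow_one]

theorem good (hG : IsPGroup p G) (hA : IsMulCommutative A) (hC : Cent A ≤ A)
    (hN : A.relIndex (Nrm A) = p) (n : ℕ) : ∀ K : Subgroup G, Nat.card K = n → A ≤ K →
      (∀ M, A ≤ M → M ≤ K ∨ K ≤ M) ∧ (K ≠ ⊤ → K.relIndex (Nrm K) = p) := by
  induction n using Nat.strong_induction_on with
  | _ n ih =>
  intro K hn hK
  rcases hK.eq_or_lt with rfl | l
  · exact ⟨fun M h => Or.inr h, fun _ => hN⟩
  have lt : ∀ H, H < K → Nat.card H < n := fun H h => hn ▸ by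
    refine lt_of_le_of_ne (card_le_of_le h.le) fun e => h.ne (eq_of_le_of_card_ge h.le e.ge)
  have ne : ∀ H, H < K → H ≠ ⊤ := fun H h => (lt_of_lt_of_le h le_top).ne
  refine ⟨fun M hM => ?_, fun h => step hG hA hC l h fun H h1 h2 =>
    (ih _ (lt H h2) H rfl h1).2 (ne H h2)⟩
  obtain ⟨H, h1, h2, h3⟩ := Finite.exists_le_maximal (p := fun H : Subgroup G => H < K) l
  obtain ⟨g1, g2⟩ := ih _ (lt H h2) H rfl h1
  have g3 := g2 (ne H h2)
  have g4 : K ≤ Nrm H := by
    by_contra h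
    have h4 : Nrm H < K := lt_of_le_not_ge (nrm_le hG g3 h2) h
    have := relIndex_eq_one.2 (h3 h4 le_nrm_self)
    exact hp.out.one_lt.ne (this.symm.trans g3)
  rcases g1 M hM with h | h
  · exact Or.inl (h.trans h2.le)
  · rcases h.eq_or_lt with rfl | h
    · exact Or.inl h2.le
    · exact Or.inr (g4.trans (nrm_le hG g3 h))

theorem lower (hC : Cent A ≤ A) (hK : K ≠ ⊤) (hAK : A ≤ K)
    (hg : ∀ H, A ≤ H → H ≠ ⊤ → H.relIndex (Nrm H) = p) (n : ℕ) :
    A.relIndex (A ⊔ U K (n + 1)) ≤ p ^ n := by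
  induction n with
  | zero =>
    have := (le_U.1 (le_refl (U K (0 + 1)))).2
    rw [U_zero, le_bot_iff, H46.commutator_eq_bot_iff] at this
    rw [sup_eq_left.2 (this.trans ((cent_anti hAK).trans hC)), relIndex_self, pow_zero]
  | succ n ih =>
    have h1 : A ⊔ U K (n + 1) ≤ K := sup_le hAK (U_le _)
    have h2 : U K (n + 1 + 1) ≤ Nrm (A ⊔ U K (n + 1)) := commutator_le_right_iff.1
      ((commutator_mono le_rfl h1).trans ((le_U.1 le_rfl).2.trans le_sup_right))
    have h3 : A ⊔ U K (n + 1 + 1) ≤ Nrm (A ⊔ U K (n + 1)) :=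
      sup_le (le_sup_left.trans le_nrm_self) h2
    refine (relIndex_le_of_le_right h3 (rel_ne _ _)).trans ?_
    rw [← relIndex_mul_relIndex A _ _ le_sup_left le_nrm_self,
      hg _ le_sup_left fun e => hK (top_le_iff.1 (e ▸ h1)), pow_succ]
    exact Nat.mul_le_mul_right _ ih

theorem drop (hG : IsPGroup p G) (hA : IsMulCommutative A) (hK : K ≠ ⊤) (hAK : A ≤ K)
    (hg : ∀ H, A ≤ H → H ≠ ⊤ → H.relIndex (Nrm H) = p) (hE : E ≤ K) (hR : Nrm K ≤ Nrm E)
    (h0 : ⁅E, K⁆ ≠ ⊥) : A.relIndex ⁅E, K⁆ * p ≤ A.relIndex E := by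
  set F := ⁅E, K⁆ with hF
  have hFE : F ≤ E := commutator_le_left' (le_nrm_self.trans hR)
  have hRF : Nrm K ≤ Nrm F := nrm_commutator hR le_rfl
  have hR2 : Nrm K ≤ Nrm ⁅F, K⁆ := nrm_commutator hRF le_rfl
  have hK2 : K ≤ Nrm ⁅F, K⁆ := le_nrm_self.trans hR2
  have h1 : ¬ E ≤ F ⊔ E ⊓ A := by
    intro h
    set C := K ⊓ qpre ⁅F, K⁆ (Cent (E ⧸ₙ ⁅F, K⁆)) with hCd
    have hAC : A ≤ C := by
      refine le_inf hAK ((quo_le_iff (hAK.trans hK2)).1 ?_)
      refine le_trans ?_ (cent_anti (quo_mono _ h))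
      rw [quo_sup ((hFE.trans hE).trans hK2) ((inf_le_left.trans hE).trans hK2), cent_sup]
      refine le_inf ((quo_le_cent_iff' (hAK.trans hK2) ((hFE.trans hE).trans hK2)).2
        (commutator_mono le_rfl hAK)) (quo_cent _ ?_)
      exact (comm_iff_le_cent.1 hA).trans (cent_anti inf_le_right)
    have hRC : Nrm K ≤ Nrm C :=
      nrm_inf le_rfl (le_nrm_qpre hR2 (nrm_cent (quo_nrm _ hR)))
    have hCK : C = K := by
      by_contra hne
      have l : C < K := lt_of_le_of_ne inf_le_left hne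
      have := relIndex_eq_one.2 (hRC.trans (nrm_le hG (hg C hAC (l.trans_le le_top).ne) l))
      exact hp.out.one_lt.ne (this.symm.trans (hg K hAK hK))
    have h2 : K ≤ qpre ⁅F, K⁆ (Cent (E ⧸ₙ ⁅F, K⁆)) := hCK.ge.trans inf_le_right
    have h3 := (quo_le_cent_iff' hK2 (hE.trans hK2)).1 ((quo_le_iff hK2).2 h2)
    exact h0 (nil_eq_bot_of_le_commutator (hG.to_subgroup K).isNilpotent (hFE.trans hE) le_rfl h3)
  have h2 := le_rel hG h1
  have h3 := relIndex_mul_relIndex (E ⊓ A) (F ⊔ E ⊓ A) E le_sup_right (sup_le hFE inf_le_left)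
  rw [inf_relIndex_left] at h3
  rw [← h3]
  refine Nat.mul_le_mul ?_ h2
  exact (relIndex_le_of_le_left inf_le_right (rel_ne _ _)).trans
    (relIndex_le_of_le_right le_sup_left (rel_ne _ _))

theorem upper (hG : IsPGroup p G) (hA : IsMulCommutative A) (hK : K ≠ ⊤) (hAK : A ≤ K)
    (hg : ∀ H, A ≤ H → H ≠ ⊤ → H.relIndex (Nrm H) = p) (n : ℕ) :
    Nrm K ≤ Nrm (K.lowerCentralSeries n) ∧ (K.lowerCentralSeries n = ⊥ ∨
      A.relIndex (K.lowerCentralSeries n) * p ^ n ≤ A.relIndex K) := by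
  induction n with
  | zero => exact ⟨le_rfl, Or.inr (by simp)⟩
  | succ n ih =>
    refine ⟨nrm_commutator ih.1 le_rfl, ?_⟩
    by_cases h : K.lowerCentralSeries (n + 1) = ⊥
    · exact Or.inl h
    rcases ih.2 with h1 | h1
    · exact absurd (by rw [Subgroup.lowerCentralSeries_succ, h1, commutator_bot_left]) h
    · refine Or.inr (le_trans ?_ h1)
      rw [pow_succ', ← mul_assoc]
      exact Nat.mul_le_mul_right _ (drop hG hA hK hAK hg (lowerCentralSeries_le_self _ _) ih.1 h)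

theorem cls (hG : IsPGroup p G) (hA : IsMulCommutative A) (hC : Cent A ≤ A) (hK : K ≠ ⊤)
    (hAK : A ≤ K) (hg : ∀ H, A ≤ H → H ≠ ⊤ → H.relIndex (Nrm H) = p) [Group.IsNilpotent K]
    {i : ℕ} (hi : A.relIndex K = p ^ i) : Group.nilpotencyClass K = i + 1 := by
  refine le_antisymm ?_ ?_
  · rw [← Subgroup.lowerCentralSeries_eq_bot_iff_nilpotencyClass_le, ← map_subtype_inj,
      Subgroup.map_bot, top_subtype_lowerCentralSeries]
    refine (upper hG hA hK hAK hg (i + 1)).2.resolve_right fun h => ?_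
    have h1 := Nat.pos_of_ne_zero (rel_ne A (K.lowerCentralSeries (i + 1)))
    have h2 : p ^ (i + 1) ≤ p ^ i := hi ▸ le_trans (Nat.le_mul_of_pos_left _ h1) h
    have := (Nat.pow_le_pow_iff_right hp.out.one_lt).1 h2
    omega
  · have e := U_class (L := K)
    rcases h : Group.nilpotencyClass K with _ | c
    · rw [h, U_zero] at e
      have h1 : A = ⊥ := le_bot_iff.1 (e ▸ hAK)
      refine absurd (top_le_iff.1 (le_trans ?_ (hC.trans hAK))) hK
      rw [h1]; intro x _; exact mem_cent.2 fun y hy => by rw [mem_bot.1 hy, one_mul, mul_one]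
    · rw [h] at e
      have := lower hC hK hAK hg c
      rw [e, sup_eq_right.2 hAK, hi] at this
      have := (Nat.pow_le_pow_iff_right hp.out.one_lt).1 this
      omega

end H18.Soft
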