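/- Solvable groups in which abelian subgroups of the same order are conjugate: all subgroups
of the same order are conjugate. -/
import Cfsg.Agent.H18.BGrp2
import Cfsg.Agent.H3.NonCyclic
import Cfsg.Agent.H9.PBasic
import Cfsg.Agent.H18.Soft

set_option autoImplicit false

open Subgroup H46 Cfsg
open scoped commutatorElement

namespace H18.BG2

universe u

variable {G : Type u} [Group G] [Finite G] {A B C D E K L M N Q R T V W X : Subgroup G}
  {a m x y : G} {p r s : ℕ}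

theorem sp (hB : BG.BP G) (hs : Group.IsSolvable G) (hp : p.Prime) (hR : IsPGroup p R) :
    IsCyclic R ∨ (∀ x ∈ R, x ^ p = 1) ∨ (p = 2 ∧ IsQ R) := by
  haveI := Fact.mk hp
  obtain ⟨P, hP⟩ := hR.exists_le_sylow
  by_cases h2 : p = 2
  swap
  · exact ((Cfsg.Agent.S3908.result hB).2 p h2 P).imp (fun h => cyclic_of_le h hP)
      fun h => Or.inl fun x hx => h x (hP hx)
  subst h2
  rcases (Cfsg.Agent.S3908.result hB).1 P with h | h | ⟨k, ⟨e⟩⟩
  · exact Or.inl (cyclic_of_le h hP)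
  · exact Or.inr (Or.inl fun x hx => h.2 x (hP hx))
  · match k, e with
    | 0, e =>
      have := QuaternionGroup.quaternionGroup_one_isCyclic
      exact Or.inl (cyclic_of_le (isCyclic_of_injective e.toMonoidHom e.injective) hP)
    | 1, e =>
      rcases hP.eq_or_lt with h | h
      · exact Or.inr (Or.inr ⟨rfl, h ▸ ⟨e⟩⟩)
      · exact Or.inl (IsQ.cyc ⟨e⟩ h)
    | k + 2, e => exact (BG.no_big hB e).elim

/-- the working hypotheses on the complement -/
structure St (K : Subgroup G) : Prop where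
  ab : ∀ {M : Subgroup G} {a m : G}, M ⊴ K → a ∈ K → m ∈ M → orderOf m = orderOf a → a ∈ M
  sol : Group.IsSolvable K
  sp : ∀ {r : ℕ} {R : Subgroup G}, r.Prime → IsPGroup r R →
    IsCyclic R ∨ (∀ x ∈ R, x ^ r = 1) ∨ (r = 2 ∧ IsQ R)
  ne : ∀ {r : ℕ} {E : Subgroup G}, r.Prime → E ⊴ K → IsElementaryAbelian r E → IsCyclic E

theorem St.cyc1 (h : St K) (hr : r.Prime) (h0 : Op r K ≠ ⊥) (hR : R ≤ K)
    (he : ∀ x ∈ R, x ^ r = 1) : IsCyclic R := by
  haveI := Fact.mk hr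
  have hO : IsPi {r} (Op r K) := isPi_piCoreOf _ _
  have n : omegaOne r (Zc (Op r K)) ⊴ K := ⟨(omegaOne_le _ _).trans (inf_le_left.trans
    (piCoreOf_le _ _)), nrm_omegaOne _ (nrm_zc (le_nrm_piCoreOf _ _))⟩
  have el := elem_omegaOne_of_comm r (comm_zc (Op r K))
  obtain ⟨m, hm, hm1⟩ := exists_ne_one_of_ne_bot (omegaOne_ne_bot_of_isPi
    (hO.of_le inf_le_left) (zc_ne_bot_of_nil hO.nil h0))
  refine cyclic_of_le (h.ne hr n el) fun x hx => ?_
  by_cases h1 : x = 1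
  · rw [h1]; exact one_mem _
  exact h.ab n (hR hx) hm (by rw [orderOf_eq_prime (el.2 m hm) hm1, orderOf_eq_prime (he x hx) h1])

theorem St.op (h : St K) (hs : s.Prime) : IsCyclic (Op s K) ∨ (s = 2 ∧ IsQ (Op s K)) := by
  by_cases h0 : Op s K = ⊥
  · rw [h0]; exact Or.inl inferInstance
  rcases h.sp hs (isPGroup_Op hs K) with h1 | h1 | h1
  exacts [Or.inl h1, Or.inl (h.cyc1 hs h0 (piCoreOf_le _ _) h1), Or.inr h1]

theorem St.mem_fit (h : St K) (hx : x ∈ K) (hc : ∀ s, s.Prime → Op s K ≤ Cent1 x) :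
    x ∈ fittingOf K :=
  cent_fittingOf_le h.sol ⟨hx, le_cent1_iff.1 (nil_le_of_forall_Op (fittingOf_nil K)
    fun s hs _ => by rw [Op_fittingOf]; exact hc s hs)⟩

theorem cent_of_omega (hs : s.Prime) (hV : IsPi {s} V) (hc : IsCyclic V) (hn : x ∈ Nrm V)
    (hco : (orderOf x).Coprime (Nat.card V)) (h : omegaOne s V ≤ Cent1 x) : x ∈ Cent V :=
  zpowers_le.1 (coprime_abelian_faithful_Ohm1 (comm_of_cyclic hc) hV (zpowers_le.2 hn)
    (by rwa [card_zpowers']) (zpowers_le.2 (le_cent1_iff.1 h)))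

theorem St.cyc2 (h : St K) (hr : r.Prime) (hP : IsPGroup r R) (hR : R ≤ K)
    (he : ∀ x ∈ R, x ^ r = 1) : IsCyclic R := by
  haveI := Fact.mk hr
  by_cases h0 : Op r K = ⊥
  swap
  · exact h.cyc1 hr h0 hR he
  by_contra hc
  have hb : R ≠ ⊥ := fun e => hc (e ▸ inferInstance)
  obtain ⟨x, hx, hx1⟩ := exists_ne_one_of_ne_bot (zc_ne_bot_of_isPGroup hr hP hb)
  obtain ⟨y, hy, hyx⟩ : ∃ y ∈ R, y ∉ zpowers x := by
    by_contra h1
    push Not at h1
    exact hc (cyclic_of_le inferInstance h1)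
  have hE : zpowers x ⊔ zpowers y ≤ R := sup_le (zpowers_le.2 hx.1) (zpowers_le.2 hy)
  set E := zpowers x ⊔ zpowers y with hEd
  have cE : IsMulCommutative E := comm_sup inferInstance inferInstance
    (le_cent_symm ((zpowers_le.2 hx.2).trans (cent_anti (zpowers_le.2 hy))))
  have nE : ¬ IsCyclic E := H3.not_isCyclic_of_pair (mem_sup_left (mem_zpowers x))
    (mem_sup_right (mem_zpowers y)) (orderOf_eq_prime (he x hx.1) hx1) (he y hy) hyx
  have key : ∀ s, s.Prime → s ≠ r → ∃ e ∈ E, e ≠ 1 ∧ e ∈ Cent (Op s K) := by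
    intro s hs hsr
    have hO : IsPi {s} (Op s K) := isPi_piCoreOf _ _
    have hn : E ≤ Nrm (Op s K) := (hE.trans hR).trans (le_nrm_piCoreOf _ _)
    have hco : (Nat.card E).Coprime (Nat.card (Op s K)) :=
      (isPi_of_isPGroup hr (hP.to_le hE)).coprime (hO.compl_singleton (by simpa using hsr.symm))
    have hco' : ∀ e ∈ E, (orderOf e).Coprime (Nat.card (Op s K)) := fun e he =>
      hco.coprime_dvd_left (orderOf_dvd_card he)
    by_cases h1 : Op s K = ⊥
    · exact ⟨x, mem_sup_left (mem_zpowers x), hx1, by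
        rw [h1]; exact mem_cent.2 fun z hz => by rw [mem_bot.1 hz, one_mul, mul_one]⟩
    rcases h.op hs with h2 | ⟨-, h2⟩
    · obtain ⟨e, he1, he2, he3⟩ := exists_cent1_not_le (L := ⊥) cE nE (nrm_omegaOne s hn)
        (coprime_of_le hco le_rfl (omegaOne_le _ _))
        (by rw [le_bot_iff]; exact omegaOne_ne_bot_of_isPi hO h1)
      refine ⟨e, he1, he2, cent_of_omega hs hO h2 (hn he1) (hco' e he1) ?_⟩
      refine le_of_prime_of_inf_ne_bot ?_ (by rwa [le_bot_iff] at he3)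
      rwa [card_omegaOne_of_cyclic hs h2 (hO.prime_and_dvd h1).2]
    · obtain ⟨e, he1, he2, he3⟩ := exists_cent1_not_le cE nE hn hco h2.not_le_zc
      obtain ⟨a, ha, haZ⟩ := SetLike.not_le_iff_exists.1 he3
      refine ⟨e, he1, he2, zpowers_le.1 (coprime_nil_faithful_cent_stab hO.nil
        (zpowers_le.2 (hn he1)) (by rw [card_zpowers']; exact hco' e he1) ?_)⟩
      rw [cent_zpowers]
      have l : Op s K ⊓ Cent1 a < Op s K := lt_of_le_of_ne inf_le_left fun e' =>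
        haZ ⟨ha.1, le_cent1_iff.1 (e'.ge.trans inf_le_right)⟩
      have := h2.eq_zpowers l ⟨ha.1, self_mem_cent1 a⟩
        ((h2.ord ha.1).resolve_left fun e' => haZ (h2.mem_zc ha.1 e'))
      exact (inf_le_inf_left _ (cent_le_cent1 ha)).trans (this.ge.trans (zpowers_le.2 ha))
  have hF : R ≤ fittingOf K := fun z hz => h.mem_fit (hR hz) fun s hs => by
    by_cases hsr : s = r
    · rw [hsr, h0]; exact bot_le
    by_cases h1 : z = 1
    · rw [h1]; intro w _; exact mem_cent1.2 (by simp)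
    obtain ⟨e, he1, he2, he3⟩ := key s hs hsr
    exact le_cent1_iff.2 (h.ab (piCoreOf_normalIn {s} K).cent (hR hz) ⟨hR (hE he1), he3⟩
      (by rw [orderOf_eq_prime (he e (hE he1)) he2, orderOf_eq_prime (he z hz) h1])).2
  have := nil_le_piCoreOf (fittingOf_nil K) hF (isPi_of_isPGroup hr hP)
  exact hb (le_bot_iff.1 (h0 ▸ (Op_fittingOf r K) ▸ this))

theorem St.maxQ (h : St K) (hQ : IsQ Q) (hR : IsPGroup 2 R) (l : Q ≤ R) : Q = R := by
  obtain ⟨i, hi, -, -, o, -⟩ := hQ.ij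
  rcases h.sp Nat.prime_two hR with h1 | h1 | ⟨-, h1⟩
  · exact absurd (le_inf le_rfl (comm_iff_le_cent.1 (comm_of_cyclic (cyclic_of_le h1 l))))
      hQ.not_le_zc
  · exact absurd (h1 i (l hi)) (ne_of_four o)
  · exact eq_of_le_of_card_eq l (hQ.card.trans h1.card.symm)

theorem St.eq_op (h : St K) (hQ : IsQ Q) (hK : Q ≤ K) : Q = Op 2 K := by
  have hO : IsPi {2} (Op 2 K) := isPi_piCoreOf _ _
  refine h.maxQ hQ (hO.isPGroup Nat.prime_two) (hQ.le_of fun a ha o => ?_)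
  by_cases h1 : ∃ m ∈ Op 2 K, orderOf m = 4
  · obtain ⟨m, hm, e⟩ := h1
    exact h.ab (piCoreOf_normalIn _ _) (hK ha) hm (e.trans o.symm)
  have hQ2 := isPi_of_isPGroup Nat.prime_two hQ.isP
  have l : Op 2 K ≤ Q := le_sup_right.trans (h.maxQ hQ ((hQ2.sup' hO
    (hK.trans (le_nrm_piCoreOf _ _))).isPGroup Nat.prime_two) le_sup_left).ge
  have hF : a ∈ fittingOf K := h.mem_fit (hK ha) fun s hs => by
    by_cases h2 : s = 2
    · subst h2
      exact fun m hm => cent_le_cent1 ha (hQ.mem_zc (l hm)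
        ((hQ.ord (l hm)).resolve_right fun e => h1 ⟨m, hm, e⟩)).2
    have hO' : IsPi {s} (Op s K) := isPi_piCoreOf _ _
    by_cases h3 : Op s K = ⊥
    · rw [h3]; exact bot_le
    have hc := (h.op hs).resolve_right fun e => h2 e.1
    have hn : Q ≤ Nrm (Op s K) := hK.trans (le_nrm_piCoreOf _ _)
    obtain ⟨b, hb, ob, cb⟩ := hQ.kq hs (card_omegaOne_of_cyclic hs hc (hO'.prime_and_dvd h3).2)
      (nrm_omegaOne s hn)
    have := cent_of_omega hs hO' hc (hn hb)
      ((hQ2.coprime (hO'.compl_singleton (by simpa using Ne.symm h2))).coprime_dvd_left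
        (orderOf_dvd_card hb)) (le_cent1_iff.2 cb)
    exact le_cent1_iff.2 (h.ab (piCoreOf_normalIn {s} K).cent (hK ha) ⟨hK hb, this⟩
      (ob.trans o.symm)).2
  have := nil_le_piCoreOf (fittingOf_nil K) (zpowers_le.2 hF) (hQ2.of_le (zpowers_le.2 ha))
  exact (Op_fittingOf 2 K).le (this (mem_zpowers a))

theorem St.zg (h : St K) (hL : L ≤ K) (h1 : ¬ (IsQ (Op 2 K) ∧ Op 2 K ≤ L)) : IsZGroup L := by
  refine isZGroup_of_sylow fun r P hr hP _ => ?_
  rcases h.sp hr (hP.isPGroup hr) with h2 | h2 | ⟨-, h2⟩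
  · exact h2
  · exact h.cyc2 hr (hP.isPGroup hr) (hP.le.trans hL) h2
  · have e := h.eq_op h2 (hP.le.trans hL)
    exact absurd ⟨e ▸ h2, e ▸ hP.le⟩ h1

theorem normal_of (h : ⊤ ≤ Nrm N) : N.Normal := normalIn_top_iff.1 ⟨le_top, h⟩

omit [Finite G] in
theorem top_le [h : N.Normal] : ⊤ ≤ Nrm N := (normalIn_top_iff.2 h).nrm

theorem nsup (sd : IsSd N K ⊤) (hM : K ≤ Nrm M) : (N ⊔ M).Normal :=
  normal_of (sd.sup ▸ sup_le (nrm_of_le le_sup_left) (nrm_sup sd.norm hM))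

theorem dich (hB : BG.BP G) (hp : p.Prime) [N.Normal] (hN : IsMulCommutative N) (hQ : IsQ Q)
    (hD : (N ⊔ Q).Normal) (hc : (Nat.card Q).Coprime (Nat.card N)) {U : Subgroup G} (hU : U ≤ N)
    (hP : IsPGroup p U) (hn : Q ≤ Nrm U) (h : ¬ U.Normal) : U ≤ Cent Q := by
  haveI := Fact.mk hp
  obtain ⟨g, hg⟩ : ∃ g, ¬ cj g U ≤ U := by
    by_contra h1
    push Not at h1
    exact h (normal_of fun g _ => mem_nrm_of_cj_le (h1 g))
  obtain ⟨y0, hy0, hy0'⟩ := SetLike.not_le_iff_exists.1 hg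
  obtain ⟨k, hk1, hk2⟩ := H9.exists_pow_not_mem_pow_mem (isPGroup_cj hP g)
    (N := U.subgroupOf (cj g U)) (x := ⟨y0, hy0⟩) hy0'
  set y : G := y0 ^ p ^ k with hy
  have y1 : y ∉ U := hk1
  have y2 : y ^ p ∈ U ⊓ cj g U := ⟨hk2, pow_mem (pow_mem hy0 _) _⟩
  have yN : y ∈ N := pow_mem (((cj_mono g hU).trans (cj_of_mem_nrm (top_le (mem_top g))).le) hy0) _
  have l : U ⊓ cj g U < U := lt_of_le_of_ne inf_le_left fun e =>
    hg (eq_of_le_of_card_eq (e.ge.trans inf_le_right) (card_cj g U).symm).ge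
  obtain ⟨n, en⟩ := IsPGroup.iff_card.1 hP
  obtain ⟨j, ej⟩ := IsPGroup.iff_card.1 (hP.to_le l.le)
  have jn : j < n := (Nat.pow_lt_pow_iff_right hp.one_lt).1 (en ▸ ej ▸ card_lt_of_lt l)
  obtain ⟨n, rfl⟩ : ∃ m, n = m + 1 := ⟨n - 1, by omega⟩
  obtain ⟨S, eS, hS⟩ := Sylow.exists_subgroup_card_pow_prime_le p (G := U) (m := n)
    (en ▸ pow_dvd_pow p n.le_succ) ((U ⊓ cj g U).subgroupOf U) ((card_subgroupOf l.le).trans ej)
    (by omega)
  set U1 := S.map U.subtype with hU1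
  have l1 : U1 ≤ U := map_subtype_le _
  have l2 : U ⊓ cj g U ≤ U1 := fun z hz => ⟨⟨z, hz.1⟩, hS hz, rfl⟩
  have c1 : Nat.card U1 = p ^ n := (card_map_subtype S).trans eS
  have r1 : U1.relIndex U = p := Nat.eq_of_mul_eq_mul_left (card_pos' U1)
    (by rw [card_mul_relIndex l1, en, c1, pow_succ])
  have nN : ∀ Z, Z ≤ N → N ≤ Nrm Z := fun Z => nrm_of_comm hN
  have c2 := H9.card_sup_zpowers_of_normalizes (p := p) (nN U1 (l1.trans hU) yN)
    (fun h => y1 (l1 h)) (l2 y2)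
  have l3 : U1 ⊔ zpowers y ≤ N := sup_le (l1.trans hU) (zpowers_le.2 yN)
  have c3 : Nat.card U = Nat.card ↥(U1 ⊔ zpowers y) := by rw [c2, c1, en, pow_succ']
  obtain ⟨t, ht⟩ := hB U _ (comm_of_le hN hU) (comm_of_le hN l3) c3
  change _ = cj t U at ht
  have n2 : Q ≤ Nrm (U1 ⊔ zpowers y) := by
    rw [ht, ← cj_nrm]
    exact le_sup_right.trans ((cj_of_mem_nrm (top_le (N := N ⊔ Q) (mem_top t))).ge.trans
      (cj_mono t (sup_le (nN U hU) hn)))
  have e1 : U ⊓ (U1 ⊔ zpowers y) = U1 := by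
    refine le_antisymm ?_ (le_inf l1 le_sup_left)
    by_contra h1
    have := Soft.eq_of_rel (le_inf l1 le_sup_left) inf_le_left r1 h1
    exact y1 ((eq_of_le_of_card_eq (this.ge.trans inf_le_right) c3).ge (mem_sup_right (mem_zpowers y)))
  have n1 : Q ≤ Nrm U1 := e1 ▸ nrm_inf hn n2
  have nU : U ≤ Nrm U1 := hU.trans (nN U1 (l1.trans hU))
  have q1 : IsQ (Q ⧸ₙ U1) := by
    obtain ⟨e⟩ := hQ
    exact ⟨(quoEquiv n1 (inf_comm Q U1 ▸ inf_eq_bot_of_coprime'
      (coprime_of_le hc le_rfl (l1.trans hU)))).symm.trans e⟩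
  obtain ⟨b, hb, ob, cb⟩ := q1.kq hp ((card_quo nU).trans r1) (quo_nrm U1 hn)
  obtain ⟨a, ha, -, rfl⟩ := mem_quo.1 hb
  have oa : orderOf a = 4 := (hQ.ord ha).resolve_left fun e => by
    have h1 := card_quo_dvd (zpowers a) U1
    rw [quo_zpowers (n1 ha), card_zpowers', card_zpowers', ob] at h1
    have := h1.trans (orderOf_dvd_of_pow_eq_one e)
    omega
  have za : zpowers a ≤ Q := zpowers_le.2 ha
  have h1 : ⁅U, zpowers a⁆ ≤ U1 := (quo_le_cent_iff' (za.trans n1) nU).1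
    (by rw [quo_zpowers (n1 ha)]; exact zpowers_le.2 cb)
  have h2 := coprime_cent_prod (za.trans hn) (coprime_of_le hc za hU)
    (Or.inr (sol_of_comm (comm_of_le hN hU)))
  have h3 : U ⊓ Cent (zpowers a) ≠ ⊥ := fun e => by
    rw [e, sup_bot_eq] at h2
    exact hp.one_lt.ne ((relIndex_eq_one.2 (h2.ge.trans h1)).symm.trans r1)
  obtain ⟨x, hx, ox⟩ := cauchy hp
    ((isPi_of_isPGroup hp (hP.to_le inf_le_left)).prime_and_dvd h3).2
  have hV : U ≤ Op p N := nil_le_piCoreOf (nil_of_comm hN) hU (isPi_of_isPGroup hp hP)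
  have tV : ⊤ ≤ Nrm (Op p N) := nrm_piCoreOf _ top_le
  have h4 := BG2.ht hB hp hN hD (le_top.trans top_le) hc (piCoreOf_le _ _) (le_top.trans tV)
    (isPGroup_Op hp N) (hV hx.1) ox (hQ.nrm inf_le_left)
    ⟨ha, mem_cent1_comm.1 (cent_zpowers a ▸ hx.2)⟩
  haveI := normal_of (nrm_cent tV)
  exact hV.trans (le_cent_symm (hQ.le_of fun z _ oz => BG.absorb hB _ h4 (oa.trans oz.symm)))

theorem st (hB : BG.BP G) (hs : Group.IsSolvable G) (hN : IsMulCommutative N) (sd : IsSd N K ⊤)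
    (hc : (Nat.card N).Coprime (Nat.card K))
    (mx : ∀ M : Subgroup G, M.Normal ∧ IsMulCommutative M ∧ IsHallOf M ⊤ → N ≤ M → M = N) :
    St K := by
  haveI := normal_of sd.normalIn.nrm
  have ab : ∀ {M : Subgroup G} {a m : G}, M ⊴ K → a ∈ K → m ∈ M → orderOf m = orderOf a →
      a ∈ M := by
    intro M a m hM ha hm e
    haveI := nsup sd hM.nrm
    have : a ∈ (N ⊔ M) ⊓ K := ⟨BG.absorb hB _ (mem_sup_right hm) e, ha⟩
    rwa [modr (le_top.trans top_le) hM.le, sd.inf, bot_sup_eq] at this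
  refine ⟨ab, inferInstance, sp hB hs, ?_⟩
  intro r E hr hE el
  haveI := Fact.mk hr
  by_contra nc
  have hb : E ≠ ⊥ := fun e => nc (e ▸ inferInstance)
  have hP : IsPGroup r E := fun x => ⟨1, Subtype.ext (by simpa using el.2 x x.2)⟩
  have hEK : (Nat.card E).Coprime (Nat.card N) := coprime_of_le hc.symm hE.le le_rfl
  have syl : IsSylowOf r E K := isSylowOf_of_max hr hE.le hP fun R h1 h2 h3 => by
    rcases sp hB hs hr h2 with h | h | ⟨-, h⟩
    · exact absurd (cyclic_of_le h h3) nc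
    · obtain ⟨m, hm, hm1⟩ := exists_ne_one_of_ne_bot hb
      intro x hx
      by_cases h4 : x = 1
      · rw [h4]; exact one_mem _
      exact ab hE (h1 hx) hm (by rw [orderOf_eq_prime (el.2 m hm) hm1, orderOf_eq_prime (h x hx) h4])
    · rcases h3.eq_or_lt with e | e
      · exact e.ge
      · exact absurd (h.cyc e) nc
  have hD := nsup sd hE.nrm
  have cen : N ≤ Cent E := nil_le_of_forall_Op (nil_of_comm hN) fun p hp _ => by
    by_cases h0 : Op p N = ⊥
    · rw [h0]; exact bot_le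
    have tV : ⊤ ≤ Nrm (Op p N) := nrm_piCoreOf _ top_le
    obtain ⟨e, he1, he2, he3⟩ := exists_cent1_not_le (L := ⊥) el.1 nc (le_top.trans tV)
      (coprime_of_le hEK le_rfl (piCoreOf_le _ _)) (by rwa [le_bot_iff])
    obtain ⟨x, hx, ox⟩ := cauchy hp (((isPi_piCoreOf {p} N).of_le inf_le_left).prime_and_dvd
      (by rwa [le_bot_iff] at he3)).2
    have h4 := BG2.ht hB hp hN hD (le_top.trans top_le) hEK (piCoreOf_le _ _) (le_top.trans tV)
      (isPGroup_Op hp N) hx.1 ox (nrm_of_comm el.1 inf_le_left) ⟨he1, mem_cent1_comm.1 hx.2⟩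
    haveI := normal_of (nrm_cent tV)
    refine le_cent_symm fun z hz => ?_
    by_cases h5 : z = 1
    · rw [h5]; exact one_mem _
    exact BG.absorb hB _ h4 (by rw [orderOf_eq_prime (el.2 e he1) he2, orderOf_eq_prime (el.2 z hz) h5])
  have cd := card_sup_of_disjoint (le_top.trans top_le : E ≤ Nrm N)
    (inf_comm E N ▸ inf_eq_bot_of_coprime' hEK)
  have ri : (N ⊔ E).relIndex ⊤ = E.relIndex K := Nat.eq_of_mul_eq_mul_left (card_pos' (N ⊔ E))
    (by rw [card_mul_relIndex le_top, cd, mul_assoc, card_mul_relIndex hE.le, sd.card])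
  have := mx _ ⟨hD, comm_sup hN el.1 (le_cent_symm cen), le_top, by
    rw [cd, ri]
    exact Nat.Coprime.mul_left (hc.coprime_dvd_right (relIndex_dvd_card _ _)) syl.isHallOf.2⟩ le_sup_left
  exact hb (le_bot_iff.1 (sd.inf ▸ le_inf (le_sup_right.trans this.le) hE.le))

theorem main (hB : BG.BP G) (hs : Group.IsSolvable G) (e : Nat.card A = Nat.card B) :
    ∃ g, B = cj g A := by
  obtain ⟨N, ⟨h1, hN, h3⟩, mx⟩ := H2.exists_maximal_subgroup
    (fun M : Subgroup G => M.Normal ∧ IsMulCommutative M ∧ IsHallOf M ⊤)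
    ⟨⊥, inferInstance, inferInstance, bot_le, by simp⟩
  obtain ⟨K, sd⟩ := exists_sd_of_hall h3 top_le
  have hc : (Nat.card N).Coprime (Nat.card K) := sd.relIndex_left ▸ h3.2
  have S := st hB hs hN sd hc mx
  obtain ⟨g0, hg0⟩ := hB _ _ (comm_of_le hN inf_le_right) (comm_of_le hN inf_le_right)
    (card_inf sd hc (le_top : A ≤ ⊤) (le_top : B ≤ ⊤) e)
  change _ = cj g0 _ at hg0
  rw [cj_inf, cj_of_mem_nrm (top_le (N := N) (mem_top g0))] at hg0
  set W := B ⊓ N with hW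
  have hWN : W ≤ N := inf_le_right
  suffices hL : ∀ X Y, X ≤ K ⊓ Nrm W → Y ≤ K ⊓ Nrm W → Nat.card X = Nat.card Y →
      ∃ g ∈ K ⊓ Nrm W, Y = cj g X by
    obtain ⟨g, -, hg⟩ := red sd hc (sol_of_comm hN) le_top le_top ((card_cj g0 A).trans e)
      hg0.symm rfl (nrm_of_comm hN hWN) hL
    exact ⟨g * g0, by rw [cj_mul, hg]⟩
  intro X Y hX hY eX
  by_cases hq : IsQ (Op 2 K) ∧ Op 2 K ≤ K ⊓ Nrm W
  swap
  · exact zconj (S.zg inf_le_left hq) hX hY eX
  obtain ⟨hQ, hQL⟩ := hq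
  set Q := Op 2 K with hQd
  have nQ : K ≤ Nrm Q := le_nrm_piCoreOf _ _
  have syl : IsSylowOf 2 Q (K ⊓ Nrm W) := isSylowOf_of_max Nat.prime_two hQL hQ.isP
    fun R _ h2 h3 => (S.maxQ hQ h2 h3).ge
  obtain ⟨T, sT⟩ := exists_sd_of_hall syl.isHallOf (inf_le_left.trans nQ)
  have cT : (Nat.card Q).Coprime (Nat.card T) := sT.relIndex_left ▸ syl.isHallOf.2
  have zT : IsZGroup T := S.zg (sT.le_right.trans inf_le_left) fun h => hQ.not_le_zc
    (by rw [show Q = ⊥ from le_bot_iff.1 (sT.inf ▸ le_inf le_rfl h.2)]; exact bot_le)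
  have eC := card_inf sT cT hX hY eX
  obtain ⟨k, hk, ek⟩ : ∃ k ∈ K ⊓ Nrm W, cj k (X ⊓ Q) = Y ⊓ Q := by
    by_cases h8 : X ⊓ Q = Q
    · refine ⟨1, one_mem _, ?_⟩
      rw [cj_of_mem (one_mem _), h8]
      exact (eq_of_le_of_card_eq inf_le_right (by rw [← eC, h8])).symm
    have c1 := comm_of_cyclic (hQ.cyc (lt_of_le_of_ne inf_le_right h8))
    have c2 := comm_of_cyclic (hQ.cyc (C := Y ⊓ Q) (lt_of_le_of_ne inf_le_right fun h =>
      h8 (eq_of_le_of_card_eq inf_le_right (by rw [eC, h]))))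
    set W0 := W ⊓ Cent Q with hW0
    have w0 : W0 ≤ N := inf_le_left.trans hWN
    have cw : ∀ C, C ≤ Q → C ≤ Cent W0 := fun C h => h.trans (le_cent_symm inf_le_right)
    have dj : ∀ C, C ≤ Q → W0 ⊓ C = ⊥ := fun C h =>
      le_bot_iff.1 (sd.inf ▸ inf_le_inf w0 (h.trans (hQL.trans inf_le_left)))
    obtain ⟨g, hg⟩ := hB _ _ (comm_sup (comm_of_le hN w0) c1 (cw _ inf_le_right))
      (comm_sup (comm_of_le hN w0) c2 (cw _ inf_le_right)) (by
        rw [card_sup_of_disjoint (nrm_of_le_cent (cw _ inf_le_right)) (dj _ inf_le_right),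
          card_sup_of_disjoint (nrm_of_le_cent (cw _ inf_le_right)) (dj _ inf_le_right), eC])
    change _ = cj g _ at hg
    have yK : Y ⊓ Q ≤ K := inf_le_left.trans (hY.trans inf_le_left)
    have g1 : g ∈ Nrm W0 := mem_nrm_of_cj_le (by
      have := modl (nrm_of_le_cent (cw (Y ⊓ Q) inf_le_right)) w0
      rw [le_bot_iff.1 (sd.inf ▸ le_inf inf_le_right (inf_le_left.trans yK) : Y ⊓ Q ⊓ N ≤ ⊥),
        sup_bot_eq] at this
      exact (le_inf (hg ▸ cj_mono g le_sup_left) ((cj_mono g w0).trans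
        (cj_of_mem_nrm (top_le (mem_top g))).le)).trans this.le)
    have g2 : g ∈ Nrm W := mem_nrm_of_cj_le (cj_le_iff.2 (nil_le_of_forall_Op
      (nil_of_comm (comm_of_le hN hWN)) fun p hp _ => by
        by_cases hn : (Op p W).Normal
        · exact (cj_of_mem_nrm (top_le (mem_top g⁻¹))).ge.trans (cj_mono _ (piCoreOf_le _ _))
        · have := dich hB hp hN hQ (nsup sd nQ)
            (coprime_of_le hc.symm (hQL.trans inf_le_left) le_rfl) ((piCoreOf_le _ _).trans hWN)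
            (isPGroup_Op hp W) (nrm_piCoreOf _ (hQL.trans inf_le_right)) hn
          exact (le_inf (piCoreOf_le _ _) this).trans
            ((cj_of_mem_nrm (inv_mem g1)).ge.trans (cj_mono _ inf_le_left))))
    obtain ⟨n, hn, k, hk, rfl⟩ := sd.exists_mul (mem_top g)
    refine ⟨k, ⟨hk, by simpa using mul_mem (inv_mem (nrm_of_comm hN hWN hn)) g2⟩,
      eq_of_le_of_card_eq ?_ ((card_cj _ _).trans eC)⟩
    have := modr (le_top.trans top_le : Y ⊓ Q ≤ Nrm N) yK
    rw [sd.inf, bot_sup_eq] at this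
    refine (le_inf ?_ ((cj_mono k (inf_le_left.trans (hX.trans inf_le_left))).trans
      (cj_of_mem hk).le)).trans this.le
    have h5 : cj n (cj k (X ⊓ Q)) ≤ N ⊔ Y ⊓ Q := by
      rw [← cj_mul]
      exact (cj_mono _ le_sup_right).trans (hg.ge.trans (sup_le_sup_right w0 _))
    exact (cj_le_iff.1 h5).trans (cj_of_mem (inv_mem (mem_sup_left hn))).le
  rw [cj_inf, cj_of_mem_nrm (nQ hk.1)] at ek
  obtain ⟨g, hg, eg⟩ := red sT cT (sol_of_nil hQ.isP.isNilpotent)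
    ((cj_mono k hX).trans (cj_of_mem hk).le) hY ((card_cj k X).trans eX) ek rfl
    (hQ.nrm inf_le_right) fun _ _ => zconj (isZGroup_of_le zT inf_le_left)
  exact ⟨g * k, mul_mem hg hk, by rw [cj_mul, eg]⟩

end H18.BG2
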