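import Cfsg.Agent.H46.Misc
import Cfsg.Agent.H3.NonCyclic
import Cfsg.Agent.H3.DihQuat

/-! Groups in which `p`-subgroups of equal order are conjugate. -/

namespace H18.CG

open Cfsg hiding pRank
open H46 Subgroup
open scoped commutatorElement

universe u
variable {G : Type u} [Group G] [Finite G] {p : ℕ} [hp : Fact p.Prime]

/-- `p`-subgroups of equal order are conjugate -/
def CP (p : ℕ) (G : Type u) [Group G] : Prop :=
  ∀ H K : Subgroup G, IsPGroup p H → IsPGroup p K → Nat.card H = Nat.card K → ∃ g : G, K = cj g H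

theorem exists_le_card {A : Subgroup G} {k : ℕ} (h : p ^ k ∣ Nat.card A) :
    ∃ B : Subgroup G, B ≤ A ∧ Nat.card B = p ^ k := by
  obtain ⟨K, hK⟩ := Sylow.exists_subgroup_card_pow_prime p (G := A) h
  exact ⟨K.map A.subtype, map_subtype_le _, by rw [card_map_subtype, hK]⟩

theorem card_sup_zpowers {H : Subgroup G} {x : G} (hx : x ^ p = 1) (hxH : x ∉ H)
    (hn : x ∈ Nrm H) : Nat.card ↥(H ⊔ zpowers x) = Nat.card H * p := by
  have h1 : orderOf x = p := orderOf_eq_prime hx fun e => hxH (e ▸ H.one_mem)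
  have h2 : Nat.card (zpowers x) = p := by rw [card_zpowers', h1]
  rw [card_sup_of_disjoint (zpowers_le.2 hn), h2]
  rw [inf_comm]
  exact inf_eq_bot_of_prime (h2 ▸ hp.out) fun h => hxH (h (mem_zpowers x))

theorem comm_zpowers (x : G) : IsMulCommutative (zpowers x) := inferInstance

theorem CP.comm_of_comm (h : CP p G) {A B : Subgroup G} {k : ℕ} (hA : IsMulCommutative A)
    (hk : p ^ k ∣ Nat.card A) (hB : Nat.card B = p ^ k) : IsMulCommutative B := by
  obtain ⟨C, hC, hc⟩ := exists_le_card hk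
  obtain ⟨g, rfl⟩ := h C B (IsPGroup.of_card hc) (IsPGroup.of_card hB) (hc.trans hB.symm)
  exact comm_cj (comm_of_le hA hC) g

theorem CP.quaternion (h : CP 2 G) {n : ℕ} (f : QuaternionGroup (2 ^ (n + 1)) →* G)
    (hf : Function.Injective f) : n = 0 := by
  by_contra hn
  obtain ⟨n, rfl⟩ : ∃ m, n = m + 1 := Nat.exists_eq_succ_of_ne_zero hn
  haveI : Fact (Nat.Prime 2) := ⟨Nat.prime_two⟩
  set a := f (QuaternionGroup.a 1) with ha
  set b := f (QuaternionGroup.xa 0) with hb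
  have hoa : orderOf a = 2 ^ (n + 3) := by
    rw [ha, orderOf_injective f hf, QuaternionGroup.orderOf_a_one]; ring
  have hab : b * a * b⁻¹ = a⁻¹ := by
    rw [ha, hb, ← map_inv, ← map_inv, ← map_mul, ← map_mul]
    congr 1
    rw [mul_inv_eq_iff_eq_mul, eq_inv_mul_iff_mul_eq]
    simp
  have hb2 : b ^ 2 = a ^ 2 ^ (n + 2) := by
    rw [ha, hb, ← map_pow, ← map_pow, QuaternionGroup.xa_sq, QuaternionGroup.a_one_pow]
  have hbn : b ∉ zpowers a := by
    intro hk
    obtain ⟨k, hk⟩ := (mem_powers_iff_mem_zpowers.2 hk)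
    simp only [ha, hb, ← map_pow] at hk
    have := hf hk
    rw [QuaternionGroup.a_one_pow] at this
    cases this
  have ho : orderOf (a ^ 2 ^ (n + 1)) = 2 * 2 := by
    rw [orderOf_pow, hoa, Nat.gcd_eq_right (pow_dvd_pow 2 (by omega)),
      Nat.pow_div (by omega) (by norm_num), show n + 3 - (n + 1) = 2 by omega]
  obtain ⟨e⟩ := H3.nonempty_closure_mulEquiv_quaternion (n := 2) (a := a ^ 2 ^ (n + 1)) (b := b) ho
    (by rw [hb2, ← pow_mul, ← pow_succ]) (by rw [← conj_pow, hab, inv_pow])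
    (fun hm => hbn (zpowers_le.2 (pow_mem (mem_zpowers a) _) hm))
  have hc : Nat.card (closure {a ^ 2 ^ (n + 1), b}) = 2 ^ 3 := by
    rw [Nat.card_congr e.toEquiv, H3.natCard_quaternionGroup (by norm_num)]; norm_num
  have := h.comm_of_comm (comm_zpowers a) (by
    rw [card_zpowers', hoa]; exact pow_dvd_pow 2 (by omega)) hc
  exact H3.not_isMulCommutative_quaternion 0
    ⟨⟨fun x y => e.symm.injective (by rw [map_mul, map_mul, this.1.1])⟩⟩

theorem CP.pow_eq_one (h : CP p G) {x y : G} (hx : orderOf x = p) (hy : orderOf y = p)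
    (hc : Commute x y) (hn : y ∉ zpowers x) {g : G} (hg : IsPiElt {p} g) : g ^ p = 1 := by
  by_contra h1
  have hx1 : x ^ p = 1 := by rw [← hx, pow_orderOf_eq_one]
  have hy1 : y ^ p = 1 := by rw [← hy, pow_orderOf_eq_one]
  obtain ⟨k, hk⟩ := (isPi_zpowers.2 hg).exists_pow hp.out
  have hk2 : 2 ≤ k := by
    by_contra hlt
    apply h1
    rw [← orderOf_dvd_iff_pow_eq_one, ← card_zpowers', hk]
    conv_rhs => rw [← pow_one p]
    exact pow_dvd_pow _ (by omega)
  obtain ⟨C, hC, hc2⟩ := exists_le_card (A := zpowers g) (k := 2) (hk ▸ pow_dvd_pow p hk2)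
  have hE : Nat.card ↥(zpowers x ⊔ zpowers y) = p ^ 2 := by
    rw [card_sup_zpowers hy1 hn (cent1_le_nrm_zpowers x (mem_cent1.2 hc.symm)), card_zpowers', hx,
      pow_two]
  obtain ⟨c, hc'⟩ := h C _ (IsPGroup.of_card hc2) (IsPGroup.of_card hE) (hc2.trans hE.symm)
  have hcyc : IsCyclic ↥(zpowers x ⊔ zpowers y) :=
    hc' ▸ cyclic_cj (cyclic_of_le (cyclic_iff_exists_zpowers.2 ⟨g, rfl⟩) hC) c
  have := eq_of_cyclic_of_card_eq hcyc le_sup_left le_sup_right
    (by rw [card_zpowers', card_zpowers', hx, hy])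
  exact hn (this ▸ mem_zpowers y)

/-- non-abelian of order `p ^ 3` and exponent `p` -/
structure Ex3 (p : ℕ) (P : Subgroup G) : Prop where
  nc : ¬ IsMulCommutative P
  card : Nat.card P = p ^ 3
  exp : ∀ x ∈ P, x ^ p = 1

theorem exists_Z2 {P : Subgroup G} (hP : IsPGroup p P) (hc : ¬ IsMulCommutative P) :
    ∃ u ∈ P, u ∉ Zc P ∧ ∀ g ∈ P, ⁅g, u⁆ ∈ Zc P := by
  haveI : Group.IsNilpotent P := hP.isNilpotent
  have h1 : center P ≠ ⊤ := fun e => hc ⟨⟨fun a b => (mem_center_iff.1 (e ▸ mem_top b) a)⟩⟩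
  haveI : Nontrivial (P ⧸ center P) := QuotientGroup.nontrivial_iff.2 h1
  have h2 := (hP.to_quotient (center P)).center_nontrivial
  obtain ⟨⟨w, hw⟩, hw1⟩ := exists_ne (1 : center (P ⧸ center P))
  obtain ⟨u, rfl⟩ := QuotientGroup.mk_surjective w
  have key : ∀ x : P, (x : G) ∈ Zc P ↔ x ∈ center P := fun x =>
    ⟨fun h => mem_center_iff.2 fun y => Subtype.ext (mem_cent.1 h.2 y y.2),
      fun h => ⟨x.2, mem_cent.2 fun y hy => congrArg Subtype.val (mem_center_iff.1 h ⟨y, hy⟩)⟩⟩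
  refine ⟨u, u.2, fun h => hw1 (Subtype.ext ((QuotientGroup.eq_one_iff u).2 ((key u).1 h))),
    fun g hg => ?_⟩
  have h3 : ⁅(⟨g, hg⟩ : P), u⁆ ∈ center P := by
    rw [← QuotientGroup.eq_one_iff]
    change QuotientGroup.mk' _ _ = 1
    rw [map_commutatorElement, commutatorElement_eq_one_iff_mul_comm]
    exact mem_center_iff.1 hw _
  exact (key _).2 h3

theorem relIndex_cent1_le {P Z : Subgroup G} {u : G} (hZ : Z ≤ Cent P) (hZP : Z ≤ P)
    (h : ∀ g ∈ P, ⁅g, u⁆ ∈ Z) : ∃ f : P →* Z, f.ker = (Cent1 u).subgroupOf P ∧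
      ∀ g : P, (f g : G) = ⁅(g : G), u⁆ := by
  refine ⟨MonoidHom.mk' (fun g => ⟨⁅(g : G), u⁆, h g g.2⟩) fun a b => Subtype.ext ?_, ?_,
    fun g => rfl⟩
  · change ⁅(a : G) * b, u⁆ = ⁅(a : G), u⁆ * ⁅(b : G), u⁆
    have h1 := mem_cent.1 (hZ (h b b.2)) a a.2
    have h3 : ⁅(a : G) * b, u⁆ = a * ⁅(b : G), u⁆ * ((a : G)⁻¹ * ⁅(a : G), u⁆) := by
      simp only [commutatorElement_def]; group
    rw [h3, h1, mul_assoc, mul_inv_cancel_left]
    have h4 : ⁅(a : G), u⁆ = a * (u * (a : G)⁻¹ * u⁻¹) := by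
      simp only [commutatorElement_def]; group
    exact (mem_cent.1 (hZ (h b b.2)) _ (hZP (h a a.2))).symm
  · ext g
    rw [MonoidHom.mem_ker, mem_subgroupOf, mem_cent1, Subtype.ext_iff]
    exact commutatorElement_eq_one_iff_mul_comm

theorem CP.sylow (h : CP p G) {P : Subgroup G} (hP : IsPGroup p P) :
    IsCyclic P ∨ IsElementaryAbelian p P ∨ (p = 2 ∧ Nonempty (P ≃* QuaternionGroup 2)) ∨
      (p ≠ 2 ∧ Ex3 p P) := by
  rcases H3.exists_pair_of_pgroup hP with h1 | ⟨rfl, n, ⟨e⟩⟩ | ⟨x, y, hxZ, hx, hy, hn⟩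
  · exact Or.inl h1
  · have := h.quaternion (P.subtype.comp e.symm.toMonoidHom)
      (P.subtype_injective.comp e.symm.injective)
    subst this
    exact Or.inr (Or.inr (Or.inl ⟨rfl, ⟨e⟩⟩))
  right
  have hpi : IsPi {p} P := isPi_of_isPGroup hp.out hP
  have hexp : ∀ g ∈ P, g ^ p = 1 := fun g hg =>
    h.pow_eq_one (x := x) (y := y) (by rw [Subgroup.orderOf_coe, hx])
      (by rw [Subgroup.orderOf_coe, hy])
      (congrArg Subtype.val (mem_center_iff.1 hxZ y).symm)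
      (fun ⟨k, hk⟩ => hn ⟨k, Subtype.ext (by simpa using hk)⟩) (hpi.elt hg)
  by_cases hc : IsMulCommutative P
  · exact Or.inl ⟨hc, hexp⟩
  right; right
  have hp2 : p ≠ 2 := by
    rintro rfl
    refine hc (comm_iff_le_cent.2 fun a ha => mem_cent.2 fun b hb => ?_)
    have inv : ∀ g ∈ P, g⁻¹ = g := fun g hg =>
      inv_eq_of_mul_eq_one_right (by rw [← pow_two, hexp g hg])
    rw [← inv _ (P.mul_mem hb ha), mul_inv_rev, inv a ha, inv b hb]
  refine ⟨hp2, hc, ?_, hexp⟩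
  obtain ⟨u, hu, huZ, hu2⟩ := exists_Z2 hP hc
  obtain ⟨v, hv, huv⟩ : ∃ v ∈ P, ⁅v, u⁆ ≠ 1 := by
    by_contra hh
    push Not at hh
    exact huZ ⟨hu, mem_cent.2 fun g hg => commutatorElement_eq_one_iff_mul_comm.1 (hh g hg)⟩
  set c := ⁅v, u⁆ with hcd
  have hcZ : c ∈ Zc P := hu2 v hv
  have hco : orderOf c = p := orderOf_eq_prime (hexp c hcZ.1) huv
  have hcle : zpowers c ≤ Zc P := zpowers_le.2 hcZ
  have hW : Nat.card ↥(zpowers c ⊔ zpowers u) = p * p := by
    rw [card_sup_zpowers (hexp u hu) (fun hh => huZ (hcle hh))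
      (cent1_le_nrm_zpowers c (mem_cent1.2 (mem_cent.1 hcZ.2 u hu))), card_zpowers', hco]
  have hWc : zpowers c ⊔ zpowers u ≤ Cent1 u :=
    sup_le (hcle.trans (inf_le_right.trans (cent_le_cent1 hu))) (zpowers_le.2 (self_mem_cent1 u))
  have hvc : v ∉ Cent1 u := fun hh => huv (commutatorElement_eq_one_iff_mul_comm.2 (mem_cent1.1 hh))
  have hB : Nat.card ↥((zpowers c ⊔ zpowers u) ⊔ zpowers v) = p ^ 3 := by
    rw [card_sup_zpowers (hexp v hv) (fun hh => hvc (hWc hh)), hW]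
    · ring
    · apply mem_nrm_of_cj_le
      rw [cj_sup, cj_zpowers, cj_zpowers]
      refine sup_le ?_ (zpowers_le.2 ?_)
      · rw [mem_cent.1 hcZ.2 v hv, mul_inv_cancel_right]; exact le_sup_left
      · have : v * u * v⁻¹ = c * u := by rw [hcd, commutatorElement_def]; group
        rw [this]
        exact mul_mem (mem_sup_left (mem_zpowers c)) (mem_sup_right (mem_zpowers u))
  have noab : ∀ A : Subgroup G, IsMulCommutative A → ¬ p ^ 3 ∣ Nat.card A := fun A hA hd => by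
    have := comm_iff_le_cent.1 (h.comm_of_comm hA hd hB)
    exact hvc (cent_le_cent1 (mem_sup_left (mem_sup_right (mem_zpowers u)))
      (this (mem_sup_right (mem_zpowers v))))
  have hZc : Nat.card (Zc P) = p := by
    obtain ⟨k, hk⟩ := (hpi.of_le (inf_le_left : Zc P ≤ P)).exists_pow hp.out
    have h1 := noab (Zc P ⊔ zpowers u) (comm_sup (comm_zc P) (comm_zpowers u)
      (zpowers_le.2 (le_cent_symm inf_le_right hu)))
    rw [card_sup_zpowers (hexp u hu) huZ (nrm_zc le_nrm_self hu), hk, ← pow_succ] at h1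
    have h2 : k + 1 < 3 := by
      by_contra hh
      exact h1 (pow_dvd_pow p (by omega))
    have h3 : k ≠ 0 := by
      rintro rfl
      exact ne_bot_of_mem hcZ huv (card_eq_one.1 hk)
    rw [hk, show k = 1 by omega, pow_one]
  obtain ⟨f, hf, -⟩ := relIndex_cent1_le inf_le_right inf_le_left hu2
  have h1 : (Cent1 u).relIndex P ∣ p := by
    rw [relIndex, ← hf, index_ker, ← hZc]
    exact card_subgroup_dvd_card _
  have h2 : Cent1 u ⊓ P = zpowers c ⊔ zpowers u := by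
    refine le_antisymm (fun w hw => ?_)
      (le_inf hWc (sup_le (hcle.trans inf_le_left) (zpowers_le.2 hu)))
    by_contra hh
    have hwc : w ∈ Cent (zpowers c ⊔ zpowers u) := by
      rw [cent_sup, cent_zpowers, cent_zpowers]
      exact ⟨mem_cent1.2 (mem_cent.1 hcZ.2 w hw.2), hw.1⟩
    refine noab ((zpowers c ⊔ zpowers u) ⊔ zpowers w) (comm_sup (comm_sup (comm_zpowers c)
      (comm_zpowers u) ?_) (comm_zpowers w) (zpowers_le.2 hwc)) ?_
    · rw [cent_zpowers]; exact zpowers_le.2 (mem_cent1.2 (mem_cent.1 hcZ.2 u hu))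
    · rw [card_sup_zpowers (hexp w hw.2) hh (cent_le_nrm _ hwc), hW]
      exact ⟨1, by ring⟩
  have h3 := card_inf_mul_relIndex (Cent1 u) P
  rw [h2, hW] at h3
  rcases (Nat.dvd_prime hp.out).1 h1 with h4 | h4
  · exact absurd (relIndex_eq_one.1 h4 hv) hvc
  · rw [← h3, h4]; ring

namespace Ex3
variable {P : Subgroup G} (h : Ex3 p P)
include h

theorem isPGroup : IsPGroup p P := IsPGroup.of_card h.card

theorem cj (g : G) : Ex3 p (cj g P) where
  nc := fun hc => h.nc (by have := comm_cj hc g⁻¹; rwa [← cj_eq_iff.1 rfl] at this)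
  card := by rw [card_cj, h.card]
  exp := by
    rintro _ ⟨x, hx, rfl⟩
    rw [← map_pow, h.exp x hx, map_one]

theorem ne_bot : P ≠ ⊥ := fun e => h.nc (e ▸ inferInstance)

theorem zc : Nat.card (Zc P) = p ∧ ∀ g ∈ P, ∀ x ∈ P, ⁅g, x⁆ ∈ Zc P := by
  have key : (Zc P).subgroupOf P = center P := by
    ext x
    exact ⟨fun h => mem_center_iff.2 fun y => Subtype.ext (mem_cent.1 h.2 y y.2),
      fun h => ⟨x.2, mem_cent.2 fun y hy => congrArg Subtype.val (mem_center_iff.1 h ⟨y, hy⟩)⟩⟩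
  obtain ⟨k, hk0, hk⟩ := IsPGroup.card_center_eq_prime_pow h.card (by norm_num)
  have h1 := (center P).card_mul_index
  have h2 : ¬ (center P).index ∣ p := fun hd => by
    haveI : IsCyclic (P ⧸ center P) := isCyclic_of_card_dvd_prime hd
    exact h.nc (isMulCommutative_of_isCyclic_quotient_center_self P)
  rw [hk, h.card] at h1
  have hk3 : k ≤ 3 := (Nat.pow_dvd_pow_iff_le_right hp.out.one_lt).1 ⟨_, h1.symm⟩
  have h3 : (center P).index = p ^ (3 - k) := by
    apply Nat.eq_of_mul_eq_mul_left (pow_pos hp.out.pos k)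
    rw [h1, ← pow_add]; congr 1; omega
  have hk1 : k = 1 := by
    by_contra hh
    apply h2
    rw [h3]
    conv_rhs => rw [← pow_one p]
    exact pow_dvd_pow p (by omega)
  subst hk1
  refine ⟨by rw [← card_subgroupOf (inf_le_left : Zc P ≤ P), key, hk, pow_one], ?_⟩
  intro g hg x hx
  have h4 : IsMulCommutative (P ⧸ center P) := IsPGroup.isMulCommutative_of_card_eq_prime_sq h3
  have h5 : ⁅(⟨g, hg⟩ : P), (⟨x, hx⟩ : P)⁆ ∈ center P := by
    rw [← QuotientGroup.eq_one_iff]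
    change QuotientGroup.mk' _ _ = 1
    rw [map_commutatorElement, commutatorElement_eq_one_iff_mul_comm]
    exact h4.1.1 _ _
  rw [← key] at h5
  exact h5

theorem exists_comm {x z : G} (hx : x ∈ P) (hxZ : x ∉ Zc P) (hz : z ∈ Zc P) :
    ∃ u ∈ P, u * x * u⁻¹ = z * x := by
  obtain ⟨f, hf, hf2⟩ := relIndex_cent1_le inf_le_right inf_le_left fun g hg => h.zc.2 g hg x hx
  haveI : Fact (Nat.card (Zc P)).Prime := ⟨h.zc.1.symm ▸ hp.out⟩
  rcases f.range.eq_bot_or_eq_top_of_prime_card with h1 | h1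
  · exfalso
    refine hxZ ⟨hx, mem_cent.2 fun g hg => ?_⟩
    have : f ⟨g, hg⟩ = 1 := mem_bot.1 (h1 ▸ ⟨_, rfl⟩)
    exact commutatorElement_eq_one_iff_mul_comm.1 ((hf2 ⟨g, hg⟩).symm.trans (congrArg _ this))
  · obtain ⟨u, hu⟩ : (⟨z, hz⟩ : Zc P) ∈ f.range := h1 ▸ mem_top _
    refine ⟨u, u.2, ?_⟩
    have := (hf2 u).symm.trans (congrArg Subtype.val hu)
    rw [← show ⁅(u : G), x⁆ = z from this, commutatorElement_def]; group

end Ex3

end H18.CG
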