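import Cfsg.Agent.H12.CLSpec

/-! CL3 tower, chapter 3: the joint eigenvector and the projections (`JobEIG`). -/

set_option autoImplicit false
set_option linter.unusedSectionVars false

open Module Polynomial

namespace H18.CLE

open H12.CL

theorem eig_of_prod {K V : Type} [Field K] [AddCommGroup V] [Module K V] (f : End K V)
    (U : Submodule K V) (hU : ∀ u ∈ U, f u ∈ U) (g : ℕ → K) (s : Finset ℕ) :
    ∀ v ∈ U, v ≠ 0 → aeval f (∏ i ∈ s, (X - C (g i))) v = 0 → ∃ w ∈ U, w ≠ 0 ∧ ∃ c : K, f w = c • w := by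
  classical
  induction s using Finset.induction_on with
  | empty => intro v _ h0 h; exact absurd (by simpa using h) h0
  | insert a s ha ih =>
    intro v hv h0 h
    by_cases e : f v - g a • v = 0
    · exact ⟨v, hv, h0, g a, sub_eq_zero.1 e⟩
    · refine ih _ (sub_mem (hU v hv) (U.smul_mem _ hv)) e ?_
      rw [Finset.prod_insert ha, mul_comm, map_mul] at h
      simpa using h

variable {r : ℕ} [Fact r.Prime] {K V W : Type} [Field K] [AddCommGroup V] [Module K V]
  [AddCommGroup W] [Module (ZMod r) W] (S : Ex r K V W)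

theorem chi0 : S.χ 0 = 1 := (S.χ_eq 0).2 rfl

theorem chi_pow (n : ℕ) : S.χ n = S.χ 1 ^ n := by
  induction n with
  | zero => simpa using chi0 S
  | succ n ih => rw [Nat.cast_succ, S.χ_add, ih, pow_succ]

theorem prim : IsPrimitiveRoot (S.χ 1) r := by
  have : orderOf (S.χ 1) = r := orderOf_eq_prime (by rw [← chi_pow, ZMod.natCast_self, chi0])
    fun e => one_ne_zero ((S.χ_eq 1).1 e)
  conv => rhs; rw [← this]
  exact IsPrimitiveRoot.orderOf _

include S in
theorem card_ne (A : Type) [AddCommGroup A] [Module (ZMod r) A] [Fintype A] :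
    (Fintype.card A : K) ≠ 0 := by
  have : NeZero r := ⟨(Fact.out : r.Prime).ne_zero⟩
  rw [Module.card_eq_pow_finrank (K := ZMod r), ZMod.card, Nat.cast_pow]
  exact pow_ne_zero _ (prim S).neZero'.out

theorem sum_chi {A : Type} [AddCommGroup A] [Fintype A] (f : A → ZMod r)
    (hf : ∀ a b, f (a + b) = f a + f b) {a : A} (ha : f a ≠ 0) : ∑ b, S.χ (f b) = 0 := by
  have h : ∑ b, S.χ (f b) = S.χ (f a) * ∑ b, S.χ (f b) := by
    rw [Finset.mul_sum, ← Equiv.sum_comp (Equiv.addLeft a)]
    exact Finset.sum_congr rfl fun b _ => by rw [Equiv.coe_addLeft, hf, S.χ_add]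
  by_contra h0
  exact ha ((S.χ_eq _).1 (mul_right_cancel₀ h0 (h.symm.trans (one_mul _).symm)))

theorem t_ne {a : W} {v : V} (h : v ≠ 0) {c : K} (e : S.t a v = c • v) : c ≠ 0 := by
  rintro rfl
  obtain ⟨d, hd, h1⟩ := S.t_mul (-a) a
  have := LinearMap.congr_fun h1 v
  rw [End.mul_apply, e, zero_smul, map_zero, neg_add_cancel, S.t_zero] at this
  exact h ((smul_eq_zero.1 this.symm).resolve_left hd)

theorem skew {B : LinearMap.BilinForm (ZMod r) W} (h : Sp B) (a b : W) : B a b = -B b a := by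
  have := h.alt (a + b)
  simp only [map_add, LinearMap.add_apply, h.alt] at this
  linear_combination this

variable {S} {M N D : Submodule (ZMod r) W}

theorem mem_sup_iff (fr : Fr S.B S.Gd M N D) {w : W} : w ∈ M ⊔ D ↔ ∀ m ∈ M, S.B m w = 0 := by
  refine ⟨fun h m hm => ?_, fun h => ?_⟩
  · obtain ⟨a, ha, d, hd, rfl⟩ := Submodule.mem_sup.1 h
    rw [map_add, fr.iM m hm a ha, fr.oM m hm d hd, add_zero]
  · obtain ⟨m, hm, n, hn, d, hd, rfl⟩ := fr.dec w
    obtain rfl : n = 0 := S.sp.nd n fun b => by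
      obtain ⟨m', hm', n', hn', d', hd', rfl⟩ := fr.dec b
      have := h m' hm'
      rw [map_add, map_add, fr.iM m' hm' m hm, fr.oM m' hm' d hd, zero_add, add_zero] at this
      rw [map_add, map_add, fr.iN n hn n' hn', fr.oN n hn d' hd', skew S.sp, this]; simp
    rw [add_zero]; exact Submodule.add_mem_sup hm hd

theorem mem_of_good (ty : Ty S.B S.Gd) (fr : Fr S.B S.Gd M N D) {a : W} (h : a ∈ M ⊔ D)
    (hg : S.Gd a) : a ∈ M := by
  obtain ⟨m, hm, d, hd, rfl⟩ := Submodule.mem_sup.1 h
  obtain rfl : d = 0 := fr.an d hd (by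
    rcases ty with ty | ⟨-, Q, h1, h2⟩
    · exact ty d
    · have := (h2 _).1 hg
      rwa [h1, (h2 _).1 (fr.gM m hm), fr.oM m hm d hd, zero_add, add_zero, ← h2] at this)
  rwa [add_zero]

theorem exists_v [Nontrivial V] (fr : Fr S.B S.Gd M N D) (s : Finset W) :
    ∃ v : V, v ≠ 0 ∧ ∀ m ∈ s, m ∈ M → S.St v m := by
  classical
  induction s using Finset.induction_on with
  | empty => obtain ⟨v, hv⟩ := exists_ne (0 : V); exact ⟨v, hv, by simp⟩
  | insert a s _ ih =>
    obtain ⟨v, h0, hv⟩ := ih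
    by_cases ha : a ∈ M
    swap
    · exact ⟨v, h0, fun m hm h => hv m ((Finset.mem_insert.1 hm).resolve_left fun e => ha (e ▸ h)) h⟩
    let U : Submodule K V :=
      { carrier := {u | ∀ m ∈ M, ∀ c : K, S.t m v = c • v → S.t m u = c • u}
        zero_mem' := fun _ _ _ _ => by simp
        add_mem' := fun h1 h2 m hm c e => by rw [map_add, h1 m hm c e, h2 m hm c e, smul_add]
        smul_mem' := fun d _ h1 m hm c e => by rw [map_smul, h1 m hm c e, smul_comm] }
    obtain ⟨u, u0, c, e⟩ := fr.gM a ha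
    obtain ⟨w, hw, w0, h1⟩ := eig_of_prod (S.t a) U (fun u hu m hm c e => by
      rw [← End.mul_apply, S.comm, fr.iM m hm a ha, chi0, one_smul, End.mul_apply, hu m hm c e,
        map_smul]) (fun i => S.χ 1 ^ i * 1) (Finset.range r) v (fun _ _ _ e => e) h0 (by
      rw [← X_pow_sub_C_eq_prod (prim S) (Fact.out : r.Prime).pos (one_pow r)]
      simp [S.tg a u c u0 e])
    refine ⟨w, w0, fun m hm h => ?_⟩
    rcases Finset.mem_insert.1 hm with rfl | hm
    · exact h1
    · obtain ⟨d, hd⟩ := hv m hm h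
      exact ⟨d, hw m h d hd⟩

theorem jobEIG : JobEIG := by
  intro r _ K V W _ _ _ _ _ _ _ _ _ _ S ty M N D fr
  classical
  have := Fintype.ofFinite W
  obtain ⟨v₀, h0, hv⟩ := exists_v fr Finset.univ
  choose l hl using fun m : M => hv m (Finset.mem_univ _) m.2
  have l0 : ∀ m, l m ≠ 0 := fun m => t_ne S h0 (hl m)
  have lu : ∀ (m : M) (c : K), S.t m v₀ = c • v₀ → c = l m := fun m c e =>
    smul_left_injective K h0 (e.symm.trans (hl m))
  let s : M → End K V := fun m => (l m)⁻¹ • S.t m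
  have s_mul : ∀ a b, s a * s b = s (a + b) := fun a b => by
    obtain ⟨c, -, e⟩ := S.t_mul a b
    have h1 := LinearMap.congr_fun e v₀
    rw [End.mul_apply, hl, map_smul, hl, LinearMap.smul_apply, ← Submodule.coe_add, hl, smul_smul,
      smul_smul] at h1
    have h2 := smul_left_injective K h0 h1
    simp only [s, smul_mul_smul_comm, e, smul_smul, Submodule.coe_add]
    congr 1
    have := l0 a; have := l0 b; have := l0 (a + b)
    field_simp
    linear_combination -h2
  have s_zero : s 0 = 1 := by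
    have : (1 : K) = l 0 := lu 0 1 (by simp [S.t_zero])
    simp [s, ← this, S.t_zero]
  have cm : ∀ w v, S.Cm M v₀ w v ↔ ∀ m : M, s m v = S.χ (S.B m w) • v := fun w v =>
    ⟨fun h m => by
      simp only [s, LinearMap.smul_apply, h m m.2 _ (hl m), smul_smul]
      rw [mul_comm, mul_inv_cancel_right₀ (l0 m)],
    fun h m hm c e => by
      rw [lu ⟨m, hm⟩ c e, mul_comm, ← smul_smul, ← h ⟨m, hm⟩]
      simp [s, smul_smul, l0]⟩
  have cM := card_ne S M
  let P : W → End K V := fun w => (Fintype.card M : K)⁻¹ • ∑ m : M, S.χ (-S.B m w) • s m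
  have hP : ∀ w w' v, S.Cm M v₀ w' v →
      P w v = ((Fintype.card M : K)⁻¹ * ∑ m : M, S.χ (-S.B m (w - w'))) • v := fun w w' v h => by
    simp only [P, LinearMap.smul_apply, LinearMap.sum_apply, (cm w' v).1 h, smul_smul, ← S.χ_add,
      ← Finset.sum_smul]
    congr 3; funext m; congr 1; rw [map_sub]; ring
  refine ⟨v₀, P, h0, fun a => ⟨fun ⟨c, e⟩ => ?_, fun h => ⟨_, hl ⟨a, h⟩⟩⟩, fun w w' v h h1 => ?_,
    fun w w' v h h1 => ?_, fun T hT => ?_⟩
  · refine mem_of_good ty fr ((mem_sup_iff fr).2 fun m hm => (S.χ_eq _).1 ?_) ⟨v₀, h0, c, e⟩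
    have h1 := LinearMap.congr_fun (S.comm m a) v₀
    rw [LinearMap.smul_apply, End.mul_apply, End.mul_apply, e, map_smul, hl ⟨m, hm⟩, map_smul, e,
      smul_smul, smul_smul, smul_smul] at h1
    have h2 := smul_left_injective K h0 h1
    have := l0 ⟨m, hm⟩; have := t_ne S h0 e
    field_simp at h2
    exact h2.symm
  · rw [hP w w' v h]
    simp [fun m : M => (mem_sup_iff fr).1 h1 m m.2, chi0, cM]
  · rw [mem_sup_iff fr] at h1
    push Not at h1
    obtain ⟨m, hm, h2⟩ := h1
    rw [hP w w' v h, sum_chi S (fun m : M => -S.B m (w - w')) (fun a b => by simp; ring)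
      (a := ⟨m, hm⟩) (neg_ne_zero.2 h2), mul_zero, zero_smul]
  · have h1 : ∀ w v, S.Cm M v₀ w (P w v) := fun w v => (cm _ _).2 fun a => by
      simp only [P, LinearMap.smul_apply, LinearMap.sum_apply, map_smul, map_sum, ← End.mul_apply,
        s_mul]
      rw [smul_comm, Finset.smul_sum (r := S.χ _), ← Equiv.sum_comp (Equiv.addLeft a)
        fun m => S.χ (S.B a w) • S.χ (-S.B m w) • s m v]
      congr 1
      refine Finset.sum_congr rfl fun m _ => ?_
      rw [smul_smul, ← S.χ_add]
      simp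
    have h2 : ∑ w, P w = ((Fintype.card M : K)⁻¹ * Fintype.card W) • 1 := by
      simp only [P, ← Finset.smul_sum]
      rw [Finset.sum_comm, ← smul_smul]
      simp only [← Finset.sum_smul]
      rw [Finset.sum_eq_single 0 (fun m _ hm => ?_) (by simp)]
      · simp [s_zero, chi0]
      · obtain ⟨b, hb⟩ : ∃ b, S.B m b ≠ 0 := by
          by_contra h
          push Not at h
          exact hm (Subtype.ext (S.sp.nd _ h))
        rw [sum_chi S (fun w => -S.B m w) (fun a b => by simp; ring) (neg_ne_zero.2 hb), zero_smul]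
    ext v
    have h3 : T ((∑ w, P w) v) = 0 := by
      rw [LinearMap.sum_apply, map_sum]
      exact Finset.sum_eq_zero fun w _ => hT w _ (h1 w v)
    rw [h2, LinearMap.smul_apply, map_smul] at h3
    exact (smul_eq_zero.1 h3).resolve_left (mul_ne_zero (inv_ne_zero cM) (card_ne S W))

end H18.CLE
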