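/- Counting conjugacy classes of `p`-elements. -/
import Cfsg.Agent.S3899
import Cfsg.Agent.H31.S2Kit

set_option autoImplicit false
set_option linter.unusedSectionVars false

namespace H18.CC

open Cfsg Subgroup H98 H1.Gold Finset Cfsg.Agent.S3899

universe u

section count
variable {α β : Type*} [Fintype α] [Fintype β] [DecidableEq α] [DecidableEq β] {f : α → β}

theorem count (hf : Function.Surjective f) (A B : Finset α)
    (h1 : ∀ x, (∀ y, f y = f x → y = x) → x ∈ A)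
    (h2 : ∀ x ∈ B, ∃ y z, x ≠ y ∧ x ≠ z ∧ y ≠ z ∧ f y = f x ∧ f z = f x)
    (h3 : 3 * A.card ≤ B.card) : 2 * Fintype.card β ≤ Fintype.card α := by
  have e : ∀ S : Finset α, S.card = ∑ c, (S.filter (f · = c)).card := fun S =>
    card_eq_sum_card_fiberwise fun _ _ => mem_univ _
  have key : ∀ c, 6 + (B.filter (f · = c)).card ≤
      3 * (univ.filter (f · = c)).card + 3 * (A.filter (f · = c)).card := fun c => by
    obtain ⟨x, rfl⟩ := hf c
    have l : (B.filter (f · = f x)).card ≤ (univ.filter (f · = f x)).card :=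
      card_le_card (filter_subset_filter _ (subset_univ _))
    by_cases hb : (B.filter (f · = f x)).Nonempty
    · obtain ⟨a, ha⟩ := hb
      obtain ⟨y, z, n1, n2, n3, e1, e2⟩ := h2 a (mem_filter.1 ha).1
      have := two_lt_card_iff.2 ⟨a, y, z,
        (mem_filter (p := (f · = f x))).2 ⟨mem_univ _, (mem_filter.1 ha).2⟩,
        mem_filter.2 ⟨mem_univ y, e1.trans (mem_filter.1 ha).2⟩,
        mem_filter.2 ⟨mem_univ z, e2.trans (mem_filter.1 ha).2⟩, n1, n2, n3⟩
      omega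
    rw [not_nonempty_iff_eq_empty.1 hb, card_empty]
    by_cases h : ∀ y, f y = f x → y = x
    · have k1 := card_pos.2 ⟨x, (mem_filter (p := (f · = f x))).2 ⟨h1 x h, rfl⟩⟩
      have k2 := card_pos.2 ⟨x, (mem_filter (p := (f · = f x))).2 ⟨mem_univ x, rfl⟩⟩
      omega
    · obtain ⟨y, e, n⟩ : ∃ y, f y = f x ∧ y ≠ x := by simpa using h
      have := one_lt_card.2 ⟨y, (mem_filter (p := (f · = f x))).2 ⟨mem_univ y, e⟩, x,
        mem_filter.2 ⟨mem_univ x, rfl⟩, n⟩
      omega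
  have := sum_le_sum fun c (_ : c ∈ univ) => key c
  rw [sum_add_distrib, sum_add_distrib, ← mul_sum, ← mul_sum, ← e, ← e, ← e, sum_const, card_univ,
    card_univ, smul_eq_mul] at this
  omega

theorem wcount (hf : Function.Surjective f) (A : Finset α) (w : β → ℕ) (W : ℕ) (h1 : ∀ c, w c ≤ W)
    (h2 : ∀ x ∉ A, 2 * w (f x) ≤ W ∧ ∃ y ∉ A, y ≠ x ∧ f y = f x)
    (h3 : 3 * A.card ≤ Fintype.card α) : 2 * ∑ c, w c ≤ W * Fintype.card α := by
  have e : ∀ S : Finset α, S.card = ∑ c, (S.filter (f · = c)).card := fun S =>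
    card_eq_sum_card_fiberwise fun _ _ => mem_univ _
  have key : ∀ c, 4 * w c ≤ W * (4 * (A.filter (f · = c)).card + (Aᶜ.filter (f · = c)).card) :=
    fun c => by
    obtain ⟨x, rfl⟩ := hf c
    by_cases h : x ∈ A
    · have := card_pos.2 ⟨x, (mem_filter (p := (f · = f x))).2 ⟨h, rfl⟩⟩
      nlinarith [h1 (f x)]
    · obtain ⟨k, y, hy, n, e⟩ := h2 x h
      have := one_lt_card.2 ⟨y, (mem_filter (p := (f · = f x))).2 ⟨mem_compl.2 hy, e⟩, x,
        mem_filter.2 ⟨mem_compl.2 h, rfl⟩, n⟩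
      nlinarith
  have := sum_le_sum fun c (_ : c ∈ univ) => key c
  rw [← mul_sum, ← mul_sum, sum_add_distrib, ← mul_sum, ← e, ← e, card_compl] at this
  have l : 4 * A.card + (Fintype.card α - A.card) ≤ 2 * Fintype.card α := by omega
  nlinarith

end count

variable {G : Type u} [Group G] [Finite G] {p : ℕ} [hp : Fact p.Prime] {B Q : Subgroup G} {g : G}

omit hp in
theorem four_le (hg : g ∈ nor B) (ho : Odd (orderOf g)) (hc : (orderOf g).Coprime (Nat.card B))
    (hn : g ∉ cen B) : ∃ h ∈ nor B, Odd (orderOf h) ∧ 4 * Nat.card (B ⊓ cen1 h : Subgroup G) ≤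
      Nat.card B := by
  induction e : orderOf g using Nat.strong_induction_on generalizing g with
  | _ n ih =>
  have h1 : orderOf g ≠ 1 := fun k => hn (orderOf_eq_one_iff.1 k ▸ one_mem _)
  have hq := Nat.minFac_prime h1
  have hd := Nat.minFac_dvd (orderOf g)
  by_cases k : g ^ (orderOf g).minFac ∈ cen B
  · haveI := Fact.mk hq
    have m := H31.S2.card_modEq_fixed hg k
    obtain ⟨i, hi⟩ := card_dvd_of_le (inf_le_left : B ⊓ cen1 g ≤ B)
    have i1 : i ≠ 1 := fun j => hn (H31.S2.mem_cen_iff.2 fun x hx => (mem_cen1.1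
      ((eq_of_le_of_card_ge inf_le_left (by rw [hi, j, mul_one])).ge hx).2).symm)
    have i0 : 0 < i := Nat.pos_of_ne_zero fun j => Nat.card_pos.ne' (by rw [hi, j, mul_zero])
    have c := (hc.coprime_dvd_left hd).coprime_dvd_right (card_dvd_of_le (inf_le_left : B ⊓ cen1 g ≤ B))
    rw [hi] at m
    have m2 : i ≡ 1 [MOD (orderOf g).minFac] := Nat.ModEq.cancel_left_of_coprime c (by rwa [mul_one])
    have q3 : 3 ≤ (orderOf g).minFac := hq.two_le.lt_of_ne fun j => ho.not_two_dvd_nat (j ▸ hd)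
    have := Nat.le_of_dvd (by omega) ((Nat.modEq_iff_dvd' i0).1 m2.symm)
    exact ⟨g, hg, ho, by rw [hi, mul_comm]; exact Nat.mul_le_mul_left _ (by omega)⟩
  · have d := orderOf_pow_dvd (x := g) (orderOf g).minFac
    refine ih _ ?_ (pow_mem hg _) (ho.of_dvd_nat d) (hc.coprime_dvd_left d) k rfl
    rw [orderOf_pow_of_dvd hq.ne_zero hd, ← e]
    exact Nat.div_lt_self (orderOf_pos g) hq.one_lt

/-- The classes of `p`-elements. -/
abbrev Cl (p : ℕ) (G : Type u) [Group G] : Type u :=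
  {c : ConjClasses G // ∀ x ∈ c.carrier, H24.IsPiElt {p} x}

/-- The class of an element of a Sylow subgroup. -/
def cl (P : Sylow p G) (x : P) : Cl p G := ⟨ConjClasses.mk (x : G), forall_mk
  ((H24.isPiElt_singleton_iff hp.out).2 ((H18.exists_orderOf_eq_pow_iff hp.out).2
    (isPGroup_iff_forall.1 P.isPGroup' x x.2)))⟩

theorem cl_eq {P : Sylow p G} {x y : P} : cl P x = cl P y ↔ IsConj (x : G) y :=
  Subtype.ext_iff.trans ConjClasses.mk_eq_mk_iff_isConj

theorem cl_surj (P : Sylow p G) : Function.Surjective (cl P) := by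
  rintro ⟨c, hc⟩
  obtain ⟨g, rfl⟩ := ConjClasses.mk_surjective c
  obtain ⟨k, hk⟩ := (H18.exists_orderOf_eq_pow_iff hp.out).1 ((H24.isPiElt_singleton_iff hp.out).1
    (hc g ConjClasses.mem_carrier_mk))
  obtain ⟨u, -, hu⟩ := (isSyl_sylow P).exists_cj_le (isPGroup_zpowers hk) le_top
  exact ⟨⟨_, hu (conj_mem_cj (mem_zpowers g))⟩, Subtype.ext
    (ConjClasses.mk_eq_mk_iff_isConj.2 (isConj_iff.2 ⟨u, rfl⟩).symm)⟩

theorem kk_eq : kk {p} G = Nat.card {c : ConjClasses G // ∀ x ∈ c.carrier, ∃ k : ℕ,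
    orderOf x = p ^ k} := by simp only [kk, H24.isPiElt_singleton_iff hp.out]

theorem two_mul_le (P : Sylow p G) {C : Subgroup G} (hQ : Q ≤ P) (h4 : 4 * Nat.card C ≤ Nat.card Q)
    (h1 : ∀ x ∈ (P : Subgroup G), (∀ g, g * x * g⁻¹ ∈ (P : Subgroup G) → g * x * g⁻¹ = x) → x ∈ C)
    (h2 : ∀ x ∈ Q, x ∉ C → ∃ g ∈ nor Q, Odd (orderOf g) ∧ g * x * g⁻¹ ≠ x) (hC : C ≤ Q) :
    2 * kk {p} G ≤ Nat.card P := by
  classical
  letI := Fintype.ofFinite P
  letI := Fintype.ofFinite (Cl p G)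
  have e : ∀ (D : Subgroup G) [DecidablePred fun x : P => x.1 ∈ D], D ≤ P →
      (univ.filter fun x : P => x.1 ∈ D).card = Nat.card D := fun D _ l => by
      rw [← Fintype.card_subtype, ← Nat.card_eq_fintype_card]
      exact Nat.card_congr (subgroupOfEquivOfLe l).toEquiv
  rw [kk, Nat.card_eq_fintype_card, Nat.card_eq_fintype_card]
  refine count (cl_surj P) (univ.filter fun x => x.1 ∈ C)
    ((univ.filter fun x => x.1 ∈ Q) \ univ.filter fun x => x.1 ∈ C) (fun x k => ?_) (fun x k => ?_) ?_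
  · exact mem_filter.2 ⟨mem_univ _, h1 _ x.2 fun g m => congrArg Subtype.val
      (k ⟨_, m⟩ (cl_eq.2 (isConj_iff.2 ⟨g, rfl⟩).symm))⟩
  · simp only [Finset.mem_sdiff, mem_filter, mem_univ, true_and] at k
    obtain ⟨g, hg, ho, n⟩ := h2 _ k.1 k.2
    have m := conj_mem_of_mem_normalizer hg k.1
    refine ⟨⟨_, hQ m⟩, ⟨_, hQ (conj_mem_of_mem_normalizer hg m)⟩, fun j => n
      (congrArg Subtype.val j).symm, fun j => n ?_, fun j => n ?_,
      cl_eq.2 (isConj_iff.2 ⟨g, rfl⟩).symm, cl_eq.2 (isConj_iff.2 ⟨g * g, by group⟩).symm⟩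
    · refine mul_inv_eq_iff_eq_mul.2 (mem_cen1.1 (mem_of_pow_mem_of_coprime (n := 2) (mem_cen1.2 ?_)
        (Nat.coprime_two_right.2 ho)))
      nth_rewrite 2 [congrArg Subtype.val j]
      rw [pow_two]; group
    · exact ((MulAut.conj g).injective (congrArg Subtype.val j)).symm
  · rw [card_sdiff_of_subset (monotone_filter_right _ fun x _ k => hC k)]
    erw [e _ hQ, e _ (hC.trans hQ)]
    omega

theorem two_mul_le_of_nor (P : Sylow p G) (hQ : Q ≤ P)
    (hZ : ∀ x ∈ (P : Subgroup G), (∀ y ∈ (P : Subgroup G), y * x = x * y) → x ∈ Q) (hg : g ∈ nor Q)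
    (ho : Odd (orderOf g)) (hc : (orderOf g).Coprime p) (hn : g ∉ cen Q) :
    2 * kk {p} G ≤ Nat.card P := by
  obtain ⟨n, e⟩ := (P.isPGroup'.to_le hQ).exists_card_eq
  obtain ⟨h, h1, h2, h3⟩ := four_le hg ho (e ▸ hc.pow_right n) hn
  refine two_mul_le P hQ h3 (fun x hx k => ?_) (fun x hx n => ⟨h, h1, h2, fun j =>
    n ⟨hx, mem_cen1.2 (mul_inv_eq_iff_eq_mul.1 j).symm⟩⟩) inf_le_left
  have m := hZ x hx fun y hy => mul_inv_eq_iff_eq_mul.1 (k y (mul_mem (mul_mem hy hx) (inv_mem hy)))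
  exact ⟨m, mem_cen1.2 (mul_inv_eq_iff_eq_mul.1 (k h (hQ (conj_mem_of_mem_normalizer h1 m)))).symm⟩

theorem exists_centric (h : ¬ HasNormalPComplement p G) : ∃ (P : Sylow p G) (Q : Subgroup G),
    Q ≤ P ∧ (∀ x ∈ (P : Subgroup G), (∀ y ∈ (P : Subgroup G), y * x = x * y) → x ∈ Q) ∧
      ∃ g ∈ nor Q, (orderOf g).Coprime p ∧ g ∉ cen Q := by
  have := mt H7.hasNPC_of_normalizer_centralizer h
  push Not at this
  obtain ⟨Q0, h0⟩ := this
  obtain ⟨Q, -, ⟨hQ, r, hr, c, n⟩, m⟩ := Finite.exists_le_maximal (p := fun Q : Subgroup G =>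
    IsPGroup p Q ∧ ∃ g ∈ nor Q, (orderOf g).Coprime p ∧ g ∉ cen Q) h0
  obtain ⟨P, hP⟩ := hQ.exists_le_sylow
  obtain ⟨T, hT⟩ := exists_isSyl p (cen Q)
  obtain ⟨a, ha, b, hb, rfl⟩ := hT.frattini_mem (normalizer_le_normalizer_centralizer Q hr)
  have aQ : a ∈ nor Q := (mul_mem_cancel_right (centralizer_le_normalizer _ hb)).1 hr
  obtain ⟨k, hk⟩ := exists_pow_coprime (p := p) (isOfFinOrder_of_finite a)
  have TQ : T ≤ Q := le_sup_right.trans (m ⟨hQ.to_sup_of_normal_left' hT.isPGroup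
    (hT.le.trans (centralizer_le_normalizer _)), a ^ p ^ k, pow_mem (le_normalizer_sup
      (zpowers_le.2 aQ) (zpowers_le.2 ha) (mem_zpowers a)) _, hk, fun j => n ?_⟩ le_sup_left)
  · refine ⟨P, Q, hP, fun x hx k => TQ (hT.le_of_le_normalizer' (P.isPGroup'.to_le
      (zpowers_le.2 hx)) (zpowers_le.2 fun y hy => k y (hP hy)) (zpowers_le.2
      (centralizer_le_normalizer _ fun y hy => k y (hP (TQ hy)))) (mem_zpowers x)), _, hr, c, n⟩
  refine mem_of_pow_mem_of_coprime (n := p ^ k) (H31.S2.mem_cen_iff.2 fun x hx => ?_) (c.pow_right k)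
  have e : ∀ j : ℕ, ∀ x ∈ Q, (a * b) ^ j * x * ((a * b) ^ j)⁻¹ = a ^ j * x * (a ^ j)⁻¹ := fun j => by
    induction j with
    | zero => simp
    | succ j ih =>
      intro x hx
      rw [pow_succ, pow_succ, mul_inv_rev, mul_inv_rev (a ^ j), show (a * b) ^ j * (a * b) * x *
        ((a * b)⁻¹ * ((a * b) ^ j)⁻¹) = (a * b) ^ j * (a * (b * x) * b⁻¹ * a⁻¹) * ((a * b) ^ j)⁻¹ by
        group, ← hb x hx, show a * (x * b) * b⁻¹ * a⁻¹ = a * x * a⁻¹ by group,
        ih _ (conj_mem_of_mem_normalizer aQ hx)]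
      group
  rw [← mul_inv_eq_iff_eq_mul, e _ x hx, mul_inv_eq_iff_eq_mul]
  exact (j x (mem_sup_left hx)).symm

theorem npc_two (P : Sylow 2 G) (h : Nat.card P < 2 * kk {2} G) : HasNormalPComplement 2 G := by
  by_contra n
  obtain ⟨S, Q, h1, h2, g, h3, h4, h5⟩ := exists_centric n
  have := two_mul_le_of_nor S h1 h2 h3 (Nat.coprime_two_right.1 h4) h4 h5
  rw [S.card_eq_multiplicity, ← P.card_eq_multiplicity] at this
  omega

theorem comm_of_odd (h2 : p ≠ 2) (P : Sylow p G) (h : Nat.card P < 2 * kk {p} G) :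
    (P : Subgroup G) ≤ cen P := by
  by_contra n
  refine absurd (two_mul_le P (C := P ⊓ cen P) le_rfl ?_ (fun x hx k => ⟨hx, fun y hy =>
    mul_inv_eq_iff_eq_mul.1 (k y (mul_mem (mul_mem hy hx) (inv_mem hy)))⟩) (fun x hx k => ?_)
    inf_le_left) (not_le.2 h)
  · obtain ⟨i, hi⟩ := P.isPGroup'.index (center P)
    have e := (center P).index_mul_card
    rw [← map_subtype_center, card_map_of_injective (subtype_injective _), ← e, hi]
    refine Nat.mul_le_mul_right _ ((Nat.pow_le_pow_left hp.out.two_le 2).trans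
      (Nat.pow_le_pow_right hp.out.pos (not_lt.1 fun l => n fun x hx y hy => ?_)))
    haveI : IsCyclic (P ⧸ center P) := by
      obtain rfl | rfl : i = 0 ∨ i = 1 := by omega
      · haveI := (Nat.card_eq_one_iff_unique.1 hi).1
        exact isCyclic_of_subsingleton
      · exact isCyclic_of_prime_card (hi.trans (pow_one p))
    exact congrArg Subtype.val (commutative_of_cyclic_center_quotient (QuotientGroup.mk' (center P))
      (QuotientGroup.ker_mk' _).le ⟨y, hy⟩ ⟨x, hx⟩)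
  · by_contra! j
    refine k ⟨hx, fun y hy => mul_inv_eq_iff_eq_mul.1 (j y (le_normalizer hy) ?_)⟩
    obtain ⟨m, e⟩ := isPGroup_iff_forall.1 P.isPGroup' y hy
    exact ((hp.out.odd_of_ne_two h2).pow (n := m)).of_dvd_nat (orderOf_dvd_of_pow_eq_one e)

omit hp in
theorem kk_le_sum (σ τ : Set ℕ) [Fintype {c : ConjClasses G // ∀ x ∈ c.carrier, H24.IsPiElt σ x}] :
    kk (σ ∪ τ) G ≤ ∑ c : {c : ConjClasses G // ∀ x ∈ c.carrier, H24.IsPiElt σ x},
      kk τ (cen1 (Quotient.out c.1 : G)) := by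
  classical
  let F : (Σ c : {c : ConjClasses G // ∀ x ∈ c.carrier, H24.IsPiElt σ x},
      {d : ConjClasses (Subgroup.centralizer ({Quotient.out c.1} : Set G)) //
        ∀ x ∈ d.carrier, H24.IsPiElt τ x}) →
      {c : ConjClasses G // ∀ x ∈ c.carrier, H24.IsPiElt (σ ∪ τ) x} := fun s =>
    ⟨ConjClasses.mk (Quotient.out s.1.1 * (Quotient.out s.2.1 :
      Subgroup.centralizer ({Quotient.out s.1.1} : Set G))), forall_mk
      (((s.1.2 _ (mem_carrier_out _)).mono Set.subset_union_left).mul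
        ((H24.isPiElt_coe.2 (s.2.2 _ (mem_carrier_out _))).mono Set.subset_union_right)
        (Subgroup.mem_centralizer_singleton_iff.1 (Subtype.prop _)).symm)⟩
  have hF : Function.Surjective F := by
    rintro ⟨c, hc⟩
    obtain ⟨g, rfl⟩ := ConjClasses.mk_surjective c
    have hg := hc g ConjClasses.mem_carrier_mk
    obtain ⟨e, f, h1, h2, h3⟩ := H24.exists_pi_decomp σ g
    obtain ⟨u, hu⟩ := isConj_iff.1 (ConjClasses.mk_eq_mk_iff_isConj.1
      (Quotient.out_eq (ConjClasses.mk (g ^ e)))).symm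
    have h4 : u * g ^ f * u⁻¹ ∈
        Subgroup.centralizer ({Quotient.out (ConjClasses.mk (g ^ e))} : Set G) := by
      rw [Subgroup.mem_centralizer_singleton_iff, ← hu]
      calc _ = u * (g ^ f * g ^ e) * u⁻¹ := by group
        _ = _ := by group
    have h5 : H24.IsPiElt τ (g ^ f) := fun q hq hd => ((hg.pow f) q hq hd).resolve_left (h3 q hq hd)
    obtain ⟨v, hv⟩ := isConj_iff.1 (ConjClasses.mk_eq_mk_iff_isConj.1
      (Quotient.out_eq (ConjClasses.mk (⟨_, h4⟩ : Subgroup.centralizer _)))).symm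
    refine ⟨⟨⟨_, forall_mk h2⟩, ⟨ConjClasses.mk ⟨_, h4⟩,
      forall_mk (H24.isPiElt_coe.1 (h5.conj u))⟩⟩, Subtype.ext ?_⟩
    refine ConjClasses.mk_eq_mk_iff_isConj.2 (IsConj.symm (isConj_iff.2 ⟨v * u, ?_⟩))
    have h6 := Subgroup.mem_centralizer_singleton_iff.1 v.2
    dsimp only
    rw [← hv]
    push_cast
    rw [← mul_assoc, ← mul_assoc, ← h6]
    generalize (v : G) = w
    rw [← hu]
    conv_lhs => rw [← h1]
    group
  refine (Nat.card_le_card_of_surjective F hF).trans ?_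
  rw [Nat.card_sigma]
  rfl

end H18.CC
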