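import Cfsg.Agent.H24.CxKit

/-! Tower CX, job AV: atomic vanishing. -/

set_option autoImplicit false

namespace H18.CxAV

open Subgroup Cfsg H98 H24.Cx

universe u

/-- An invariant function killed by `p` and vanishing at the fixed points has sum zero. -/
theorem sum_orbit {p : ℕ} [Fact p.Prime] {T X M : Type*} [Group T] [MulAction T X] [Fintype X]
    [AddCommGroup M] (hT : IsPGroup p T) (φ : X → M) (h1 : ∀ (t : T) x, φ (t • x) = φ x)
    (h2 : ∀ x, p • φ x = 0) (h3 : ∀ x, (∀ t : T, t • x = x) → φ x = 0) : ∑ x, φ x = 0 := by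
  classical
  let _ : Fintype (MulAction.orbitRel.Quotient T X) := Fintype.ofFinite _
  rw [← Finset.sum_fiberwise Finset.univ
    (fun x => (Quotient.mk (MulAction.orbitRel T X) x : MulAction.orbitRel.Quotient T X))]
  refine Finset.sum_eq_zero fun ω _ => ?_
  obtain ⟨x, rfl⟩ := Quotient.exists_rep ω
  have e : ∀ y, (Quotient.mk (MulAction.orbitRel T X) y = Quotient.mk (MulAction.orbitRel T X) x) ↔
      y ∈ MulAction.orbit T x := fun y => Quotient.eq
  rw [Finset.sum_congr rfl (g := fun _ => φ x) fun y hy => by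
    obtain ⟨t, rfl⟩ := (e y).1 (Finset.mem_filter.1 hy).2
    exact h1 t x, Finset.sum_const]
  obtain ⟨k, hk⟩ := hT.card_orbit x
  have hc : (Finset.univ.filter fun y => Quotient.mk (MulAction.orbitRel T X) y =
      Quotient.mk (MulAction.orbitRel T X) x).card = p ^ k := by
    rw [← hk, Nat.card_eq_fintype_card, Fintype.card_subtype]
    congr 1
    ext y
    simp only [Finset.mem_filter, e]
  rw [hc]
  cases k with
  | zero =>
    have hs : Subsingleton (MulAction.orbit T x) := (Nat.card_eq_one_iff_unique.1 (by simpa using hk)).1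
    rw [h3 x fun t => congrArg Subtype.val (hs.elim ⟨_, MulAction.mem_orbit x t⟩
      ⟨_, MulAction.mem_orbit_self x⟩), smul_zero]
  | succ k => rw [pow_succ, mul_smul, h2, smul_zero]

theorem sum_orbit_mem {p : ℕ} [Fact p.Prime] {T X M : Type*} [Group T] [MulAction T X] [Fintype X]
    [AddCommGroup M] (hT : IsPGroup p T) (V : AddSubgroup M) (φ : X → M)
    (h1 : ∀ (t : T) x, φ (t • x) - φ x ∈ V) (h2 : ∀ x, p • φ x ∈ V)
    (h3 : ∀ x, (∀ t : T, t • x = x) → φ x ∈ V) : ∑ x, φ x ∈ V := by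
  rw [← QuotientAddGroup.eq_zero_iff, ← QuotientAddGroup.mk'_apply, map_sum]
  refine sum_orbit hT _ (fun t x => ?_) (fun x => ?_) fun x hx => ?_
  · rw [← sub_eq_zero, ← map_sub, QuotientAddGroup.mk'_apply, QuotientAddGroup.eq_zero_iff]
    exact h1 t x
  · rw [← map_nsmul, QuotientAddGroup.mk'_apply, QuotientAddGroup.eq_zero_iff]
    exact h2 x
  · rw [QuotientAddGroup.mk'_apply, QuotientAddGroup.eq_zero_iff]
    exact h3 x hx

variable {p : ℕ} [Fact p.Prime] {G X W : Type u} [Group G] [Finite G] [MulAction G X]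
  [AddCommGroup W] [DistribMulAction G W]

/-- The system vanishes above `P`. -/
def Supp (p : ℕ) (Γ P : Subgroup G) (U V : Subgroup G → AddSubgroup W) : Prop :=
  ∀ Q, Rel p Γ P Q → ¬ Q ≤ P → U Q ≤ V Q

theorem atomize {Γ Y : Subgroup G} {U V : Subgroup G → AddSubgroup W} {n : ℕ} (hX : Good p G X)
    (hp : Pair p Γ Y) (hs : Sys p Γ Y U V)
    (h : ∀ P, Rel p Γ Y P → ¬ U P ≤ V P → ∀ U' V' : Subgroup G → AddSubgroup W,
      Sys p (Γ ⊓ normalizer (P : Set G)) P U' V' → Supp p (Γ ⊓ normalizer (P : Set G)) P U' V' →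
      U' P = U P → V' P = V P → Van X (Γ ⊓ normalizer (P : Set G)) P U' V' n) :
    Van X Γ Y U V n := by
  have cm : ∀ {P Q : Subgroup G}, P ≤ Q → Nat.card P ≤ Nat.card Q := fun h => card_le_of_le h
  refine van_filt hX hp hs (fun P => Nat.card P) (fun P Q _ _ h => cm h)
    (fun g _ P _ => card_cj g P) fun j => ?_
  have u1 : Up p Γ Y fun P => j < Nat.card P :=
    ⟨fun P Q _ _ h a => a.trans_le (cm h), fun g _ P _ a => by rwa [card_cj]⟩
  have u2 : Up p Γ Y fun P => j ≤ Nat.card P :=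
    ⟨fun P Q _ _ h a => a.trans (cm h), fun g _ P _ a => by rwa [card_cj]⟩
  have s := hs.cut2 hp u2 u1 fun P _ a => a.le
  have key : ∀ P : Subgroup G, ¬ cut (fun P => j < Nat.card P) U V P ≤
      cut (fun P => j ≤ Nat.card P) U V P → Nat.card P = j := by
    intro P a
    by_contra b
    rcases lt_or_gt_of_ne b with c | c
    · rw [cut_neg (C := fun P => j < Nat.card P) (not_lt.2 c.le),
        cut_neg (C := fun P => j ≤ Nat.card P) (not_le.2 c)] at a
      exact a le_rfl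
    · rw [cut_pos (C := fun P => j < Nat.card P) c,
        cut_pos (C := fun P => j ≤ Nat.card P) c.le] at a
      exact a le_rfl
  refine van_loc hX hp s id (fun P hP _ => ⟨hP.ge, le_rfl⟩) (fun _ _ _ _ _ => rfl)
    (fun P Q _ _ a b c => (eq_of_le_of_card_ge c ((key Q b).trans (key P a).symm).le).symm)
    fun P hP a => ?_
  have e1 : cut (fun P => j < Nat.card P) U V P = U P :=
    cut_neg (C := fun P => j < Nat.card P) (not_lt.2 (key P a).le)
  have e2 : cut (fun P => j ≤ Nat.card P) U V P = V P :=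
    cut_pos (C := fun P => j ≤ Nat.card P) (key P a).ge
  refine h P hP (by rwa [e1, e2] at a) _ _ (s.res inf_le_left hP.ge) (fun Q hQ b => ?_) e1 e2
  by_contra c
  exact b (eq_of_le_of_card_ge hQ.ge ((key Q c).trans (key P a).symm).le).ge

omit [Fact p.Prime] [Finite G] in
theorem up_ndvd {Γ P K : Subgroup G} (hK : Γ ≤ normalizer (K : Set G)) :
    Up p Γ P fun Q => ¬ p ∣ (Q ⊓ K).relIndex K := by
  refine ⟨fun Q Q' _ _ h a b => a (b.trans (relIndex_dvd_of_le_left _ (inf_le_inf_right K h))),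
    fun g hg Q _ a => ?_⟩
  have : (cj g Q ⊓ K).relIndex K = (Q ⊓ K).relIndex K := by
    conv_lhs => rw [← cj_eq_self (hK hg), ← cj_inf]
    exact relIndex_map_map_of_injective _ _ (MulAut.conj g).injective
  rwa [this]

omit [Fact p.Prime] [Finite G] in
theorem up_nle {Γ P : Subgroup G} (hp : Pair p Γ P) : Up p Γ P fun Q => ¬ Q ≤ P :=
  ⟨fun _ _ _ _ h a b => a (h.trans b), fun g hg Q _ a b => a (by
    rwa [← cj_eq_self (hp.nor hg), cj_le_cj_iff] at b)⟩

omit [Finite G] in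
/-- The cone construction for the family of the subgroups that meet `K` in a Sylow subgroup. -/
theorem van_a {Γ P K : Subgroup G} {U₀ V₀ : AddSubgroup W} {n : ℕ} (hX : Good p G X)
    (hp : Pair p Γ P) (h0 : V₀ ≤ U₀) (ht : ∀ k ∈ K, ∀ w ∈ U₀, k • w - w ∈ V₀)
    (he : ∀ w ∈ U₀, p • w ∈ V₀) :
    Van X Γ P (cut (fun Q => ¬ p ∣ (Q ⊓ K).relIndex K) (FixMod U₀ V₀) fun _ => V₀) (fun _ => V₀)
      (n + 1) := by
  classical
  intro f hf hc
  have := hX.fin
  let _ : Fintype X := Fintype.ofFinite X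
  have hU : ∀ l, l.length = n + 1 + 1 → On P l → f l ∈ U₀ := fun l a b => by
    have := hf.mem l a b
    by_cases c : ¬ p ∣ (st Γ l ⊓ K).relIndex K
    · rw [cut_pos (C := fun Q => ¬ p ∣ (Q ⊓ K).relIndex K) c] at this
      exact h0 this
    · rw [cut_neg (C := fun Q => ¬ p ∣ (Q ⊓ K).relIndex K) c] at this
      exact this.1
  set s : Finset X := Finset.univ.filter fun y => On P [y] with hs
  have ms : ∀ y, y ∈ s ↔ On P [y] := fun y => by simp [hs]
  have hcard : ¬ p ∣ s.card := by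
    have := hX.card_on hp.isP
    rwa [Nat.card_eq_fintype_card, Fintype.card_subtype] at this
  obtain ⟨m, k, hm⟩ : ∃ m k : ℕ, m * s.card = 1 + k * p := by
    have c : Nat.Coprime s.card p := ((Nat.Prime.coprime_iff_not_dvd Fact.out).2 hcard).symm
    obtain ⟨m, -, hm⟩ := Nat.exists_mul_mod_eq_one_of_coprime c (Fact.out : p.Prime).one_lt
    refine ⟨m, s.card * m / p, ?_⟩
    have := Nat.mod_add_div (s.card * m) p
    rw [hm] at this
    rw [mul_comm m, mul_comm _ p, this]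
  have on1 : ∀ g ∈ Γ, ∀ y : X, On P [g • y] ↔ On P [y] := fun g hg y =>
    ⟨fun a => by simpa [sm] using a.sm hp (inv_mem hg), fun a => a.sm hp hg⟩
  have eqv : ∀ g ∈ Γ, ∀ l : List X, l.length = n + 1 → On P l →
      (∑ y ∈ s, f (y :: sm g l)) - g • ∑ y ∈ s, f (y :: l) ∈ V₀ := by
    intro g hg l a b
    have e : ∑ y ∈ s, f (y :: sm g l) = ∑ y ∈ s, f (g • y :: sm g l) := by
      refine (Finset.sum_equiv (MulAction.toPerm g) (fun y => ?_) fun y _ => rfl).symm
      rw [ms, ms, MulAction.toPerm_apply, on1 g hg]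
    rw [e, Finset.smul_sum, ← Finset.sum_sub_distrib]
    exact sum_mem fun y hy => hf.eqv g hg (y :: l) (by simp [a]) (on_cons.2 ⟨(ms y).1 hy, b⟩)
  refine ⟨fun l => m • ∑ y ∈ s, f (y :: l), ⟨fun l a b => ?_, fun g hg l a b => ?_,
    fun h => absurd h (Nat.succ_ne_zero n)⟩, fun l a b => ?_⟩
  · refine nsmul_mem ?_ m
    have hy : ∀ y, On P [y] → f (y :: l) ∈ U₀ := fun y hy =>
      hU _ (by simp [a]) (on_cons.2 ⟨hy, b⟩)
    by_cases c : ¬ p ∣ (st Γ l ⊓ K).relIndex K
    · rw [cut_pos (C := fun Q => ¬ p ∣ (Q ⊓ K).relIndex K) c, hs, Finset.sum_filter]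
      have hl : l ≠ [] := by rintro rfl; simp at a
      refine sum_orbit_mem (T := (st Γ l ⊓ K : Subgroup G)) ((hX.isP Γ hl).to_le inf_le_left) V₀ _
        (fun t y => ?_) (fun y => ?_) fun y hy' => ?_
      · have tΓ : (t : G) ∈ Γ := t.2.1.1
        rw [Subgroup.smul_def]
        by_cases o : On P [y]
        · rw [if_pos o, if_pos ((on1 _ tΓ y).2 o)]
          have e1 := hf.eqv t tΓ (y :: l) (by simp [a]) (on_cons.2 ⟨o, b⟩)
          rw [sm_cons, sm_eq_self.2 t.2.1.2] at e1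
          simpa using add_mem e1 (ht t t.2.2 _ (hy y o))
        · rw [if_neg o, if_neg fun h => o ((on1 _ tΓ y).1 h), sub_zero]
          exact zero_mem _
      · split_ifs with o
        · exact he _ (hy y o)
        · simp
      · split_ifs with o
        · have e1 := hf.mem (y :: l) (by simp [a]) (on_cons.2 ⟨o, b⟩)
          rwa [cut_pos (C := fun Q => ¬ p ∣ (Q ⊓ K).relIndex K)] at e1
          refine fun d => c (d.trans (relIndex_dvd_of_le_left _ fun t h => ⟨⟨h.1.1, fun x hx => ?_⟩, h.2⟩))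
          rcases List.mem_cons.1 hx with rfl | hx
          · exact hy' ⟨t, h⟩
          · exact h.1.2 x hx
        · exact zero_mem _
    · rw [cut_neg (C := fun Q => ¬ p ∣ (Q ⊓ K).relIndex K) c]
      refine ⟨sum_mem fun y h => hy y ((ms y).1 h), fun g hg => ?_⟩
      have := eqv g hg.1 l a b
      rw [sm_eq_self.2 hg.2] at this
      simpa using neg_mem this
  · rw [smul_comm g m, ← smul_sub]
    exact nsmul_mem (eqv g hg l a b) m
  · have e1 : ∑ y ∈ s, d f (y :: l) ∈ V₀ :=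
      sum_mem fun y hy => hc (y :: l) (by simp [a]) (on_cons.2 ⟨(ms y).1 hy, b⟩)
    simp only [d_cons, Finset.sum_sub_distrib, Finset.sum_const] at e1
    have e2 := sub_mem (nsmul_mem e1 m) (nsmul_mem (he _ (hU l a b)) k)
    rw [d_nsmul, d_sum]
    rw [smul_sub, ← mul_smul, hm, add_smul, one_smul, mul_smul] at e2
    convert e2 using 1
    abel

/-- Atomic vanishing in exponent `p`. -/
theorem core (hX : Good p G X) (P : Subgroup G) : ∀ (Γ K : Subgroup G)
    (U V : Subgroup G → AddSubgroup W), Pair p Γ P → Sys p Γ P U V → Supp p Γ P U V → K ≤ Γ →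
    Γ ≤ normalizer (K : Set G) → p ∣ (P ⊓ K).relIndex K → (∀ k ∈ K, ∀ w ∈ U P, k • w - w ∈ V P) →
    (∀ w ∈ U P, p • w ∈ V P) → ∀ n, Van X Γ P U V n := by
  induction P using (wellFounded_gt (α := Subgroup G)).induction with
  | _ P ih =>
  intro Γ K U V hp hs hsup hK hN hd ht he n
  have h0 : V P ≤ U P := hs.le P hp.rel
  have h1 : ∀ g ∈ Γ, ∀ w ∈ U P, g • w ∈ U P := fun g hg w hw => by
    have := hs.eqU g hg P hp.rel w hw
    rwa [cj_eq_self (hp.nor hg)] at this
  have h2 : ∀ g ∈ Γ, ∀ w ∈ V P, g • w ∈ V P := fun g hg w hw => by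
    have := hs.eqV g hg P hp.rel w hw
    rwa [cj_eq_self (hp.nor hg)] at this
  have sF : Sys p Γ P (FixMod (U P) (V P)) fun _ => V P := sys_fixMod h0 h1 h2
  have uC := up_ndvd (p := p) (P := P) hN
  have uD := up_nle hp
  have sA := sF.cutL hp uC
  have sAB := sA.cutR hp uD
  have sB := sA.cutL hp uD
  set A := cut (fun Q => ¬ p ∣ (Q ⊓ K).relIndex K) (FixMod (U P) (V P)) fun _ => V P with hA
  set B := cut (fun Q => ¬ Q ≤ P) A fun _ => V P with hB
  have Bpos : ∀ Q, ¬ Q ≤ P → B Q = V P := fun Q a => cut_pos (C := fun Q => ¬ Q ≤ P) a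
  have Bneg : ∀ Q, Q ≤ P → B Q = A Q := fun Q a => cut_neg (C := fun Q => ¬ Q ≤ P) (not_not.2 a)
  have Apos : ∀ Q, ¬ p ∣ (Q ⊓ K).relIndex K → A Q = V P := fun Q a =>
    cut_pos (C := fun Q => ¬ p ∣ (Q ⊓ K).relIndex K) a
  have Aneg : ∀ Q, p ∣ (Q ⊓ K).relIndex K → A Q = FixMod (U P) (V P) Q := fun Q a =>
    cut_neg (C := fun Q => ¬ p ∣ (Q ⊓ K).relIndex K) (not_not.2 a)
  refine (van_congr hX hp hs sB fun Q hQ => ?_).2 ?_
  · by_cases a : Q ≤ P
    · obtain rfl : Q = P := le_antisymm a hQ.ge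
      refine Or.inr ⟨?_, rfl⟩
      rw [Bneg Q le_rfl, Aneg Q hd]
      exact le_antisymm (fun w hw => ⟨hw, fun g hg => hs.triv Q hQ g hg w hw⟩) fun w hw => hw.1
    · exact Or.inl ⟨hsup Q hQ a, (Bpos Q a).le⟩
  cases n with
  | zero =>
    intro f hf hc
    refine ⟨fun _ => 0, coch_zero, fun l a b => ?_⟩
    obtain ⟨x, rfl⟩ := List.length_eq_one_iff.1 a
    obtain ⟨S, hS, PS⟩ := exists_isSyl_le hp.isP hp.le
    obtain ⟨y, hy⟩ := hX.exists_on hS.isPGroup
    have hy' : On P [y] := hy.mono PS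
    have e1 := hf.mem [y] rfl hy'
    rw [Bpos] at e1
    · have e2 := hc [x, y] rfl (on_cons.2 ⟨b, hy'⟩)
      rw [d_two] at e2
      rw [d_one, sub_zero]
      simpa using sub_mem e1 e2
    · intro c
      obtain rfl : P = S := le_antisymm PS (((le_st hS.le).2 hy).trans c)
      exact (hS.inf_of_le_normalizer hK (hS.le.trans hN)).not_dvd_relIndex hd
  | succ n =>
    refine van_sub hX hp sA sAB (fun Q hQ => sB.le Q hQ) ?_ (van_a hX hp h0 ht he)
    refine atomize hX hp sAB fun Q hQ a U' V' s' sup' e1 e2 => ?_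
    have b : ¬ Q ≤ P := fun b => a (Bneg Q b).ge
    have c : p ∣ (Q ⊓ K).relIndex K := by
      by_contra c
      exact a ((Apos Q c).trans (Bpos Q b).symm).le
    rw [Aneg Q c] at e1
    rw [Bpos Q b] at e2
    refine ih Q (lt_of_le_not_ge hQ.ge b) _ (K ⊓ normalizer (Q : Set G)) U' V' hQ.pair s' sup'
      (inf_le_inf_right _ hK) (le_normalizer_inf (inf_le_left.trans hN)
        (le_normalizer_normalizer inf_le_right)) (dvd_relIndex_nor hQ.isP (hQ.le.trans hN) c)
      (fun k hk w hw => ?_) (fun w hw => ?_) n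
    · rw [e1] at hw
      rw [e2]
      exact ht k hk.1 w hw.1
    · rw [e1] at hw
      rw [e2]
      exact he w hw.1

/-- The elements of `U` of order `p` modulo `V`. -/
def Om (p : ℕ) (U V : Subgroup G → AddSubgroup W) (Q : Subgroup G) : AddSubgroup W :=
  U Q ⊓ (V Q).comap (nsmulAddMonoidHom p)

omit [Fact p.Prime] [Finite G] [DistribMulAction G W] in
theorem mem_Om {U V : Subgroup G → AddSubgroup W} {Q : Subgroup G} {w : W} :
    w ∈ Om p U V Q ↔ w ∈ U Q ∧ p • w ∈ V Q := Iff.rfl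

theorem core_e (hX : Good p G X) {Γ P K : Subgroup G} (hp : Pair p Γ P) (hK : K ≤ Γ)
    (hN : Γ ≤ normalizer (K : Set G)) (hd : p ∣ (P ⊓ K).relIndex K) (n e : ℕ) :
    ∀ U V : Subgroup G → AddSubgroup W, Sys p Γ P U V → Supp p Γ P U V →
    (∀ k ∈ K, ∀ w ∈ U P, p • w ∈ V P → k • w - w ∈ V P) → (∀ w ∈ U P, p ^ e • w ∈ V P) →
    Van X Γ P U V n := by
  induction e with
  | zero =>
    intro U V hs hsup _ he
    refine van_zero hX hp hs fun Q hQ => ?_
    by_cases a : Q ≤ P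
    · obtain rfl : Q = P := le_antisymm a hQ.ge
      exact fun w hw => by simpa using he w hw
    · exact hsup Q hQ a
  | succ e ih =>
    intro U V hs hsup ht he
    have le : ∀ Q, Rel p Γ P Q → V Q ≤ Om p U V Q := fun Q hQ w hw =>
      ⟨hs.le Q hQ hw, nsmul_mem hw p⟩
    have s1 : Sys p Γ P U (Om p U V) :=
      ⟨fun Q _ w hw => hw.1, hs.antiU, fun Q R a b c w hw =>
        ⟨hs.antiU Q R a b c hw.1, hs.antiV Q R a b c hw.2⟩, hs.eqU, fun g hg Q hQ w hw =>
        mem_Om.2 ⟨hs.eqU g hg Q hQ w hw.1, by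
          rw [smul_comm]; exact hs.eqV g hg Q hQ _ (mem_Om.1 hw).2⟩,
        fun Q hQ g hg w hw => le Q hQ (hs.triv Q hQ g hg w hw)⟩
    have h1 : ∀ g ∈ Γ, ∀ w ∈ U P, g • w ∈ U P := fun g hg w hw => by
      have := hs.eqU g hg P hp.rel w hw
      rwa [cj_eq_self (hp.nor hg)] at this
    refine van_ext hX hp hs s1 le (core hX P Γ K _ _ hp (hs.mid s1 le)
      (fun Q hQ a w hw => hsup Q hQ a hw.1) hK hN hd (fun k hk w hw => ht k hk w hw.1 hw.2)
      (fun w hw => hw.2) n) (ih _ _ s1 (fun Q hQ a => (hsup Q hQ a).trans (le Q hQ))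
      (fun k hk w hw h => mem_Om.2 ⟨sub_mem (h1 k (hK hk) w hw) hw, ?_⟩) fun w hw =>
        mem_Om.2 ⟨nsmul_mem hw _, ?_⟩)
    · rw [smul_sub, smul_comm]
      exact ht k hk _ h.1 h.2
    · rw [← mul_smul, ← pow_succ']
      exact he w hw

theorem jobAV : JobAV.{u} := by
  intro p _ G X W _ _ _ _ _ Γ Y U V hX hp hs h n
  refine atomize hX hp hs fun P hP a U' V' s' sup' e1 e2 => ?_
  obtain ⟨K, k1, k2, k3, k4, e, k5⟩ := h P hP a
  exact core_e hX hP.pair k1 k2 k3 n e U' V' s' sup' (by rw [e1, e2]; exact k4)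
    (by rw [e1, e2]; exact k5)

end H18.CxAV
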