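import Cfsg.Agent.H24.CxSpec

/-! Tower CX, job Ext: a stable central extension of a Sylow subgroup extends to the group. -/

set_option autoImplicit false

namespace H18.CxExt

open Subgroup

universe u v

section Wr
variable {S : Type u} {G : Type v} [Group S] [Group G] {X : Type v} [MulAction G X]
  (κ : S →* G) (r : X → G)

/-- The pullback of the wreath product. -/
@[ext] structure Wt where
  g : G
  l : X → S
  h : ∀ x, κ (l x) = (r (g • x))⁻¹ * g * r x

instance : Mul (Wt κ r) := ⟨fun a b => ⟨a.g * b.g, fun x => a.l (b.g • x) * b.l x, fun x => by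
  rw [map_mul, a.h, b.h, mul_smul]; group⟩⟩

instance : One (Wt κ r) := ⟨⟨1, fun _ => 1, fun x => by simp⟩⟩

instance : Inv (Wt κ r) := ⟨fun a => ⟨a.g⁻¹, fun x => (a.l (a.g⁻¹ • x))⁻¹, fun x => by
  rw [map_inv, a.h, smul_inv_smul]; group⟩⟩

variable {κ r}

@[simp] theorem mul_g (a b : Wt κ r) : (a * b).g = a.g * b.g := rfl
@[simp] theorem mul_l (a b : Wt κ r) (x : X) : (a * b).l x = a.l (b.g • x) * b.l x := rfl
@[simp] theorem one_g : (1 : Wt κ r).g = 1 := rfl
@[simp] theorem one_l (x : X) : (1 : Wt κ r).l x = 1 := rfl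
@[simp] theorem inv_g (a : Wt κ r) : (a⁻¹).g = a.g⁻¹ := rfl
@[simp] theorem inv_l (a : Wt κ r) (x : X) : (a⁻¹).l x = (a.l (a.g⁻¹ • x))⁻¹ := rfl

instance : Group (Wt κ r) := Group.ofLeftAxioms
  (fun a b c => Wt.ext (by simp [mul_assoc]) (funext fun x => by simp [mul_assoc, mul_smul]))
  (fun a => Wt.ext (by simp) (funext fun x => by simp))
  (fun a => Wt.ext (by simp) (funext fun x => by simp))

instance [Finite S] [Finite G] [Finite X] : Finite (Wt κ r) :=
  Finite.of_injective (fun a : Wt κ r => (a.g, a.l)) fun _ _ h =>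
    Wt.ext (congrArg Prod.fst h) (congrArg Prod.snd h)

variable (κ r) in
/-- The projection to `G`. -/
def pr : Wt κ r →* G where
  toFun a := a.g
  map_one' := rfl
  map_mul' _ _ := rfl

variable {A : Type u} [CommGroup A] (j : A →* S)

variable (r) in
/-- The base group. -/
def base (hj : ∀ a, κ (j a) = 1) : (X → A) →* Wt κ r where
  toFun a := ⟨1, fun x => j (a x), fun x => by simp [hj]⟩
  map_one' := Wt.ext rfl (funext fun x => by simp)
  map_mul' a b := Wt.ext (by simp) (funext fun x => by simp)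

@[simp] theorem base_g (hj : ∀ a, κ (j a) = 1) (a : X → A) : (base r j hj a).g = 1 := rfl
@[simp] theorem base_l (hj : ∀ a, κ (j a) = 1) (a : X → A) (x : X) :
    (base r j hj a).l x = j (a x) := rfl

theorem conj_base (hj : ∀ a, κ (j a) = 1) (hc : ∀ a s, j a * s = s * j a) (w : Wt κ r)
    (a : X → A) : w * base r j hj a * w⁻¹ = base r j hj fun x => a (w.g⁻¹ • x) := by
  refine Wt.ext (by simp) (funext fun x => ?_)
  simp only [mul_l, inv_g, base_g, one_smul, base_l, inv_l]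
  rw [← hc, mul_inv_cancel_right]

variable (X A) in
/-- The product of all values. -/
noncomputable def nm [Fintype X] : (X → A) →* A where
  toFun a := ∏ x, a x
  map_one' := by simp
  map_mul' a b := by simp [Finset.prod_mul_distrib]

theorem nm_smul [Fintype X] (g : G) (a : X → A) : nm X A (fun x => a (g • x)) = nm X A a :=
  Equiv.prod_comp (MulAction.toPerm g) a

theorem nm_const [Fintype X] (z : A) : nm X A (fun _ => z) = z ^ Fintype.card X := by
  simp [nm]

theorem ext_of_lam [Finite S] [Finite G] [Fintype X] (hinj : Function.Injective j)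
    (hker : ∀ s, κ s = 1 ↔ s ∈ j.range) (hc : ∀ a s, j a * s = s * j a)
    (hr : ∀ (g : G) (x : X), (r (g • x))⁻¹ * g * r x ∈ κ.range)
    (hpow : Function.Bijective fun z : A => z ^ Fintype.card X)
    (lam : S → X → S) (h1 : ∀ a y, κ (lam a y) = (r (κ a • y))⁻¹ * κ a * r y)
    (h2 : ∀ a b y, lam (a * b) y = lam a (κ b • y) * lam b y)
    (h3 : ∀ z y, lam (j z) y = j z) :
    ∃ (H : Type (max u v)) (_ : Group H) (_ : Finite H) (ι : S →* H) (π : H →* G),
      Function.Injective ι ∧ Function.Surjective π ∧ (∀ x, π (ι x) = κ x) ∧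
        π.ker = j.range.map ι ∧ π.ker ≤ center H := by
  have hj : ∀ a, κ (j a) = 1 := fun a => (hker _).2 ⟨a, rfl⟩
  let N : Subgroup (Wt κ r) := (nm X A).ker.map (base r j hj)
  have hN : N.Normal := ⟨by
    rintro _ ⟨a, ha, rfl⟩ w
    refine ⟨_, ?_, (conj_base j hj hc w a).symm⟩
    have ha' : nm X A a = 1 := ha
    show nm X A _ = 1
    rw [nm_smul, ha']⟩
  have hNle : N ≤ (pr κ r).ker := by
    rintro _ ⟨a, -, rfl⟩
    rfl
  let ι₀ : S →* Wt κ r := MonoidHom.mk' (fun a => ⟨κ a, lam a, h1 a⟩) fun a b =>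
    Wt.ext (map_mul κ a b) (funext fun y => h2 a b y)
  have hι₀ : ∀ z, ι₀ (j z) = base r j hj fun _ => z := fun z =>
    Wt.ext (hj z) (funext fun y => h3 z y)
  have hbase : ∀ w : Wt κ r, w.g = 1 → ∃ a, base r j hj a = w := by
    intro w hw
    have : ∀ x, ∃ a, j a = w.l x := fun x => (hker _).1 (by rw [w.h, hw]; simp)
    choose a ha using this
    exact ⟨a, Wt.ext hw.symm (funext ha)⟩
  have hbinj : Function.Injective (base r j hj) := fun a b h =>
    funext fun x => hinj (congrArg (fun w => w.l x) h)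
  refine ⟨Wt κ r ⧸ N, inferInstance, inferInstance, (QuotientGroup.mk' N).comp ι₀,
    QuotientGroup.lift N (pr κ r) hNle, ?_, ?_, fun x => rfl, ?_, ?_⟩
  · rw [injective_iff_map_eq_one]
    intro s hs
    have hs' : ι₀ s ∈ N := (QuotientGroup.eq_one_iff _).1 hs
    obtain ⟨z, rfl⟩ := (hker s).1 (hNle hs')
    obtain ⟨a, ha, hb⟩ := hs'
    rw [hι₀] at hb
    have ha' : nm X A a = 1 := ha
    rw [hbinj hb, nm_const] at ha'
    have : z = 1 := hpow.1 (by simpa using ha')
    rw [this, map_one]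
  · intro g
    choose l hl using fun x => hr g x
    exact ⟨QuotientGroup.mk ⟨g, l, hl⟩, rfl⟩
  · apply le_antisymm
    · intro h hh
      obtain ⟨w, rfl⟩ := QuotientGroup.mk_surjective h
      obtain ⟨a, rfl⟩ := hbase w hh
      obtain ⟨z, hz⟩ := hpow.2 (nm X A a)
      refine ⟨j z, ⟨z, rfl⟩, ?_⟩
      show (QuotientGroup.mk (ι₀ (j z)) : Wt κ r ⧸ N) = _
      rw [QuotientGroup.eq, hι₀, ← map_inv, ← map_mul]
      refine ⟨_, ?_, rfl⟩
      show nm X A _ = 1
      rw [map_mul, map_inv, nm_const, ← hz, inv_mul_cancel]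
    · rintro _ ⟨_, ⟨z, rfl⟩, rfl⟩
      exact hj z
  · intro h hh
    obtain ⟨w, rfl⟩ := QuotientGroup.mk_surjective h
    obtain ⟨a, rfl⟩ := hbase w hh
    rw [mem_center_iff]
    intro k
    obtain ⟨w, rfl⟩ := QuotientGroup.mk_surjective k
    rw [← QuotientGroup.mk_mul, ← QuotientGroup.mk_mul, QuotientGroup.eq]
    have e : (w * base r j hj a)⁻¹ * (base r j hj a * w) =
        (base r j hj a)⁻¹ * (w⁻¹ * base r j hj a * w⁻¹⁻¹) := by group
    rw [e, conj_base j hj hc, ← map_inv, ← map_mul]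
    refine ⟨_, ?_, rfl⟩
    show nm X A _ = 1
    rw [map_mul, map_inv, nm_smul, inv_mul_cancel]

theorem exists_lam (A : Subgroup S) (hA : A ≤ center S) (hk : κ.ker = A)
    (hr : ∀ (g : G) (x : X), (r (g • x))⁻¹ * g * r x ∈ κ.range)
    (hs : ∀ (g : G) (P : Subgroup S), A ≤ P → (∀ x ∈ P, g * κ x * g⁻¹ ∈ κ.range) → ∃ f : S → S,
      (∀ x ∈ P, ∀ y ∈ P, f (x * y) = f x * f y) ∧ (∀ x ∈ P, κ (f x) = g * κ x * g⁻¹) ∧
        ∀ a ∈ A, f a = a) :
    ∃ lam : S → X → S, (∀ a y, κ (lam a y) = (r (κ a • y))⁻¹ * κ a * r y) ∧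
      (∀ a b y, lam (a * b) y = lam a (κ b • y) * lam b y) ∧ ∀ z ∈ A, ∀ y, lam z y = z := by
  have hk1 : ∀ z ∈ A, κ z = 1 := fun z hz => by rwa [← hk] at hz
  -- orbit representatives
  let σ : Setoid X := ⟨fun x y => ∃ a : S, κ a • x = y, fun x => ⟨1, by simp⟩,
    fun ⟨a, h⟩ => ⟨a⁻¹, by rw [← h, map_inv, inv_smul_smul]⟩,
    fun ⟨a, h⟩ ⟨b, h'⟩ => ⟨b * a, by rw [map_mul, mul_smul, h, h']⟩⟩
  let ρ : X → X := fun y => (Quotient.mk σ y).out
  have hρ : ∀ a y, ρ (κ a • y) = ρ y := fun a y =>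
    congrArg Quotient.out (Quotient.sound (s := σ) ⟨a, rfl⟩).symm
  have hu : ∀ y, ∃ a : S, κ a • ρ y = y := fun y => Quotient.mk_out (s := σ) y
  choose t ht using hu
  have hw : ∀ y, ∃ b : S, κ b = (r y)⁻¹ * κ (t y) * r (ρ y) := fun y => by
    have := hr (κ (t y)) (ρ y)
    rwa [ht] at this
  choose w hw using hw
  let P : X → Subgroup S := fun x => (MulAction.stabilizer G x).comap κ
  have hP : ∀ x a, a ∈ P x ↔ κ a • x = x := fun x a => Iff.rfl
  have hf : ∀ x, ∃ f : S → S, (∀ a ∈ P x, ∀ b ∈ P x, f (a * b) = f a * f b) ∧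
      (∀ a ∈ P x, κ (f a) = (r x)⁻¹ * κ a * (r x)⁻¹⁻¹) ∧ ∀ a ∈ A, f a = a := fun x => by
    refine hs _ _ (fun z hz => ?_) fun a ha => ?_
    · rw [hP, hk1 z hz, one_smul]
    · have := hr (κ a) x
      rwa [(hP x a).1 ha, ← inv_inv (r x), inv_inv (r x)⁻¹] at this
  choose f hf1 hf2 hf3 using hf
  have hm : ∀ a y, (t (κ a • y))⁻¹ * a * t y ∈ P (ρ y) := fun a y => by
    rw [hP, map_mul, map_mul, mul_smul, mul_smul, ht, map_inv, inv_smul_eq_iff, ← hρ a y, ht]
  refine ⟨fun a y => w (κ a • y) * f (ρ y) ((t (κ a • y))⁻¹ * a * t y) * (w y)⁻¹,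
    fun a y => ?_, fun a b y => ?_, fun z hz y => ?_⟩
  · rw [map_mul, map_mul, map_inv, hw, hw, hf2 _ _ (hm a y), hρ]
    simp only [map_mul, map_inv]
    group
  · have h1 := hm a (κ b • y)
    rw [hρ] at h1
    have h2 := hf1 _ _ h1 _ (hm b y)
    have e : (t (κ a • κ b • y))⁻¹ * a * t (κ b • y) * ((t (κ b • y))⁻¹ * b * t y) =
        (t (κ a • κ b • y))⁻¹ * (a * b) * t y := by group
    rw [e] at h2
    simp only [map_mul, mul_smul, hρ, h2]
    group
  · have hz' := mem_center_iff.1 (hA hz)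
    have e : (t y)⁻¹ * z * t y = z := by rw [mul_assoc, ← hz', inv_mul_cancel_left]
    simp only [hk1 z hz, one_smul, e, hf3 _ z hz]
    rw [hz', mul_inv_cancel_right]

end Wr

theorem jobExt : H24.Cx.JobExt.{u, v} := by
  intro p _ S G _ _ _ _ A κ hS hA hk hi hs
  classical
  let _ : CommGroup A := { (inferInstance : Group A) with
    mul_comm := fun a b => Subtype.ext (mem_center_iff.1 (hA b.2) a) }
  let _ : Fintype (G ⧸ κ.range) := Fintype.ofFinite _
  have hr : ∀ (g : G) (x : G ⧸ κ.range), (Quotient.out (g • x))⁻¹ * g * Quotient.out x ∈ κ.range := by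
    intro g x
    rw [mul_assoc, ← QuotientGroup.eq, QuotientGroup.out_eq']
    conv_lhs => rw [← QuotientGroup.out_eq' x]
    rfl
  obtain ⟨lam, h1, h2, h3⟩ := exists_lam (r := fun x : G ⧸ κ.range => x.out) A hA hk hr hs
  have hcop : (Nat.card A).Coprime (Fintype.card (G ⧸ κ.range)) := by
    obtain ⟨n, hn⟩ := IsPGroup.iff_card.1 (hS.to_subgroup A)
    rw [hn, ← Nat.card_eq_fintype_card]
    exact Nat.Coprime.pow_left _ ((Nat.Prime.coprime_iff_not_dvd Fact.out).2 hi)
  have := ext_of_lam (κ := κ) (r := fun x : G ⧸ κ.range => x.out) (A := A) A.subtype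
    A.subtype_injective (fun s => by rw [range_subtype, ← hk, MonoidHom.mem_ker])
    (fun a s => (mem_center_iff.1 (hA a.2) s).symm) hr (powCoprime hcop).bijective lam h1 h2
    fun z y => h3 z z.2 y
  rwa [range_subtype] at this

end H18.CxExt
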