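import Cfsg.Agent.H24.CxKit

/-! Tower CX, jobs M and B2. -/

set_option autoImplicit false

namespace H18.CxMB

open Subgroup Cfsg H98 H24.Cx

universe u

section
variable {G W : Type u} [Group G] [AddCommGroup W] [DistribMulAction G W] {D : AddSubgroup W}

theorem np_of_triv {A : Subgroup G} (h : ∀ a ∈ A, ∀ w ∈ D, w + w = 0 → a • w = w) : NP 2 D A := by
  intro B _ _ w hw h0 a ha
  rw [two_smul] at h0
  simp [Finset.sum_range_succ, h a ha w hw.1 h0, h0]

theorem ap_fix {Γ E A : Subgroup G} (hD : Mod 2 Γ (Fix D E)) (hA : A ≤ Γ) (h : AP 2 D A) :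
    AP 2 (Fix D E) A := by
  rcases h with h | ⟨-, t, v, ht, rfl⟩
  · exact Or.inl fun B hB e w hw => h B hB e w ⟨hw.1.1, hw.2⟩
  · by_cases c : ∃ w ∈ Fix D E, w + w = 0 ∧ t • w ≠ w
    · refine Or.inr ⟨rfl, t, v, ⟨?_, ht.ne, fun w hw => ht.act w hw.1, c⟩, rfl⟩
      obtain ⟨w, hw, -, h2⟩ := c
      have e := (ht.act w hw.1).resolve_left h2
      have := sub_mem (hD.inv t (hA (mem_zpowers t)) w hw) hw
      rwa [e, add_sub_cancel_left] at this
    · refine Or.inl (np_of_triv fun a ha w hw h0 => ?_)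
      have : t ∈ MulAction.stabilizer G w := by
        by_contra d
        exact c ⟨w, hw, h0, d⟩
      exact zpowers_le_of_mem this ha

theorem JJ_le_JJ {C C' : Subgroup G → Prop} {Y P : Subgroup G} (h : ∀ A ≤ P, C A → C' A) :
    JJ C Y P ≤ JJ C' Y P :=
  JJ_le_iff.2 ⟨le_JJ _ _ _, fun A a b => le_JJ' (h A b a) b Y⟩

theorem QJ_sat {C C' : Subgroup G → Prop} {Y P : Subgroup G} (hY : Y ≤ P)
    (h : ∀ A ≤ P, C A → C' A) (q : QJ C Y P) : QJ C Y (JJ C' Y P) := fun a =>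
  q (((JJ_JJ hY).symm.le.trans (JJ_mono (JJ_le_JJ h))).trans a)

theorem not_QJ_iff {Y P : Subgroup G} : ¬ QJ (NP 2 D) Y P ↔ Low D Y P := by
  rw [QJ, not_not, JJ_le_iff]
  exact ⟨fun h A a b => h.2 A b a, fun h => ⟨le_rfl, fun A a b => h A b a⟩⟩

theorem low_of_le_cj {Γ Y P S : Subgroup G} (hp : Pair 2 Γ Y) (hD : Mod 2 Γ D) {g : G} (hg : g ∈ Γ)
    (h : P ≤ cj g S) (hS : Low D Y S) : Low D Y P := fun A a b => by
  have := hS (cj g⁻¹ A) (le_cj_iff.1 (a.trans h)) (hD.inv_NP _ (inv_mem hg) A b)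
  rwa [← le_cj_iff, cj_eq_self (hp.nor hg)] at this

theorem FU_anti {C C' : Subgroup G → Prop} {P : Subgroup G} (h : C' P → C P) :
    FU D C P ≤ FU D C' P := by
  by_cases a : C' P
  · rw [FU_pos a, FU_pos (h a)]
  · rw [FU_neg a]
    exact FU_le D C P

/-- The kernel of the action on the elements of order 2. -/
def KV (Γ : Subgroup G) (D : AddSubgroup W) : Subgroup G where
  carrier := {k | k ∈ Γ ∧ ∀ w ∈ D, w + w = 0 → k • w = w}
  one_mem' := ⟨one_mem _, fun w _ _ => one_smul _ w⟩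
  mul_mem' := fun a b => ⟨mul_mem a.1 b.1, fun w h h' => by rw [mul_smul, b.2 w h h', a.2 w h h']⟩
  inv_mem' := fun a => ⟨inv_mem a.1, fun w h h' => by rw [inv_smul_eq_iff, a.2 w h h']⟩

theorem KV_nor {Γ : Subgroup G} (hD : Mod 2 Γ D) : Γ ≤ normalizer (KV Γ D : Set G) := by
  rw [le_normalizer_iff]
  intro g hg k hk
  refine ⟨mul_mem (mul_mem hg hk.1) (inv_mem hg), fun w hw h0 => ?_⟩
  rw [mul_smul, mul_smul, hk.2 _ (hD.inv _ (inv_mem hg) w hw) (by rw [← smul_add, h0, smul_zero]),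
    smul_inv_smul]

theorem set2 [Finite G] {Γ Y : Subgroup G} (hp : Pair 2 Γ Y) (hD : Mod 2 Γ D)
    (ht : ∀ y ∈ Y, ∀ w ∈ D, y • w = w) (hd : ¬ 2 ∣ (Y ⊓ KV Γ D).relIndex (KV Γ D)) :
    Set2 Γ Y D := by
  have hn : KV Γ D ≤ normalizer ((Y ⊓ KV Γ D : Subgroup G) : Set G) :=
    le_normalizer_inf (fun k hk => hp.nor hk.1) le_normalizer
  refine ⟨hp, hD, ht, fun k hk h => ?_, fun k hk h h2 =>
    mem_of_not_dvd hn hd ⟨hk, fun w hw _ => h w hw⟩ h2⟩
  have : ((Y ⊓ KV Γ D).subgroupOf (KV Γ D)).Normal :=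
    (normal_subgroupOf_iff_le_normalizer inf_le_right).2 hn
  have h1 : (⟨k, hk, h⟩ : KV Γ D) ^ ((Y ⊓ KV Γ D).subgroupOf (KV Γ D)).index ∈
      (Y ⊓ KV Γ D).subgroupOf (KV Γ D) := pow_index_mem _ _
  have h2 : k ^ (Y ⊓ KV Γ D).relIndex (KV Γ D) ∈ Y := (mem_subgroupOf.1 h1).1
  obtain ⟨m, hm⟩ := Nat.odd_iff.2 (Nat.two_dvd_ne_zero.1 hd)
  rw [hm] at h2
  obtain ⟨e, he⟩ := hD.exp
  have key : ∀ e : ℕ, ∀ w ∈ D, 2 ^ e • w = 0 → k • w = w := by
    intro e
    induction e with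
    | zero => intro w _ h0; rw [pow_zero, one_smul] at h0; rw [h0, smul_zero]
    | succ e ih =>
      intro w hw h0
      have a := ih (2 • w) (nsmul_mem hw 2) (by rw [← mul_smul, ← pow_succ, h0])
      obtain ⟨z, hz⟩ : ∃ z, k • w = w + z := ⟨k • w - w, by abel⟩
      have z2 : z + z = 0 := by
        rw [two_smul, smul_add, hz] at a
        have : w + w + (z + z) = w + w + 0 := by rw [add_zero, add_add_add_comm, a]
        exact add_left_cancel this
      have zD : z ∈ D := by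
        have := sub_mem (hD.inv k hk w hw) hw
        rwa [hz, add_sub_cancel_left] at this
      have b : (k * k) • w = w := by
        rw [mul_smul, hz, smul_add, hz, h z zD z2, add_assoc, z2, add_zero]
      have c : (k * k) ^ m • w = w := (MulAction.stabilizer G w).pow_mem b m
      have d := ht _ h2 w hw
      rwa [pow_succ', pow_mul, mul_smul, sq, c] at d
  exact fun w hw => key e w hw (he w hw)

end

theorem jobM : JobM.{u} := by
  intro hStep hN hB p _ G X W _ _ _ _ _ Γ₀ D hX hD n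
  by_cases hp2 : p = 2
  swap
  · have : (AP p D : Subgroup G → Prop) = NP p D :=
      funext fun A => propext ⟨fun h => h.resolve_right fun a => hp2 a.1, Or.inl⟩
    rw [this]
    exact hN p G X W Γ₀ D hX hD (n + 1)
  subst hp2
  obtain ⟨c, hc⟩ : ∃ c, Nat.card D = c := ⟨_, rfl⟩
  induction c using Nat.strong_induction_on generalizing D Γ₀ n with
  | _ c ihc =>
  induction n generalizing Γ₀ with
  | zero => ?_
  | succ n ihn => ?_
  all_goals
    intro Γ Y C₁ C₂ hΓ hp u1 u2 e s1 s2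
    have hD' := hD.mono hΓ
    refine hStep 2 G X W Γ Y D (AP 2 D) C₁ C₂ _ hX hp hD' hD'.inv_AP u1 u2 e s1 s2
      fun E hE _ _ _ => ?_
    have hp' := hE.pair
    have hDN : Mod 2 (Γ ⊓ normalizer (E : Set G)) D := hD'.mono inf_le_left
    have uQ := up_QJ hp' hDN.inv_AP
    by_cases hfix : Fix D E = D
    swap
    · have hD1 := hD'.fix E
      have := hD.fin
      have hlt : Nat.card (Fix D E) < c := by
        rw [← hc]
        have l : Fix D E ≤ D := fun w hw => hw.1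
        exact lt_of_le_of_ne (AddSubgroup.card_le_of_le l) fun a =>
          hfix (AddSubgroup.eq_of_le_of_card_ge l a.ge)
      refine (van_congr hX hp' (sys_FU hp' hD1 up_true uQ fun _ _ _ => trivial)
        (sys_FU_bot hp' hDN uQ) fun P hP => Or.inr ⟨?_, FU_pos trivial⟩).1
        (ihc _ hlt _ (Fix D E) _ hD1 rfl _ E (fun _ => True) (QJ (AP 2 D) E) le_rfl hp' up_true uQ
          (fun _ _ _ => trivial) (fun _ _ _ => trivial) fun P hP q =>
            QJ_sat hP.ge (fun A a b => ap_fix hD1 (a.trans hP.le) b) q)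
      by_cases q : QJ (AP 2 D) E P
      · rw [FU_pos q, FU_pos q]
      · rw [FU_neg q, FU_neg q]
        exact le_antisymm (fun w hw => ⟨hw.1.1, hw.2⟩) fun w hw =>
          ⟨⟨hw.1, fun g hg => hw.2 g (hP.ge hg)⟩, hw.2⟩
    have s := sys_FU hp' hDN uQ up_false fun _ _ a => a.elim
    rw [FU_false] at s
    refine van_sub hX hp' (sys_fix hDN) s (fun _ _ => bot_le) ?_ (van_fix hX hp' hDN)
    rw [← FU_false]
  · exact hB G X W _ E D hX hp' hDN fun y hy w hw => (hfix.ge hw).2 y hy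
  · exact ihn _ hDN _ E (QJ (AP 2 D) E) (fun _ => False) le_rfl hp' uQ up_false
      (fun _ _ a => a.elim) (fun P hP q => QJ_sat hP.ge (fun _ _ a => a) q) fun _ _ a => a

theorem jobB2 : JobB2.{u} := by
  intro hAV hStep hN hPL hST hB G X W _ _ _ _ _ Γ Y D hX hp hD ht
  have uQ := up_QJ hp hD.inv_AP
  have uQ0 := up_QJ hp hD.inv_NP
  have e0 : ∀ P : Subgroup G, QJ (NP 2 D) Y P → QJ (AP 2 D) Y P := fun P q a =>
    q ((JJ_le_JJ fun _ _ => Or.inl).trans a)
  have red : Van X Γ Y (FU D (QJ (NP 2 D) Y)) (FU D (QJ (AP 2 D) Y)) 1 →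
      Van X Γ Y (FU D fun _ => False) (FU D (QJ (AP 2 D) Y)) 1 := fun h =>
    van_ext hX hp (sys_FU hp hD uQ up_false fun _ _ a => a.elim)
      (sys_FU hp hD uQ0 up_false fun _ _ a => a.elim) (fun P _ => FU_anti (e0 P)) h
      (hN 2 G X W Γ D hX hD 0 Γ Y _ _ le_rfl hp uQ0 up_false (fun _ _ a => a.elim)
        (fun P hP q => QJ_sat hP.ge (fun _ _ a => a) q) fun _ _ a => a)
  by_cases hd : 2 ∣ (Y ⊓ KV Γ D).relIndex (KV Γ D)
  · refine red (hAV 2 G X W Γ Y _ _ hX hp (sys_FU hp hD uQ uQ0 fun P _ => e0 P)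
      (fun P hP a => ?_) 1)
    have q0 : ¬ QJ (NP 2 D) Y P := fun q => a (by rw [FU_pos q]; exact bot_le)
    have q : QJ (AP 2 D) Y P := by
      by_contra q
      exact a (by rw [FU_neg q, FU_neg q0])
    rw [FU_neg q0, FU_pos q]
    have e : P ⊓ KV Γ D = Y ⊓ KV Γ D := le_antisymm (le_inf (not_QJ_iff.1 q0 _ inf_le_left
      (np_of_triv fun a ha => ha.2.2)) inf_le_right) (inf_le_inf_right _ hP.ge)
    obtain ⟨k, hk⟩ := hD.exp
    refine ⟨KV Γ D ⊓ normalizer (P : Set G), inf_le_inf_right _ fun k hk => hk.1,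
      le_normalizer_inf (inf_le_left.trans (KV_nor hD)) (le_normalizer_normalizer inf_le_right),
      dvd_relIndex_nor hP.isP (hP.le.trans (KV_nor hD)) (e ▸ hd), fun g hg w hw h0 => ?_, k,
      fun w hw => hk w hw.1⟩
    rw [AddSubgroup.mem_bot, two_smul] at h0
    rw [AddSubgroup.mem_bot, hg.1.2 w hw.1 h0, sub_self]
  have h2 := set2 hp hD ht hd
  obtain ⟨S, hS⟩ := exists_isSyl 2 Γ
  have loc : ∀ E, Rel 2 Γ Y E → JJ (AP 2 D) Y E = E → Low D Y E → ¬ Bad Γ Y E D →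
      Van X (Γ ⊓ normalizer (E : Set G)) E (FU D (QJ (AP 2 D) E)) (fun _ => ⊥) 1 :=
    fun E hE a b c => van_one hX hE.pair (hD.mono inf_le_left)
      (up_QJ hE.pair (hD.mono inf_le_left).inv_AP) fun F hF =>
        (hPL G X W Γ Y E D F hX h2 hE a b hF).resolve_right fun h => c h.1
  have satQ : ∀ P, Rel 2 Γ Y P → QJ (AP 2 D) Y P → QJ (AP 2 D) Y (JJ (AP 2 D) Y P) :=
    fun P hP q => QJ_sat hP.ge (fun _ _ a => a) q
  by_cases hL : Low D Y S
  · have u1 : Up 2 Γ Y fun P => QJ (AP 2 D) Y P ∧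
        Nat.card (JJ (AP 2 D) Y S) ≤ 2 * Nat.card (JJ (AP 2 D) Y P) :=
      ⟨fun P Q a b c h => ⟨uQ.mono P Q a b c h.1,
        h.2.trans (Nat.mul_le_mul_left 2 (card_le_of_le (JJ_mono c)))⟩,
        fun g hg P a h => ⟨uQ.inv g hg P a h.1, by rw [JJ_cj hp hD.inv_AP hg, card_cj]; exact h.2⟩⟩
    refine van_ext hX hp (sys_FU hp hD uQ up_false fun _ _ a => a.elim)
      (sys_FU hp hD u1 up_false fun _ _ a => a.elim) (fun P _ => FU_anti And.left)
      (hStep 2 G X W Γ Y D (AP 2 D) _ _ 1 hX hp hD hD.inv_AP uQ u1 (fun _ _ => And.left) satQ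
        (fun P hP h => ⟨satQ P hP h.1, by rw [JJ_JJ hP.ge]; exact h.2⟩) fun E hE a b c => ?_)
      (hB G X W Γ Y S D hX h2 hS hL)
    obtain ⟨g, hg, h⟩ := hS.exists_le_cj hE.isP hE.le
    refine loc E hE a (low_of_le_cj hp hD hg h hL) fun bad => c ⟨b, ?_⟩
    obtain ⟨S', t, v, hS', -, -, -, -, hc, -⟩ := hST G W Γ Y E D h2 hE a bad
    obtain ⟨k, hk, rfl⟩ := hS'.exists_cj_eq hS
    rw [JJ_cj hp hD.inv_AP hk, card_cj, hc, a]
  · refine red (hStep 2 G X W Γ Y D (AP 2 D) _ _ 1 hX hp hD hD.inv_AP uQ uQ0 (fun P _ => e0 P) satQ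
      (fun P hP q => QJ_sat hP.ge (fun _ _ => Or.inl) q) fun E hE a _ c => ?_)
    refine loc E hE a (not_QJ_iff.1 c) fun bad => hL ?_
    obtain ⟨S', t, v, hS', -, -, -, hl, -⟩ := hST G W Γ Y E D h2 hE a bad
    obtain ⟨k, hk, e⟩ := hS'.exists_cj_eq hS
    exact low_of_le_cj hp hD hk e.ge hl

end H18.CxMB
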