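/- D3 tower (row S5261), slot L0: the essential subgroup at level 0 is `Q₂`. -/
import Cfsg.Agent.H90.D3Kit

set_option autoImplicit false
set_option linter.unusedSectionVars false
set_option linter.unusedSimpArgs false
set_option linter.unusedVariables false
set_option linter.unnecessarySeqFocus false
set_option linter.unreachableTactic false
set_option linter.unusedTactic false

open Subgroup H90.D3
open H90.RF (cm Au Pr Ok cm_eq_one)

universe v

namespace H18.D3L0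

variable {K : Type*} [Field K] [Finite K] {T : CF K} {E M : Subgroup (Co T)} {p : ℕ} {β : Co T → Co T}
  {u : Co T}

theorem cm_mem {s m : Co T} (hs : s ∈ E) (hm : m ∈ E) : cm s m ∈ E :=
  mul_mem (inv_mem hm) (mul_mem (mul_mem hs hm) (inv_mem hs))

theorem cm_sw {s m : Co T} (h : cm s m = 1) : cm m s = 1 := cm_eq_one.2 (cm_eq_one.1 h).symm

theorem eq_W {x y : Co T} (hx : x ∈ sW T) (hy : y ∈ sW T) (e : x.e = y.e) (g : x.g = y.g) : x = y := by
  obtain ⟨h1, h2, h3, h4⟩ := hx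
  obtain ⟨k1, k2, k3, k4⟩ := hy
  ext <;> simp [*]

theorem eq_Z3 {x y : Co T} (hx : x ∈ sZ3 T) (hy : y ∈ sZ3 T) (d : x.d = y.d) (e : x.e = y.e) (g : x.g = y.g) :
    x = y := by
  obtain ⟨h1, h2, h3⟩ := hx
  obtain ⟨k1, k2, k3⟩ := hy
  ext <;> simp [*]

theorem cm_Zl {s : Co T} (hs : s ∈ sW T) (m : Co T) : cm s m ∈ sZ T :=
  ⟨cm_a s m, cm_b s m, by simp [cm_c, hs.1, hs.2.1], by simp [cm_d, hs.1, hs.2.1, hs.2.2.1],
    by simp [cm_e, hs.1, hs.2.1, hs.2.2.1, hs.2.2.2]⟩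

/-- the norm is not additive on a plane -/
theorem na (d : K) : ∃ t t', T.tr (t * d) = 0 ∧ T.tr (t' * d) = 0 ∧
    T.tr (T.sh t * t') + T.tr (t * T.sh t') ≠ 0 := by
  by_contra hn
  push Not at hn
  obtain ⟨v, w, hv, hw, hvw⟩ := T.exists_perp2 d
  have pl : ∀ x y : T.k, T.tr ((x * v + y * w) * d) = 0 := fun x y => by
    rw [add_mul, T.tr_add, mul_assoc, mul_assoc, T.tr_k, T.tr_k, mul_comm v, mul_comm w, hv, hw]; simp
  have inj : Function.Injective fun x : T.k × T.k => T.nmk (x.1 * v + x.2 * w) := fun x y e => by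
    have e1 : T.nm (x.1 * v + x.2 * w) = T.nm (y.1 * v + y.2 * w) := congrArg Subtype.val e
    have e2 := T.nm_add ((x.1 - y.1 : T.k) * v + (x.2 - y.2 : T.k) * w) (y.1 * v + y.2 * w)
    have e3 := hn _ _ (pl (x.1 - y.1) (x.2 - y.2)) (pl y.1 y.2)
    rw [show ((x.1 - y.1 : T.k) * v + (x.2 - y.2 : T.k) * w) + (y.1 * v + y.2 * w) = x.1 * v + x.2 * w by
      push_cast; ring, e1] at e2
    have e4 : ((x.1 - y.1 : T.k) * v + (x.2 - y.2 : T.k) * w : K) = 0 :=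
      T.nm_eq_zero.1 (by linear_combination -e2 - e3)
    have e5 : ((x.1 - y.1 : T.k) : K) * T.wg v w = 0 := by
      have := congrArg (fun z => T.wg z w) e4
      simp only [CF.wg, map_add, map_mul, CF.σ_k, map_zero] at this ⊢
      linear_combination this
    have e6 : ((x.2 - y.2 : T.k) : K) * T.wg v w = 0 := by
      have := congrArg (fun z => T.wg v z) e4
      simp only [CF.wg, map_add, map_mul, CF.σ_k, map_zero] at this ⊢
      linear_combination this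
    exact Prod.ext (sub_eq_zero.1 (Subtype.ext ((mul_eq_zero.1 e5).resolve_right hvw)))
      (sub_eq_zero.1 (Subtype.ext ((mul_eq_zero.1 e6).resolve_right hvw)))
  have := Nat.card_le_card_of_injective _ inj
  have h2 := Finite.one_lt_card (α := T.k)
  rw [Nat.card_prod] at this
  nlinarith

/-- independence of `t^#`, `t × c`, `c^#` -/
theorem ind3 {t c x y z : K} (h : T.wg t c ≠ 0) (hx : T.σ x = x) (hy : T.σ y = y) (hz : T.σ z = z)
    (e : x * T.sh t + y * T.cr t c + z * T.sh c = 0) : x = 0 ∧ y = 0 ∧ z = 0 := by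
  have n := T.nm_eq_zero.not.2 h
  have k : ∀ r, T.tr ((x * T.sh t + y * T.cr t c + z * T.sh c) * r) = 0 := fun r => by simp [e]
  have k1 := k (T.wg (T.cr t c) (T.sh c))
  have k2 := k (T.wg (T.sh c) (T.sh t))
  have k3 := k (T.wg (T.sh t) (T.cr t c))
  refine ⟨mul_right_cancel₀ n ?_, mul_right_cancel₀ n ?_, mul_right_cancel₀ n ?_⟩ <;>
    simp only [CF.tr, CF.nm, CF.sh, CF.cr, CF.wg, map_add, map_mul, map_sub, T.cube, hx, hy, hz] at k1 k2 k3 ⊢
  · linear_combination k1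
  · linear_combination k2
  · linear_combination k3

theorem frE (h : Bw p (zA T) 0 E M β u) {s : Co T} : s ∈ E ↔ cm s (β u) = 1 := (h.fr s).trans mem_bot

theorem cen0 (h : Bw p (zA T) 0 E M β u) {s m : Co T} (hs : s ∈ E) (hm : m ∈ M) : cm s m = 1 :=
  mem_bot.1 ((h.q.cen s).1 hs m hm)

theorem Z_E (h : Bw p (zA T) 0 E M β u) : sZ T ≤ E := h.q.le.trans h.q.ME

theorem w_nZ (h : Bw p (zA T) 0 E M β u) : β u ∉ sZ T := fun k =>
  h.q.ne (eq_top_iff.2 fun s _ => (frE h).2 (cm_one s k))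

theorem sq1 [Fact p.Prime] [CharP K p] (h : Bw p (zA T) 0 E M β u) (two : (2 : K) = 0) : β u * β u = 1 := by
  obtain rfl : p = 2 := (Nat.prime_dvd_prime_iff_eq Fact.out Nat.prime_two).1
    ((CharP.cast_eq_zero_iff K p 2).1 (by exact_mod_cast two))
  rw [← pow_two]
  exact mem_bot.1 (h.q.pw _ h.wM)

/-! ### `w ∈ Q₁` -/

theorem caseA1 (h : Bw p (zA T) 0 E M β u) (ha : (β u).a = 0) (hE : E ≤ sQ1 T) : False := by
  obtain ⟨r, v, h1, h2, h3⟩ : ∃ r v, T.tr (r * (β u).d) = 0 ∧ T.tr ((β u).c * v) = 0 ∧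
      T.tr (r * v) = (-u.gk : T.k) := by
    by_cases hc : (β u).c = 0
    · obtain ⟨r, hr, hr'⟩ := T.exists_perp (β u).d
      obtain ⟨v, hv⟩ := T.exists_tr hr (-u.gk)
      exact ⟨r, v, by rwa [mul_comm], by simp [hc], hv⟩
    · obtain ⟨r, r', hr, hr', hw⟩ := T.exists_perp2 (β u).d
      obtain ⟨r, hr, hw⟩ : ∃ r, T.tr ((β u).d * r) = 0 ∧ T.wg (β u).c r ≠ 0 := by
        by_contra hn
        push Not at hn
        obtain ⟨l, rfl⟩ := T.wg_eq_zero hc (hn r hr)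
        obtain ⟨l', rfl⟩ := T.wg_eq_zero hc (hn r' hr')
        exact hw (by simp only [CF.wg, map_mul, CF.σ_k]; ring)
      obtain ⟨v, hv, hv'⟩ := T.exists_tr2 hw 0 (-u.gk)
      exact ⟨r, v, by rwa [mul_comm], by simpa using hv, hv'⟩
  have m1 : xc T r ∈ E := (frE h).2 (eq_of_Z (cm_Q1 rfl ha) (one_mem _) (by rw [cm_g1 rfl ha]; simp [xc, h1]))
  have m2 : xd T v ∈ E := (frE h).2 (eq_of_Z (cm_Q1 rfl ha) (one_mem _) (by rw [cm_g1 rfl ha]; simp [xd, h2]))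
  refine w_nZ h ?_
  rw [eq_of_Z (w := cm (xc T r) (xd T v)) h.hu (cm_Q1 rfl rfl) (by
    rw [cm_g1 rfl rfl]; simp [xc, xd, h3]), h.ok.1.cm m1 m2]
  exact cm_Q1 (hE (h.ok.1.mem _ m1)) (hE (h.ok.1.mem _ m2))

theorem caseA2 [Fact p.Prime] [CharP K p] (h : Bw p (zA T) 0 E M β u) (ha : (β u).a = 0)
    (hb : (β u).b = 0) (hc : (β u).c ≠ 0) : E ≤ sQ1 T := fun s hs => by
  by_contra hs'
  have hs' : s.a ≠ 0 := hs'
  have e := (frE h).1 hs
  have e1 := congrArg Co.d e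
  have e2 := congrArg Co.e e
  simp [cm_d, ha, hb] at e1
  obtain ⟨k, l, hl⟩ := T.cr_eq_zero hs' e1
  have two : (2 : K) = 0 := by_contra fun n => hc (k n)
  have e3 := congrArg Co.g (sq1 h two)
  simp only [cm_e, ha, hb, hl, Co.mul_g, Co.one_e, Co.one_g] at e2 e3
  have e4 : (l : K) ^ 2 * T.nm s.a = 0 := by
    simp only [CF.tr, CF.nm, CF.sh, CF.cr, map_add, map_mul, map_zero, T.cube, CF.σ_k] at e2 e3 ⊢
    linear_combination e3 + l * e2 - ((β u).g + l ^ 2 * s.a * T.σ s.a * T.σ (T.σ s.a)) * two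
  have hl' : (l : K) ≠ 0 := fun e => hc (by rw [hl, e, zero_mul])
  simp [hl', hs'] at e4

theorem caseA3 (h : Bw p (zA T) 0 E M β u) (hw : β u ∈ sZ3 T) : β u ∈ sW T := by
  by_contra hd
  have hd : (β u).d ≠ 0 := fun e => hd ⟨hw.1, hw.2.1, hw.2.2, e⟩
  obtain ⟨r, hr⟩ := T.exists_tr hd (β u).ek
  obtain ⟨t, t', ht, ht', hn⟩ := na (T := T) (β u).d
  have m1 : ∀ t, T.tr (t * (β u).d) = 0 → xa T t ∈ E := fun t ht => (frE h).2
    (eq_W (cm_W _ hw) (one_mem _) (by simp [cm_e3 _ hw, xa, ht]) (by simp [cm_g3 _ hw, xa]))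
  have m2 : ∀ l : T.k, w1 T l (l * r) 0 0 ∈ E := fun l => (frE h).2
    (eq_W (cm_W _ hw) (one_mem _) (by simp [cm_e3 _ hw, w1]) (by
      simp only [cm_g3 _ hw, w1, Co.one_g]
      rw [mul_assoc, T.tr_k, mul_comm r, hr]; simp))
  let l : T.k := -u.gk / (T.trk (T.sh t * t') + T.trk (t * T.sh t'))
  have h3 : cm (xa T t') (cm (xa T t) (w1 T 1 ((1 : T.k) * r) 0 0)) ∈ sZ3 T := cm_Z3 _ (cm_Z4 _ _)
  have e : u = cm (w1 T l (l * r) 0 0) (cm (xa T t') (cm (xa T t) (w1 T 1 ((1 : T.k) * r) 0 0))) := by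
    refine eq_of_Z h.hu (cm_Q1 rfl h3.1) ?_
    have hl : u.g = -l * (T.tr (T.sh t * t') + T.tr (t * T.sh t')) := by
      simp only [l]; push_cast [CF.coe_trk, Co.coe_gk]; field_simp
    rw [cm_g3 _ h3, hl, cm_e, cm_d, cm_d, cm_c]
    simp only [xa, w1, cm_a, cm_b, CF.tr, CF.nm, CF.sh, CF.cr, map_add, map_mul, map_sub, map_zero, map_one,
      T.cube, CF.σ_k, OneMemClass.coe_one]
    ring
  apply hd
  rw [e, h.ok.1.cm (m2 _) (cm_mem (m1 _ ht') (cm_mem (m1 _ ht) (m2 _))),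
    h.ok.1.cm (m1 _ ht') (cm_mem (m1 _ ht) (m2 _)), h.ok.1.cm (m1 _ ht) (m2 _)]
  exact (cm_W _ (cm_Z3 _ (cm_Z4 _ _))).2.2.2

theorem caseA4 (h : Bw p (zA T) 0 E M β u) (hw : β u ∈ sW T) : E = sQ2 T := by
  have he : (β u).e ≠ 0 := fun e => w_nZ h ⟨hw.1, hw.2.1, hw.2.2.1, hw.2.2.2, e⟩
  refine le_antisymm (fun s hs => ?_) fun s hs => (frE h).2 (cm_Q2_W hs hw)
  have e := congrArg Co.g ((frE h).1 hs)
  simpa [cm_g3 _ (W_le hw), hw.2.2.2, he, mem_sQ2] using e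

/-! ### `w ∈ Q₂ ∖ Q₁` -/

theorem B_le (h : Bw p (zA T) 0 E M β u) (ha : (β u).a ≠ 0) (hb : (β u).b = 0) : E ≤ sQ2 T := fun s hs => by
  have e := congrArg Co.c ((frE h).1 hs)
  simpa [cm_c, ha, hb, mem_sQ2] using e

theorem B_W (h : Bw p (zA T) 0 E M β u) (hb : (β u).b = 0) : sW T ≤ E := fun s hs =>
  (frE h).2 (cm_sw (cm_Q2_W hb hs))

theorem B_nor (h : Bw p (zA T) 0 E M β u) (hb : (β u).b = 0) : sZ3 T ≤ normalizer (E : Set (Co T)) :=
  fun s hs => mem_nor fun x _ => B_W h hb (cm_W' hs x)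

theorem xd_Z3 (v : K) : xd T v ∈ sZ3 T := ⟨rfl, rfl, rfl⟩

theorem xd_e (v : K) (m : Co T) : (cm (xd T v) m).e = T.tr (m.a * v) := cm_e3' (xd_Z3 v) m

theorem xd_g (v : K) {m : Co T} (h : m.b = 0) : (cm (xd T v) m).g = T.tr (m.c * v) := by
  rw [cm_g3' (xd_Z3 v), h, zero_mul, sub_zero]; rfl

theorem caseB1 [Fact p.Prime] [CharP K p] (h : Bw p (zA T) 0 E M β u) (ha : (β u).a ≠ 0) (hb : (β u).b = 0)
    {l : T.k} (hc : (β u).c = l * (β u).a) : False := by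
  have hE := B_le h ha hb
  have key : ∀ s ∈ E, s.c = l * s.a := fun s hs => by
    have sb : s.b = 0 := hE hs
    have e := (frE h).1 hs
    have e1 := congrArg Co.d e
    have e2 := congrArg Co.e e
    have e3 := congrArg Co.g e
    rw [cm_g2 sb hb] at e3
    simp only [cm_d, cm_e, sb, hb, hc, Co.one_d, Co.one_e, Co.one_g] at e1 e2 e3
    obtain ⟨k, m, hm⟩ := T.cr_eq_zero (y := s.c - l * s.a) ha (by
      simp only [CF.cr, map_sub, map_mul, CF.σ_k] at e1 ⊢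
      linear_combination e1)
    by_cases two : (2 : K) = 0
    · have e4 := congrArg Co.e (sq1 h two)
      simp only [Co.mul_e, hb, hc, Co.one_e] at e4
      have hm' : s.c = l * s.a + m * (β u).a := by linear_combination hm
      have e5 : (m : K) ^ 2 * T.nm (β u).a = 0 := by
        rw [hm'] at e2 e3
        simp only [CF.tr, CF.nm, CF.sh, CF.cr, map_add, map_mul, map_zero, T.cube, CF.σ_k] at e2 e3 e4 ⊢
        linear_combination e3 - l * e2 + m * e4 +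
          (-m * (β u).e + (2 * m ^ 2 - 3 * l * m) * (β u).a * T.σ (β u).a * T.σ (T.σ (β u).a)) * two
      have e6 : (m : K) = 0 := by simpa [ha] using e5
      rw [hm', e6, zero_mul, add_zero]
    · exact sub_eq_zero.1 (k two)
  have ex : ∀ a, ∃ s ∈ E, s.a = a := fun a => by
    obtain ⟨v, hv⟩ := T.exists_tr ha (T.trk (a * (β u).d) - T.trk (T.sh (β u).a * (l * a)) +
      T.trk (l * a * T.cr (β u).a a) - T.trk (T.sh a * (l * (β u).a)))
    push_cast [CF.coe_trk] at hv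
    refine ⟨w2 T a (l * a) v, (frE h).2 (eq_Z3 (cm_Q2 rfl hb) (one_mem _) ?_ ?_ ?_), rfl⟩
    · simp only [cm_d, w2, hb, hc, Co.one_d, CF.cr, map_mul, CF.σ_k]; ring
    · simp only [cm_e, w2, hb, hc, Co.one_e]; linear_combination hv
    · rw [cm_g2 rfl hb]
      simp only [w2, hc, Co.one_g, CF.tr, CF.nm, CF.sh, CF.cr, map_add, map_mul, T.cube, CF.σ_k] at hv ⊢
      linear_combination l * hv
  obtain ⟨v, hv⟩ := T.exists_tr ha 1
  obtain ⟨v', hv0, hv'⟩ := T.exists_perp (β u).a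
  have m1 : xd T v' ∈ E := (frE h).2 (eq_W (cm_W' (xd_Z3 _) _) (one_mem _)
    (by simp [xd_e, hv']) (by simp [xd_g _ hb, hc, mul_assoc, T.tr_k, hv']))
  have hX : ⁅E, E⁆ ≤ sZ3 T := H90.U5.commutator_le_of_cm fun s hs m hm => cm_Q2 (hE hs) (hE hm)
  have k := h.q.red ⁅E, E⁆ bot_le (commutator_le_self E)
    (fun γ hγ => H90.RF.Pr.commutator hγ.1 le_rfl le_rfl hγ.1.mem hγ.1.mem) (xd T v) (B_nor h hb (xd_Z3 v))
    (fun m hm => ?_) fun m _ hm => mem_bot.2 (cm_Z3_Z3 (xd_Z3 v) (hX hm))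
  · have e := congrArg Co.e ((frE h).1 k)
    simp [xd_e, hv] at e
  · obtain ⟨a, ha'⟩ := T.exists_tr hv0 (T.trk (m.a * v))
    obtain ⟨s, hs, rfl⟩ := ex a
    rw [CF.coe_trk, mul_comm] at ha'
    have sb : s.b = 0 := hE hs
    have mb : m.b = 0 := hE (h.q.ME hm)
    rw [eq_W (y := cm (xd T v') s) (cm_W' (xd_Z3 _) _) (cm_W' (xd_Z3 _) _)
      (by simp [xd_e, ha'])
      (by simp [xd_g _ sb, xd_g _ mb, ha', key s hs, key m (h.q.ME hm), mul_assoc, T.tr_k])]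
    exact H90.U5.cm_mem_commutator m1 hs

theorem caseB2 [Fact p.Prime] [CharP K p] (h : Bw p (zA T) 0 E M β u) (ha : (β u).a ≠ 0) (hb : (β u).b = 0)
    (hc : T.wg (β u).a (β u).c ≠ 0) : False := by
  have hE := B_le h ha hb
  have two : (2 : K) ≠ 0 := fun two => by
    have e := congrArg Co.d (sq1 h two)
    simp only [Co.mul_d, hb, Co.one_d] at e
    exact hc ((T.wg_eq_cr two _ _).trans (by linear_combination e - (β u).d * two))
  have mem : ∀ s ∈ sZ3 T, s ∈ E ↔ T.tr ((β u).a * s.d) = 0 ∧ T.tr ((β u).c * s.d) = 0 := fun s hs => by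
    rw [frE h]
    refine ⟨fun e => ⟨?_, ?_⟩, fun e => eq_W (cm_W' hs _) (one_mem _) ?_ ?_⟩
    · simpa [cm_e3' hs] using congrArg Co.e e
    · simpa [cm_g3' hs, hb] using congrArg Co.g e
    · simp [cm_e3' hs, e.1]
    · simp [cm_g3' hs, hb, e.2]
  have m1 : xd T (T.wg (β u).a (β u).c) ∈ E := (mem _ (xd_Z3 _)).2 ⟨T.tr_wg _ _, T.tr_wg' _ _⟩
  have key : ∀ m ∈ M, ∃ l : T.k, m.a = l * (β u).a ∧ m.c = l * (β u).c := fun m hm => by
    have mb : m.b = 0 := hE (h.q.ME hm)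
    have e := cen0 h m1 hm
    obtain ⟨l1, l2, h1⟩ := T.span2 (x := m.a) hc (by simpa [xd_e] using congrArg Co.e e)
    obtain ⟨l3, l4, h2⟩ := T.span2 (x := m.c) hc (by simpa [xd_g _ mb] using congrArg Co.g e)
    have e1 := congrArg Co.d ((frE h).1 (h.q.ME hm))
    simp only [cm_d, mb, hb, h1, h2, Co.one_d] at e1
    obtain ⟨k1, k2, k3⟩ := ind3 (x := (2 * l3 : K)) (y := (l4 - l1 : K)) (z := -(2 * l2 : K)) hc (by simp [map_ofNat])
      (by simp) (by simp [map_ofNat]) (by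
        simp only [CF.cr, CF.sh, map_add, map_mul, CF.σ_k] at e1 ⊢
        linear_combination e1)
    have k4 : (l3 : K) = 0 := by simpa [two] using k1
    have k5 : (l2 : K) = 0 := by simpa [two] using k3
    exact ⟨l1, by rw [h1, k5, zero_mul, add_zero], by rw [h2, k4, zero_mul, zero_add, sub_eq_zero.1 k2]⟩
  choose V hV hV' using T.exists_tr2 hc
  refine h.q.no2 (B := sZ3 T) (B_nor h hb)
    (fun x hx y hy m _ => mem_bot.2 (cm_Z3_Z3 hx (W_le (cm_W' hy m)))) (xd_Z3 (V 1 0))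
    (fun k => ?_) (fun x y : T.k => xd T (V x y)) (xe T) (fun _ _ => xd_Z3 _) (fun x y x' y' k => ?_)
    fun m hm => ?_
  · simpa [xd, hV] using ((mem _ (xd_Z3 _)).1 k).1
  · obtain ⟨e1, e2⟩ := (mem _ (mul_mem (inv_mem (xd_Z3 _)) (xd_Z3 _))).1 k
    simp only [xd, Co.mul_d, Co.inv_d, Co.inv_c, Co.inv_b] at e1 e2
    have a1 := hV x y
    have a2 := hV x' y'
    have a3 := hV' x y
    have a4 := hV' x' y'
    simp only [CF.tr, CF.sh, CF.cr, map_add, map_mul, map_sub, map_zero, map_neg] at e1 e2 a1 a2 a3 a4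
    exact ⟨Subtype.ext (by linear_combination a2 - a1 - e1), Subtype.ext (by linear_combination a4 - a3 - e2)⟩
  · obtain ⟨l, h1, h2⟩ := key m hm
    have mb : m.b = 0 := hE (h.q.ME hm)
    refine ⟨l, mem_bot.2 (inv_mul_eq_one.2 (eq_W ⟨rfl, rfl, rfl, rfl⟩ (cm_W' (xd_Z3 _) _) ?_ ?_))⟩
    · simp [xd_e, xe, h1, mul_assoc, T.tr_k, hV]
    · simp [xd_g _ mb, xe, h2, mul_assoc, T.tr_k, hV']

/-! ### `w ∉ Q₁ ∪ Q₂` -/

theorem caseC [Fact p.Prime] [CharP K p] (h : Bw p (zA T) 0 E M β u) (ha : (β u).a ≠ 0) (hb : (β u).b ≠ 0) :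
    False := by
  have two : (2 : K) ≠ 0 := fun two => by
    have e := congrArg Co.c (sq1 h two)
    simp only [Co.mul_c, Co.one_c] at e
    exact mul_ne_zero ha hb (by linear_combination e - (β u).c * two)
  have hE : ∀ s ∈ E, ∃ m : T.k, s.a = m * (β u).a := fun s hs => by
    have e := congrArg Co.c ((frE h).1 hs)
    rw [cm_c, Co.one_c] at e
    refine ⟨s.bk / (β u).bk, ?_⟩
    push_cast [Co.coe_bk]
    field_simp
    linear_combination -e
  obtain ⟨r, r0, hr⟩ := T.exists_perp (T.sh (β u).a)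
  obtain ⟨v, hv⟩ := T.exists_tr ha (T.trk ((β u).c * T.cr (β u).a r) / (β u).bk)
  have hv' : (β u).b * T.tr ((β u).a * v) = T.tr ((β u).c * T.cr (β u).a r) := by
    rw [hv]; push_cast [CF.coe_trk, Co.coe_bk]; field_simp
  have hcr : T.cr (β u).a r ≠ 0 := fun e => r0 ((T.cr_eq_zero ha e).1 two)
  have n4 : ∀ x y : T.k, w1 T 0 (x * r) (x * v) y ∈ sZ4 T := fun _ _ => ⟨rfl, rfl⟩
  have nd : ∀ (x y m : T.k) (s : Co T), s.a = m * (β u).a →
      (cm (w1 T 0 (x * r) (x * v) y) s).d = m * x * T.cr (β u).a r := fun x y m s e => by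
    simp only [cm_d, w1, e, CF.cr, CF.sh, map_mul, map_zero, CF.σ_k, ZeroMemClass.coe_zero]; ring
  have ne : ∀ (x y m : T.k) (s : Co T), s.a = m * (β u).a →
      (cm (w1 T 0 (x * r) (x * v) y) s).e = m * x * T.tr ((β u).a * v) := fun x y m s e => by
    simp only [cm_e, w1, e, CF.tr, CF.cr, CF.sh, CF.nm, map_add, map_mul, map_zero, CF.σ_k, T.cube,
      ZeroMemClass.coe_zero] at hr ⊢
    linear_combination m ^ 2 * x * hr
  have hN : ∀ x y : T.k, w1 T 0 (x * r) (x * v) y ∈ normalizer (E : Set (Co T)) := fun x y =>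
    mem_nor fun s hs => by
      obtain ⟨m, hm⟩ := hE s hs
      have h3 := cm_Z3' (n4 x y) s
      have e : T.tr ((β u).a * (m * x * T.cr (β u).a r)) = 0 := by
        rw [mul_left_comm, T.tr_fix (by simp), T.tr_cr_self, hr]; simp
      refine (frE h).2 (eq_W (cm_W' h3 _) (one_mem _) ?_ ?_)
      · rw [cm_e3' h3, nd x y m s hm, e, Co.one_e]
      · rw [cm_g3' h3, nd x y m s hm, ne x y m s hm, e, mul_left_comm, T.tr_fix (by simp), ← hv', Co.one_g]
        ring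
  let F : T.k → T.k → Co T := fun x y =>
    ⟨0, 0, 0, x * T.cr (β u).a r, x * T.tr ((β u).a * v), y, by simp, by simp, by simp⟩
  have F3 : ∀ x y, F x y ∈ sZ3 T := fun _ _ => ⟨rfl, rfl, rfl⟩
  have hF : ∀ x y, ∃ n ∈ normalizer (E : Set (Co T)), cm n (β u) = F x y := fun x y => by
    refine ⟨_, hN x (((cm (w1 T 0 (x * r) (x * v) 0) (β u)).gk - y) / (β u).bk),
      eq_Z3 (cm_Z3' (n4 _ _) _) (F3 x y) ?_ ?_ ?_⟩
    · rw [nd x _ 1 _ (by simp)]; simp [F]
    · rw [ne x _ 1 _ (by simp)]; simp [F]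
    · have e : ∀ z : T.k, (cm (w1 T 0 (x * r) (x * v) z) (β u)).g =
          (cm (w1 T 0 (x * r) (x * v) 0) (β u)).g - (β u).b * z := fun z => by
        simp only [cm_g, w1, ZeroMemClass.coe_zero]; ring
      rw [e]
      push_cast [Co.coe_gk, Co.coe_bk]
      simp only [F]
      field_simp
      ring
  have sub : ∀ x y x' y', (F x y)⁻¹ * F x' y' = F (x' - x) (y' - y) := fun x y x' y' => by
    ext <;> simp [F] <;> ring
  refine h.no3 (s := xe T 1) (mem_nor fun x _ => Z_E h (cm_Zl ⟨rfl, rfl, rfl, rfl⟩ x)) (fun k => ?_) F (xg T)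
    (fun x y x' y' => ?_) (fun x y x' y' k => ?_) (fun x y => ?_) fun m _ => ?_
  · have e := congrArg Co.g ((frE h).1 k)
    rw [cm_g3' ⟨rfl, rfl, rfl⟩] at e
    simp [xe, hb] at e
  · obtain ⟨n, hn, e⟩ := hF (x' - x) (y' - y)
    exact ⟨n, hn, by rw [sub, e, inv_mul_cancel]; exact one_mem _⟩
  · rw [sub] at k
    have e := mem_bot.1 k
    have e1 := congrArg Co.d e
    have e2 := congrArg Co.g e
    simp only [F, Co.one_d, Co.one_g] at e1 e2
    exact ⟨(sub_eq_zero.1 (Subtype.ext ((mul_eq_zero.1 e1).resolve_right hcr))).symm,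
      (sub_eq_zero.1 (Subtype.ext e2)).symm⟩
  · obtain ⟨n, hn, e⟩ := hF x y
    exact e ▸ h.nM n hn _ h.wM
  · exact ⟨_, mem_bot.2 (inv_mul_eq_one.2 (eq_xg (cm_Zl ⟨rfl, rfl, rfl, rfl⟩ m)).symm)⟩

theorem jobL0 : JobL0.{v} := by
  intro p _ K _ _ _ T E M β u h
  by_cases ha : (β u).a = 0
  · by_cases hb : (β u).b = 0
    · by_cases hc : (β u).c = 0
      · exact caseA4 h (caseA3 h ⟨ha, hb, hc⟩)
      · exact (caseA1 h ha (caseA2 h ha hb hc)).elim
    · refine (caseA1 h ha fun s hs => ?_).elim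
      have e := congrArg Co.c ((frE h).1 hs)
      simpa [cm_c, ha, hb, mem_sQ1] using e
  · by_cases hb : (β u).b = 0
    · by_cases hc : T.wg (β u).a (β u).c = 0
      · obtain ⟨l, hl⟩ := T.wg_eq_zero ha hc
        exact (caseB1 h ha hb hl).elim
      · exact (caseB2 h ha hb hc).elim
    · exact (caseC h ha hb).elim

end H18.D3L0
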