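import Cfsg.Agent.H20.DGSpec

/-! # S3579, tower DG: job NN (non-trivial normal subgroups are transitive) -/

set_option autoImplicit false

namespace H18.DG

open Subgroup MulAction Cfsg H98 H20.DG

universe u v

section kit

variable {G : Type u} {Ω : Type v} [Group G] [MulAction G Ω]

theorem relIndex_sup_stab (M : Subgroup G) [M.Normal] (a : Ω) :
    (stabilizer G a).relIndex (M ⊔ stabilizer G a) = (stabilizer G a).relIndex M := by
  rw [← ncard_Ob, ← ncard_Ob]
  congr 1
  ext b
  constructor
  · rintro ⟨g, hg, rfl⟩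
    obtain ⟨y, hy, z, hz, rfl⟩ := mem_sup_of_normal_left.1 hg
    exact ⟨y, hy, by rw [mul_smul, mem_stabilizer_iff.1 hz]⟩
  · rintro ⟨g, hg, rfl⟩
    exact ⟨g, mem_sup_left hg, rfl⟩

theorem relIndex_const (M : Subgroup G) [hM : M.Normal] (g : G) (a : Ω) :
    (stabilizer G (g • a)).relIndex M = (stabilizer G a).relIndex M := by
  have e : cj g M = M := by
    ext x
    rw [mem_cj]
    constructor
    · intro h
      have := hM.conj_mem _ h g
      simpa [mul_assoc] using this
    · intro h
      simpa using hM.conj_mem _ h g⁻¹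
  rw [← cj_stab]
  conv_lhs => rw [← e]
  exact relIndex_map_map_of_injective _ _ (MulAut.conj g).injective

end kit

theorem jobNN : JobNN.{u, v} := by
  intro na ns G Ω _ _ _ _ p q M P h hlt hM hM1 hP a b
  by_contra hab
  have : Fact p.Prime := ⟨h.pp⟩
  have : Fact q.Prime := ⟨h.qq⟩
  have hq3 := h.symm.three
  have hp3 := h.three
  set s := (stabilizer G a).relIndex M with hs
  have hc : ∀ ω : Ω, (stabilizer G ω).relIndex M = s := fun ω => by
    obtain ⟨g, rfl⟩ := h.trans a ω
    exact relIndex_const M g a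
  have hB : ∀ ω : Ω, s * (M ⊔ stabilizer G ω).index = 2 * p * q := fun ω => by
    rw [← hc ω, ← relIndex_sup_stab, relIndex_mul_index le_sup_right, h.index]
  have hs1 : s ≠ 1 := fun e => hM1 (eq_bot_iff.2 fun g hg => mem_bot.2 (h.faith g fun ω =>
    mem_stabilizer_iff.1 (relIndex_eq_one.1 ((hc ω).trans e) hg)))
  have hlt' : s < 2 * p * q := by
    rw [hs, ← ncard_Ob, ← h.card, ← Set.ncard_univ]
    refine Set.ncard_lt_ncard (Set.ssubset_univ_iff.2 fun e => hab ?_)
    have : b ∈ Ob M a := e ▸ Set.mem_univ b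
    exact this
  have hle : s ≤ p * q := by
    have h1 := hB a
    have h2 : 2 ≤ (M ⊔ stabilizer G a).index := by
      by_contra h3
      have h4 : (M ⊔ stabilizer G a).index = 0 ∨ (M ⊔ stabilizer G a).index = 1 := by omega
      rcases h4 with h4 | h4
      · exact index_ne_zero_of_finite h4
      · rw [h4] at h1; omega
    nlinarith
  have hpq : p * q < p ^ 2 := by rw [pow_two]; exact Nat.mul_lt_mul_of_pos_left hlt h.pp.pos
  have hd : s ∣ 2 * p * q := Dvd.intro _ (hB a)
  have hrel : ∀ (A : Subgroup G), A ≤ M → ∀ ω : Ω, (stabilizer G ω).relIndex A ≤ s :=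
    fun A hA ω => (relIndex_le_of_le_right hA index_ne_zero_of_finite).trans (hc ω).le
  by_cases h1 : p ∣ s
  · obtain ⟨A, hA⟩ := exists_isSyl p M
    obtain ⟨o, w, t⟩ := ns G Ω p M A h.pp h.trans hM hA fun ω =>
      ⟨by rw [hc]; exact h1, (hrel A hA.le ω).trans_lt (hle.trans_lt hpq)⟩
    exact na G Ω p q A h hA.isPGroup o w t
  have hcp : Nat.Coprime s p := ((Nat.Prime.coprime_iff_not_dvd h.pp).2 h1).symm
  have hd2 : s ∣ 2 * q := by
    refine hcp.dvd_of_dvd_mul_right ?_
    rwa [show 2 * q * p = 2 * p * q by ring]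
  by_cases h2 : q ∣ s
  · obtain ⟨A, hA⟩ := exists_isSyl q M
    have h3 : s < q ^ 2 := by
      have := Nat.le_of_dvd (by omega) hd2
      nlinarith
    obtain ⟨o, w, t⟩ := ns G Ω q M A h.qq h.trans hM hA fun ω =>
      ⟨by rw [hc]; exact h2, (hrel A hA.le ω).trans_lt h3⟩
    exact na G Ω q p A h.symm hA.isPGroup o w t
  have hcq : Nat.Coprime s q := ((Nat.Prime.coprime_iff_not_dvd h.qq).2 h2).symm
  have hs2 : s = 2 :=
    ((Nat.dvd_prime Nat.prime_two).1 (hcq.dvd_of_dvd_mul_right hd2)).resolve_left hs1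
  obtain ⟨o, w, t⟩ := ns G Ω p ⊤ P h.pp h.trans inferInstance hP fun ω => by
    refine ⟨by rw [relIndex_top_right, h.index]; exact Dvd.intro_left 2 rfl |>.mul_right q, ?_⟩
    set B := M ⊔ stabilizer G ω with hBd
    have i1 : B.index = p * q := by
      have := hB ω
      rw [hs2, mul_assoc] at this
      exact Nat.eq_of_mul_eq_mul_left two_pos this
    have i2 : (stabilizer G ω).relIndex (P ⊓ B) ≤ 2 := by
      refine (relIndex_le_of_le_right inf_le_right index_ne_zero_of_finite).trans ?_
      rw [hBd, relIndex_sup_stab, hc, hs2]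
    have i3 : P ⊓ B ≤ stabilizer G ω := by
      have hp : IsPGroup p ↥(P ⊓ B) := hP.isPGroup.to_inf_left
      obtain ⟨n, hn⟩ := hp.index ((stabilizer G ω).subgroupOf (P ⊓ B))
      rw [← relIndex_eq_one]
      change (stabilizer G ω).relIndex (P ⊓ B) = _ at hn
      rw [hn] at i2 ⊢
      rcases n with _ | n
      · rfl
      · exfalso
        have : p ≤ p ^ (n + 1) := Nat.le_self_pow (by omega) p
        omega
    have i4 : (stabilizer G ω).relIndex P = B.relIndex P := by
      rw [← inf_relIndex_right, ← inf_relIndex_right B]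
      congr 1
      exact le_antisymm (inf_le_inf_right _ le_sup_right)
        (le_inf ((inf_comm B P).le.trans i3) inf_le_right)
    rw [i4]
    refine lt_of_le_of_lt ?_ hpq
    rw [← i1, ← relIndex_top_right]
    exact relIndex_le_of_le_right le_top index_ne_zero_of_finite
  exact na G Ω p q P h hP.isPGroup o w t

end H18.DG
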