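import Cfsg.Agent.H96.U2CenSpec

/-! # S3275, chapter U2F central case: job TVg -/

set_option autoImplicit false

namespace H18.Cen

open Subgroup Cfsg H98 H48.DP H96.U2I H96.Cen
open scoped commutatorElement

universe u

theorem commute_of_comm {G : Type u} [Group G] {f c w : G} (h3 : f ^ 3 = 1) (hw : ⁅f, c⁆ = w)
    (hc : Commute f w) (ww : w * w = 1) : Commute c f := by
  have e1 : f * c * f⁻¹ = w * c := by rw [← hw, commutatorElement_def]; group
  have e2 : f * w * f⁻¹ = w := by rw [hc.eq]; group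
  have e3 : (f * f) * c * (f * f)⁻¹ = c := by
    calc (f * f) * c * (f * f)⁻¹ = f * (f * c * f⁻¹) * f⁻¹ := by group
      _ = f * (w * c) * f⁻¹ := by rw [e1]
      _ = (f * w * f⁻¹) * (f * c * f⁻¹) := by group
      _ = c := by rw [e1, e2, ← mul_assoc, ww, one_mul]
  have e4 : Commute c (f * f) := by
    show c * (f * f) = (f * f) * c
    conv_lhs => rw [← e3]
    group
  have e5 : f = (f * f) * (f * f) := by
    calc f = f ^ 3 * f := by rw [h3, one_mul]
      _ = (f * f) * (f * f) := by rw [pow_succ, pow_two]; group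
  rw [e5]
  exact e4.mul_right e4

theorem jobTVg : JobTVg.{u} := by
  intro ol trl G _ _ M M0 Q Q0 F U z a c h aM aa tv
  obtain ⟨W, _, _, s, hn, two, -, -, hno, -, hmd⟩ := trl G M M0 Q Q0 F U z h
  obtain ⟨cz, ⟨b, hb, hbc⟩, hall⟩ := tv
  have an := hn aM
  have hFn : F ≤ nn U (zpowers z) := h.FM.trans hn
  have cU : c ∈ U := hbc ▸ Sec.cmem an hb
  have key : ∀ x ∈ U, s.α a • s.ψ x = s.ψ x + s.ψ ⁅a, x⁆ := fun x hx => by
    rw [← s.dl_ψ an hx, H96.dl_apply]; abel
  have h3 : IsPGroup 3 (s.bar F) := (hmd ⊥ bot_le (fun a ha => by rw [mem_bot.1 ha, one_mul])).1.F3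
  have hol := (ol W (s.bar F) (s.α a) ⊤ (s.ψ c) two h3
    (by rw [← s.α_mul an an, aa, s.α_one]) (hno a aM) (fun _ _ _ _ => AddSubgroup.mem_top _)
    (AddSubgroup.mem_top _) (fun e => cz ((s.ker c cU).1 e))
    ⟨s.ψ b, AddSubgroup.mem_top _, by rw [key b hb, hbc]⟩ (fun p _ => by
      obtain ⟨x, hx, rfl⟩ := s.surj p
      have hxU : ⁅a, x⁆ ∈ U := Sec.cmem an hx
      rcases hall x hx with h1 | h1
      · left; rw [key x hx, (s.ker _ hxU).2 h1, add_zero]
      · right
        have h2 := (s.ker _ (mul_mem hxU cU)).2 h1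
        rw [s.mul _ hxU _ cU] at h2
        rw [key x hx]
        congr 1
        rw [eq_neg_of_add_eq_zero_left h2, neg_eq_iff_add_eq_zero, two])).2
  obtain ⟨B, hBF, hB, hc⟩ := h.e27
  set N := nn U (zpowers z) with hN
  set K : Subgroup N := (MulAction.stabilizer (Au W) (s.ψ c)).comap s.π with hK
  have i1 : K.relIndex (F.subgroupOf N) ≤ 3 := by
    rw [hK, relIndex_comap]; exact hol
  have i2 : K.relIndex (B.subgroupOf N) ≤ 3 :=
    (relIndex_le_of_le_right (subgroupOf_mono _ hBF) index_ne_zero_of_finite).trans i1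
  have i3 := card_mul_index (K.subgroupOf (B.subgroupOf N))
  have i4 : Nat.card (B.subgroupOf N) = Nat.card B :=
    Nat.card_congr (subgroupOfEquivOfLe (hBF.trans hFn)).toEquiv
  have i5 : Nat.card (K.subgroupOf (B.subgroupOf N)) = Nat.card ↥(K ⊓ B.subgroupOf N) := by
    rw [← inf_subgroupOf_right K (B.subgroupOf N)]
    exact Nat.card_congr (subgroupOfEquivOfLe inf_le_right).toEquiv
  have hle : (K ⊓ B.subgroupOf N).map N.subtype ≤ B := by
    rintro _ ⟨f, hf, rfl⟩; exact hf.2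
  refine ⟨(K ⊓ B.subgroupOf N).map N.subtype, hle.trans hBF, ⟨?_, fun f hf => hB.2 f (hle hf)⟩,
    ?_, ?_⟩
  · refine ⟨⟨fun x y => Subtype.ext ?_⟩⟩
    have := hB.1.1.1 ⟨x, hle x.2⟩ ⟨y, hle y.2⟩
    have h5 : (x : G) * y = y * x := congrArg Subtype.val this
    exact h5
  · rw [card_map_of_injective N.subtype_injective, ← i5]
    change _ * K.relIndex (B.subgroupOf N) = _ at i3
    rw [i4] at i3
    by_contra hlt
    have : Nat.card (K.subgroupOf (B.subgroupOf N)) * K.relIndex (B.subgroupOf N) ≤ 8 * 3 :=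
      Nat.mul_le_mul (by omega) i2
    omega
  · rintro _ ⟨f, hf, rfl⟩
    have hfB : (f : G) ∈ B := hf.2
    have h1 : s.α f • s.ψ c = s.ψ c := by rw [s.α_coe]; exact hf.1
    have h2 : ⁅(f : G), c⁆ ∈ zpowers z := (s.smul_eq_iff f.2 cU).1 h1
    have h4 : Commute (f : G) ⁅(f : G), c⁆ := by
      obtain ⟨n, hn'⟩ := h2
      rw [← hn']
      exact (h.zM f (h.FM (hBF hfB))).zpow_right n
    exact mem_centralizer_singleton_iff.2
      (commute_of_comm (hB.2 f hfB) rfl h4 (h.el _ (s.le h2))).symm.eq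

end H18.Cen
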