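import Cfsg.Agent.H82.FSSpec3
import Cfsg.Agent.H52.FSRedB

/-! Tower FS, job Lift: from the central quotient back to the cover. -/

set_option autoImplicit false

namespace H18.FSLift

open Subgroup H82.FS H52.FSRedB
open H98 hiding cj
open scoped commutatorElement

universe u

variable {G H : Type u} [Group G] [Group H] {π : G →* H} {p : ℕ} {A : Subgroup G}

theorem cenA [Finite G] (hk : π.ker = center G) (hL : Lin p 2 A) (hi : Iso A) {c : G}
    (hc : π c ∈ centralizer ((A.map π : Subgroup H) : Set H)) : c ∈ centralizer (A : Set G) := by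
  have e : (cj c A).map π = cj (π c) (A.map π) := map_cj π c A
  exact hi (cj_eq_iff.1 (pt hL (le_sup_of hk (e.trans (cj_eq_of_cen hc)).le)))

theorem span [Finite G] (hs : Function.Surjective π) (hk : π.ker = center G) {X : Subgroup H}
    (hR : Sp 2 (A.map π) X) :
    Sp 2 A ⁅X.comap π, A⁆ ∧ (⁅X.comap π, A⁆ : Subgroup G).map π = X := by
  have := Fact.mk Nat.prime_two
  have e := map_comap_eq_self_of_surjective hs X
  set W := X.comap π with hW
  have aW : A ≤ normalizer (W : Set G) :=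
    (le_comap_map π A).trans (comap_le_normalizer_comap π hR.2.1)
  obtain ⟨S, hS⟩ := exists_isSyl 2 W
  have e1 : S.map π = X := by
    have := hS.map π
    rw [e] at this
    exact this.eq_of_isPGroup hR.1
  have wS : W ≤ normalizer (S : Set G) := (le_sup_of hk (e.trans e1.symm).le).trans
    (sup_le le_normalizer ((center_le_centralizer _).trans (centralizer_le_normalizer _)))
  have aS : A ≤ normalizer (S : Set G) := fun a ha => by
    obtain ⟨x, hx, e2⟩ := hS.exists_cj_eq (hS.cj_of_mem_normalizer (aW ha))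
    rw [cj_eq_self (wS hx)] at e2
    exact cj_eq_self_iff.1 e2.symm
  have e2 : (⁅W, A⁆ : Subgroup G).map π = X := by rw [map_commutator, e, hR.2.2]
  exact ⟨⟨hS.isPGroup.to_le ((comm_le hk A (e.trans e1.symm).le).trans
    (commutator_le_left' aS)), le_normalizer_commutator aW le_normalizer,
    le_antisymm (commutator_mono (commutator_le_left' aW) le_rfl)
      (comm_le hk A (e.trans e2.symm).le)⟩, e2⟩

theorem main [Finite G] [Finite H] (hs : Function.Surjective π) (hk : π.ker = center G)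
    {X : Subgroup H} (hU : Uni p 2 A) (han : An A) (hi : Iso A)
    (sol : ∀ R, Sp 2 A R → Cls 2 A R) (hB : BlkF 2 (A.map π)) (hX : Blk 2 (A.map π) X)
    (hC : ConjF 2 (A.map π) X) (hZ : ⁅X, X⁆ ≠ ⊥) (hN : NbF (A.map π) X) :
    ∃ Y : Subgroup G, Two p A Y ∧ Y.map π = X ∧
      normalizer (Y : Set G) = (normalizer (X : Set H)).comap π := by
  have hL := hU.lin
  obtain ⟨hsp, e2⟩ := span hs hk hX.1
  have kz : ∀ z : G, z ∈ center G ↔ π z = 1 := fun z => by rw [← hk, MonoidHom.mem_ker]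
  have dc : ∀ g : G, π g ∈ normalizer (X : Set H) →
      ∃ y ∈ (⁅X.comap π, A⁆ : Subgroup G), y⁻¹ * g ∈ centralizer (A : Set G) := fun g hg => by
    obtain ⟨y, hy, h⟩ := hC.dec _ hg
    rw [← e2] at hy
    obtain ⟨y, hy, rfl⟩ := hy
    exact ⟨y, hy, cenA hk hL hi (by rwa [map_mul, map_inv])⟩
  have nm : ∀ g : G, g ∈ normalizer ((⁅X.comap π, A⁆ : Subgroup G) : Set G) ↔
      π g ∈ normalizer (X : Set H) := fun g => by
    constructor
    · intro hg
      have := map_le_normalizer_map π (le_refl (normalizer ((⁅X.comap π, A⁆ : Subgroup G) : Set G)))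
        ⟨g, hg, rfl⟩
      rwa [e2] at this
    · intro hg
      obtain ⟨y, hy, h⟩ := dc g hg
      have h1 : π y ∈ normalizer (X : Set H) := le_normalizer (e2 ▸ ⟨y, hy, rfl⟩)
      have h2 : y⁻¹ * g ∈ normalizer ((X.comap π : Subgroup G) : Set G) :=
        comap_le_normalizer_comap π (le_refl (normalizer (X : Set H))) (by
          rw [mem_comap, map_mul, map_inv]; exact mul_mem (inv_mem h1) hg)
      have h3 : y⁻¹ * g ∈ normalizer ((⁅X.comap π, A⁆ : Subgroup G) : Set G) :=
        le_norm_comm (L := zpowers (y⁻¹ * g)) (zpowers_le.2 h2)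
          (zpowers_le.2 (centralizer_le_normalizer _ h)) (mem_zpowers _)
      have h4 := mul_mem (le_normalizer hy) h3
      rwa [mul_inv_cancel_left] at h4
  generalize (⁅X.comap π, A⁆ : Subgroup G) = Y at hsp e2 dc nm
  have ez : (⁅Y, Y⁆ : Subgroup G).map π = ⁅X, X⁆ := by rw [map_commutator, e2]
  have mz : ∀ z ∈ (⁅Y, Y⁆ : Subgroup G), π z ∈ (⁅X, X⁆ : Subgroup H) := fun z hz =>
    ez ▸ ⟨z, hz, rfl⟩
  have mcj : ∀ g z : G, π (g * z * g⁻¹) = π g * π z * (π g)⁻¹ := fun g z => by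
    rw [map_mul, map_mul, map_inv]
  refine ⟨Y, ⟨hU, han, hi, sol, hsp, fun h => hZ ?_, fun m hm => dc m ((nm m).1 hm),
    fun z hz hz1 g hg => ?_, fun g z hz hz1 hg => ?_, fun c hc hc1 z hz h => ?_, ?_,
    fun g hg h z hz z' hz' => ?_, fun g hg z hz hz1 h u hu h1 => ?_⟩, e2, ?_⟩
  · rw [← ez, eq_bot_iff]
    rintro _ ⟨z, hz, rfl⟩
    exact (kz z).1 (h hz)
  · refine (nm g).2 (hC.cz _ (mz z hz) (fun e => hz1 ((kz z).2 e)) ?_)
    rw [kz, map_commutatorElement, commutatorElement_eq_one_iff_mul_comm] at hg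
    exact mem_centralizer_singleton_iff.2 hg
  · refine (nm g).2 (hC.ti _ _ (mz z hz) (fun e => hz1 ((kz z).2 e)) ?_)
    rw [← mcj, ← ez]
    rw [← hk, ← comap_map_eq] at hg
    exact hg
  · have hc' : π c ∈ centralizer ((A.map π : Subgroup H) : Set H) :=
      map_le_centralizer_map π (le_refl _) ⟨c, hc, rfl⟩
    have h1 := hB.zl _ _ (hX.cj hc') hX fun e => hc1 ((nm c).2 (cj_eq_iff.1 e))
    have h2 : π c * π z * (π c)⁻¹ ∈ (⊥ : Subgroup H) := by
      rw [← h1]
      refine ⟨?_, mcj c z ▸ (nm _).1 h⟩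
      rw [← cj_comm]
      exact H82.FS.conj_mem_cj (mz z hz)
    rw [kz]
    simpa using h2
  · obtain ⟨g, hg, z, hz, hz1, h⟩ := hN.nb
    obtain ⟨g, rfl⟩ := hs g
    rw [← ez] at hz
    obtain ⟨z, hz, rfl⟩ := hz
    exact ⟨g, fun e => hg ((nm g).1 e), z, hz, fun e => hz1 ((kz z).1 e),
      (nm _).2 ((mcj g z).symm ▸ h)⟩
  · obtain ⟨w, hw, hw1, h⟩ := h
    have := hN.full (π g) (fun e => hg ((nm g).2 e))
      ⟨π w, mz w hw, fun e => hw1 ((kz w).2 e), mcj g w ▸ (nm _).1 h⟩ _ (mz z hz) _ (mz z' hz')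
    rw [kz, map_commutatorElement, mcj, commutatorElement_eq_one_iff_commute]
    exact this
  · refine hN.fpf (π g) (fun e => hg ((nm g).2 e)) _ (mz z hz) (fun e => hz1 ((kz z).2 e))
      (mcj g z ▸ (nm _).1 h) (π u) (e2 ▸ ⟨u, hu, rfl⟩) ?_
    have e : (cj u A).map π = cj (π u) (A.map π) := map_cj π u A
    rw [← e, ← mcj]
    exact map_le_centralizer_map π (le_refl _) ⟨_, h1, rfl⟩
  · ext g
    exact nm g

theorem jobLift : JobLift.{u} := fun _ _ _ _ _ _ _ hU han hi sol _ _ hB hX hC hZ hN =>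
  main (QuotientGroup.mk'_surjective _) (QuotientGroup.ker_mk' _) hU han hi sol hB hX hC hZ hN

end H18.FSLift
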