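/- FS tower: a split (B,N)-pair of a finite simple group is irreducible. -/
import Cfsg.Agent.H7.FSSpec

set_option autoImplicit false

namespace H18.FSRed

open H67 H12.BN H12.BP Cfsg Subgroup

variable {G : Type} [Group G] {P : BNPair G}

/-- The generators in `J` commute with the others. -/
def Dec (P : BNPair G) (J : Set P.S) : Prop :=
  ∀ s ∈ J, ∀ t, t ∉ J → sim P s * sim P t = sim P t * sim P s

theorem Dec.compl {J : Set P.S} (h : Dec P J) : Dec P Jᶜ :=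
  fun s hs t ht => (h t (not_not.1 ht) s hs).symm

theorem Dec.comm {J : Set P.S} (h : Dec P J) {x y : Weyl P} (hx : x ∈ WJ (sim P) J)
    (hy : y ∈ WJ (sim P) Jᶜ) : x * y = y * x := by
  have h1 : WJ (sim P) Jᶜ ≤ centralizer (WJ (sim P) J : Set (Weyl P)) := by
    rw [WJ, closure_le]
    rintro _ ⟨t, ht, rfl⟩
    have h2 : WJ (sim P) J ≤ centralizer {sim P t} := by
      rw [WJ, closure_le]
      rintro _ ⟨s, hs, rfl⟩
      exact mem_centralizer_singleton_iff.2 (h s hs t ht)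
    exact fun z hz => mem_centralizer_singleton_iff.1 (h2 hz)
  exact h1 hy x hx

theorem Dec.weyl {J : Set P.S} (h : Dec P J) (w : Weyl P) :
    ∃ x ∈ WJ (sim P) J, ∃ y ∈ WJ (sim P) Jᶜ, w = x * y := by
  have h1 : w ∈ ((WJ (sim P) J ⊔ WJ (sim P) Jᶜ : Subgroup (Weyl P)) : Set (Weyl P)) := by
    rw [WJ, WJ, ← Subgroup.closure_union, ← Set.image_union, Set.union_compl_self]
    exact mem_WJ_univ w
  have h2 : WJ (sim P) Jᶜ ≤ centralizer (WJ (sim P) J : Set (Weyl P)) :=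
    fun y hy x hx => h.comm hx hy
  rw [coe_mul_of_right_le_normalizer_left _ _ (h2.trans (centralizer_le_normalizer _))] at h1
  obtain ⟨x, hx, y, hy, e⟩ := h1
  exact ⟨x, hx, y, hy, e.symm⟩

theorem Dec.grp {J : Set P.S} (h : Dec P J) (g : G) :
    ∃ p ∈ cellSubgroup P J, ∃ q ∈ cellSubgroup P Jᶜ, g = p * q := by
  obtain ⟨x, hx, y, hy, e⟩ := h.weyl (wOf P g)
  obtain ⟨p, hp, q, hq, e⟩ := (double_coset_iff (J := J) (K := Jᶜ) (g := g) (t := 1)).2
    ⟨x, hx, y, hy, by rw [e, wOf_eq_one_iff.2 (one_mem _), mul_one]⟩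
  exact ⟨p, hp, q, hq, by simpa using e⟩

theorem WJ_inf {J K : Set P.S} {w : Weyl P} (h1 : w ∈ WJ (sim P) J) (h2 : w ∈ WJ (sim P) K) :
    w ∈ WJ (sim P) (J ∩ K) := by
  obtain ⟨l, hl, rfl⟩ := (bn_exch P).exists_reduced w
  exact wp_mem_closure _ _ l fun i hi =>
    ⟨letters_mem_of_reduced J l hl h1 i hi, letters_mem_of_reduced K l hl h2 i hi⟩

theorem cell_inf {J K : Set P.S} {g : G} (h1 : g ∈ cellSubgroup P J) (h2 : g ∈ cellSubgroup P K) :
    g ∈ cellSubgroup P (J ∩ K) :=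
  mem_cellSubgroup_iff_wOf.2 (WJ_inf (mem_cellSubgroup_iff_wOf.1 h1) (mem_cellSubgroup_iff_wOf.1 h2))

theorem mem_B {J : Set P.S} {g : G} (h1 : g ∈ cellSubgroup P J) (h2 : g ∈ cellSubgroup P Jᶜ) :
    g ∈ P.B := by
  have := cell_inf h1 h2
  rwa [Set.inter_compl_self, cellSubgroup_empty] at this

theorem core_bot [IsSimpleGroup G] {J : Set P.S} {k : P.S} (hk : k ∉ J) {g : G}
    (h : ∀ x : G, x⁻¹ * g * x ∈ cellSubgroup P J) : g = 1 := by
  have h1 : g ∈ (cellSubgroup P J).normalCore := fun x => by simpa using h x⁻¹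
  rcases (normalCore_normal (cellSubgroup P J)).eq_bot_or_eq_top with e | e
  · rwa [e] at h1
  · exact absurd (sim_mem_cellSubgroup_iff.1 (normalCore_le _ (e ▸ mem_top (k : G)))) hk

theorem Dec.star [IsSimpleGroup G] {J : Set P.S} (h : Dec P J) {k : P.S} (hk : k ∉ J) {u : G}
    (hu : ∀ q ∈ cellSubgroup P Jᶜ, q⁻¹ * u * q ∈ P.B) : u = 1 := by
  refine core_bot hk fun x => ?_
  obtain ⟨q, hq, p, hp, rfl⟩ := h.compl.grp x
  rw [compl_compl] at hp
  have := mul_mem (mul_mem (inv_mem hp) (B_le_cellSubgroup J (hu q hq))) hp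
  simpa [mul_assoc] using this

theorem Dec.meet {J : Set P.S} (h : Dec P J) {p q : G} (hp : p ∈ cellSubgroup P J)
    (hq : q ∈ cellSubgroup P Jᶜ) : ∃ g, p⁻¹ * g ∈ cellSubgroup P Jᶜ ∧ q⁻¹ * g ∈ cellSubgroup P J ∧
      wOf P g = wOf P p * wOf P q := by
  obtain ⟨x, hx, y, hy, e⟩ := h.grp (q⁻¹ * p)
  have e1 : p * y⁻¹ = q * x := by rw [mul_inv_eq_iff_eq_mul, mul_assoc, ← e]; group
  refine ⟨p * y⁻¹, by simpa using inv_mem hy, by simpa [e1] using hx, ?_⟩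
  obtain ⟨v, hv, e2⟩ := exists_wOf_mul_right (inv_mem hy) p
  obtain ⟨v', hv', e3⟩ := exists_wOf_mul_right hx q
  have hp' := mem_cellSubgroup_iff_wOf.1 hp
  have hq' := mem_cellSubgroup_iff_wOf.1 hq
  rw [← e1, e2, ← h.comm hv' hq'] at e3
  have e4 : v'⁻¹ * wOf P p = wOf P q * v⁻¹ := by
    rw [inv_mul_eq_iff_eq_mul, ← mul_assoc, ← e3]; group
  have := WJ_inf (mul_mem (inv_mem hv') hp') (e4 ▸ mul_mem hq' (inv_mem hv))
  rw [Set.inter_compl_self, WJ_empty, mem_bot, e4, mul_inv_eq_one] at this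
  rw [e2, this]

theorem Dec.trans {J : Set P.S} (h : Dec P J) {p q p' q' : G} (hp : p ∈ cellSubgroup P J)
    (hq : q ∈ cellSubgroup P Jᶜ) (e1 : wOf P p = wOf P p') (e2 : wOf P q = wOf P q') :
    ∃ b ∈ P.B, p'⁻¹ * b * p ∈ P.B ∧ q'⁻¹ * b * q ∈ P.B := by
  have hp' : p' ∈ cellSubgroup P J :=
    mem_cellSubgroup_iff_wOf.2 (e1 ▸ mem_cellSubgroup_iff_wOf.1 hp)
  have hq' : q' ∈ cellSubgroup P Jᶜ :=
    mem_cellSubgroup_iff_wOf.2 (e2 ▸ mem_cellSubgroup_iff_wOf.1 hq)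
  obtain ⟨g, a1, a2, a3⟩ := h.meet hp hq
  obtain ⟨g', b1, b2, b3⟩ := h.meet hp' hq'
  obtain ⟨b, hb, c, hc, e⟩ := (inCell_wOf P g).exists_eq
    (wOf_eq_iff.1 (by rw [b3, a3, e1, e2]) : InCell P (wOf P g) g')
  refine ⟨b, hb, mem_B (mul_mem (mul_mem (inv_mem hp') (B_le_cellSubgroup _ hb)) hp) ?_,
    mem_B ?_ (mul_mem (mul_mem (inv_mem hq') (B_le_cellSubgroup _ hb)) hq)⟩
  · have := mul_mem (mul_mem b1 (inv_mem (B_le_cellSubgroup _ hc))) (inv_mem a1)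
    rw [e] at this
    convert this using 1; group
  · have := mul_mem (mul_mem b2 (inv_mem (B_le_cellSubgroup _ hc))) (inv_mem a2)
    rw [e] at this
    convert this using 1; group

theorem third (j : P.S) : ∃ b ∈ P.B, (j : G)⁻¹ * b * j ∉ P.B := by
  obtain ⟨b, hb, h⟩ := exists_conj_not_mem P j.2
  refine ⟨b, hb, fun e => h ?_⟩
  have := mul_mem (P.sq_mem _ j.2) e
  convert this using 1; group

variable [Finite G]

theorem regS' {U : Subgroup G} (hU : Spl P U) (i j : P.S)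
    (hj : sim P j * sim P i ≠ sim P i * sim P j) : RegS P U i := by
  have hJ : ({(i : G), (j : G)} : Set G) ⊆ P.S := by rintro _ (rfl | rfl); exacts [i.2, j.2]
  let L := bnPar P _ hJ
  have hL : Spl L (U.subgroupOf _) := by
    have := hU.nil
    refine ⟨fun u hu => hU.le hu, fun b hb u hu => hU.nor _ hb _ hu, Group.nilpotent_of_mulEquiv
      (subgroupOfEquivOfLe (hU.le.trans (B_le_parabolic _))).symm, fun b hb => ?_⟩
    obtain ⟨u, hu, k⟩ := hU.sup b hb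
    exact ⟨⟨u, B_le_parabolic _ (hU.le hu)⟩, hu,
      mem_sup_right (mem_inf.2 ⟨mul_mem (inv_mem (hU.le hu)) hb, k⟩)⟩
  let φ := QuotientGroup.mk' L.B.normalCore
  have hk : φ.ker ≤ L.B := by rw [QuotientGroup.ker_mk']; exact normalCore_le _
  let i' : P.parabolic {(i : G), (j : G)} := ⟨i, mem_parabolic_of_mem (Or.inl rfl)⟩
  let j' : P.parabolic {(i : G), (j : G)} := ⟨j, mem_parabolic_of_mem (Or.inr rfl)⟩
  have := regS_two (P := bnMap L φ (QuotientGroup.mk'_surjective _) hk)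
    (i := ⟨φ i', i', Or.inl rfl, rfl⟩) (j := ⟨φ j', j', Or.inr rfl, rfl⟩) (by
      refine (eq_bot_iff_forall _).2 fun x hx => ?_
      obtain ⟨x, rfl⟩ := QuotientGroup.mk'_surjective _ x
      exact (QuotientGroup.eq_one_iff x).2 fun b => (mem_map_of_ker_le hk).1 (by
        rw [map_mul, map_mul, map_inv]; exact hx (φ b)))
    (by
      rintro ⟨_, x, e | e, rfl⟩
      · exact Or.inl (Subtype.ext (congrArg φ (Subtype.ext e)))
      · exact Or.inr (Subtype.ext (congrArg φ (Subtype.ext e))))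
    (sim_ne.2 fun e => sim_ne.1 hj ((mem_map_of_ker_le hk (x := (j' * i')⁻¹ * (i' * j'))).1 (by
      rw [map_mul, map_inv, map_mul, map_mul]; exact e)))
    (hL.map _ _ _)
  intro u hu k b hb
  let u' : P.parabolic {(i : G), (j : G)} := ⟨u, B_le_parabolic _ (hU.le hu)⟩
  let b' : P.parabolic {(i : G), (j : G)} := ⟨b, B_le_parabolic _ hb⟩
  exact (mem_map_of_ker_le hk (x := (b' * i')⁻¹ * u' * (b' * i'))).1 (by
    rw [map_mul, map_mul, map_inv, map_mul]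
    exact this (φ u') ⟨u', hu, rfl⟩ ⟨i'⁻¹ * u' * i', k, by simp⟩ (φ b') ⟨b', hb, rfl⟩)

theorem rigid {K : Set P.S} {n u : G} (hn : n ∈ P.N) (hl : IsLongest (sim P) K (wOf P n))
    (hu : u ∈ P.B) (h1 : n⁻¹ * u * n ∈ P.B)
    (h2 : ∀ k ∈ K, (k : G)⁻¹ * u * k ∈ P.B → ∀ b ∈ P.B, (b * k)⁻¹ * u * (b * k) ∈ P.B) :
    ∀ q ∈ cellSubgroup P K, q⁻¹ * u * q ∈ P.B := by
  obtain ⟨Δ, a, hδ, -, -⟩ := jobBld G P
  intro q hq
  refine fix_mk.1 (Δ.rigid Δ hl (x := ((1 : G) : G ⧸ P.B)) (y := (n : G ⧸ P.B)) (f := fun x => u • x)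
    (g := id) (fun x y _ _ => by rw [hδ]; exact wdist_smul u x y) (fun _ _ _ _ => rfl)
    (by rw [hδ, wdist_mk, inv_one, one_mul]) (fix_mk.2 h1) (fix_mk.2 (by simpa using hu))
    (fun k hk x hx => ?_) (q : G ⧸ P.B) ?_)
  · obtain ⟨x, rfl⟩ := QuotientGroup.mk_surjective x
    rw [hδ, wdist_mk, inv_one, one_mul, wOf_eq_iff] at hx
    obtain ⟨b, hb, b', hb', rfl⟩ := (inCell_sim k).exists_eq hx
    rw [QuotientGroup.mk_mul_of_mem _ hb']
    refine fix_mk.2 (h2 k hk ?_ b hb)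
    have hk' := P.subset k.2
    refine conj_mem_B_of_prefix (c := (k : G)⁻¹ * n) ?_ hu (by simpa using h1)
    rw [wOf_mul_N (inv_mem hk') hn, wOf_inv, mul_inv_cancel_left, wOf_S,
      len_longest hl (s_mem_WJ _ hk)]
  · rw [Bld.Res, hδ, wdist_mk, inv_one, one_mul]
    exact mem_cellSubgroup_iff_wOf.1 hq

variable [IsSimpleGroup G]

theorem caseA {U : Subgroup G} (hU : Spl P U) {J : Set P.S} (h : Dec P J) {j k : P.S} (hj : j ∈ J)
    (hk : k ∉ J) (hp : ∀ k, k ∉ J → ∃ t, sim P t * sim P k ≠ sim P k * sim P t) : False := by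
  obtain ⟨w, hw⟩ := (bn_exch P).exists_isLongest Jᶜ
  rw [← wOf_wrep w] at hw
  have hn := wrep_mem w
  generalize wrep w = n at hw hn
  obtain ⟨b0, hb0, h0⟩ := third j
  obtain ⟨b, hb, a1, a2⟩ := h.trans (p := j) (p' := b0⁻¹ * j) (q := n) (q' := n)
    (S_mem_cellSubgroup hj) (mem_cellSubgroup_iff_wOf.2 hw.1)
    (wOf_mul_left (inv_mem hb0) _).symm rfl
  obtain ⟨u, hu, a3⟩ := hU.sup b hb
  have a4 : u⁻¹ * b ∈ P.B ⊓ P.N := mem_inf.2 ⟨mul_mem (inv_mem (hU.le hu)) hb, a3⟩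
  have a5 : u = 1 := by
    refine h.star hk (rigid hn hw (hU.le hu) ?_ fun t ht => ?_)
    · have := mul_mem a2 (inv_mem (P.conj_mem _ (inv_mem hn) _ a4))
      convert this using 1; group
    · obtain ⟨t', ht'⟩ := hp t ht
      exact regS' hU t t' ht' u hu
  apply h0
  have := mul_mem a1 (inv_mem (P.conj_mem _ (inv_mem (P.subset j.2)) _ a4))
  rw [a5] at this
  convert this using 1; group

omit [Finite G] [IsSimpleGroup G] in
theorem smul_mk {H : Subgroup G} {g x y : G} : g • (x : G ⧸ H) = y ↔ y⁻¹ * g * x ∈ H := by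
  rw [MulAction.Quotient.smul_mk, smul_eq_mul, eq_comm, QuotientGroup.eq, mul_assoc]

omit [Finite G] [IsSimpleGroup G] in
theorem panel {j : P.S} (h : Dec P {j}) {x : G ⧸ cellSubgroup P {j}ᶜ}
    (hx : x ≠ ((1 : G) : G ⧸ cellSubgroup P {j}ᶜ)) : ∃ p : G, wOf P p = sim P j ∧ x = p := by
  obtain ⟨x, rfl⟩ := QuotientGroup.mk_surjective x
  obtain ⟨p, hp, q, hq, rfl⟩ := h.grp x
  rw [QuotientGroup.mk_mul_of_mem _ hq] at hx ⊢
  refine ⟨p, (mem_cellSubgroup_singleton.1 hp).resolve_left fun e => hx ?_, rfl⟩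
  rw [eq_comm, QuotientGroup.eq]
  simpa using B_le_cellSubgroup _ e

theorem caseB (hd : H7.FS.JobDig) {U : Subgroup G} (hU : Spl P U) {j k : P.S} (hjk : j ≠ k)
    (hj : Dec P {j}) (hk : Dec P {k}) : False := by
  have hB : P.B ≤ cellSubgroup P {j, k} := B_le_cellSubgroup _
  have hkj : k ∈ ({j}ᶜ : Set P.S) := fun e => hjk e.symm
  have hn : ∀ t : P.S, (t : G) ∉ cellSubgroup P {t}ᶜ := fun t e =>
    (sim_mem_cellSubgroup_iff (J := {t}ᶜ)).1 e rfl
  have := hU.nil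
  refine hd (cellSubgroup P {j, k}) (G ⧸ cellSubgroup P {j}ᶜ) (G ⧸ cellSubgroup P {k}ᶜ)
    ((1 : G) : _) ((1 : G) : _) ((k : G) : _) (U.subgroupOf _)
    ⟨k, S_mem_cellSubgroup (Or.inr rfl)⟩
    (fun g hg => Subtype.ext (core_bot (J := {j}ᶜ) (k := j) (fun e => e rfl) fun x => smul_mk.1 (hg x)))
    (fun g hg => Subtype.ext (core_bot (J := {k}ᶜ) (k := k) (fun e => e rfl) fun x => smul_mk.1 (hg x)))
    ?_ ?_ (Group.nilpotent_of_mulEquiv (subgroupOfEquivOfLe (hU.le.trans hB)).symm)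
    (fun u hu => ⟨smul_mk.2 (by simpa using B_le_cellSubgroup _ (hU.le hu)),
      smul_mk.2 (by simpa using B_le_cellSubgroup _ (hU.le hu))⟩) ?_ ?_
    (smul_mk.2 (by simpa using S_mem_cellSubgroup hkj)) (smul_mk.2 (by simp))
    (smul_mk.2 (by simpa using B_le_cellSubgroup _ (P.sq_mem _ k.2)))
  · obtain ⟨b, hb, h0⟩ := third j
    have hj' : (j : G) ∈ cellSubgroup P {j} := S_mem_cellSubgroup rfl
    have := Fintype.ofFinite (G ⧸ cellSubgroup P {j}ᶜ)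
    rw [Nat.card_eq_fintype_card]
    refine Fintype.two_lt_card_iff.2 ⟨((1 : G) : _), ((j : G) : _), ((b * j : G) : _), fun e => ?_,
      fun e => ?_, fun e => ?_⟩ <;> rw [QuotientGroup.eq] at e
    · exact hn j (by simpa using e)
    · have := mul_mem (inv_mem (B_le_cellSubgroup _ hb)) e
      exact hn j (by simpa using this)
    · rw [← mul_assoc] at e
      exact h0 (mem_B (mul_mem (mul_mem (inv_mem hj') (B_le_cellSubgroup _ hb)) hj') e)
  · intro e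
    rw [QuotientGroup.eq] at e
    exact hn k (by simpa using e)
  · intro g h1 h2 u hu
    have h3 := cell_inf (cell_inf g.2 (by simpa using smul_mk.1 h1)) (by simpa using smul_mk.1 h2)
    rw [show ({j, k} ∩ {j}ᶜ ∩ {k}ᶜ : Set P.S) = ∅ by
      ext t; simp only [Set.mem_inter_iff, Set.mem_insert_iff, Set.mem_singleton_iff,
        Set.mem_compl_iff, Set.mem_empty_iff_false]; tauto, cellSubgroup_empty] at h3
    exact hU.nor _ h3 _ hu
  · have key : ∀ p q : G, wOf P p = sim P j → wOf P q = sim P k →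
        ∃ u ∈ U, p⁻¹ * u * j ∈ P.B ∧ q⁻¹ * u * k ∈ P.B := fun p q hp hq => by
      obtain ⟨b, hb, a1, a2⟩ := hj.trans (p := j) (q := k) (p' := p) (q' := q)
        (S_mem_cellSubgroup rfl) (S_mem_cellSubgroup hkj) (by rw [wOf_S, hp]) (by rw [wOf_S, hq])
      obtain ⟨u, hu, a3⟩ := hU.sup b hb
      have a4 : u⁻¹ * b ∈ P.B ⊓ P.N := mem_inf.2 ⟨mul_mem (inv_mem (hU.le hu)) hb, a3⟩
      refine ⟨u, hu, ?_, ?_⟩
      · have := mul_mem a1 (inv_mem (P.conj_mem _ (inv_mem (P.subset j.2)) _ a4))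
        convert this using 1; group
      · have := mul_mem a2 (inv_mem (P.conj_mem _ (inv_mem (P.subset k.2)) _ a4))
        convert this using 1; group
    intro x x' y y' hx hx' hy hy'
    obtain ⟨p, hp, rfl⟩ := panel hj hx
    obtain ⟨p', hp', rfl⟩ := panel hj hx'
    obtain ⟨q, hq, rfl⟩ := panel hk hy
    obtain ⟨q', hq', rfl⟩ := panel hk hy'
    obtain ⟨u, hu, a1, a2⟩ := key p q hp hq
    obtain ⟨v, hv, b1, b2⟩ := key p' q' hp' hq'
    have huv := mul_mem hv (inv_mem hu)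
    refine ⟨⟨v * u⁻¹, hB (hU.le huv)⟩, huv, (smul_mk (g := v * u⁻¹)).2 (B_le_cellSubgroup _ ?_),
      (smul_mk (g := v * u⁻¹)).2 (B_le_cellSubgroup _ ?_)⟩
    · have := mul_mem b1 (inv_mem a1)
      convert this using 1; group
    · have := mul_mem b2 (inv_mem a2)
      convert this using 1; group

theorem jobRed (h : H7.FS.JobDig) : H7.FS.JobRed := by
  intro G _ _ _ P U hU J hJ ⟨j, hj⟩ ⟨k, hk⟩
  by_contra hc
  push Not at hc
  have hD : Dec P (Subtype.val ⁻¹' J) := fun s hs t ht => by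
    have := hc s hs t ⟨t.2, ht⟩
    have hs := P.subset s.2
    have ht := P.subset t.2
    rw [← wOf_eq_one_iff, wOf_mul_N (mul_mem (mul_mem hs ht) (inv_mem hs)) (inv_mem ht),
      wOf_mul_N (mul_mem hs ht) (inv_mem hs), wOf_mul_N hs ht, wOf_inv, wOf_inv, wOf_S, wOf_S,
      mul_inv_eq_one, mul_inv_eq_iff_eq_mul] at this
    exact this
  by_cases h1 : ∀ k, k ∉ (Subtype.val ⁻¹' J : Set P.S) → ∃ t, sim P t * sim P k ≠ sim P k * sim P t
  · exact caseA hU hD (j := ⟨j, hJ hj⟩) (k := ⟨k, hk.1⟩) hj hk.2 h1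
  by_cases h2 : ∀ k, k ∉ (Subtype.val ⁻¹' J : Set P.S)ᶜ → ∃ t, sim P t * sim P k ≠ sim P k * sim P t
  · exact caseA hU hD.compl (k := ⟨j, hJ hj⟩) (j := ⟨k, hk.1⟩) hk.2 (fun e => e hj) h2
  push Not at h1 h2
  obtain ⟨s, hs, h1⟩ := h1
  obtain ⟨t, ht, h2⟩ := h2
  refine caseB h hU (j := s) (k := t) (fun e => ht (e ▸ hs)) ?_ ?_
  · rintro _ rfl x -; exact (h1 x).symm
  · rintro _ rfl x -; exact (h2 x).symm

end H18.FSRed
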