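import Cfsg.Agent.H18.PLength
import Cfsg.Agent.H46.Misc
import Cfsg.Agent.H7.Stable
import Cfsg.Agent.H2.Core

/-! Groups whose elements of order `p` lie in one class: set-up and the odd case
(Gaschütz-Yen). -/

namespace H18.GY

open Cfsg hiding pRank
open H46 Subgroup

universe u
variable {G : Type u} [Group G] [Finite G] {p : ℕ} [hp : Fact p.Prime]

theorem le_nrm_of_normal (N A : Subgroup G) [hN : N.Normal] : A ≤ Nrm N :=
  fun _ _ => (normalIn_top_iff.2 hN).nrm (mem_top _)

theorem isPi_pCore : IsPi {p} (pCore p G) := isPi_of_isPGroup hp.out (H18.isPGroup_pCore p)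

instance upChar : (up {p}ᶜ (pCore p G)).Characteristic := by
  haveI := H2.pCore_characteristic p G
  exact Subgroup.Characteristic.comap_quotient_mk (H18.piCore_characteristic _)

/-- A complement `R` of `O_p(G)` in `O_{p,p'}(G)`. -/
theorem setup (hG : IsPSolvable p G) :
    ∃ R : Subgroup G, IsPi {p}ᶜ R ∧ pCore p G ⊔ R = up {p}ᶜ (pCore p G) ∧
      pCore p G ⊔ Nrm R = ⊤ ∧ Cent R ≤ pCore p G ⊔ R := by
  set Q := pCore p G with hQ
  set M := up {p}ᶜ Q with hM
  have hQM : Q ≤ M := le_up_self _ _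
  have hidx : PiNum {p}ᶜ (Q.relIndex M) := piNum_relIndex_up _ _
  have hQp : IsPi {p} Q := isPi_pCore
  have hall : IsPiHallOf {p} Q M := isPiHallOf_mk hQM hQp hidx
  obtain ⟨R, hR⟩ := exists_sd_of_hall hall.isHallOf (le_nrm_of_normal Q M)
  have hRp : IsPi {p}ᶜ R := (hR.hall_compl_right hall).isPi
  refine ⟨R, hRp, hR.sup, ?_, ?_⟩
  · rw [eq_top_iff]
    intro g _
    have h2 : IsSd Q (cj g R) M := by
      have := hR.cj g
      rwa [cj_of_mem_nrm (le_nrm_of_normal Q ⊤ (mem_top g)),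
        cj_of_mem_nrm (le_nrm_of_normal M ⊤ (mem_top g))] at this
    obtain ⟨n, hn, e⟩ := hR.exists_cj h2 (hRp.coprime' hQp) (Or.inr hQp.sol)
    have : n⁻¹ * g ∈ Nrm R := by
      rw [mem_nrm_iff_cj, cj_mul, ← e, ← cj_mul, inv_mul_cancel]
      ext x; simp [mem_cj]
    have e2 : g = n * (n⁻¹ * g) := by group
    rw [e2]
    exact mul_mem (mem_sup_left hn) (mem_sup_right this)
  · intro g hg
    rw [hR.sup]
    have h1 := centralizer_pPrimeCore_le (isPSolvable_quotient hG Q) (pCore_quotient_pCore p)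
    have : (QuotientGroup.mk g : G ⧸ Q) ∈ pPrimeCore p (G ⧸ Q) := by
      apply h1
      rw [mem_centralizer_iff]
      intro y hy
      rw [SetLike.mem_coe, pPrimeCore_eq_piCore, ← map_up] at hy
      obtain ⟨m, hm, rfl⟩ := hy
      obtain ⟨k, hk, r, hr, rfl⟩ := hR.exists_mul hm
      have hk1 : (QuotientGroup.mk' Q) k = 1 := (QuotientGroup.eq_one_iff k).2 hk
      rw [map_mul, hk1, one_mul]
      change (QuotientGroup.mk' Q) r * (QuotientGroup.mk' Q) g =
        (QuotientGroup.mk' Q) g * (QuotientGroup.mk' Q) r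
      rw [← map_mul, ← map_mul, mem_cent.1 hg r hr]
    rw [pPrimeCore_eq_piCore] at this
    exact this

theorem pLengthLE_one_of_index (h : ¬ p ∣ (pCore p G).index) : PLengthLE p 1 G :=
  pLengthLE_succ_of_quotient (pCore p G) pCore_le_pPrimePCore
    (pLengthLE_zero_iff.2 ((Nat.coprime_comm.1 ((Nat.Prime.coprime_iff_not_dvd hp.out).2 h))))

theorem index_dvd_of_sup_eq_top {Q N : Subgroup G} [Q.Normal] (h : Q ⊔ N = ⊤) :
    Q.index = Q.relIndex N := by
  rw [← relIndex_sup_of_nrm (le_nrm_of_normal Q N), h, relIndex_top_right]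

/-- every characteristic subgroup of order divisible by `p` contains all elements of order `p` -/
def OneCl (p : ℕ) (G : Type u) [Group G] : Prop :=
  ∀ K : Subgroup G, K.Characteristic → ∀ x ∈ K, orderOf x = p → ∀ y : G, orderOf y = p → y ∈ K

theorem exists_lift_orderOf (N : Subgroup G) [N.Normal] (hN : (Nat.card N).Coprime p)
    {y : G ⧸ N} (hy : orderOf y = p) :
    ∃ x : G, orderOf x = p ∧ (QuotientGroup.mk x : G ⧸ N) = y := by
  obtain ⟨g, rfl⟩ := QuotientGroup.mk_surjective y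
  set n := Nat.card N with hn
  have h1 : g ^ p ∈ N := by
    rw [← QuotientGroup.eq_one_iff, QuotientGroup.mk_pow, ← hy, pow_orderOf_eq_one]
  have h2 : (g ^ p) ^ n = 1 := by
    have := pow_card_eq_one' (G := N) (x := ⟨g ^ p, h1⟩)
    exact congrArg Subtype.val this
  obtain ⟨m, -, hm⟩ := Nat.exists_mul_mod_eq_one_of_coprime hN hp.out.one_lt
  have h3 : (QuotientGroup.mk (g ^ (n * m)) : G ⧸ N) = QuotientGroup.mk g := by
    rw [QuotientGroup.mk_pow, ← pow_mod_orderOf, hy, hm, pow_one]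
  refine ⟨g ^ (n * m), ?_, h3⟩
  apply orderOf_eq_prime
  · rw [← pow_mul, show n * m * p = p * n * m by ring, pow_mul, pow_mul, h2, one_pow]
  · intro h
    rw [h] at h3
    rw [← h3, QuotientGroup.mk_one, orderOf_one] at hy
    exact hp.out.one_lt.ne hy

theorem OneCl.quotient (h : OneCl p G) : OneCl p (G ⧸ pPrimeCore p G) := by
  haveI : (pPrimeCore p G).Characteristic := by
    rw [pPrimeCore_eq_piCore]; infer_instance
  intro K hK x hx hxp y hy
  obtain ⟨x', hx', rfl⟩ := exists_lift_orderOf _ (coprime_card_pPrimeCore p) hxp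
  obtain ⟨y', hy', rfl⟩ := exists_lift_orderOf _ (coprime_card_pPrimeCore p) hy
  exact h (K.comap (QuotientGroup.mk' _)) (Subgroup.Characteristic.comap_quotient_mk hK) x' hx hx'
    y' hy'

/-- all elements of order `p` lie in `Z(O_p(G))` -/
theorem OneCl.mem_zc (h : OneCl p G) (hG : IsPSolvable p G) (h0 : pPrimeCore p G = ⊥) {y : G}
    (hy : orderOf y = p) : y ∈ Zc (pCore p G) := by
  haveI := H2.pCore_characteristic p G
  have hnt : Nontrivial G := ⟨⟨y, 1, fun e => by
    rw [e, orderOf_one] at hy; exact hp.out.one_lt.ne hy⟩⟩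
  have hQ : pCore p G ≠ ⊥ := (isPSolvable_core_ne_bot hG).resolve_right (not_not.2 h0)
  have hZ := zc_ne_bot_of_isPGroup hp.out (H18.isPGroup_pCore p) hQ
  have hZp : IsPi {p} (Zc (pCore p G)) := isPi_pCore.of_le inf_le_left
  obtain ⟨x, hx, hxp⟩ := cauchy hp.out (hZp.prime_and_dvd hZ).2
  refine h _ ?_ x hx hxp y hy
  exact characteristic_iff_comap_eq.2 fun φ => by
    rw [comap_inf, characteristic_iff_comap_eq.1 inferInstance φ,
      characteristic_iff_comap_eq.1 inferInstance φ]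

/-- if `N(R)` has order divisible by `p` then `R` centralizes all elements of order `p` -/
theorem OneCl.mem_cent (h : OneCl p G) (hG : IsPSolvable p G) (h0 : pPrimeCore p G = ⊥)
    {R : Subgroup G} (hR : IsPi {p}ᶜ R) (hs : pCore p G ⊔ R = up {p}ᶜ (pCore p G))
    (hd : p ∣ Nat.card (Nrm R)) {y : G} (hy : orderOf y = p) : y ∈ Cent R := by
  obtain ⟨v, hv, hvp⟩ := cauchy hp.out hd
  have hvZ := h.mem_zc hG h0 hvp
  have hvR : v ∈ Cent R := by
    have h1 : pCore p G ⊓ Nrm R ≤ Cent R :=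
      cent_of_nrm_of_disjoint inf_le_right
        (nrm_inf (le_nrm_of_normal _ _) (nrm_nrm le_nrm_self))
        (IsPi.inf_eq_bot isPi_pCore.inf_left hR)
    exact h1 ⟨hvZ.1, hv⟩
  have h2 : y ∈ Cent (up {p}ᶜ (pCore p G)) := by
    refine h _ inferInstance v ?_ hvp y hy
    rw [← hs, cent_sup]
    exact ⟨hvZ.2, hvR⟩
  rw [← hs, cent_sup] at h2
  exact h2.2

theorem pLengthLE_of_oneCl_aux (hp2 : p ≠ 2) (hG : IsPSolvable p G) (h0 : pPrimeCore p G = ⊥)
    (h : OneCl p G) : PLengthLE p 1 G := by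
  obtain ⟨R, hR, hs, hN, hC⟩ := setup hG
  by_cases hd : p ∣ Nat.card (Nrm R)
  · have hRQ : R ≤ Cent (pCore p G) := by
      intro r hr
      refine H7.mem_centralizer_of_centralizes_omega hp2 (H18.isPGroup_pCore p)
        (le_nrm_of_normal _ ⊤ (mem_top r)) ?_ ?_
      · exact (pnat_compl_singleton_iff_coprime hp.out).1 (hR.elt hr)
      · intro x _ hx
        by_cases h1 : x = 1
        · simp [h1]
        · exact (mem_cent.1 (h.mem_cent hG h0 hR hs hd (orderOf_eq_prime hx h1)) r hr).symm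
    have hR0 : R = ⊥ := by
      have h1 : R ≤ pCore p G := hRQ.trans (centralizer_pCore_le hG h0)
      exact (isPi_pCore.of_le h1).eq_bot hR
    apply pLengthLE_one_of_index
    have : pCore p G = ⊤ := by
      rw [hR0, sup_bot_eq] at hC
      rw [eq_top_iff]
      intro g _
      apply hC
      rw [mem_cent]
      intro x hx
      rw [mem_bot.1 hx, one_mul, mul_one]
    rw [this, index_top]
    exact hp.out.not_dvd_one
  · apply pLengthLE_one_of_index
    rw [index_dvd_of_sup_eq_top hN]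
    exact fun h1 => hd (h1.trans (relIndex_dvd_card _ _))

theorem pLengthLE_of_oneCl (hp2 : p ≠ 2) (hG : IsPSolvable p G) (h : OneCl p G) :
    PLengthLE p 1 G :=
  pLengthLE_of_quotient_coprime (pPrimeCore p G) (coprime_card_pPrimeCore p)
    (pLengthLE_of_oneCl_aux hp2 (isPSolvable_quotient hG _) (pPrimeCore_quotient_pPrimeCore p)
      h.quotient)

end H18.GY
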