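import Cfsg.Agent.H18.GY
import Cfsg.Agent.H18.GY2

/-! Solvable groups with one class of involutions: the key lemma. -/

namespace H18.GY

open Cfsg hiding pRank
open H46 Subgroup Finset
open scoped commutatorElement

universe u
variable {G : Type u} [Group G]

/-- `L` is transitive on the non-trivial elements of `V`. -/
def Trans (L V : Subgroup G) : Prop :=
  ∀ v ∈ V, v ≠ 1 → ∀ w ∈ V, w ≠ 1 → ∃ l ∈ L, w = l * v * l⁻¹

section Count
variable [Fintype G] [DecidableEq G] {L V : Subgroup G}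

theorem Trans.fibers (htr : Trans L V) (hV : V ≠ ⊥) (X : Finset G) (f : G → G)
    (hX : ∀ l ∈ L, ∀ x ∈ X, l * x * l⁻¹ ∈ X) (hf : ∀ l x, f (l * x * l⁻¹) = l * f x * l⁻¹) :
    ∃ k, ∀ v ∈ V, v ≠ 1 → #{x ∈ X | f x = v} = k := by
  obtain ⟨v, hv, hv1⟩ := exists_ne_one_of_ne_bot hV
  refine ⟨#{x ∈ X | f x = v}, fun w hw hw1 => ?_⟩
  obtain ⟨l, hl, rfl⟩ := htr v hv hv1 w hw hw1
  symm
  refine card_bij (fun x _ => l * x * l⁻¹) ?_ ?_ ?_
  · intro x hx
    rw [mem_filter] at hx ⊢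
    exact ⟨hX l hl x hx.1, by rw [hf, hx.2]⟩
  · intro a _ b _ h
    simpa using h
  · intro y hy
    rw [mem_filter] at hy
    refine ⟨l⁻¹ * y * l⁻¹⁻¹, ?_, by group⟩
    rw [mem_filter]
    exact ⟨hX _ (L.inv_mem hl) y hy.1, by rw [hf, hy.2]; group⟩

theorem card_filter_mem (W : Subgroup G) [DecidablePred (· ∈ W)] :
    #(univ.filter (· ∈ W)) = Nat.card W := by
  rw [Nat.card_eq_fintype_card, Fintype.card_subtype]

theorem card_of_fibers (X : Finset G) (f : G → G) (hm : ∀ x ∈ X, f x ∈ V ∧ f x ≠ 1) {k : ℕ}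
    (hk : ∀ v ∈ V, v ≠ 1 → #{x ∈ X | f x = v} = k) : #X = (Nat.card V - 1) * k := by
  classical
  have h1V : (1 : G) ∈ univ.filter (· ∈ V) := by simpa using V.one_mem
  rw [card_eq_sum_card_fiberwise (t := (univ.filter (· ∈ V)).erase 1) (f := f)
    (fun x hx => by simpa using hm x hx), sum_congr rfl (g := fun _ => k), sum_const,
    card_erase_of_mem h1V, card_filter_mem, smul_eq_mul]
  intro v hv
  rw [mem_erase, mem_filter] at hv
  exact hk v hv.2.2 hv.1

theorem Trans.pred_dvd (htr : Trans L V) (hV : V ≠ ⊥) (hI : ∀ x : G, x ^ 2 = 1 → x ∈ V)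
    {W : Subgroup G} (hW : IsPGroup 2 W) (hn : L ≤ Nrm W) :
    Nat.card V - 1 ∣ Nat.card W - 1 := by
  classical
  haveI : Fact (Nat.Prime 2) := ⟨Nat.prime_two⟩
  obtain ⟨k, hk⟩ := htr.fibers hV ((univ.filter (· ∈ W)).erase 1) (fun x => x ^ (orderOf x / 2))
    (fun l hl x hx => by
      simp only [mem_erase, mem_filter, mem_univ, true_and] at hx ⊢
      exact ⟨fun h => hx.1 (by simpa using h), conj_mem_of_mem_nrm (hn hl) hx.2⟩)
    (fun l x => by rw [H46.orderOf_conj, conj_pow])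
  have h1W : (1 : G) ∈ univ.filter (· ∈ W) := by simpa using W.one_mem
  have := card_of_fibers _ _ (fun x hx => by
    simp only [mem_erase, mem_filter, mem_univ, true_and] at hx
    obtain ⟨j, hj⟩ := (IsPGroup.iff_orderOf.1 hW) ⟨x, hx.2⟩
    rw [← Subgroup.orderOf_coe] at hj
    change orderOf x = _ at hj
    cases j with
    | zero => exact absurd (orderOf_eq_one_iff.1 hj) hx.1
    | succ j =>
      have e : orderOf x / 2 = 2 ^ j := by rw [hj, pow_succ]; simp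
      rw [e]
      refine ⟨hI _ (by rw [← pow_mul, ← pow_succ, ← hj, pow_orderOf_eq_one]), ?_⟩
      exact pow_ne_one_of_lt_orderOf (by positivity)
        (by rw [hj]; exact Nat.pow_lt_pow_right (by norm_num) (by omega))) hk
  rw [card_erase_of_mem h1W, card_filter_mem] at this
  exact ⟨k, this⟩

theorem mem_of_fiber {W : Subgroup G} [DecidablePred (· ∈ W)] (hVW : V ≤ W) (hc : V ≤ Cent W)
    (h2 : ∀ v ∈ V, v ^ 2 = 1) {y z : G} (hy : y ∈ W) (hz : z ∈ W) (e : z ^ 2 = y ^ 2)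
    (hk : #{x ∈ univ.filter (· ∈ W) | x ^ 2 = y ^ 2} = Nat.card V) : y⁻¹ * z ∈ V := by
  classical
  have hsub : (univ.filter (· ∈ V)).image (y * ·) ⊆ {x ∈ univ.filter (· ∈ W) | x ^ 2 = y ^ 2} := by
    intro x hx
    simp only [Finset.mem_image, mem_filter, mem_univ, true_and] at hx ⊢
    obtain ⟨v, hv, rfl⟩ := hx
    refine ⟨W.mul_mem hy (hVW hv), ?_⟩
    have : Commute y v := mem_cent.1 (hc hv) y hy
    rw [this.mul_pow, h2 v hv, mul_one]
  have := eq_of_subset_of_card_le hsub (by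
    rw [hk, card_image_of_injective _ (mul_right_injective y), card_filter_mem])
  have hz' : z ∈ (univ.filter (· ∈ V)).image (y * ·) := by
    rw [this]; simp [hz, e]
  simp only [Finset.mem_image, mem_filter, mem_univ, true_and] at hz'
  obtain ⟨v, hv, rfl⟩ := hz'
  simpa using hv

end Count

/-- The data of the key lemma. -/
structure Key (D V R T L : Subgroup G) (n : ℕ) : Prop where
  hD : IsPGroup 2 D
  hT : IsPGroup 2 T
  hR : IsPi {2}ᶜ R
  hI : ∀ x : G, x ^ 2 = 1 ↔ x ∈ V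
  hVD : V ≤ D
  hVT : V ≤ T
  hc : V ≤ Cent D
  hsq : ∀ x ∈ D, x ^ 2 ∈ V
  hn : 2 ≤ n
  hq : Nat.card V = 2 ^ n
  htr : Trans L V
  LD : L ≤ Nrm D
  RD : R ≤ Nrm D
  TD : T ≤ Nrm D
  LT : L ≤ Nrm T
  LR : L ≤ Nrm R
  TR : T ≤ Nrm R
  RV : R ≤ Cent V
  faith : R ⊓ Cent D = ⊥

namespace Key
variable [Finite G] {D V R T L : Subgroup G} {n : ℕ} (h : Key D V R T L n)
include h

theorem nrmV (A : Subgroup G) : A ≤ Nrm V := fun g _ => by
  apply mem_nrm_of_cj_le
  intro x hx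
  rw [mem_cj, ← h.hI] at hx
  rw [← h.hI]
  have : x = g * (g⁻¹ * x * g) * g⁻¹ := by group
  rw [this, conj_pow, hx]; group

theorem four_le : 4 ≤ Nat.card V := by
  rw [h.hq]
  calc 4 = 2 ^ 2 := by norm_num
    _ ≤ 2 ^ n := Nat.pow_le_pow_right (by norm_num) h.hn

theorem V_ne : V ≠ ⊥ := one_lt_card.1 (by have := h.four_le; omega)

theorem comm_mem {x y : G} (hx : x ∈ D) (hy : y ∈ D) : ⁅x, y⁆ ∈ V := by
  have : ⁅x, y⁆ = x ^ 2 * (x⁻¹ * y) ^ 2 * (y⁻¹) ^ 2 := by
    simp only [commutatorElement_def, pow_two]; group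
  rw [this]
  exact V.mul_mem (V.mul_mem (h.hsq _ hx) (h.hsq _ (D.mul_mem (D.inv_mem hx) hy)))
    (h.hsq _ (D.inv_mem hy))

theorem piD : IsPi {2} D := isPi_of_isPGroup Nat.prime_two h.hD

theorem TV : T ≤ Cent V := by
  have h1 : V ⊓ Zc T ≠ ⊥ := nil_meet_zc (nil_of_isPGroup Nat.prime_two h.hT)
    ⟨h.hVT, h.nrmV T⟩ h.V_ne
  obtain ⟨v, hv, hv1⟩ := exists_ne_one_of_ne_bot h1
  apply le_cent_symm
  intro w hw
  by_cases hw1 : w = 1
  · rw [hw1]; exact one_mem _
  obtain ⟨l, hl, rfl⟩ := h.htr v hv.1 hv1 w hw hw1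
  exact conj_mem_of_mem_nrm (nrm_cent h.LT hl) hv.2.2

theorem cent_of_mod {A Y : Subgroup G} (hA : A ≤ R) (hY : Y ≤ D) (hn : A ≤ Nrm Y)
    (h1 : ⁅Y, A⁆ ≤ V) : A ≤ Cent Y :=
  stable_factor_cent hn ((h.hR.of_le hA).coprime' (h.piD.of_le hY)) (Or.inr (h.piD.of_le hY).sol)
    h1 (hA.trans h.RV)

theorem eq_bot_of_mod {A : Subgroup G} (hA : A ≤ R) (h1 : ⁅D, A⁆ ≤ V) : A = ⊥ :=
  eq_bot_of_le (le_inf hA (h.cent_of_mod hA le_rfl (hA.trans h.RD) h1)) h.faith

theorem cent_R_of_mod {X : Subgroup G} (hX : X ≤ Nrm R) (h1 : ⁅D, X⁆ ≤ V) : X ≤ Cent R := by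
  haveI : V.Normal := normalIn_top_iff.1 ⟨le_top, h.nrmV ⊤⟩
  rw [← H46.commutator_eq_bot_iff]
  apply h.eq_bot_of_mod (commutator_le_right' hX)
  set π := QuotientGroup.mk' V
  have key : ∀ A B : Subgroup G, ⁅A, B⁆ ≤ V ↔ ⁅A.map π, B.map π⁆ = ⊥ := fun A B => by
    rw [← Subgroup.map_commutator, Subgroup.map_eq_bot_iff, QuotientGroup.ker_mk']
  rw [key, Subgroup.commutator_comm, Subgroup.map_commutator]
  apply Subgroup.commutator_commutator_eq_bot_of_rotate
  · rw [← Subgroup.map_commutator, ← key]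
    exact (Subgroup.commutator_mono (commutator_le_right' h.RD) le_rfl).trans h1
  · rw [(key _ _).1 h1, Subgroup.commutator_bot_left]

theorem card_pow {W : Subgroup G} (hW : W ≤ D) (hn : L ≤ Nrm W) :
    ∃ j, Nat.card W = Nat.card V ^ j := by
  classical
  haveI := Fintype.ofFinite G
  haveI : Fact (Nat.Prime 2) := ⟨Nat.prime_two⟩
  have hW2 : IsPGroup 2 W := h.hD.to_le hW
  have h1 := h.htr.pred_dvd h.V_ne (fun x => (h.hI x).1) hW2 hn
  obtain ⟨e, he⟩ := IsPGroup.iff_card.1 hW2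
  rw [he, h.hq] at h1
  obtain ⟨j, rfl⟩ := dvd_of_pred_dvd h.hn h1
  exact ⟨j, by rw [he, h.hq, pow_mul]⟩

theorem mem_of_sq {W : Subgroup G} (hVW : V ≤ W) (hW : W ≤ D) (hn : L ≤ Nrm W)
    (hcard : Nat.card W = Nat.card V ^ 2) {y z : G} (hy : y ∈ W) (hz : z ∈ W)
    (e : z ^ 2 = y ^ 2) : y⁻¹ * z ∈ V := by
  classical
  haveI := Fintype.ofFinite G
  by_cases hyV : y ∈ V
  · exact V.mul_mem (V.inv_mem hyV) ((h.hI z).1 (by rw [e, h.hI]; exact hyV))
  obtain ⟨k, hk⟩ := h.htr.fibers h.V_ne (univ.filter (· ∈ W)) (fun x => x ^ 2)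
    (fun l hl x hx => by
      simp only [mem_filter, mem_univ, true_and] at hx ⊢
      exact conj_mem_of_mem_nrm (hn hl) hx)
    (fun l x => conj_pow)
  have h1 := card_of_fibers (V := V) (univ.filter (· ∈ W) \ univ.filter (· ∈ V)) (fun x => x ^ 2)
    (fun x hx => by
      simp only [Finset.mem_sdiff, mem_filter, mem_univ, true_and] at hx
      exact ⟨h.hsq x (hW hx.1), fun e => hx.2 ((h.hI x).1 e)⟩) (k := k)
    (fun v hv hv1 => by
      rw [← hk v hv hv1]
      congr 1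
      ext x
      simp only [Finset.mem_sdiff, mem_filter, mem_univ, true_and]
      exact ⟨fun a => ⟨a.1.1, a.2⟩, fun a => ⟨⟨a.1, fun b => hv1 (by
        rw [← a.2, (h.hI x).2 b])⟩, a.2⟩⟩)
  rw [card_sdiff_of_subset (fun x hx => by
    simp only [mem_filter, mem_univ, true_and] at hx ⊢; exact hVW hx),
    card_filter_mem, card_filter_mem, hcard] at h1
  have h4 := h.four_le
  have hkq : k = Nat.card V := by
    obtain ⟨a, ha⟩ : ∃ a, Nat.card V = a + 1 := ⟨Nat.card V - 1, by omega⟩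
    rw [ha] at h1 ⊢
    have : (a + 1) ^ 2 - (a + 1) = a * (a + 1) := by
      rw [show (a + 1) ^ 2 = a * (a + 1) + (a + 1) by ring]; omega
    rw [this, Nat.add_sub_cancel] at h1
    exact (Nat.eq_of_mul_eq_mul_left (by omega) h1).symm
  refine mem_of_fiber hVW (h.hc.trans (cent_anti hW)) (fun v hv => (h.hI v).2 hv) hy hz e ?_
  rw [hk _ (h.hsq y (hW hy)) (fun e => hyV ((h.hI y).1 e)), hkq]

theorem structure_D (hR : R ≠ ⊥) : Nat.card D = Nat.card V ^ 3 ∧
    ∀ x ∈ D, x ∉ V → Nat.card ↥(D ⊓ Cent1 x) = Nat.card V ^ 2 := by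
  classical
  haveI := Fintype.ofFinite G
  obtain ⟨k, hk⟩ := h.htr.fibers h.V_ne (univ.filter (· ∈ D)) (fun x => x ^ 2)
    (fun l hl x hx => by
      simp only [mem_filter, mem_univ, true_and] at hx ⊢
      exact conj_mem_of_mem_nrm (h.LD hl) hx)
    (fun l x => conj_pow)
  have hcV : Nat.card (V.subgroupOf D) = Nat.card V := card_subgroupOf h.hVD
  have hne : V.subgroupOf D ≠ ⊤ := by
    rw [Ne, subgroupOf_eq_top]
    intro hle
    exact hR (h.eq_bot_of_mod le_rfl ((commutator_le_left' h.RD).trans hle))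
  have := struct (V := V.subgroupOf D) h.hD
    (fun v hv x => Subtype.ext (mem_cent.1 (h.hc hv) x x.2)) (fun x => h.hsq x x.2)
    (fun x => by rw [mem_subgroupOf, ← h.hI, Subtype.ext_iff]; rfl) h.hn (hcV.trans h.hq) k
    (fun v hv hv1 => by
      rw [← hk v hv (fun e => hv1 (Subtype.ext e))]
      refine card_bij (fun x _ => x.1) ?_ ?_ ?_
      · intro x hx
        simp only [mem_filter, mem_univ, true_and] at hx ⊢
        exact ⟨x.2, congrArg Subtype.val hx⟩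
      · intro a _ b _ e
        exact Subtype.ext e
      · intro y hy
        simp only [mem_filter, mem_univ, true_and] at hy ⊢
        exact ⟨⟨y, hy.1⟩, Subtype.ext hy.2, rfl⟩) hne
  rw [hcV] at this
  rcases this with h1 | ⟨h1, h2⟩
  · exfalso
    apply hR
    apply h.eq_bot_of_mod le_rfl
    rw [Subgroup.commutator_le]
    intro x hx r hr
    have e : ⁅x, r⁆ = (x⁻¹)⁻¹ * (r * x⁻¹ * r⁻¹) := by
      simp only [commutatorElement_def]; group
    have hx' := D.inv_mem hx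
    have e2 : (r * x⁻¹ * r⁻¹) ^ 2 = x⁻¹ ^ 2 := by
      rw [conj_pow, ← mem_cent.1 (h.RV hr) _ (h.hsq _ hx')]; group
    rw [e]
    by_cases hxV : x⁻¹ ∈ V
    · exact V.mul_mem (V.inv_mem hxV) ((h.hI _).1 (by rw [e2, h.hI]; exact hxV))
    refine mem_of_fiber h.hVD h.hc (fun v hv => (h.hI v).2 hv) hx'
      (conj_mem_of_mem_nrm (h.RD hr) hx') e2 ?_
    rw [hk _ (h.hsq _ hx') (fun e => hxV ((h.hI _).1 e)), h1]
  · refine ⟨h1, fun x hx hxV => ?_⟩
    have h3 := h2 ⟨x, hx⟩ hxV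
    have h4 : centralizer {(⟨x, hx⟩ : D)} = (Cent1 x).subgroupOf D := by
      ext y
      rw [mem_subgroupOf, mem_centralizer_singleton_iff, mem_cent1, Subtype.ext_iff]
      rfl
    rw [h4] at h3
    have h5 := card_inf_mul_relIndex (Cent1 x) D
    rw [relIndex, h3, h1, inf_comm, pow_succ] at h5
    exact Nat.eq_of_mul_eq_mul_right (card_pos' V) h5

theorem cent_le_V {r : G} (hr : r ∈ R) (hr1 : r ≠ 1) : D ⊓ Cent1 r ≤ V := by
  have hR : R ≠ ⊥ := ne_bot_of_mem hr hr1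
  obtain ⟨hD3, hC⟩ := h.structure_D hR
  set A := zpowers r with hA
  have hAR : A ≤ R := zpowers_le.2 hr
  rw [← cent_zpowers]
  set C := D ⊓ Cent A with hCd
  set D1 := ⁅D, A⁆ ⊔ V with hD1
  have hD1D : D1 ≤ D := sup_le (commutator_le_left' (hAR.trans h.RD)) h.hVD
  have hVC : V ≤ C := le_inf h.hVD (le_cent_symm (hAR.trans h.RV))
  have hsup : D1 ⊔ C = D := by
    apply le_antisymm (sup_le hD1D inf_le_left)
    conv_lhs => rw [← coprime_cent_prod (hAR.trans h.RD) ((h.hR.of_le hAR).coprime' h.piD)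
      (Or.inr h.piD.sol)]
    exact sup_le_sup_right le_sup_left _
  have hcc : D1 ≤ Cent C := by
    refine sup_le ?_ (h.hc.trans (cent_anti inf_le_left))
    rw [← H46.commutator_eq_bot_iff]
    apply Subgroup.commutator_commutator_eq_bot_of_rotate
    · rw [H46.commutator_eq_bot_iff'.2 (inf_le_right : C ≤ Cent A), Subgroup.commutator_bot_left]
    · rw [H46.commutator_eq_bot_iff']
      refine (hAR.trans h.RV).trans (cent_anti ?_)
      rw [Subgroup.commutator_le]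
      exact fun x hx y hy => h.comm_mem hx.1 hy
  by_contra hn
  obtain ⟨c, hc, hcV⟩ := SetLike.not_le_iff_exists.1 hn
  have hn2 : ¬ D1 ≤ V := fun hle =>
    hr1 (by simpa [hA] using h.eq_bot_of_mod hAR (le_sup_left.trans hle))
  obtain ⟨d, hd, hdV⟩ := SetLike.not_le_iff_exists.1 hn2
  have h1 : D1 ≤ D ⊓ Cent1 c := le_inf hD1D (hcc.trans (cent_le_cent1 hc))
  have h2 : C ≤ D ⊓ Cent1 d := le_inf inf_le_left ((le_cent_symm hcc).trans (cent_le_cent1 hd))
  have h3 := Subgroup.card_le_of_le h1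
  have h4 := Subgroup.card_le_of_le h2
  rw [hC c hc.1 hcV] at h3
  rw [hC d (hD1D hd) hdV] at h4
  have h5 := card_sup_mul_card_inf (nrm_of_le_cent (le_cent_symm hcc))
  rw [hsup, hD3] at h5
  have h6 : V ≤ D1 ⊓ C := le_inf le_sup_right hVC
  have h7 := Subgroup.card_le_of_le h6
  have hq := card_pos' V
  set q := Nat.card V
  have h8 : Nat.card ↥(D1 ⊓ C) ≤ q := by
    apply Nat.le_of_mul_le_mul_left (c := q ^ 3) _ (by positivity)
    rw [h5]
    calc _ ≤ q ^ 2 * q ^ 2 := Nat.mul_le_mul h3 h4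
      _ = _ := by ring
  have h9 : q ^ 2 ≤ Nat.card D1 := by
    apply Nat.le_of_mul_le_mul_right (c := q ^ 2) _ (by positivity)
    calc q ^ 2 * q ^ 2 = q ^ 3 * q := by ring
      _ ≤ q ^ 3 * Nat.card ↥(D1 ⊓ C) := Nat.mul_le_mul_left _ h7
      _ = _ := h5
      _ ≤ _ := Nat.mul_le_mul_left _ h4
  have e1 : D1 = D ⊓ Cent1 c :=
    Subgroup.eq_of_le_of_card_ge h1 (by rw [hC c hc.1 hcV]; exact h9)
  have e2 : V = D1 ⊓ C := Subgroup.eq_of_le_of_card_ge h6 h8
  apply hcV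
  rw [e2]
  exact ⟨e1 ▸ ⟨hc.1, self_mem_cent1 c⟩, hc⟩

theorem eq_V_of_eq {W : Subgroup G} (hW : W ≤ D) (e : ⁅W, T⁆ ⊔ V = W) : W = V := by
  have hnil : Group.IsNilpotent ↥(D ⊔ T) :=
    (h.piD.sup (isPi_of_isPGroup Nat.prime_two h.hT) h.TD).nil
  have h1 : ⁅W, T⁆ = ⁅⁅W, T⁆, T⁆ := by
    conv_lhs => rw [← e]
    exact commutator_sup_cent' (h.nrmV _) (le_cent_symm h.TV)
  have h2 : ⁅W, T⁆ ≤ D :=
    (Subgroup.commutator_mono hW le_rfl).trans (commutator_le_left' h.TD)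
  have := nil_eq_bot_of_le_commutator hnil (h2.trans le_sup_left) le_sup_right h1.le
  rw [← e, this, bot_sup_eq]

theorem le_cent : T ≤ Cent R := by
  by_contra hT
  have hR : R ≠ ⊥ := by
    rintro rfl
    exact hT fun g _ => mem_cent.2 fun x hx => by rw [mem_bot.1 hx, one_mul, mul_one]
  obtain ⟨hD3, -⟩ := h.structure_D hR
  have h4 := h.four_le
  have hlt : ∀ {a b : ℕ}, Nat.card V ^ a < Nat.card V ^ b → a < b := fun hab =>
    (Nat.pow_lt_pow_iff_right (by omega)).1 hab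
  set W := ⁅D, T⁆ ⊔ V with hWd
  have hWD : W ≤ D := sup_le (commutator_le_left' h.TD) h.hVD
  have hLW : L ≤ Nrm W := nrm_sup (nrm_commutator h.LD h.LT) (h.nrmV _)
  have hTW : T ≤ Nrm W := nrm_sup (nrm_commutator h.TD le_nrm_self) (h.nrmV _)
  have hWV : V < W := lt_of_le_of_ne le_sup_right fun e =>
    hT (h.cent_R_of_mod h.TR (le_sup_left.trans e.ge))
  have hWD' : W < D := lt_of_le_of_ne hWD fun e => by
    have := h.eq_V_of_eq le_rfl e
    rw [e, this] at hWV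
    exact lt_irrefl _ hWV
  have hW2 : Nat.card W = Nat.card V ^ 2 := by
    obtain ⟨j, hj⟩ := h.card_pow hWD hLW
    have h1 := card_lt_of_lt hWV
    have h2 := card_lt_of_lt hWD'
    rw [hj] at h1 h2 ⊢
    rw [hD3] at h2
    conv_lhs at h1 => rw [← pow_one (Nat.card V)]
    have := hlt h1
    have := hlt h2
    congr 1; omega
  have hWT : ⁅W, T⁆ ≤ V := by
    have h1 : ⁅W, T⁆ ⊔ V ≤ W := sup_le (commutator_le_left' hTW) le_sup_right
    have h2 : ⁅W, T⁆ ⊔ V < W := lt_of_le_of_ne h1 fun e => hWV.ne' (h.eq_V_of_eq hWD e)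
    obtain ⟨j, hj⟩ := h.card_pow (h1.trans hWD) (nrm_sup (nrm_commutator hLW h.LT) (h.nrmV _))
    have h3 := card_lt_of_lt h2
    rw [hj, hW2] at h3
    have := hlt h3
    have h5 : V = ⁅W, T⁆ ⊔ V := Subgroup.eq_of_le_of_card_ge le_sup_right (by
      rw [hj]
      conv_rhs => rw [← pow_one (Nat.card V)]
      exact Nat.pow_le_pow_right (by omega) (by omega))
    exact le_sup_left.trans h5.ge
  have hmod : ∀ g ∈ Nrm R, (∀ x ∈ D, ⁅x, g⁆ ∈ V) → g ∈ Cent R := by
    intro g hg hx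
    haveI : V.Normal := normalIn_top_iff.1 ⟨le_top, h.nrmV ⊤⟩
    refine h.cent_R_of_mod (X := zpowers g) (zpowers_le.2 hg) ?_ (mem_zpowers g)
    rw [Subgroup.commutator_le]
    intro x hxD a ha
    have h1 : Commute (QuotientGroup.mk' V x) (QuotientGroup.mk' V g) := by
      rw [← commutatorElement_eq_one_iff_commute, ← map_commutatorElement]
      exact (QuotientGroup.eq_one_iff _).2 (hx x hxD)
    obtain ⟨k, rfl⟩ := ha
    have h2 := h1.zpow_right k
    rw [← map_zpow, ← commutatorElement_eq_one_iff_commute, ← map_commutatorElement] at h2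
    exact (QuotientGroup.eq_one_iff _).1 h2
  have hcW : ∀ x ∈ D, ∀ u ∈ T, ⁅x, u⁆ ∈ W := fun x hx u hu =>
    mem_sup_left (commutator_mem_commutator hx hu)
  have hsq : ∀ u ∈ T, u ^ 2 ∈ Cent R := by
    intro u hu
    refine hmod _ (h.TR (T.pow_mem hu 2)) fun x hx => ?_
    have e : ⁅x, u ^ 2⁆ = ⁅x, u⁆ ^ 2 * ⁅⁅x, u⁆⁻¹, u⁆ := by
      simp only [commutatorElement_def, pow_two]; group
    rw [e]
    exact V.mul_mem (h.hsq _ (hWD (hcW x hx u hu)))
      (hWT (commutator_mem_commutator (W.inv_mem (hcW x hx u hu)) hu))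
  have hfpf : ∀ u ∈ T, u ∉ Cent R → ∀ r ∈ R, u * r * u⁻¹ = r → r = 1 := by
    intro u hu hu' r hr e
    by_contra hr1
    refine hu' (hmod u (h.TR hu) fun x hx => ?_)
    set y := ⁅x, u⁆ with hy
    have hyW : y ∈ W := hcW x hx u hu
    have e1 : r * y * r⁻¹ = ⁅r * x * r⁻¹, u⁆ := by
      have : r * u * r⁻¹ = u := by
        conv_lhs => rw [← e]
        rw [mul_assoc (u * r) u⁻¹ u, inv_mul_cancel, mul_one, e, mul_inv_cancel_right]
      rw [hy, conjugate_commutatorElement, this]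
    have h1 : y⁻¹ * (r * y * r⁻¹) ∈ V :=
      h.mem_of_sq hWV.le hWD hLW hW2 hyW (e1 ▸ hcW _ (conj_mem_of_mem_nrm (h.RD hr) hx) u hu)
        (by rw [conj_pow, ← mem_cent.1 (h.RV hr) _ (h.hsq _ (hWD hyW))]; group)
    have hYD : zpowers y ⊔ V ≤ D := sup_le (zpowers_le.2 (hWD hyW)) h.hVD
    haveI : V.Normal := normalIn_top_iff.1 ⟨le_top, h.nrmV ⊤⟩
    have h2 : ⁅zpowers y ⊔ V, zpowers r⁆ ≤ V := by
      have h3 : Commute (QuotientGroup.mk' V y) (QuotientGroup.mk' V r) := by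
        have := (QuotientGroup.eq_one_iff _).2 h1
        change QuotientGroup.mk' V _ = 1 at this
        simp only [map_mul, map_inv] at this
        rw [inv_mul_eq_one, eq_mul_inv_iff_mul_eq] at this
        exact this
      refine commutator_sup_le ?_ (commutator_le_left' (h.nrmV _)) (h.nrmV _)
      rw [Subgroup.commutator_le]
      rintro _ ⟨a, rfl⟩ _ ⟨b, rfl⟩
      have h4 := h3.zpow_zpow a b
      rw [← map_zpow, ← map_zpow, ← commutatorElement_eq_one_iff_commute,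
        ← map_commutatorElement] at h4
      exact (QuotientGroup.eq_one_iff _).1 h4
    have h3 := h.cent_of_mod (zpowers_le.2 hr) hYD
      (commutator_le_left_iff.1 (h2.trans le_sup_right)) h2
    apply h.cent_le_V hr hr1
    exact ⟨hWD hyW, mem_cent1.2
      (mem_cent.1 (h3 (mem_zpowers r)) y (mem_sup_left (mem_zpowers y)))⟩
  have hinv : ∀ u ∈ T, u ∉ Cent R → ∀ r ∈ R, u * r * u⁻¹ = r⁻¹ := by
    intro u hu hu' r hr
    let φ : MulAut R := R.normalizerMonoidHom ⟨u, h.TR hu⟩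
    have hφ : ∀ x : R, (φ x : G) = u * x * u⁻¹ := fun x => rfl
    have h1 : MonoidHom.FixedPointFree φ := fun x hx =>
      Subtype.ext (hfpf u hu hu' x x.2 (by rw [← hφ, hx]))
    have h2 : Function.Involutive φ := fun x => Subtype.ext (by
      rw [hφ, hφ]
      have := mem_cent.1 (hsq u hu) x x.2
      calc u * (u * x * u⁻¹) * u⁻¹ = u ^ 2 * x * (u ^ 2)⁻¹ := by rw [pow_two]; group
        _ = x := by rw [← this]; group)
    have := congrArg Subtype.val (congrFun (h1.coe_eq_inv_of_involutive h2) ⟨r, hr⟩)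
    exact this
  have hidx : (Cent R).relIndex T = 2 := by
    obtain ⟨u, hu, hu'⟩ := SetLike.not_le_iff_exists.1 hT
    rw [relIndex_eq_two_iff]
    refine ⟨u, hu, fun b hb => ?_⟩
    by_cases hbC : b ∈ Cent R
    · exact Or.inr ⟨hbC, fun h1 => hu' ((Subgroup.mul_mem_cancel_left _ hbC).1 h1)⟩
    · refine Or.inl ⟨mem_cent.2 fun r hr => ?_, hbC⟩
      have e1 := hinv u hu hu' r hr
      calc r * (b * u) = (b * (u * r * u⁻¹) * b⁻¹) * (b * u) := by
            rw [e1, hinv b hb hbC r⁻¹ (R.inv_mem hr), inv_inv]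
        _ = b * u * r := by group
  classical
  haveI := Fintype.ofFinite G
  obtain ⟨a, ha⟩ := h.htr.pred_dvd h.V_ne (fun x => (h.hI x).1) h.hT h.LT
  obtain ⟨b, hb⟩ := h.htr.pred_dvd h.V_ne (fun x => (h.hI x).1)
    (h.hT.to_le (inf_le_right : Cent R ⊓ T ≤ T)) (nrm_inf (nrm_cent h.LR) h.LT)
  have h5 := card_inf_mul_relIndex (Cent R) T
  rw [hidx] at h5
  have h6 := card_pos' (Cent R ⊓ T)
  have h7 : Nat.card V - 1 ∣ 1 := by
    have : (Nat.card V - 1) * a = (Nat.card V - 1) * (2 * b) + 1 := by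
      rw [mul_left_comm, ← ha, ← hb]; omega
    exact (Nat.dvd_add_right (dvd_mul_right _ _)).1 (this ▸ dvd_mul_right _ _)
  have := Nat.le_of_dvd one_pos h7
  omega

end Key

end H18.GY
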