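import Cfsg.Agent.H18.GY3
import Cfsg.Agent.H18.Misc
import Cfsg.Agent.H52.Sec6b
import Cfsg.Agent.H9.Critical
import Cfsg.Agent.H7.MinAct

/-! Solvable groups with one class of involutions have 2-length one. -/

namespace H18.GY

open Cfsg hiding pRank
open H46 Subgroup
open scoped commutatorElement

universe u

def InvConj (G : Type u) [Group G] : Prop :=
  ∀ x y : G, orderOf x = 2 → orderOf y = 2 → ∃ g : G, y = g * x * g⁻¹

def TwoInv (G : Type u) [Group G] : Prop :=
  ∃ x y : G, orderOf x = 2 ∧ orderOf y = 2 ∧ x ≠ y ∧ x * y = y * x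

instance factTwo : Fact (Nat.Prime 2) := ⟨Nat.prime_two⟩

variable {G : Type u} [Group G] [Finite G]

theorem InvConj.oneCl (h : InvConj G) : OneCl 2 G := by
  intro K hK x hx hx2 y hy
  obtain ⟨g, rfl⟩ := h x y hx2 hy
  exact (inferInstance : K.Normal).conj_mem x hx g

theorem InvConj.quotient (h : InvConj G) (N : Subgroup G) [N.Normal]
    (hN : (Nat.card N).Coprime 2) : InvConj (G ⧸ N) := by
  intro x y hx hy
  obtain ⟨x', hx', rfl⟩ := exists_lift_orderOf N hN hx
  obtain ⟨y', hy', rfl⟩ := exists_lift_orderOf N hN hy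
  obtain ⟨g, rfl⟩ := h x' y' hx' hy'
  exact ⟨QuotientGroup.mk g, rfl⟩

theorem TwoInv.quotient (h : TwoInv G) (N : Subgroup G) [N.Normal]
    (hN : (Nat.card N).Coprime 2) : TwoInv (G ⧸ N) := by
  obtain ⟨x, y, hx, hy, hne, hc⟩ := h
  have key : ∀ z : G, z ^ 2 = 1 → z ∈ N → z = 1 := fun z hz hzN => by
    by_contra h1
    have h2 := H46.orderOf_dvd_card hzN
    rw [orderOf_eq_prime hz h1] at h2
    exact absurd (Nat.Coprime.eq_one_of_dvd hN.symm h2) (by norm_num)
  have ord : ∀ z : G, orderOf z = 2 → orderOf (QuotientGroup.mk z : G ⧸ N) = 2 := fun z hz => by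
    have hz2 : z ^ 2 = 1 := by rw [← hz, pow_orderOf_eq_one]
    apply orderOf_eq_prime
    · rw [← QuotientGroup.mk_pow, hz2, QuotientGroup.mk_one]
    · intro e
      rw [key z hz2 ((QuotientGroup.eq_one_iff z).1 e), orderOf_one] at hz
      exact absurd hz (by norm_num)
  refine ⟨QuotientGroup.mk x, QuotientGroup.mk y, ord x hx, ord y hy, fun e => hne ?_, ?_⟩
  · have h1 := QuotientGroup.eq.1 e
    have hc' : Commute x⁻¹ y := (show Commute x y from hc).inv_left
    have := key _ (by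
      rw [hc'.mul_pow, inv_pow, ← hx, pow_orderOf_eq_one, hx, ← hy, pow_orderOf_eq_one]; simp) h1
    exact inv_mul_eq_one.1 this
  · rw [← QuotientGroup.mk_mul, ← QuotientGroup.mk_mul, hc]

/-- `Ω₂` of a critical subgroup -/
theorem exists_D {Q : Subgroup G} [hQn : Q.Normal] (hQ : IsPGroup 2 Q) :
    ∃ D : Subgroup G, D.Normal ∧ D ≤ Q ∧ (∀ x ∈ D, x ^ 4 = 1) ∧
      (∀ x ∈ Zc Q, x ^ 2 = 1 → x ∈ D) ∧
      ∀ A : Subgroup G, IsPi {2}ᶜ A → A ≤ Cent D → A ≤ Cent Q := by
  obtain ⟨H, hH, h1, h2, h3⟩ := H9.exists_critical (p := 2) hQ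
  let D0 : Subgroup Q :=
    { carrier := {x | x ∈ H ∧ x ^ 4 = 1}
      one_mem' := ⟨H.one_mem, one_pow _⟩
      inv_mem' := fun {x} hx => ⟨H.inv_mem hx.1, by rw [inv_pow, hx.2, inv_one]⟩
      mul_mem' := fun {x y} hx hy => ⟨H.mul_mem hx.1 hy.1, by
        have c1 := mem_centralizer_iff.1 (h1 x hx.1)
        have c2 := mem_centralizer_iff.1 (h1 y hy.1)
        have c3 := mem_centralizer_iff.1 (h2 x⁻¹ (H.inv_mem hx.1) y).2
        have c4 := (h2 x⁻¹ (H.inv_mem hx.1) y).1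
        set c := ⁅x⁻¹, y⁆ with hc
        have k1 : Commute (x ^ 2) c := (c1 c c4).symm
        have k2 : Commute (x ^ 2) (y ^ 2) := (c1 _ (H.pow_mem hy.1 2)).symm
        have k3 : Commute c (y ^ 2) := c2 c c4
        have k4 : c ^ 2 = 1 := by
          have e : ⁅(x ^ 2)⁻¹, y⁆ = x⁻¹ * c * x * c := by
            simp only [hc, commutatorElement_def, pow_two, mul_inv_rev, inv_inv, mul_assoc,
              mul_inv_cancel_left, inv_mul_cancel_left]
          have e2 : ⁅(x ^ 2)⁻¹, y⁆ = 1 := by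
            rw [commutatorElement_eq_one_iff_commute]
            exact Commute.inv_left (c1 y hy.1).symm
          rw [e2, mul_assoc x⁻¹, ← c3 x hx.1, inv_mul_cancel_left] at e
          rw [pow_two, ← e]
        rw [show (4 : ℕ) = 2 * 2 from rfl, pow_mul, sq_mul, ← hc,
          (k2.mul_left k3).mul_pow, k1.mul_pow, k4, ← pow_mul, ← pow_mul, hx.2, hy.2]
        simp⟩ }
  haveI : D0.Characteristic := H9.characteristic_of_forall_mem fun φ x hx =>
    ⟨H9.apply_mem_of_characteristic φ hx.1, by rw [← map_pow, hx.2, map_one]⟩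
  have hHQ : H.map Q.subtype ≤ Q := map_subtype_le _
  refine ⟨D0.map Q.subtype, inferInstance, map_subtype_le _, ?_, ?_, ?_⟩
  · rintro _ ⟨x, hx, rfl⟩
    exact congrArg Subtype.val hx.2
  · intro x hx hx2
    refine ⟨⟨x, hx.1⟩, ⟨h3 ?_, Subtype.ext ?_⟩, rfl⟩
    · exact mem_centralizer_iff.2 fun y _ => Subtype.ext (mem_cent.1 hx.2 y y.2)
    · change x ^ 4 = 1
      rw [show (4 : ℕ) = 2 * 2 from rfl, pow_mul, hx2, one_pow]
  · intro A hA hAD
    have hQ2 : IsPi {2} Q := isPi_of_isPGroup Nat.prime_two hQ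
    have h4 : A ≤ Cent (H.map Q.subtype) := fun a ha =>
      H7.mem_centralizer_of_centralizes_omega' (p := 2) (hQ.to_le hHQ)
        (le_nrm_of_normal _ ⊤ (mem_top a))
        ((pnat_compl_singleton_iff_coprime Nat.prime_two).1 (hA.elt ha)) (by
          rintro _ ⟨x, hx, rfl⟩ h
          refine mem_cent.1 (hAD ha) _ ⟨x, ⟨hx, Subtype.ext ?_⟩, rfl⟩
          rcases h with h | h
          · change (Q.subtype x) ^ 4 = 1
            rw [show (4 : ℕ) = 2 * 2 from rfl, pow_mul, h, one_pow]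
          · exact h.2)
    have h5 : H.map Q.subtype ≤ Q ⊓ Cent A := le_inf hHQ (le_cent_symm h4)
    refine coprime_nil_faithful_cent_stab hQ2.nil (le_nrm_of_normal _ _) (hA.coprime' hQ2) ?_
    intro x hx
    apply h5
    refine ⟨⟨x, hx.1⟩, h3 (mem_centralizer_iff.2 fun y hy => Subtype.ext ?_), rfl⟩
    exact mem_cent.1 hx.2 y (h5 ⟨y, hy, rfl⟩)

theorem sylow_of_pLength {N T : Subgroup G} (h : PLengthLE 2 1 N) (hT : IsSylowOf 2 T (Op'p 2 N)) :
    IsSylowOf 2 T N ∧ Op' 2 N ⊔ (N ⊓ Nrm T) = N := by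
  have hK : Op'p 2 N ⊴ N := normalIn_map_subtype inferInstance
  have h1 : PNat {2}ᶜ ((Op'p 2 N).relIndex N) := by
    rw [Op'p, relIndex_map_subtype, pnat_compl_singleton_iff_coprime Nat.prime_two]
    exact pLengthLE_zero_iff.1 (pLengthLE_succ_iff.1 h)
  refine ⟨hT.trans_idx hK.le h1, ?_⟩
  have h2 : Op' 2 N ≤ Op'p 2 N := by
    rw [Op'_eq_pPrimeCore Nat.prime_two]
    exact map_mono pPrimeCore_le_pPrimePCore
  have h3 := hT.sup_eq_of_idx h2 (H52.pnat_relIndex_Op'p Nat.prime_two N)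
  have h4 := frattini_arg Nat.prime_two hK hT
  rw [← h3, sup_assoc, sup_eq_right.2 (le_inf (hT.le.trans hK.le) le_nrm_self)] at h4
  exact h4

theorem pLengthLE_two : ∀ (G : Type u) [Group G] [Finite G], Group.IsSolvable G → InvConj G →
    TwoInv G → PLengthLE 2 1 G := by
  refine @H18.induction_card _ ?_
  intro G _ _ ih hs hconj htwo
  by_cases h0 : pPrimeCore 2 G = ⊥
  swap
  · refine pLengthLE_of_quotient_coprime (pPrimeCore 2 G) (coprime_card_pPrimeCore 2) ?_
    exact ih _ (H18.card_quotient_lt h0) inferInstance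
      (hconj.quotient _ (coprime_card_pPrimeCore 2)) (htwo.quotient _ (coprime_card_pPrimeCore 2))
  have hG : IsPSolvable 2 G := isPSolvable_of_isSolvable 2
  obtain ⟨R, hR, hs', hN, hC⟩ := setup hG
  apply pLengthLE_one_of_index
  rw [index_dvd_of_sup_eq_top hN]
  by_cases hd : 2 ∣ Nat.card (Nrm R)
  swap
  · exact fun h1 => hd (h1.trans (relIndex_dvd_card _ _))
  set Q := pCore 2 G with hQd
  have hQ : IsPi {2} Q := isPi_pCore
  have hCQ : Cent Q ≤ Q := centralizer_pCore_le hG h0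
  by_cases hR0 : R = ⊥
  · have : Nrm R ≤ Q := fun g _ => by
      rw [hR0, sup_bot_eq] at hC
      exact hC (mem_cent.2 fun x hx => by rw [mem_bot.1 hx, one_mul, mul_one])
    rw [relIndex_eq_one.2 this]; norm_num
  set N := Nrm R with hNd
  have hZ : ∀ y : G, orderOf y = 2 → y ∈ Zc Q := fun y hy => hconj.oneCl.mem_zc hG h0 hy
  have hcR : ∀ y : G, orderOf y = 2 → y ∈ Cent R := fun y hy =>
    hconj.oneCl.mem_cent hG h0 hR hs' hd hy
  have hconjN : ∀ x y : G, orderOf x = 2 → orderOf y = 2 → ∃ g ∈ N, y = g * x * g⁻¹ := by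
    intro x y hx hy
    obtain ⟨g, rfl⟩ := hconj x y hx hy
    have hg : g ∈ N ⊔ Q := by rw [sup_comm, hN]; exact mem_top g
    obtain ⟨n, hn, k, hk, rfl⟩ := (mem_sup_of_nrm' (le_nrm_of_normal Q N)).1 hg
    refine ⟨n, hn, ?_⟩
    rw [mul_assoc n k x, mem_cent.1 (hZ x hx).2 k hk]; group
  have hNlt : N ≠ ⊤ := fun e => by
    haveI : R.Normal := normalIn_top_iff.1 ⟨le_top, e.ge⟩
    exact hR0 (eq_bot_of_le (le_pPrimeCore
      ((isPi_compl_singleton_iff_coprime Nat.prime_two).1 hR)) h0)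
  have hpl : PLengthLE 2 1 N := by
    refine ih N (H18.card_lt_of_ne_top hNlt) inferInstance ?_ ?_
    · intro x y hx hy
      obtain ⟨g, hg, e⟩ := hconjN x y (by rw [Subgroup.orderOf_coe, hx])
        (by rw [Subgroup.orderOf_coe, hy])
      exact ⟨⟨g, hg⟩, Subtype.ext e⟩
    · obtain ⟨x, y, hx, hy, hne, hc⟩ := htwo
      exact ⟨⟨x, cent_le_nrm R (hcR x hx)⟩, ⟨y, cent_le_nrm R (hcR y hy)⟩,
        by rw [← Subgroup.orderOf_coe]; exact hx, by rw [← Subgroup.orderOf_coe]; exact hy,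
        fun e => hne (congrArg Subtype.val e), Subtype.ext hc⟩
  obtain ⟨T, hT⟩ := exists_sylow Nat.prime_two (Op'p 2 N)
  obtain ⟨hTN, hfr⟩ := sylow_of_pLength hpl hT
  set V := omegaOne 2 (Zc Q) with hVd
  have hI : ∀ x : G, x ^ 2 = 1 ↔ x ∈ V := fun x => by
    rw [hVd, mem_omegaOne_of_comm (comm_zc Q)]
    refine ⟨fun h => ⟨?_, h⟩, fun h => h.2⟩
    by_cases h1 : x = 1
    · rw [h1]; exact one_mem _
    · exact hZ x (orderOf_eq_prime h h1)
  have hVZ : V ≤ Zc Q := omegaOne_le _ _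
  have hV2 : IsPi {2} V := hQ.of_le (hVZ.trans inf_le_left)
  have hVR : V ≤ Cent R := fun v hv => by
    by_cases h1 : v = 1
    · rw [h1]; exact one_mem _
    · exact hcR v (orderOf_eq_prime ((hI v).2 hv) h1)
  have hVN : V ⊴ N := ⟨hVR.trans (cent_le_nrm R),
    nrm_omegaOne 2 (nrm_zc (le_nrm_of_normal Q N))⟩
  obtain ⟨D, hDn, hDQ, hD4, hVD, hDf⟩ := exists_D (Q := Q) (hQ.isPGroup Nat.prime_two)
  obtain ⟨n, hn⟩ := hV2.exists_pow Nat.prime_two
  have hn2 : 2 ≤ n := by
    obtain ⟨x, y, hx, hy, hne, hc⟩ := htwo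
    have hx2 : x ^ 2 = 1 := by rw [← hx, pow_orderOf_eq_one]
    have hy2 : y ^ 2 = 1 := by rw [← hy, pow_orderOf_eq_one]
    have hlt : zpowers x < V := lt_of_le_of_ne (zpowers_le.2 ((hI x).1 hx2)) fun e => by
      have hyx : y ∈ zpowers x := e ▸ (hI y).1 hy2
      have hy1 : y ≠ 1 := fun e => by rw [e, orderOf_one] at hy; exact absurd hy (by norm_num)
      rw [← Subgroup.mem_toSubmonoid] at hyx
      obtain ⟨k, rfl⟩ := hyx
      rcases Int.even_or_odd' k with ⟨j, rfl | rfl⟩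
      · exact hy1 (by simp only [zpow_mul]; rw [zpow_ofNat, hx2, one_zpow])
      · exact hne (by simp only [zpow_add, zpow_mul]; rw [zpow_ofNat, hx2, one_zpow]; simp)
    have := card_lt_of_lt hlt
    rw [card_zpowers', hx, hn] at this
    by_contra h
    interval_cases n <;> simp at this
  have hkey : Key D V R T (N ⊓ Nrm T) n :=
    { hD := (hQ.of_le hDQ).isPGroup Nat.prime_two
      hT := hTN.isPGroup Nat.prime_two
      hR := hR
      hI := hI
      hVD := fun v hv => hVD v (hVZ hv) ((hI v).2 hv)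
      hVT := hTN.normal_le hV2 hVN
      hc := hVZ.trans (inf_le_right.trans (cent_anti hDQ))
      hsq := fun x hx => (hI _).1 (by rw [← pow_mul]; exact hD4 x hx)
      hn := hn2
      hq := hn
      htr := by
        intro v hv hv1 w hw hw1
        obtain ⟨g, hg, rfl⟩ := hconjN v w (orderOf_eq_prime ((hI v).2 hv) hv1)
          (orderOf_eq_prime ((hI w).2 hw) hw1)
        rw [← hfr, sup_comm] at hg
        obtain ⟨l, hl, o, ho, rfl⟩ :=
          (mem_sup_of_nrm' (inf_le_left.trans (le_nrm_piCoreOf _ N))).1 hg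
        have h1 : Op' 2 N ≤ Cent V := cent_of_normalIn_of_coprime (piCoreOf_normalIn _ N) hVN
          ((isPi_piCoreOf _ N).coprime' hV2)
        refine ⟨l, hl, ?_⟩
        rw [mul_assoc l o v, ← mem_cent.1 (h1 ho) v hv]; group
      LD := le_nrm_of_normal _ _
      RD := le_nrm_of_normal _ _
      TD := le_nrm_of_normal _ _
      LT := inf_le_right
      LR := inf_le_left
      TR := hTN.le
      RV := le_cent_symm hVR
      faith := (hQ.of_le ((hDf _ hR.inf_left inf_le_right).trans hCQ)).eq_bot hR.inf_left }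
  have hTQ : T ≤ Q := by
    have h1 : T ≤ Q ⊔ R := hkey.le_cent.trans hC
    exact (isPiHallOf_of_sup' (le_nrm_of_normal Q R) hQ hR).le_of_normal
      (le_nrm_of_normal _ _) hTN.isPi h1
  exact fun h => hTN.not_dvd Nat.prime_two (h.trans (relIndex_dvd_of_le_left _ hTQ))

end H18.GY
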