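/- Hall-Higman: elements with small commutator space lie in an abelian normal subgroup. -/
import Cfsg.Agent.H46.Misc
import Cfsg.Agent.H9.RankFour
import Cfsg.Agent.H22.HHPrep

set_option autoImplicit false

open Subgroup H46 Cfsg
open scoped commutatorElement

namespace H18.HH2

universe u

variable {G : Type u} [Group G] [Finite G] {p : ℕ} [hp : Fact p.Prime]

omit hp in
theorem indep {W A : Subgroup G} (hW : IsMulCommutative W) (U Y : ℕ → Subgroup G) (N : ℕ)
    (h1 : ∀ i, U i ≤ W) (h2 : ∀ i, A ≤ Nrm (U i)) (h3 : ∀ i, U i ≤ Cent (Y i))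
    (h4 : ∀ i < N, ∀ j < N, i ≠ j → ∃ a ∈ A, a ∈ Y i ∧ U j ⊓ Cent1 a = ⊥)
    (s : Finset ℕ) (hs : ∀ i ∈ s, i < N) : ∀ j < N, j ∉ s → U j ⊓ s.sup U = ⊥ := by
  classical
  induction s using Finset.induction_on with
  | empty => simp
  | insert k s hk ih =>
    intro j hj hjs
    rw [Finset.mem_insert, not_or] at hjs
    obtain ⟨a, ha, haY, hf⟩ := h4 k (hs k (by simp)) j hj (Ne.symm hjs.1)
    have hS : s.sup U ≤ W := Finset.sup_le fun i _ => h1 i
    have hn : a ∈ Nrm (s.sup U) := mem_nrm_of_cj_le (cj_le_iff.2 (Finset.sup_le fun i hi =>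
      (cj_of_mem_nrm (inv_mem (h2 i ha))).ge.trans (cj_mono _ (Finset.le_sup hi))))
    rw [eq_bot_iff, ← hf, Finset.sup_insert]
    rintro w ⟨hw1, hw2⟩
    obtain ⟨u, hu, v, hv, rfl⟩ := (mem_sup_of_nrm (hS.trans (nrm_of_comm hW (h1 k)))).1 hw2
    have e1 : a * u = u * a := mem_cent.1 (h3 k hu) a haY
    have e2 : (u * v)⁻¹ * (a * (u * v) * a⁻¹) = v⁻¹ * (a * v * a⁻¹) := by
      rw [← mul_assoc a, e1]; group
    have e3 : (u * v)⁻¹ * (a * (u * v) * a⁻¹) ∈ U j ⊓ s.sup U :=
      ⟨mul_mem (Subgroup.inv_mem _ hw1) (conj_mem_of_mem_nrm (h2 j ha) hw1),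
        e2 ▸ mul_mem (Subgroup.inv_mem _ hv) (conj_mem_of_mem_nrm hn hv)⟩
    rw [ih (fun i hi => hs i (by simp [hi])) j hj hjs.2, mem_bot, inv_mul_eq_one,
      eq_mul_inv_iff_mul_eq] at e3
    exact ⟨hw1, mem_cent1.2 e3⟩

theorem big {W A : Subgroup G} (hp2 : p ≠ 2) (hW : IsMulCommutative W)
    (hc : (Nat.card W).Coprime p) (hA : IsElementaryAbelian p A) (hAW : A ≤ Nrm W)
    (hf : A ⊓ Cent W = ⊥) {β : G} (h1 : β ∈ Nrm W) (h2 : β ∈ Nrm A) {i : ℕ}
    (hβ : β ^ p ^ (i + 1) = 1) (hz : β ^ p ^ i ∉ Cent A) :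
    ∃ S ≤ W, S ⊓ Cent1 (β ^ p ^ i) = ⊥ ∧ (p ^ (i + 1)) ^ 2 ≤ Nat.card S := by
  classical
  set z := β ^ p ^ i with hzd
  have hP : IsPGroup p A := fun x => ⟨1, Subtype.ext (by simpa using hA.2 x x.2)⟩
  have hZ : zpowers z ≤ Nrm A := zpowers_le.2 (pow_mem h2 _)
  have pZ : IsPGroup p (zpowers z) := IsPGroup.of_card (n := 1) (by
    rw [card_zpowers', pow_one]
    exact orderOf_eq_prime (by rw [← pow_mul, ← pow_succ, hβ]) fun e => hz (e ▸ one_mem _))
  obtain ⟨k, hk⟩ := IsPGroup.iff_card.1 hP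
  have cop : (Nat.card A).Coprime (Nat.card W) := hk ▸ hc.symm.pow_left k
  obtain ⟨Y, hY, cY, nY⟩ : ∃ Y ≤ A, IsCyclic (A ⧸ₙ Y) ∧ ¬ W ⊓ Cent Y ≤ Cent ⁅A, zpowers z⁆ := by
    by_contra h
    push Not at h
    have := le_cent_symm (coprime_abelian_gen_cent hA.1 hAW cop h)
    exact hz (zpowers_le.1 (commutator_eq_bot_iff'.1 (le_bot_iff.1
      (hf ▸ le_inf (commutator_le_left' hZ) this))))
  have nY' : ¬ ⁅A, zpowers z⁆ ≤ Y := fun h => nY (inf_le_right.trans (cent_anti h))
  have aY : A ≤ Nrm Y := nrm_of_comm hA.1 hY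
  have iY : Y.relIndex A = p := by
    rw [← card_quo aY]
    obtain ⟨t, ht⟩ := cyclic_iff_exists_zpowers.1 cY
    obtain ⟨a, ha, ha', rfl⟩ := mem_quo.1 (ht ▸ mem_zpowers t)
    rw [← ht, card_zpowers']
    refine orderOf_eq_prime (by rw [← mel_pow _ ha', hA.2 a ha, mel_one]) fun e => nY' ?_
    rw [e, zpowers_one_eq_bot] at ht
    exact (commutator_le_left' hZ).trans ((quo_eq_bot_iff aY).1 ht.symm)
  have zY : z ∉ Nrm Y := fun h => by
    have n1 : A ⊔ zpowers z ≤ Nrm Y := sup_le aY (zpowers_le.2 h)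
    have := nil_le_zc_of_prime (N := (A ⊔ zpowers z) ⧸ₙ Y) (A := A ⧸ₙ Y)
      (nil_quo (hP.to_sup_of_normal_left' pZ hZ).isNilpotent Y)
      ((normalIn_sup_left hZ).quo Y) (by rw [card_quo aY, iY]; exact hp.out)
    exact nY' ((commutator_mono le_rfl le_sup_right).trans
      ((quo_le_cent_iff aY n1).1 (this.trans inf_le_right)))
  set V := W ⊓ Cent Y with hV
  have cV := comm_of_le hW (inf_le_left : V ≤ W)
  have aV : A ≤ Nrm V := nrm_inf hAW (nrm_cent aY)
  set U := ⁅V, A⁆ with hU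
  have UV : U ≤ V := commutator_le_left' aV
  have TI := coprime_abel_cent_TI cV aV (coprime_of_le cop le_rfl inf_le_left)
  have U0 : U ≠ ⊥ := fun e => nY ((commutator_eq_bot_iff.1 e).trans
    (cent_anti (commutator_le_left' hZ)))
  have fpf : ∀ a ∈ A, a ∉ Y → U ⊓ Cent1 a = ⊥ := fun a ha haY => by
    have e : Y ⊔ zpowers a = A := by
      have l : Y ⊔ zpowers a ≤ A := sup_le hY (zpowers_le.2 ha)
      have e := relIndex_mul_relIndex Y _ A le_sup_left l
      rw [iY] at e
      rcases (Nat.dvd_prime hp.out).1 (Dvd.intro_left _ e) with h | h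
      · exact le_antisymm l (relIndex_eq_one.1 h)
      · rw [h] at e
        exact absurd (relIndex_eq_one.1 (Nat.eq_of_mul_eq_mul_right hp.out.pos
          (e.trans (one_mul p).symm)) (mem_sup_right (mem_zpowers a))) haY
    rw [eq_bot_iff, ← TI, ← e, cent_sup, cent_zpowers, e]
    exact le_inf inf_le_left (le_inf (inf_le_left.trans (UV.trans inf_le_right)) inf_le_right)
  have cU : p + 1 ≤ Nat.card U := by
    obtain ⟨a, ha, haY⟩ := SetLike.not_le_iff_exists.1 (show ¬ A ≤ Y from fun h =>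
      nY' ((commutator_le_left' hZ).trans h))
    have oa : Nat.card (zpowers a) = p := by
      rw [card_zpowers']; exact orderOf_eq_prime (hA.2 a ha) fun e => haY (e ▸ one_mem _)
    have := (semiregular_of_prime (K := U) (oa ▸ hp.out)
      (by rw [cent_zpowers]; exact fpf a ha haY)).dvd_pred
      ((zpowers_le.2 ha).trans (nrm_commutator_right V A))
    have h3 := one_lt_card.2 U0
    have := Nat.le_of_dvd (by omega) (oa ▸ this)
    omega
  set m := p ^ i with hm
  have cA : ∀ j : ℕ, cj (β ^ j) A = A := fun j => cj_of_mem_nrm (pow_mem h2 j)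
  let Us : ℕ → Subgroup G := fun j => cj (β ^ j) U
  have u1 : ∀ j, Us j ≤ W := fun j =>
    (cj_mono _ (UV.trans inf_le_left)).trans (cj_of_mem_nrm (pow_mem h1 j)).le
  have ind := indep (A := A) hW Us (fun j => cj (β ^ j) Y) (p ^ (i + 1)) u1
    (fun j => by rw [← cA j, ← cj_nrm]; exact cj_mono _ (nrm_commutator_right V A))
    (fun j => by rw [← cj_cent]; exact cj_mono _ (UV.trans inf_le_right)) (by
      have key : ∀ j k, j < k → k < p ^ (i + 1) → cj (β ^ j) Y ≠ cj (β ^ k) Y := by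
        intro j k l hk e
        obtain ⟨t, rfl⟩ := Nat.exists_eq_add_of_lt l
        rw [add_assoc, pow_add, cj_mul, cj_inj] at e
        obtain ⟨r, hr⟩ := H22.exists_mul_mod_eq_prime_pow hp.out i (t + 1) (by omega) (by omega)
        have := pow_mem (mem_nrm_iff_cj.2 e.symm) r
        rw [← pow_mul, pow_eq_pow_mod _ hβ, hr] at this
        exact zY this
      intro j hj k hk hne
      have : ¬ cj (β ^ j) Y ≤ cj (β ^ k) Y := fun l => by
        have e := eq_of_le_of_card_eq l (by rw [card_cj, card_cj])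
        rcases lt_or_gt_of_ne hne with h | h
        exacts [key j k h hk e, key k j h hj e.symm]
      obtain ⟨a, ha, ha'⟩ := SetLike.not_le_iff_exists.1 this
      have haA : a ∈ A := (cA j).le (cj_mono _ hY ha)
      refine ⟨a, haA, ha, ?_⟩
      have := fpf ((β ^ k)⁻¹ * a * β ^ k) (mem_cj.1 ((cA k).ge haA)) fun h => ha' (mem_cj.2 h)
      rw [← cj_eq_bot (g := β ^ k), cj_inf, cj_cent1] at this
      simpa [mul_assoc] using this)
  have nS : ∀ s t : Finset ℕ, t.sup Us ≤ Nrm (s.sup Us) := fun s t =>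
    (Finset.sup_le fun j _ => u1 j).trans (nrm_of_comm hW (Finset.sup_le fun j _ => u1 j))
  have cS : ∀ s : Finset ℕ, (∀ j ∈ s, j < p ^ (i + 1)) →
      Nat.card (s.sup Us : Subgroup G) = Nat.card U ^ s.card := by
    intro s hs
    induction s using Finset.induction_on with
    | empty => simp
    | insert k s hk ih =>
      have := nS {k} s
      rw [Finset.sup_singleton] at this
      rw [Finset.sup_insert, card_sup_of_disjoint this (ind s (fun j hj => hs j (by simp [hj])) k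
        (hs k (by simp)) hk), ih fun j hj => hs j (by simp [hj]), card_cj,
        Finset.card_insert_of_notMem hk, pow_succ']
  have m3 : 3 * m ≤ p ^ (i + 1) := by
    rw [pow_succ']
    exact Nat.mul_le_mul_right _ (by have := hp.out.two_le; omega)
  have dj : ∀ a b c, a ≤ b → b ≤ c → c ≤ 3 * m →
      (Finset.Ico a b).sup Us ⊓ (Finset.Ico b c).sup Us = ⊥ := fun a b c l1 l2 l3 => by
    have := card_sup_mul_card_inf (nS (Finset.Ico a b) (Finset.Ico b c))
    rw [← Finset.sup_union, Finset.Ico_union_Ico_eq_Ico l1 l2, cS _ (by simp; omega),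
      cS _ (by simp; omega), cS _ (by simp; omega), ← pow_add, Nat.card_Ico, Nat.card_Ico,
      Nat.card_Ico, show b - a + (c - b) = c - a by omega] at this
    exact Subgroup.card_eq_one.1 (Nat.eq_of_mul_eq_mul_left (pow_pos (card_pos' U) _)
      (this.trans (mul_one _).symm))
  have sh : ∀ a b, ∀ w ∈ (Finset.Ico a b).sup Us,
      z * w * z⁻¹ ∈ (Finset.Ico (m + a) (m + b)).sup Us := fun a b w hw => by
    have : (Finset.Ico a b).sup Us ≤ cj z⁻¹ ((Finset.Ico (m + a) (m + b)).sup Us) :=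
      Finset.sup_le fun j hj => cj_le_iff.1 (by
        rw [← cj_mul, ← pow_add]
        exact Finset.le_sup (f := Us) (by simp at hj ⊢; omega))
    exact cj_le_iff.2 this (conj_mem_cj.2 hw)
  refine ⟨(Finset.Ico 0 (2 * m)).sup Us, Finset.sup_le fun j _ => u1 j, ?_, ?_⟩
  · rw [eq_bot_iff, ← Finset.Ico_union_Ico_eq_Ico (Nat.zero_le m) (by omega), Finset.sup_union]
    rintro w ⟨hw, hwz⟩
    obtain ⟨u, hu, v, hv, rfl⟩ := (mem_sup_of_nrm (nS _ _)).1 hw
    have e : u * v = z * u * z⁻¹ * (z * v * z⁻¹) := by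
      calc u * v = z * (u * v) * z⁻¹ := by rw [← mem_cent1.1 hwz]; group
        _ = _ := by group
    have mono : ∀ a b c d, c ≤ a → b ≤ d → (Finset.Ico a b).sup Us ≤ (Finset.Ico c d).sup Us :=
      fun a b c d l1 l2 => Finset.sup_mono (Finset.Ico_subset_Ico l1 l2)
    have a1 : u = 1 := mem_bot.1 (dj 0 m (3 * m) (by omega) (by omega) le_rfl ▸ ⟨hu, by
      rw [eq_mul_inv_of_mul_eq e]
      exact mul_mem (mul_mem (mono _ _ _ _ (by omega) (by omega) (sh _ _ u hu))
        (mono _ _ _ _ (by omega) (by omega) (sh _ _ v hv)))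
        (Subgroup.inv_mem _ (mono _ _ _ _ le_rfl (by omega) hv))⟩)
    subst a1
    have a2 : v = 1 := mem_bot.1 (dj m (2 * m) (3 * m) (by omega) (by omega) le_rfl ▸ ⟨hv, by
      have := mono _ _ (2 * m) (3 * m) (by omega) (by omega) (sh _ _ v hv)
      simp only [one_mul, mul_one, mul_inv_cancel] at e
      rwa [← e] at this⟩)
    rw [a2, one_mul]; exact one_mem _
  · rw [cS _ (by simp; omega), Nat.card_Ico, Nat.sub_zero, mul_comm 2 m, pow_mul]
    refine Nat.pow_le_pow_left (le_trans ?_ (Nat.pow_le_pow_left cU m)) 2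
    have := one_add_mul_le_pow_of_sq_nonneg (a := p) (R := ℕ) (by omega) (by omega) (by omega) m
    rw [pow_succ, add_comm p 1]
    exact (Nat.le_add_left _ 1).trans this

/-- `z` has a small commutator space -/
def Small {W : Type*} [CommGroup W] (z : MulAut W) (N : ℕ) : Prop :=
  ∀ S : Subgroup W, (∀ w ∈ S, z w = w → w = 1) → Nat.card S < N ^ 2

theorem comm_of_small {W : Type u} [CommGroup W] [Finite W] (hp2 : p ≠ 2)
    (hc : (Nat.card W).Coprime p) (T : Subgroup (MulAut W)) (hT : IsPGroup p T)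
    {β γ : MulAut W} (hβ : β ∈ T) (hγ : γ ∈ T) {i j : ℕ} (h1 : β ^ p ^ (i + 1) = 1)
    (h2 : γ ^ p ^ (j + 1) = 1) (s1 : Small (β ^ p ^ i) (p ^ (i + 1)))
    (s2 : Small (γ ^ p ^ j) (p ^ (j + 1))) : Commute (β ^ p ^ i) (γ ^ p ^ j) := by
  obtain ⟨Z, hZ, el, hm⟩ := H9.exists_normal_elementary_omega_centralizer hp2 hT
  have key : ∀ (β : T) (i : ℕ), β ^ p ^ (i + 1) = 1 → Small (β.1 ^ p ^ i) (p ^ (i + 1)) →
      β ^ p ^ i ∈ Z := by
    intro β i h1 s1
    refine hm _ ?_ (by rw [← pow_mul, ← pow_succ, h1])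
    by_contra hz
    haveI : Finite (W ⋊[T.subtype] T) := Finite.of_equiv _ SemidirectProduct.equivProd.symm
    let l : W →* W ⋊[T.subtype] T := SemidirectProduct.inl
    let r : T →* W ⋊[T.subtype] T := SemidirectProduct.inr
    have li : Function.Injective l := SemidirectProduct.inl_injective
    have ri : Function.Injective r := SemidirectProduct.inr_injective
    have lr : ∀ (t : T) w, r t * l w * (r t)⁻¹ = l (t.1 w) := fun t w => by
      rw [← map_inv]; exact (SemidirectProduct.inl_aut t w).symm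
    have n : ⊤ ≤ Nrm l.range := (normalIn_top_iff.2 (by
      rw [SemidirectProduct.range_inl_eq_ker_rightHom]; infer_instance)).nrm
    obtain ⟨S, S1, S2, S3⟩ := big (W := l.range) (A := Z.map r) (β := r β) (i := i) hp2
      inferInstance (by rwa [← Nat.card_congr (MonoidHom.ofInjective li).toEquiv])
      ⟨by have := el.1; infer_instance, by
        rintro _ ⟨a, ha, rfl⟩; rw [← map_pow, el.2 a ha, map_one]⟩ (le_top.trans n)
      (eq_bot_iff.2 (by
        rintro _ ⟨⟨t, -, rfl⟩, ht⟩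
        have : t = 1 := Subtype.ext (MulEquiv.ext fun w => li (by
          rw [← lr, ← mem_cent.1 ht _ ⟨w, rfl⟩, mul_inv_cancel_right]; rfl))
        rw [this, map_one]; exact one_mem _)) (n (mem_top _))
      (mem_nrm_of_cj_le (by
        rintro _ ⟨_, ⟨a, ha, rfl⟩, rfl⟩
        exact ⟨β * a * β⁻¹, hZ.conj_mem a ha β, by simp⟩))
      (by rw [← map_pow, h1, map_one]) fun h => hz fun a ha => ri (by
        rw [map_mul, map_mul, map_pow]; exact mem_cent.1 h _ ⟨a, ha, rfl⟩)
    have := s1 (S.comap l) fun w hw e => li (by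
      rw [map_one, ← mem_bot, ← S2]
      refine ⟨hw, mem_cent1.2 (mul_inv_eq_iff_eq_mul.1 ?_).symm⟩
      rw [← map_pow, lr]; exact congrArg l e)
    rw [← card_map_of_injective li, map_comap_eq_self S1] at this
    omega
  have a1 := key ⟨β, hβ⟩ i (Subtype.ext h1) s1
  have a2 := key ⟨γ, hγ⟩ j (Subtype.ext h2) s2
  exact congrArg (fun t : Z => (t.1 : MulAut W)) (el.1.1.1 ⟨_, a1⟩ ⟨_, a2⟩)

end H18.HH2
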