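/- Hall-Higman Theorem 2.1.2 and the bound `l_p ≤ 2 e_p` for odd `p`. -/
import Cfsg.Agent.H18.HH2
import Cfsg.Agent.H18.HHGroup
import Cfsg.Agent.H93.TL5

set_option autoImplicit false
set_option linter.unusedSectionVars false

namespace H18.HH2

open Subgroup Module Polynomial H22 Cfsg H93.TL
open scoped commutatorElement

universe u

variable {K : Type*} [Field K] [IsAlgClosed K] {p : ℕ} [hp : Fact p.Prime]

theorem small {U Q W : Type*} [AddCommGroup U] [Module K U] [FiniteDimensional K U] [Nontrivial U]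
    [Group Q] [Finite Q] [CommGroup W] [Finite W] {ρ : Representation K Q U} {π : Q →* W}
    {b : W →* W →* Kˣ} {X : Module.End K U} {α : MulAut Q} {β : MulAut W}
    (h : Hs ρ π b) (i : Ind ρ π X α β) (hc : (Nat.card W).Coprime p) {m : ℕ} {g : K[X]}
    (g0 : g ≠ 0) (hg : aeval X g = 0) (hd : g.natDegree < p ^ (m + 1))
    (h1 : β ^ p ^ (m + 1) = 1) : Small (β ^ p ^ m) (p ^ (m + 1)) := by
  classical
  have inv : ∀ (j : ℕ) v w, b ((β ^ j) v) ((β ^ j) w) = b v w := fun j v w => by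
    induction j with
    | zero => rfl
    | succ j ih => simp only [pow_succ', MulAut.mul_apply, h.inv i, ih]
  have fr : ∀ w, ∀ j, 0 < j → j < p ^ (m + 1) → (β ^ j) w = w → (β ^ p ^ m) w = w :=
    fun w j j0 j1 e => (inv_mul_eq_one.1 (mem_bot.1 (inv_mul_pow_mem_of_mem β ⊥ (by simp)
      hp.out m h1 w j j0 j1 (by simp [e])))).symm
  have zp : (β ^ p ^ m) ^ p = 1 := by rw [← pow_mul, ← pow_succ, h1]
  have cm : ∀ w, β ((β ^ p ^ m) w) = (β ^ p ^ m) (β w) := fun w => by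
    rw [← MulAut.mul_apply, ← MulAut.mul_apply, (Commute.self_pow β _).eq]
  have zi := inv (p ^ m)
  set z := β ^ p ^ m with ez
  let δ : W →* W := MonoidHom.mk' (fun w => w⁻¹ * z w) fun v w => by
    rw [map_mul, mul_inv, mul_mul_mul_comm]
  have hδ : ∀ w, δ w = w⁻¹ * z w := fun _ => rfl
  have TI : ∀ w ∈ δ.range, z w = w → w = 1 := by
    rintro _ ⟨v, rfl⟩ e
    have : ∀ k : ℕ, (z ^ k) v = v * δ v ^ k := fun k => by
      induction k with
      | zero => simp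
      | succ k ih =>
        rw [pow_succ', MulAut.mul_apply, ih, map_mul, map_pow, e, pow_succ', ← mul_assoc, hδ,
          mul_inv_cancel_left]
    have e1 := this p
    rw [zp, MulAut.one_apply, eq_comm, mul_eq_left] at e1
    exact orderOf_eq_one_iff.1 (Nat.eq_one_of_dvd_coprimes hc (orderOf_dvd_natCard _)
      (orderOf_dvd_of_pow_eq_one e1))
  have dec : ∀ w, ∃ u ∈ δ.range, ∃ v, z v = v ∧ w = u * v := fun w => by
    have inj : Function.Injective ((δ.comp δ.range.subtype).codRestrict δ.range fun x => ⟨x, rfl⟩) :=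
      (injective_iff_map_eq_one _).2 fun x hx => Subtype.ext (TI x x.2
        (inv_mul_eq_one.1 (congrArg Subtype.val hx)).symm)
    obtain ⟨u, hu⟩ := Finite.injective_iff_surjective.1 inj ⟨δ w, w, rfl⟩
    have e : δ u = δ w := congrArg Subtype.val hu
    refine ⟨u, u.2, (u : W)⁻¹ * w, (inv_mul_eq_one.1 ?_).symm, by simp⟩
    rw [← hδ, map_mul, map_inv, e, inv_mul_cancel]
  have hB : ∀ w ∈ δ.range, β w ∈ δ.range := by
    rintro _ ⟨v, rfl⟩
    exact ⟨β v, by rw [hδ, hδ, map_mul, map_inv, cm]⟩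
  intro S hS
  have le : Nat.card S ≤ Nat.card δ.range := Nat.card_le_card_of_injective
    ((δ.comp S.subtype).codRestrict δ.range fun x => ⟨x, rfl⟩)
    ((injective_iff_map_eq_one _).2 fun x hx => Subtype.ext (hS x x.2
      (inv_mul_eq_one.1 (congrArg Subtype.val hx)).symm))
  refine le.trans_lt ?_
  obtain ⟨R, R1, R2⟩ := exists_orbit_reps (MulAut.toPerm _ (resAut β _ hB)) 1 (p ^ (m + 1))
    (map_one (resAut β _ hB)) fun t t1 j j0 j1 e => t1 (Subtype.ext (TI t t.2 (fr t j j0 j1 (by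
      rw [← resAut_pow β _ hB, ← map_pow] at *; exact congrArg Subtype.val e))))
  obtain ⟨d, n, n1, n2, n3⟩ := Hs.count (ρ := ρ.comp (δ.range.comap π).subtype)
    (π := π.subgroupComap δ.range) (b := (b.compl₂ δ.range.subtype).comp δ.range.subtype)
    ⟨π.subgroupComap_surjective_of_surjective _ h.surj, fun s t => h.comm s t,
      fun t e => h.ker t (congrArg Subtype.val e), fun w e => Subtype.ext (h.nd _ fun v => by
        obtain ⟨u, hu, f, hf, rfl⟩ := dec v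
        obtain ⟨w, x, rfl⟩ := w
        have e1 : b u (δ x) = 1 := e ⟨u, hu⟩
        change b (u * f) (δ x) = 1
        rw [map_mul, MonoidHom.mul_apply, e1, one_mul, hδ, map_mul, map_inv, ← zi f x, hf,
          inv_mul_cancel])⟩ (X := X)
    (α := resAut α _ fun t ht => by rw [mem_comap, ← i.map]; exact hB _ ht) (β := resAut β _ hB)
    ⟨i.inj, fun t => i.act t, fun t => Subtype.ext (i.map t)⟩ g0 hg R
    (by simp only [← map_pow] at R1; exact R1)
  rw [← n1]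
  refine Nat.pow_lt_pow_left ?_ two_ne_zero
  by_cases d2 : 2 ≤ d
  · have := (hh_arith_lt _ _ d n hd d2 n2
      ((Nat.succ_le_succ (Nat.mul_le_mul_left _ n3)).trans (n1 ▸ R2))).1
    omega
  · have : 1 < p ^ (m + 1) := Nat.one_lt_pow m.succ_ne_zero hp.out.one_lt
    omega

theorem ind {V S : Type*} [AddCommGroup V] [Module K V] [FiniteDimensional K V]
    (f : S → Module.End K V) (x : Module.End K V) (a : Equiv.Perm S)
    (hx : ∀ s, x * f s = f (a s) * x) {χ : S → K} (h0 : wt f χ ≠ ⊥) {n : ℕ}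
    (hn : x ^ p ^ (n + 1) = 1) {g : K[X]} (g0 : g ≠ 0) (hd : g.natDegree < p ^ (n + 1))
    (hg : ∀ v ∈ wt f χ, aeval x g v = 0) : ∃ j k, j + k = n ∧
      (∀ w ∈ wt f χ, (x ^ p ^ j) w ∈ wt f χ) ∧ ∃ g₁ : K[X], g₁ ≠ 0 ∧
        g₁.natDegree < p ^ (k + 1) ∧ ∀ v ∈ wt f χ, aeval (x ^ p ^ j) g₁ v = 0 := by
  have pp := hp.out.pos
  obtain ⟨v, hv, v0⟩ := (Submodule.ne_bot_iff _).1 h0
  have hper := isPeriodicPt_of_pow_apply f x a hx χ hv v0 (p ^ (n + 1)) (by simp [hn])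
  obtain ⟨j, hj, hm⟩ := (Nat.dvd_prime_pow hp.out).1 hper.minimalPeriod_dvd
  have hW : ∀ w ∈ wt f χ, (x ^ p ^ j) w ∈ wt f χ := fun w hw => by
    have h := pow_mem_wt f x a hx χ hw (p ^ j)
    rwa [← hm, Function.iterate_minimalPeriod, hm] at h
  have := Submodule.nontrivial_iff_ne_bot.2 h0
  have hi : IsIntegral K (show Module.End K (wt f χ) from (x ^ p ^ j).restrict hW) :=
    Algebra.IsIntegral.isIntegral _
  have h1 := natDegree_le_of_dvd (expand_dvd_of_wt f x a hx (injective_of_pow_eq_one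
    (by positivity) hn) χ _ hm (by positivity) _ (fun g' hg' => minpoly.dvd K
      (show Module.End K (wt f χ) from (x ^ p ^ j).restrict hW) (LinearMap.ext fun w =>
        Subtype.ext ((aeval_restrict_apply _ _ hW g' w).trans (hg' w w.2)))) g hg) g0
  rw [natDegree_expand] at h1
  have h2 := minpoly.natDegree_pos hi
  obtain ⟨k, rfl⟩ : ∃ k, n = j + k := Nat.exists_eq_add_of_le (Nat.le_of_lt_succ
    ((Nat.pow_lt_pow_iff_right hp.out.one_lt).1
      (((Nat.le_mul_of_pos_left _ h2).trans h1).trans_lt hd)))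
  refine ⟨j, k, rfl, hW, _, minpoly.ne_zero hi, ?_, fun w hw => ?_⟩
  · rw [add_assoc, pow_add, mul_comm] at hd
    exact Nat.lt_of_mul_lt_mul_right (h1.trans_lt hd)
  · exact (aeval_restrict_apply _ _ hW _ ⟨w, hw⟩).symm.trans (by rw [minpoly.aeval]; rfl)

variable {G : Type u} {V : Type*} [Group G] [Finite G] [AddCommGroup V] [Module K V]
  [FiniteDimensional K V]

/-- `x` has order dividing `p ^ (n + 1)` and a minimal polynomial of smaller degree -/
def Low (p : ℕ) (ρ : Representation K G V) (n : ℕ) (x : G) : Prop :=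
  x ^ p ^ (n + 1) = 1 ∧ ∃ g : K[X], g ≠ 0 ∧ g.natDegree < p ^ (n + 1) ∧ aeval (ρ x) g = 0

theorem site {ρ : Representation K G V} (inj : Function.Injective ρ)
    {C : Subgroup G} [hC : C.Normal] (he : ∀ c : G, c ∈ C → ∃ m : ℕ, (m : K) ≠ 0 ∧ c ^ m = 1)
    (hco : (Nat.card C).Coprime p)
    (hc : ∀ s ∈ C, ∀ t ∈ C, ⁅s, t⁆ ∈ centralizer (C : Set G)) {a s t : G} (hs : s ∈ C)
    (ht : t ∈ C) (h1 : ⁅t, ⁅a, s⁆⁆ ≠ 1) :
    ∃ (W : Type u) (_ : CommGroup W) (_ : Finite W) (H : Subgroup G)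
      (φ : H →* MulAut W), (Nat.card W).Coprime p ∧ (∀ n x, Low p ρ n x → ∃ j i, j + i = n ∧
        ∃ y : H, (y : G) = x ^ p ^ j ∧ Small (φ y ^ p ^ i) (p ^ (i + 1))) ∧
        ∀ y : H, (y : G) = a → φ y ≠ 1 := by
  have cj : ∀ x d : G, ρ x * ρ d = ρ (x * d * x⁻¹) * ρ x := fun x d => by
    rw [← map_mul, ← map_mul, inv_mul_cancel_right]
  have hZ : ∀ s ∈ C, ∀ t ∈ C, ⁅s, t⁆ ∈ C ⊓ centralizer (C : Set G) := fun s hs t ht =>
    mem_inf.2 ⟨mul_mem (hC.conj_mem t ht s) (inv_mem ht), hc s hs t ht⟩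
  have has : ⁅a, s⁆ ∈ C := mul_mem (hC.conj_mem s hs a) (inv_mem hs)
  let f₁ := fun z : {z // z ∈ C ⊓ centralizer (C : Set G)} => ρ z
  obtain ⟨χ, v, hv, v1⟩ : ∃ χ, ∃ v ∈ wt f₁ χ, ρ ⁅t, ⁅a, s⁆⁆ v ≠ v := by
    by_contra! e
    exact h1 (inj ((ext_of_wt f₁ (fun z z' => by
      simp only [f₁, Commute, SemiconjBy, ← map_mul, z'.2.2 z z.2.1]) (fun z =>
        (he z z.2.1).imp fun m hm => ⟨hm.1, by simp only [f₁, ← map_pow, hm.2, map_one]⟩)
          _ 1 e).trans (map_one ρ).symm))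
  have v0 : wt f₁ χ ≠ ⊥ := fun e => v1 (by rw [(Submodule.mem_bot K).1 (e.le hv), map_zero])
  have c1 : C ≤ stab ρ (wt f₁ χ) := fun c hc v hv z => by
    rw [← map_smul, ← hv z, ← Module.End.mul_apply, ← Module.End.mul_apply, ← map_mul, ← map_mul,
      z.2.2 c hc]
  let P : G → Prop := fun d => d ∈ C ∧ ∀ c ∈ C, ∀ v ∈ wt f₁ χ, ρ c (ρ d v) = ρ d (ρ c v)
  let f₂ := fun d : {d // P d} => ρ d
  obtain ⟨μ, u, hu, u1, u0⟩ : ∃ μ, ∃ u ∈ wt f₂ μ, u ∈ wt f₁ χ ∧ u ≠ 0 := by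
    by_contra! e
    have := iSup_wt_eq_top (fun d : {d // P d} => resRep ρ _ ⟨d, c1 d.2.1⟩)
      (fun d d' => LinearMap.ext fun w => Subtype.ext (d'.2.2 d d.2.1 w w.2)) fun d =>
        (he d d.2.1).imp fun m hm => ⟨hm.1, by rw [← map_pow, show (⟨d, _⟩ : stab ρ _) ^ m = 1 from
          Subtype.ext hm.2, map_one]⟩
    replace this := this.ge.trans (iSup_le (a := ⊥) fun μ w hw => Subtype.ext
      (e μ w (fun d => congrArg Subtype.val (hw d)) w.2))
    exact v0 ((Submodule.eq_bot_iff _).2 fun w hw =>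
      congrArg Subtype.val (this (Submodule.mem_top (x := ⟨w, hw⟩))))
  have U0 : wt f₂ μ ≠ ⊥ := (Submodule.ne_bot_iff _).2 ⟨u, hu, u0⟩
  have U1 : wt f₂ μ ≤ wt f₁ χ := fun w hw z => by
    have hz : P z := ⟨z.2.1, fun c hc v _ => by
      rw [← Module.End.mul_apply, ← Module.End.mul_apply, ← map_mul, ← map_mul, z.2.2 c hc]⟩
    rw [← smul_left_injective K u0 ((hu ⟨z, hz⟩).symm.trans (u1 z))]
    exact hw ⟨z, hz⟩
  have c2 : C ≤ stab ρ (wt f₂ μ) := fun c hc v hv d => by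
    rw [← map_smul, ← hv d]; exact (d.2.2 c hc v (U1 hv)).symm
  have := Submodule.nontrivial_iff_ne_bot.2 U0
  have fx : ∀ s ∈ C, ∀ t ∈ C, ρ ⁅s, t⁆ u = u → ∀ v ∈ wt f₁ χ, ρ ⁅s, t⁆ v = v :=
    fun s hs t ht e v hv => by
      have := smul_left_injective K u0 ((u1 ⟨_, hZ s hs t ht⟩).symm.trans
        (e.trans (one_smul K u).symm))
      exact (hv ⟨_, hZ s hs t ht⟩).trans (by rw [this, one_smul])
  obtain ⟨W, _, _, π, b, φ, hs', hi⟩ := exists_hs (resRep ρ (wt f₂ μ)) (C.subgroupOf _)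
    (fun s hs t ht => ⟨χ ⟨_, hZ s hs t ht⟩, LinearMap.ext fun w =>
      Subtype.ext (U1 w.2 ⟨_, hZ s hs t ht⟩)⟩)
    fun t ht e => ⟨μ ⟨t, ht, fun c hc v hv => by
      have := fx c hc t ht (congrArg Subtype.val (LinearMap.congr_fun (e ⟨c, c2 hc⟩ hc) ⟨u, hu⟩))
        _ (c1 (show (t : G) ∈ C from ht) _ (c1 hc v hv))
      simpa only [← Module.End.mul_apply, ← map_mul, commutatorElement_def, mul_assoc,
        inv_mul_cancel_left, inv_mul_cancel, mul_one] using this⟩,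
      LinearMap.ext fun w => Subtype.ext (w.2 ⟨t, _⟩)⟩
  have hW : (Nat.card W).Coprime p := hco.coprime_dvd_left
    ((card_dvd_of_surjective π hs'.surj).trans (H46.card_subgroupOf c2).dvd)
  refine ⟨W, inferInstance, inferInstance, _, φ, hW, fun n x hx => ?_,
    fun y e e' => v1 (fx t ht _ has ?_ v hv)⟩
  · obtain ⟨hx, g, g0, g1, g2⟩ := hx
    obtain ⟨j, k, rfl, a1, g, g0, g1, g2⟩ := ind f₁ (ρ x) (cjPerm x _ fun d hd =>
      Normal.conj_mem inferInstance d hd x) (fun d => cj x d) v0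
      (by rw [← map_pow, hx, map_one]) g0 g1 fun v _ => by rw [g2]; rfl
    rw [← map_pow] at a1 g2
    rw [add_assoc, pow_add, pow_mul] at hx
    obtain ⟨j', i, rfl, a2, g, g0, g1, g2⟩ := ind f₂ (ρ (x ^ p ^ j)) (cjPerm (x ^ p ^ j) P
      fun d hd => ⟨hC.conj_mem d hd.1 _, fun c hc v hv => by
        have := congrArg (ρ (x ^ p ^ j)) (hd.2 _ (hC.conj_mem' c hc (x ^ p ^ j)) _
          (inv_mem (show _ ∈ stab ρ _ from a1) v hv))
        simpa only [← Module.End.mul_apply, ← map_mul, mul_assoc, mul_inv_cancel_left,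
          mul_inv_cancel, mul_one] using this⟩) (fun d => cj _ d) U0
      (by rw [← map_pow, hx, map_one]) g0 g1 fun v hv => g2 v (U1 hv)
    rw [← map_pow] at a2 g2
    refine ⟨j + j', i, add_assoc _ _ _, ⟨_, a2⟩, by rw [pow_add, pow_mul],
      small hs' (hi _) hW g0 (LinearMap.ext fun w => Subtype.ext
        ((aeval_restrict_apply _ _ a2 g w).trans (g2 w w.2))) g1 ?_⟩
    rw [← map_pow, ← map_one φ]
    exact congrArg φ (Subtype.ext (by rwa [add_assoc, pow_add, pow_mul] at hx))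
  · subst e
    have e1 := (hi y).map ⟨⟨s, c2 hs⟩, hs⟩
    have e2 := hs'.comm ⟨⟨t, c2 ht⟩, ht⟩ (MulAut.conjNormal y ⟨⟨s, c2 hs⟩, hs⟩ * ⟨⟨s, c2 hs⟩, hs⟩⁻¹)
    rw [map_mul π, ← e1, e', map_inv, MulAut.one_apply, mul_inv_cancel, map_one, Units.val_one,
      one_smul] at e2
    exact congrArg Subtype.val (LinearMap.congr_fun e2 ⟨u, hu⟩)

theorem nc_normal {ρ : Representation K G V} (inj : Function.Injective ρ) (hp2 : p ≠ 2)
    {C : Subgroup G} [hC : C.Normal] (he : ∀ c : G, c ∈ C → ∃ m : ℕ, (m : K) ≠ 0 ∧ c ^ m = 1)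
    (hco : (Nat.card C).Coprime p)
    (hc : ∀ s ∈ C, ∀ t ∈ C, ⁅s, t⁆ ∈ centralizer (C : Set G)) {R : Subgroup G}
    (hR : IsPGroup p R) {g h : G} (hg : g ∈ R) (hh : h ∈ R) {n : ℕ} (l1 : Low p ρ n g)
    (l2 : Low p ρ n h) : ⁅g ^ p ^ n, h ^ p ^ n⁆ ∈ centralizer (C : Set G) := by
  have e2 : ∀ x, Low p ρ n x → x ^ p ^ n ∈ centralizer (C ⊓ centralizer (C : Set G) : Subgroup G) := by
    rintro x ⟨hx, g, g0, g1, g2⟩ z hz
    have e3 : ∀ (i : ℕ) d, ((cjPerm x (· ∈ C ⊓ centralizer (C : Set G)) (fun d hd =>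
        Normal.conj_mem inferInstance d hd x) ^ i) d : G) = x ^ i * d * (x ^ i)⁻¹ := fun i d => by
      induction i with
      | zero => simp
      | succ i ih =>
        rw [pow_succ', Equiv.Perm.mul_apply, pow_succ', mul_inv_rev, mul_assoc x, ← mul_assoc,
          mul_assoc x, ← ih]; rfl
    by_contra k
    refine (g1.trans_le' (natDegree_le_of_dvd (hh_abelian
      (fun z : {z // z ∈ C ⊓ centralizer (C : Set G)} => ρ z.1) (fun z z' => ?_)
      (fun z => (he z z.2.1).imp fun m hm => ⟨hm.1, by rw [← map_pow, hm.2, map_one]⟩) (ρ x)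
      (cjPerm x _ fun d hd => Normal.conj_mem inferInstance d hd x) (fun d => ?_) n
      (by rw [← map_pow, hx, map_one]) ⟨⟨z, hz⟩, fun e => k ?_⟩ g g2) g0)).ne ?_
    · simp only [Commute, SemiconjBy, ← map_mul, z'.2.2 z z.2.1]
    · rw [← map_mul, ← map_mul, ← pow_one (cjPerm _ _ _), e3, pow_one, inv_mul_cancel_right]
    · rw [e3] at e
      exact (mul_inv_eq_iff_eq_mul.1 (inj e)).symm
    · simpa using natDegree_X_pow_sub_C (n := p ^ (n + 1)) (r := (1 : K))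
  set a := ⁅g ^ p ^ n, h ^ p ^ n⁆ with ha
  have aZ : a ∈ centralizer (C ⊓ centralizer (C : Set G) : Subgroup G) :=
    mul_mem (mul_mem (mul_mem (e2 g l1) (e2 h l2)) (inv_mem (e2 g l1))) (inv_mem (e2 h l2))
  have aR : a ∈ R := mul_mem (mul_mem (mul_mem (pow_mem hg _) (pow_mem hh _))
    (inv_mem (pow_mem hg _))) (inv_mem (pow_mem hh _))
  obtain ⟨k, hk⟩ := hR ⟨a, aR⟩
  by_contra e1
  obtain ⟨s, hs, t, ht, e3⟩ : ∃ s ∈ C, ∃ t ∈ C, ⁅t, ⁅a, s⁆⁆ ≠ 1 := by
    by_contra! e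
    refine e1 fun s hs => commutatorElement_eq_one_iff_mul_comm.1 ?_
    have m1 : ⁅s, a⁆ ∈ C := commutatorElement_inv a s ▸
      inv_mem (mul_mem (hC.conj_mem s hs a) (inv_mem hs))
    exact eq_one_of_coprime (comm_pow_eq_one (aZ _ (mem_inf.2 ⟨m1, commutatorElement_inv a s ▸
      inv_mem fun t ht => commutatorElement_eq_one_iff_mul_comm.1 (e s hs t ht)⟩))
      (congrArg Subtype.val hk)) (orderOf_dvd_iff_pow_eq_one.1 (H46.orderOf_dvd_card m1))
      (hco.symm.pow_left k)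
  obtain ⟨W, _, _, H, φ, w1, w2, w3⟩ := site inj he hco hc hs ht e3
  obtain ⟨j, i, rfl, y, y1, y2⟩ := w2 _ g l1
  obtain ⟨j', i', e4, y', y1', y2'⟩ := w2 _ h l2
  have o : ∀ (y : H) (x : G) j i, (y : G) = x ^ p ^ j → x ^ p ^ (j + i + 1) = 1 →
      φ y ^ p ^ (i + 1) = 1 := fun y x j i e e' => by
    rw [← map_pow, ← map_one φ]
    exact congrArg φ (Subtype.ext (by
      rw [Subgroup.coe_pow, e, ← pow_mul, ← pow_add, ← add_assoc, e']; rfl))
  have := comm_of_small hp2 w1 ((R.subgroupOf H).map φ) ((hR.comap_subtype).map φ)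
    (mem_map_of_mem φ (mem_subgroupOf.2 (y1 ▸ pow_mem hg _)))
    (mem_map_of_mem φ (mem_subgroupOf.2 (y1' ▸ pow_mem hh _)))
    (o y g j i y1 l1.1) (o y' h j' i' y1' (e4 ▸ l2.1)) y2 y2'
  refine w3 ⁅y ^ p ^ i, y' ^ p ^ i'⁆ ?_ (by
    rw [map_commutatorElement, map_pow, map_pow, this.commutator_eq])
  change ⁅(y : G) ^ p ^ i, (y' : G) ^ p ^ i'⁆ = a
  rw [y1, y1', ← pow_mul, ← pow_mul, ← pow_add, ← pow_add, e4]

theorem nc {ρ : Representation K G V} (inj : Function.Injective ρ) (hp2 : p ≠ 2)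
    (hK : ∀ m : ℕ, ¬ p ∣ m → (m : K) ≠ 0) {N : Subgroup G} [N.Normal] (hN : ¬ p ∣ Nat.card N)
    {R : Subgroup G} (hR : IsPGroup p R) {g h : G} (hg : g ∈ R) (hh : h ∈ R) {n : ℕ}
    (l1 : Low p ρ n g) (l2 : Low p ρ n h) :
    ⁅g ^ p ^ n, h ^ p ^ n⁆ ∈ centralizer (N : Set G) := by
  set a := ⁅g ^ p ^ n, h ^ p ^ n⁆ with ha
  have aR : a ∈ R := mul_mem (mul_mem (mul_mem (pow_mem hg _) (pow_mem hh _))
    (inv_mem (pow_mem hg _))) (inv_mem (pow_mem hh _))
  obtain ⟨k, hk⟩ := IsPGroup.iff_card.1 hR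
  have cN := (Nat.Prime.coprime_iff_not_dvd hp.out).2 hN
  by_contra e
  obtain ⟨q, hq, -, Q, QN, hQ, -, RQ, e1⟩ := exists_invariant_pgroup_not_le R N (H46.Cent1 a)
    le_normalizer_of_normal (hk ▸ cN.pow_left k) (Or.inl (H46.sol_of_nil hR.isNilpotent))
    fun l => e (H46.le_cent1_iff.1 l)
  haveI := Fact.mk hq
  obtain ⟨C, _, -, c2, c3⟩ := H9.exists_critical hQ
  have RC := RQ.trans (H46.nrm_le_nrm_map_subtype C)
  set D := C.map Q.subtype with hD
  have DN : D ≤ N := (map_subtype_le _).trans QN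
  have dv := card_dvd_of_le DN
  have := nc_normal (ρ := ρ.comp (H46.Nrm D).subtype) (inj.comp (H46.Nrm D).subtype_injective) hp2
    (C := D.subgroupOf (H46.Nrm D)) (fun c hc => ⟨Nat.card N, hK _ hN, Subtype.ext
      (orderOf_dvd_iff_pow_eq_one.1 (H46.orderOf_dvd_card (DN hc)))⟩)
    (by rw [H46.card_subgroupOf H46.le_nrm_self]; exact cN.symm.coprime_dvd_left dv)
    (by
      rintro ⟨_, _⟩ ⟨s, hs, rfl⟩ ⟨_, _⟩ ⟨t, -, rfl⟩ ⟨_, _⟩ ⟨c, hc, rfl⟩
      have := congrArg Subtype.val ((c2 s hs t).2 c hc)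
      exact Subtype.ext this)
    (R := R.subgroupOf _) hR.comap_subtype (g := ⟨g, RC hg⟩) (h := ⟨h, RC hh⟩) hg hh
    ⟨Subtype.ext l1.1, l1.2⟩ ⟨Subtype.ext l2.1, l2.2⟩
  have e2 := H9.mulAut_eq_one_of_fixes_self_centralizing hQ c3 (Q.normalizerMonoidHom ⟨a, RQ aR⟩)
    (by
      by_cases h0 : q ∣ Nat.card N
      · refine Nat.Coprime.coprime_dvd_left ((orderOf_map_dvd _ _).trans ?_)
          ((cN.coprime_dvd_right h0).pow_left k)
        rw [← hk, ← orderOf_coe]; exact H46.orderOf_dvd_card aR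
      · refine absurd (fun x hx => ?_) e1
        have : Q = ⊥ := by
          by_contra h1
          exact h0 (((H46.isPi_of_isPGroup hq hQ).prime_and_dvd h1).2.trans (card_dvd_of_le QN))
        rw [this, mem_bot] at hx
        rw [hx]; exact one_mem _)
    fun x hx => Subtype.ext (mul_inv_eq_iff_eq_mul.2 (congrArg Subtype.val
      (this ⟨x, H46.le_nrm_self (mem_map_of_mem _ hx)⟩ (mem_map_of_mem _ hx))).symm)
  refine e1 fun x hx => H46.mem_cent1.2 (mul_inv_eq_iff_eq_mul.1 ?_).symm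
  exact congrArg Subtype.val (DFunLike.congr_fun e2 ⟨x, hx⟩)

omit [Finite G] in
theorem norm_key {F W : Type*} [Field F] [AddCommGroup W] [Module F W] {A : Subgroup G} [A.Normal]
    (ρ : Representation F (G ⧸ A) W) (ι : A → W) (e2 : ∀ a b, ι (a * b) = ι a + ι b)
    (e5 : ∀ (h : G) (v w : A), (w : G) = h * v * h⁻¹ → ρ h (ι v) = ι w) (x : G) (v : A) (m : ℕ) :
    ∃ w : A, (w : G) = (v * x) ^ m * (x ^ m)⁻¹ ∧
      ι w = aeval (ρ x) (∑ i ∈ Finset.range m, (X : F[X]) ^ i) (ι v) := by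
  have h0 : ι 1 = 0 := by simpa using e2 1 1
  simp only [map_sum, map_pow, aeval_X, LinearMap.sum_apply]
  induction m with
  | zero => exact ⟨1, by simp, by simpa using h0⟩
  | succ m ih =>
    obtain ⟨w, hw1, hw2⟩ := ih
    refine ⟨w * ⟨x ^ m * v * (x ^ m)⁻¹, Normal.conj_mem inferInstance _ v.2 _⟩, ?_, ?_⟩
    · rw [Subgroup.coe_mul, hw1, pow_succ, pow_succ]; group
    · rw [e2, hw2, Finset.sum_range_succ, ← e5 (x ^ m) v ⟨_, _⟩ rfl, QuotientGroup.mk_pow, map_pow]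

/-- the inductive hypothesis: exponent, and commuting powers at odd levels -/
def Lev (p k : ℕ) (X : Type u) [Group X] : Prop := ∀ P : Subgroup X, IsPGroup p P →
  ∀ g ∈ P, ∀ h ∈ P, g ^ p ^ ((k + 1) / 2) = 1 ∧
    (k % 2 = 1 → Commute (g ^ p ^ (k / 2)) (h ^ p ^ (k / 2)))

theorem two_e (hp2 : p ≠ 2) (hG : IsPSolvable p G) (k : ℕ) (h : Lev p k G) : PLengthLE p k G := by
  refine pLengthLE_of_step' (Lev p) ?_ ?_ ?_ k G hG h
  · intro k X Y _ _ _ f hf h P hP g hg g' hg'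
    obtain ⟨P, hP', rfl⟩ := H10.exists_isPGroup_map_eq f hf hP
    obtain ⟨g, hg, rfl⟩ := hg
    obtain ⟨g', hg', rfl⟩ := hg'
    obtain ⟨a, b⟩ := h P hP' g hg g' hg'
    exact ⟨by rw [← map_pow, a, map_one], fun e => by
      rw [← map_pow, ← map_pow]; exact (b e).map f⟩
  · intro X _ _ _ h
    exact coprime_card_of_forall_isPGroup_eq_bot fun P hP => eq_bot_iff.2 fun x hx => by
      simpa using (h P hP x hx x hx).1
  intro k X _ _ hX hV hC h P hP
  obtain ⟨W, _, _, _, ρ, ι, e1, e2, e3, e4, e5, e6⟩ := exists_rep_pCore hX hV hC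
  have h0 : ι 1 = 0 := by simpa using e2 1 1
  have hP' : IsPGroup p (P.comap (QuotientGroup.mk' (pCore p X))) :=
    hP.comap_of_ker_isPGroup _ (by rw [QuotientGroup.ker_mk']; exact isPGroup_pCore p)
  have mem : ∀ x : X, (x : X ⧸ pCore p X) ∈ P → ∀ v : pCore p X,
      v * x ∈ P.comap (QuotientGroup.mk' (pCore p X)) := fun x hx v => by
    rwa [mem_comap, map_mul, QuotientGroup.mk'_apply, (QuotientGroup.eq_one_iff _).2 v.2, one_mul]
  obtain ⟨e, rfl | rfl⟩ := Nat.even_or_odd' k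
  · intro g hg g' _
    refine ⟨?_, fun e => by omega⟩
    obtain ⟨x, rfl⟩ := QuotientGroup.mk_surjective g
    rw [show (2 * e + 1) / 2 = e by omega]
    have a1 := fun v => h _ hP' x hg _ (mem x hg v)
    rw [show (2 * e + 1 + 1) / 2 = e + 1 by omega, show (2 * e + 1) / 2 = e by omega] at a1
    by_contra hne
    obtain ⟨g0, gd⟩ := natDegree_geom_sum_X (K := AlgebraicClosure (ZMod p)) (p ^ e)
      (pow_pos hp.out.pos _)
    have g1 : (Polynomial.X ^ p ^ e - C 1 : (AlgebraicClosure (ZMod p))[X]) ≠ 0 :=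
      X_pow_sub_C_ne_zero (pow_pos hp.out.pos _) 1
    have := e6 x e hne (by rw [← QuotientGroup.mk_pow, (a1 1).1, QuotientGroup.mk_one]) _
      (mul_ne_zero g1 g0) (by
        refine LinearMap.ext_on_range e4 fun v => ?_
        obtain ⟨w, hw1, hw2⟩ := norm_key ρ ι e2 e5 x v (p ^ e)
        have := e5 (x ^ p ^ e) w w (by
          rw [hw1, ← mul_assoc, ((a1 v).2 (by omega)).eq, mul_inv_cancel_right])
        rw [map_mul, Module.End.mul_apply, ← hw2]
        simp only [map_sub, map_pow, aeval_X, map_one, LinearMap.sub_apply, LinearMap.zero_apply]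
        rw [← map_pow, ← QuotientGroup.mk_pow, this, Module.End.one_apply, sub_self])
    rw [natDegree_mul g1 g0, natDegree_X_pow_sub_C] at this
    have h3 : 3 * p ^ e ≤ p ^ (e + 1) := by
      rw [pow_succ']
      exact Nat.mul_le_mul_right _ (by have := hp.out.two_le; omega)
    rcases this with h4 | ⟨q, k, l, m, -, -, h4, -, -, -, h5⟩
    · omega
    · have := Nat.pow_le_pow_right hp.out.pos (show k ≤ e by omega)
      omega
  · have low : ∀ g ∈ P, Low p ρ e g := by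
      intro g hg
      obtain ⟨x, rfl⟩ := QuotientGroup.mk_surjective g
      have a1 := fun y hy => (h _ hP' y hy y hy).1
      rw [show (2 * e + 1 + 1 + 1) / 2 = e + 1 by omega] at a1
      obtain ⟨g0, gd⟩ := natDegree_geom_sum_X (K := AlgebraicClosure (ZMod p)) (p ^ (e + 1))
        (pow_pos hp.out.pos _)
      refine ⟨by rw [← QuotientGroup.mk_pow, a1 x hg, QuotientGroup.mk_one], _, g0, by omega,
        LinearMap.ext_on_range e4 fun v => ?_⟩
      obtain ⟨w, hw1, hw2⟩ := norm_key ρ ι e2 e5 x v (p ^ (e + 1))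
      rw [a1 _ (mem x hg v), a1 x hg, mul_inv_cancel] at hw1
      rw [← hw2, show w = 1 from Subtype.ext hw1, h0]; rfl
    intro g hg g' hg'
    rw [show (2 * e + 1 + 1) / 2 = e + 1 by omega, show (2 * e + 1) / 2 = e by omega]
    refine ⟨(low g hg).1, fun _ => commutatorElement_eq_one_iff_commute.1 ?_⟩
    have hnd := H2.not_dvd_card_pPrimeCore p (X ⧸ pCore p X)
    have a1 := centralizer_pPrimeCore_le (isPSolvable_quotient hX _) (H2.pCore_quotient_pCore p X)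
      (nc e1 hp2 (fun m => natCast_ne_zero_algClosure) hnd hP hg hg' (low g hg) (low g' hg'))
    have aR : ⁅g ^ p ^ e, g' ^ p ^ e⁆ ∈ P := mul_mem (mul_mem (mul_mem (pow_mem hg _)
      (pow_mem hg' _)) (inv_mem (pow_mem hg _))) (inv_mem (pow_mem hg' _))
    obtain ⟨k, hk⟩ := hP ⟨_, aR⟩
    exact eq_one_of_coprime (congrArg Subtype.val hk)
      (orderOf_dvd_iff_pow_eq_one.1 (H46.orderOf_dvd_card a1))
      (((Nat.Prime.coprime_iff_not_dvd hp.out).2 hnd).pow_left k)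

end H18.HH2
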