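/- Hall-Higman: the `p`-length is at most the derived length of a Sylow `p`-subgroup (`p` odd). -/
import Cfsg.Agent.H18.HHGroup
import Cfsg.Agent.H22.HallHigman
import Cfsg.Agent.H88.Sharp3b
import Cfsg.Agent.H46.Nil
import Cfsg.Agent.H98.IsoP

set_option autoImplicit false

open Cfsg Subgroup Polynomial
open scoped commutatorElement

namespace H18.HD

universe u

/-- a `3`-cycle in a `3`-group is not a product of commutators -/
theorem tr {B Ω : Type*} [Group B] [Finite B] [MulAction B Ω] (hB : IsPGroup 3 B) (T : Set Ω)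
    (hT : Nat.card T = 3) {c : B} (hc : c ∈ commutator B) (h1 : ∀ s ∈ T, c • s ∈ T)
    (h2 : ∀ g : B, (∀ s ∈ T, g • s ∈ T) ∨ ∀ s ∈ T, (g⁻¹ * c * g) • s = s) :
    ∀ s ∈ T, c • s = s := by
  classical
  have : Fact (Nat.Prime 3) := ⟨Nat.prime_three⟩
  have hpow : ∀ g : B, (∀ s ∈ T, g • s ∈ T) → ∀ n : ℕ, ∀ s ∈ T, g ^ n • s ∈ T := fun g hg n => by
    induction n with
    | zero => simp
    | succ n ih => intro s hs; rw [pow_succ', mul_smul]; exact hg _ (ih s hs)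
  let H : Subgroup B :=
    { carrier := {g | ∀ s ∈ T, g • s ∈ T}
      mul_mem' := fun {a b} ha hb s hs => by rw [mul_smul]; exact ha _ (hb s hs)
      one_mem' := fun s hs => by rwa [one_smul]
      inv_mem' := fun {g} hg => by
        have : g⁻¹ = g ^ (orderOf g - 1) := by
          rw [inv_eq_iff_mul_eq_one, ← pow_succ', Nat.sub_add_cancel (orderOf_pos g),
            pow_orderOf_eq_one]
        rw [this]; exact hpow g hg _ }
  let : MulAction H T :=
    { smul := fun h s => ⟨h.1 • s.1, h.2 s.1 s.2⟩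
      one_smul := fun s => Subtype.ext (one_smul B s.1)
      mul_smul := fun a b s => Subtype.ext (mul_smul a.1 b.1 s.1) }
  have hs : ∀ (h : H) (s : T), ((h • s : T) : Ω) = h.1 • s.1 := fun _ _ => rfl
  have : Finite T := Nat.finite_of_card_ne_zero (by omega)
  let χ := MulAction.toPermHom H T
  have hr : IsPGroup 3 χ.range := (hB.to_subgroup H).of_surjective _ χ.rangeRestrict_surjective
  obtain ⟨k, hk⟩ := IsPGroup.iff_card.1 hr
  have d6 : Nat.card χ.range ∣ 6 := by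
    have := card_subgroup_dvd_card χ.range
    rwa [Nat.card_perm, hT] at this
  have d3 : Nat.card χ.range ∣ 3 := by
    rw [hk] at d6 ⊢
    exact Nat.Coprime.dvd_of_dvd_mul_left (k := 3 ^ k) (m := 2) (n := 3)
      (Nat.Coprime.pow_left k (by norm_num)) d6
  have cy : IsCyclic χ.range := isCyclic_of_card_dvd_prime d3
  let : CommGroup χ.range := cy.commGroup
  have e1 := H88.transfer_eq_of_pow χ.rangeRestrict ⟨c, h1⟩ fun a ha k hy => by
    have h3 := (h2 a).resolve_left ha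
    refine Subtype.ext (Equiv.ext fun s => Subtype.ext ?_)
    change (a⁻¹ * c ^ k * a) • s.1 = s.1
    have : a⁻¹ * c ^ k * a = (a⁻¹ * c * a) ^ k := by
      have := conj_pow (a := a⁻¹) (b := c) (i := k)
      rw [inv_inv] at this
      exact this.symm
    rw [this]
    exact MulAction.mem_stabilizer_iff.1 (pow_mem (MulAction.mem_stabilizer_iff.2 (h3 s.1 s.2)) k)
  have e2 : χ.rangeRestrict.transfer c = 1 := Abelianization.commutator_subset_ker _ hc
  intro s hs'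
  have := congrArg (fun x : χ.range => ((x.1 ⟨s, hs'⟩ : T) : Ω)) (e1.symm.trans e2)
  exact this

theorem partB {B U : Type*} [Group B] [Finite B] [CommGroup U] [MulDistribMulAction B U]
    (hB : IsPGroup 3 B) (hU : ∀ u : U, u * u = 1) {c : B} (hc : c ∈ commutator B) (c3 : c ^ 3 = 1)
    (hcomm : ∀ g, Commute c (g⁻¹ * c * g))
    (hsm : ∀ x y w : U, (∃ u, x = c • u * u) → (∃ u, y = c • u * u) → (∃ u, w = c • u * u) →
      x ≠ 1 → y ≠ 1 → w ≠ 1 → x * y ≠ 1 → x * w ≠ 1 → y * w ≠ 1 → x * (y * w) ≠ 1 → False)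
    (u : U) : c • u = u := by
  by_contra hu
  have ne : ∀ {x y : U}, x * y = 1 ↔ x = y := fun {x y} =>
    ⟨fun h => by rw [← mul_one x, ← hU y, ← mul_assoc, h, one_mul], fun h => h ▸ hU x⟩
  have c3' : ∀ x : U, c • c • c • x = x := fun x => by
    rw [smul_smul, smul_smul, ← pow_three', c3, one_smul]
  let T : Set U := {x | (∃ u, x = c • u * u) ∧ x ≠ 1}
  have nrm : ∀ x ∈ T, c • c • x = x * c • x := by
    rintro _ ⟨⟨u, rfl⟩, -⟩
    simp only [smul_mul', c3']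
    rw [mul_comm (c • u) u, mul_assoc, mul_left_comm (c • u), hU, mul_one]
  have nf : ∀ x ∈ T, c • x ≠ x := fun x hx e => by
    have := nrm x hx
    rw [e, e, hU] at this
    exact hx.2 this
  have pres : ∀ {d : B}, Commute c d → ∀ x ∈ T, d • x ∈ T := by
    rintro d hd _ ⟨⟨u, rfl⟩, h⟩
    exact ⟨⟨d • u, by rw [smul_mul', smul_smul, ← hd.eq, mul_smul]⟩,
      fun e => h ((smul_eq_iff_eq_inv_smul d).1 e |>.trans (smul_one _))⟩
  have all : ∀ s ∈ T, ∀ w ∈ T, w = s ∨ w = c • s ∨ w = c • c • s := fun s hs w hw => by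
    by_contra h
    push Not at h
    have h1 := pres (Commute.refl c) s hs
    refine hsm s (c • s) w hs.1 h1.1 hw.1 hs.2 h1.2 hw.2 (fun e => nf s hs (ne.1 e).symm)
      (fun e => h.1 (ne.1 e).symm) (fun e => h.2.1 (ne.1 e).symm) fun e => h.2.2 ?_
    rw [← mul_assoc, ne, ← nrm s hs] at e
    exact e.symm
  have hx : c • u * u ∈ T := ⟨⟨u, rfl⟩, fun e => hu (ne.1 e)⟩
  refine nf _ hx (tr hB T ?_ hc (pres (Commute.refl c)) (fun g => ?_) _ hx)
  · generalize c • u * u = s at hx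
    have h1 := pres (Commute.refl c) s hx
    have h2 := pres (Commute.refl c) _ h1
    rw [Nat.card_coe_set_eq, Set.ncard_eq_three]
    refine ⟨s, c • s, c • c • s, (nf s hx).symm, fun e => nf s hx ?_, (nf _ h1).symm, ?_⟩
    · conv_lhs => rw [e]
      exact c3' s
    · refine Set.Subset.antisymm (all s hx) ?_
      rintro _ (rfl | rfl | rfl) <;> assumption
  · by_contra h
    push Not at h
    obtain ⟨⟨w, hw, hw'⟩, s, hs, hs'⟩ := h
    have h1 := pres (hcomm g) s hs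
    have h2 : (g⁻¹ * c * g) • s * s ∈ T := by
      refine ⟨?_, fun e => hs' (ne.1 e)⟩
      obtain ⟨u, e⟩ := h1.1
      obtain ⟨v, e'⟩ := hs.1
      refine ⟨u * v, ?_⟩
      rw [e, smul_mul']
      conv_lhs => rw [e']
      ac_rfl
    have h3 : g • ((g⁻¹ * c * g) • s * s) ∈ T :=
      ⟨⟨g • s, by rw [smul_mul', smul_smul, smul_smul]; congr 2; group⟩,
        fun e => h2.2 ((smul_eq_iff_eq_inv_smul g).1 e |>.trans (smul_one _))⟩
    have h4 : ∀ x, g • x ∈ T → g • c • x ∈ T := fun x hx => by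
      have := pres (hcomm g⁻¹) _ hx
      rwa [smul_smul, inv_inv, inv_mul_cancel_right, mul_smul] at this
    rcases all _ h2 w hw with e | e | e
    · exact hw' (e ▸ h3)
    · exact hw' (e ▸ h4 _ h3)
    · exact hw' (e ▸ h4 _ (h4 _ h3))

section lin

variable {K V G : Type*} [Field K] [AddCommGroup V] [Module K V] [Group G] [Finite G]
  (ρ : Representation K G V)

omit [Finite G] in
theorem quad_comm {c u : G} (h : (ρ c - 1) * (ρ c - 1) = 0) :
    Commute (ρ c) (ρ (c * u * c⁻¹ * u⁻¹) + ρ (c * u * c⁻¹ * u⁻¹)⁻¹) := by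
  have inv : ∀ g : G, (ρ g - 1) * (ρ g - 1) = 0 → ρ g⁻¹ = 1 - (ρ g - 1) := fun g hg => by
    have e : ρ g * (1 - (ρ g - 1)) = 1 := by
      have : ρ g * (1 - (ρ g - 1)) = 1 - (ρ g - 1) * (ρ g - 1) := by noncomm_ring
      rw [this, hg, sub_zero]
    calc ρ g⁻¹ = ρ g⁻¹ * (ρ g * (1 - (ρ g - 1))) := by rw [e, mul_one]
      _ = _ := by rw [← mul_assoc, ← map_mul, inv_mul_cancel, map_one, one_mul]
  have h' : (ρ (u * c * u⁻¹) - 1) * (ρ (u * c * u⁻¹) - 1) = 0 := by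
    have e : ρ (u * c * u⁻¹) - 1 = ρ u * (ρ c - 1) * ρ u⁻¹ := by
      rw [mul_sub, sub_mul, mul_one, ← map_mul, ← map_mul, ← map_mul, mul_inv_cancel, map_one]
    rw [e]
    calc _ = ρ u * (ρ c - 1) * (ρ u⁻¹ * ρ u) * (ρ c - 1) * ρ u⁻¹ := by simp only [mul_assoc]
      _ = 0 := by rw [← map_mul, inv_mul_cancel, map_one, mul_one, mul_assoc (ρ u), h]; simp
  have e1 : c * u * c⁻¹ * u⁻¹ = c * (u * c * u⁻¹)⁻¹ := by group
  have e2 : (c * u * c⁻¹ * u⁻¹)⁻¹ = u * c * u⁻¹ * c⁻¹ := by group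
  rw [e2, e1, map_mul, map_mul _ _ c⁻¹, inv _ h', inv _ h]
  obtain ⟨a, ha⟩ : ∃ a, ρ c = 1 + a := ⟨ρ c - 1, by abel⟩
  obtain ⟨b, hb⟩ : ∃ b, ρ (u * c * u⁻¹) = 1 + b := ⟨ρ (u * c * u⁻¹) - 1, by abel⟩
  rw [ha, add_sub_cancel_left] at h
  rw [ha, hb, add_sub_cancel_left, add_sub_cancel_left]
  have : (1 + a) * ((1 + a) * (1 - b) + (1 + b) * (1 - a)) -
      ((1 + a) * (1 - b) + (1 + b) * (1 - a)) * (1 + a) = b * (a * a) - a * a * b := by noncomm_ring
  rw [h, mul_zero, zero_mul, sub_zero, sub_eq_zero] at this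
  exact this

theorem lin32 [IsAlgClosed K] [FiniteDimensional K V] (hρ : Function.Injective ρ) (h2 : (2 : K) ≠ 0)
    {B Q : Subgroup G} (hB : IsPGroup 3 B) (hQ : IsPGroup 2 Q) (hBQ : B ≤ normalizer (Q : Set G))
    (q1 : ∀ c ∈ ⁅B, B⁆, ∀ g ∈ B, (ρ c - 1) * ((ρ g - 1) * (ρ g - 1)) = 0)
    (q2 : ∀ c ∈ ⁅B, B⁆, ∀ d ∈ ⁅B, B⁆, (ρ c - 1) * (ρ d - 1) = 0)
    (m1 : ∀ U : Subgroup G, U < Q → B ≤ normalizer (U : Set G) → U ≤ ⁅Q, Q⁆)
    (m2 : ⁅Q, Q⁆ ≤ centralizer (Q : Set G)) (m3 : ⁅B, B⁆ ≤ centralizer ((⁅Q, Q⁆ : Subgroup G) : Set G))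
    {c : G} (hc : c ∈ ⁅B, B⁆) (c3 : c ^ 3 = 1) : c ∈ centralizer (Q : Set G) := by
  classical
  by_contra hcQ
  have BB : ⁅B, B⁆ ≤ B := commutator_le.2 fun x hx y hy =>
    mul_mem (mul_mem (mul_mem hx hy) (inv_mem hx)) (inv_mem hy)
  have ZQ : ⁅Q, Q⁆ ≤ Q := commutator_le.2 fun x hx y hy =>
    mul_mem (mul_mem (mul_mem hx hy) (inv_mem hx)) (inv_mem hy)
  have hcB := BB hc
  have cjQ : ∀ g ∈ B, ∀ x ∈ Q, g * x * g⁻¹ ∈ Q := fun g hg x hx => (hBQ hg x).1 hx
  have cjZ : ∀ g ∈ B, ∀ x ∈ ⁅Q, Q⁆, g * x * g⁻¹ ∈ ⁅Q, Q⁆ := fun g hg x hx =>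
    (H1.le_normalizer_commutator hBQ hBQ hg x).1 hx
  have Q0 : Q ≠ ⊥ := by
    rintro rfl
    exact hcQ fun x hx => by rw [mem_bot.1 hx]; simp
  have sq : ∀ x ∈ Q, x * x ∈ ⁅Q, Q⁆ := fun x hx => by
    have := m1 _ (H46.frattiniOf_lt Q0) (H46.nrm_frattiniOf hBQ)
      (H46.pow_mem_frattiniOf Nat.prime_two hQ hx)
    rwa [pow_two] at this
  have zc : ∀ z ∈ ⁅Q, Q⁆, ∀ x ∈ Q, Commute x z := fun z hz x hx => m2 hz x hx
  have z2 : ∀ z ∈ ⁅Q, Q⁆, z * z = 1 := by
    intro z hz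
    have hz' := hz
    rw [Subgroup.commutator_def] at hz'
    induction hz' using closure_induction'' with
    | one => simp
    | mem z hz' =>
      obtain ⟨x, hx, y, hy, rfl⟩ := hz'
      have e1 := (zc _ hz x hx).eq
      have e2 := (zc _ (sq x hx) y hy).eq
      rw [commutatorElement_def] at e1 ⊢
      calc _ = x * (x * y * x⁻¹ * y⁻¹) * y * x⁻¹ * y⁻¹ * 1 := by rw [e1]; group
        _ = x * x * y * (x * x)⁻¹ * y⁻¹ := by group
        _ = 1 := by rw [← e2]; group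
    | inv_mem z hz' =>
      obtain ⟨x, hx, y, hy, rfl⟩ := hz'
      have e1 := (zc _ (inv_mem_iff.1 hz) x hx).eq
      have e2 := (zc _ (sq x hx) y hy).eq
      rw [← mul_inv_rev, inv_eq_one]
      rw [commutatorElement_def] at e1 ⊢
      calc _ = x * (x * y * x⁻¹ * y⁻¹) * y * x⁻¹ * y⁻¹ * 1 := by rw [e1]; group
        _ = x * x * y * (x * x)⁻¹ * y⁻¹ := by group
        _ = 1 := by rw [← e2]; group
    | mul a b ha hb iha ihb =>
      rw [← Subgroup.commutator_def] at ha hb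
      rw [mul_assoc, ← mul_assoc b, (zc a ha b (ZQ hb)).eq, mul_assoc, ihb hb, mul_one, iha ha]
  -- the action on the abelianization
  let α : B →* MulAut Q := Q.normalizerMonoidHom.comp (inclusion hBQ)
  let β : MulAut Q →* MulAut (Abelianization Q) :=
    { toFun := MulEquiv.abelianizationCongr
      map_one' := abelianizationCongr_refl
      map_mul' := fun a b => (abelianizationCongr_trans b a).symm }
  let := MulDistribMulAction.compHom (Abelianization Q) (β.comp α)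
  have hs : ∀ (g : B) (x : Q), g • Abelianization.of x =
      Abelianization.of ⟨g * x * (g : G)⁻¹, cjQ g g.2 x x.2⟩ := fun _ _ => rfl
  have of1 : ∀ x : Q, Abelianization.of x = 1 ↔ (x : G) ∈ ⁅Q, Q⁆ := fun x => by
    rw [← MonoidHom.mem_ker, Abelianization.ker_of, ← map_subtype_commutator]
    exact (mem_map_iff_mem Q.subtype_injective).symm
  have osurj : ∀ u : Abelianization Q, ∃ x, u = Abelianization.of x := fun u =>
    QuotientGroup.induction_on u fun x => ⟨x, rfl⟩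
  have hU : ∀ u : Abelianization Q, u * u = 1 := fun u => by
    obtain ⟨x, rfl⟩ := osurj u
    rw [← map_mul, of1]; exact sq x x.2
  have cm : ∀ x ∈ Q, c * x * c⁻¹ * x⁻¹ ∈ Q := fun x hx => mul_mem (cjQ c hcB x hx) (inv_mem hx)
  have ofc : ∀ x : Q, (⟨c, hcB⟩ : B) • Abelianization.of x * Abelianization.of x =
      Abelianization.of ⟨c * x * c⁻¹ * (x : G)⁻¹, cm x x.2⟩ := fun x => by
    rw [hs, ← inv_eq_of_mul_eq_one_right (hU (Abelianization.of x)), ← map_inv, ← map_mul]; rfl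
  -- a weight space for the centre
  obtain ⟨u₀, hu₀, n₀⟩ : ∃ u ∈ Q, c * u * c⁻¹ * u⁻¹ ≠ 1 := by
    by_contra h
    push Not at h
    exact hcQ fun x hx => by
      have := h x hx
      rw [mul_inv_eq_one, mul_inv_eq_iff_eq_mul] at this
      exact this.symm
  let f : (⁅Q, Q⁆ : Subgroup G) → Module.End K V := fun z => ρ z
  have h1 := mt (H22.ext_of_wt f (fun s t => by
    change ρ s * ρ t = ρ t * ρ s
    rw [← map_mul, ← map_mul, (zc t t.2 s (ZQ s.2)).eq]) (fun s => ⟨2, by simpa using h2, by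
    change ρ s ^ 2 = 1
    rw [← map_pow, pow_two, z2 s s.2, map_one]⟩) (ρ (c * u₀ * c⁻¹ * u₀⁻¹)) LinearMap.id)
    fun e => n₀ (hρ (e.trans (map_one ρ).symm))
  push Not at h1
  obtain ⟨χ, v₀, hv₀, nv₀⟩ := h1
  set W := H22.wt f χ with hW
  have app : ∀ (g h : G) (v : V), ρ (g * h) v = ρ g (ρ h v) := fun g h v => by rw [map_mul]; rfl
  have inv' : ∀ (g : G) (ψ : (⁅Q, Q⁆ : Subgroup G) → K), (∀ z ∈ ⁅Q, Q⁆, z * g = g * z) →
      ∀ v ∈ H22.wt f ψ, ρ g v ∈ H22.wt f ψ := fun g ψ hg v hv s => by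
    change ρ s (ρ g v) = _
    rw [← app, hg s s.2, app, show ρ s v = ψ s • v from hv s, map_smul]
  have WQ : ∀ x ∈ Q, ∀ v ∈ W, ρ x v ∈ W := fun x hx => inv' x χ fun z hz => (zc z hz x hx).eq.symm
  have Wc := fun ψ => inv' c ψ fun z hz => m3 hc z hz
  have triv : ¬ ∀ v ∈ W, ρ c v = v := fun h => nv₀ (by
    have e : ∀ v ∈ W, ρ c⁻¹ v = v := fun v hv => by
      conv_lhs => rw [← h v hv]
      rw [← app, inv_mul_cancel, map_one]; rfl
    rw [app, app, e _ (WQ _ (inv_mem hu₀) _ hv₀), app, h _ (WQ _ hu₀ _ (WQ _ (inv_mem hu₀) _ hv₀)),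
      ← app, mul_inv_cancel, map_one]
    rfl)
  have mv : ∀ g (hg : g ∈ B) (ψ : (⁅Q, Q⁆ : Subgroup G) → K), ∀ v ∈ H22.wt f ψ, ρ g v ∈ H22.wt f
      fun z => ψ ⟨g⁻¹ * z * g⁻¹⁻¹, cjZ _ (inv_mem hg) z z.2⟩ := fun g hg ψ v hv s => by
    change ρ s (ρ g v) = _
    have := hv ⟨g⁻¹ * s * g⁻¹⁻¹, cjZ _ (inv_mem hg) s s.2⟩
    rw [← map_smul, ← this, ← app]
    change _ = ρ g (ρ _ v)
    rw [← app]; congr 2; group
  have WB : ∀ g ∈ B, ∀ v ∈ W, ρ g v ∈ W := by
    let St : Subgroup B :=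
      { carrier := {g | ∀ z : (⁅Q, Q⁆ : Subgroup G),
          χ ⟨(g : G)⁻¹ * z * (g : G)⁻¹⁻¹, cjZ _ (inv_mem g.2) z z.2⟩ = χ z}
        mul_mem' := fun {a b} ha hb z => by
          rw [← ha z, ← hb ⟨_, cjZ _ (inv_mem a.2) z z.2⟩]
          congr 2; simp only [Subgroup.coe_mul]; group
        one_mem' := fun z => by congr 2; simp
        inv_mem' := fun {a} ha z => by
          rw [← ha ⟨_, cjZ _ (inv_mem (a⁻¹).2) z z.2⟩]
          congr 2; simp only [Subgroup.coe_inv]; group }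
    have key : ∀ g : B, g * g ∈ St := fun g => by
      by_contra hg
      have hg' : g ∉ St := fun h => hg (mul_mem h h)
      refine triv fun v hv => ?_
      have e := congrArg (fun A : Module.End K V => A v) (q1 c hc g g.2)
      have m1 := mv g g.2 χ v hv
      have m2 := mv (g * g : B) (g * g).2 χ v hv
      have s1 := Submodule.sub_mem _ (Wc _ _ m1) m1
      have s2 := Submodule.sub_mem _ (Wc _ _ m2) m2
      have s0 := Submodule.sub_mem _ (Wc _ _ hv) hv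
      have l1 := (le_iSup₂_of_le (f := fun j (_ : j ≠ χ) => H22.wt f j) _
        (fun h => hg' fun z => congrFun h z) le_rfl) s1
      have l2 := (le_iSup₂_of_le (f := fun j (_ : j ≠ χ) => H22.wt f j) _
        (fun h => hg fun z => congrFun h z) le_rfl) s2
      have := Submodule.disjoint_def.1 (H22.iSupIndep_wt f χ) _ s0 (by
        have l3 := Submodule.sub_mem _ (Submodule.add_mem _ l1 l1) l2
        convert l3 using 1
        simp only [Module.End.mul_apply, LinearMap.sub_apply, Module.End.one_apply, map_sub,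
          LinearMap.zero_apply] at e
        rw [Subgroup.coe_mul, app, ← sub_eq_zero, ← e]
        abel)
      exact sub_eq_zero.1 this
    intro g hg v hv
    obtain ⟨k, hk⟩ := hB ⟨g, hg⟩
    obtain ⟨j, hj⟩ : Odd (3 ^ k) := Odd.pow (by decide)
    have : (⟨g, hg⟩ : B) ∈ St := by
      have := pow_mem (key ⟨g, hg⟩) (j + 1)
      rwa [← pow_two, ← pow_mul, mul_add, mul_one, show 2 * j + 2 = 2 * j + 1 + 1 by ring, ← hj,
        pow_succ, hk, one_mul] at this
    have h3 := mv g hg χ v hv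
    rwa [funext this] at h3
  -- the kernel of the action of `Q` on `W`
  have ker : ∀ x ∈ Q, (∀ v ∈ W, ρ x v = v) → x ∈ ⁅Q, Q⁆ := by
    let Q1 : Subgroup G :=
      { carrier := {x | x ∈ Q ∧ ∀ v ∈ W, ρ x v = v}
        mul_mem' := fun {a b} ha hb => ⟨mul_mem ha.1 hb.1, fun v hv => by
          rw [app, hb.2 v hv, ha.2 v hv]⟩
        one_mem' := ⟨one_mem _, fun v _ => by rw [map_one]; rfl⟩
        inv_mem' := fun {a} ha => ⟨inv_mem ha.1, fun v hv => by
          conv_lhs => rw [← ha.2 v hv]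
          rw [← app, inv_mul_cancel, map_one]; rfl⟩ }
    intro x hx h
    refine m1 Q1 (lt_of_le_of_ne (fun x hx => hx.1) fun e => nv₀ ?_)
      (H1.le_normalizer_of_conj_mem fun g hg y hy => ⟨cjQ g hg y hy.1, fun v hv => ?_⟩) ⟨hx, h⟩
    · exact (show _ ∈ Q1 from e ▸ cm u₀ hu₀).2 v₀ hv₀
    · rw [app, app, hy.2 _ (WB _ (inv_mem hg) v hv), ← app, mul_inv_cancel, map_one]; rfl
  have v0 : v₀ ≠ 0 := by rintro rfl; simp at nv₀
  have sc : ∀ z (hz : z ∈ ⁅Q, Q⁆), χ ⟨z, hz⟩ = 1 ∨ χ ⟨z, hz⟩ = -1 := fun z hz => by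
    have e : ρ z v₀ = χ ⟨z, hz⟩ • v₀ := hv₀ ⟨z, hz⟩
    have e2 := app z z v₀
    rw [z2 z hz, map_one, e, map_smul, e, smul_smul, Module.End.one_apply] at e2
    exact mul_self_eq_one_iff.1 (smul_left_injective K v0 (e2.symm.trans (one_smul K v₀).symm))
  have c3' : (⟨c, hcB⟩ : B) ^ 3 = 1 := Subtype.ext c3
  have sqm : ∀ x : Q, (∃ u, Abelianization.of x = (⟨c, hcB⟩ : B) • u * u) →
      Abelianization.of x ≠ 1 → ρ ((x : G) * x) v₀ = -v₀ := by
    rintro x ⟨u, hu⟩ hx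
    obtain ⟨u, rfl⟩ := osurj u
    have hu' := hu
    rw [ofc] at hu'
    set t := c * u * c⁻¹ * (u : G)⁻¹ with ht
    have tQ : t ∈ Q := cm u u.2
    have hz : t⁻¹ * x ∈ ⁅Q, Q⁆ := by
      have := (of1 ((⟨t, tQ⟩ : Q)⁻¹ * x)).1 (by rw [map_mul, map_inv, hu', inv_mul_cancel])
      exact this
    have e1 : (x : G) * x = t * t := by
      have e2 := z2 _ hz
      have e3 := (zc _ hz t tQ).eq
      calc (x : G) * x = t * (t⁻¹ * x * t) * (t⁻¹ * x) := by group
        _ = t * t := by rw [← e3, mul_assoc, mul_assoc t, e2, mul_one]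
    rw [e1]
    rcases sc _ (sq t tQ) with h | h
    swap
    · have : ρ (t * t) v₀ = χ ⟨_, sq t tQ⟩ • v₀ := hv₀ ⟨_, sq t tQ⟩
      rw [this, h, neg_one_smul]
    exfalso
    have t1 : ∀ v ∈ W, ρ t⁻¹ v = ρ t v := fun v hv => by
      have : ρ (t * t) v = χ ⟨_, sq t tQ⟩ • v := hv ⟨_, sq t tQ⟩
      rw [h, one_smul] at this
      conv_lhs => rw [← this]
      rw [← app, inv_mul_cancel_left]
    have t2 : ∀ v ∈ W, ρ c (ρ t v) = ρ t (ρ c v) := fun v hv => by
      have := congrArg (fun A : Module.End K V => A v) (quad_comm ρ (u := u) (q2 c hc c hc)).eq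
      simp only [Module.End.mul_apply, LinearMap.add_apply, ← ht, t1 v hv, t1 _ (Wc _ v hv),
        ← two_smul K, map_smul] at this
      exact smul_right_injective V h2 this
    have t3 := ker _ (cm t tQ) fun v hv => by
      rw [app, app, app, t2 _ (WB _ (inv_mem hcB) _ (WQ _ (inv_mem tQ) v hv)), ← app c, mul_inv_cancel,
        map_one, Module.End.one_apply, ← app, mul_inv_cancel, map_one, Module.End.one_apply]
    have t4 := (of1 ⟨_, cm t tQ⟩).2 t3
    rw [← ofc ⟨t, tQ⟩, ← hu', mul_eq_one_iff_eq_inv, inv_eq_of_mul_eq_one_right (hU _)] at t4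
    have t5 : ∀ y : Abelianization Q, (⟨c, hcB⟩ : B) • (⟨c, hcB⟩ : B) • (⟨c, hcB⟩ : B) • y = y :=
      fun y => by rw [smul_smul, smul_smul, ← pow_three', c3', one_smul]
    have t6 : (⟨c, hcB⟩ : B) • (⟨c, hcB⟩ : B) • Abelianization.of x *
        ((⟨c, hcB⟩ : B) • Abelianization.of x * Abelianization.of x) = 1 := by
      rw [hu]
      simp only [smul_mul', t5]
      generalize (⟨c, hcB⟩ : B) • (⟨c, hcB⟩ : B) • Abelianization.of u = a
      generalize (⟨c, hcB⟩ : B) • Abelianization.of u = b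
      generalize Abelianization.of u = d
      calc _ = (a * a) * (b * b) * (d * d) := by ac_rfl
        _ = 1 := by simp [hU]
    rw [t4, t4, hU, mul_one] at t6
    exact hx t6
  have uc : ∀ {x y : Abelianization Q}, (∃ u, x = (⟨c, hcB⟩ : B) • u * u) →
      (∃ u, y = (⟨c, hcB⟩ : B) • u * u) → ∃ u, x * y = (⟨c, hcB⟩ : B) • u * u := by
    rintro _ _ ⟨u, rfl⟩ ⟨v, rfl⟩
    exact ⟨u * v, by rw [smul_mul']; ac_rfl⟩
  have kap : ∀ x y : Q, (∃ u, Abelianization.of x = (⟨c, hcB⟩ : B) • u * u) →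
      (∃ u, Abelianization.of y = (⟨c, hcB⟩ : B) • u * u) → Abelianization.of x ≠ 1 →
      Abelianization.of y ≠ 1 → Abelianization.of x * Abelianization.of y ≠ 1 →
      ρ ⁅(x : G)⁻¹, (y : G)⁻¹⁆⁻¹ v₀ = -v₀ := fun x y hx hy nx ny nxy => by
    have a1 := sqm x hx nx
    have a2 := sqm y hy ny
    have a3 := sqm (x * y) (by rw [map_mul]; exact uc hx hy) (by rwa [map_mul])
    have hz : ⁅(x : G)⁻¹, (y : G)⁻¹⁆⁻¹ ∈ ⁅Q, Q⁆ :=
      inv_mem (commutator_mem_commutator (inv_mem x.2) (inv_mem y.2))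
    have e : ((x * y : Q) : G) * (x * y : Q) = ⁅(x : G)⁻¹, (y : G)⁻¹⁆⁻¹ * (x * x * (y * y)) := by
      have e1 := (zc _ hz _ (mul_mem (mul_mem x.2 x.2) y.2)).eq
      calc _ = (x : G) * x * y * ⁅(y : G)⁻¹, (x : G)⁻¹⁆ * y := by
            rw [commutatorElement_def, Subgroup.coe_mul]; group
        _ = _ := by rw [← commutatorElement_inv, e1]; group
    rw [e, app, app, a2, map_neg, a1, neg_neg] at a3
    exact a3
  have fin := partB (c := ⟨c, hcB⟩) hB hU
    (by rw [← mem_map_iff_mem B.subtype_injective, map_subtype_commutator]; exact hc) c3'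
    (fun g => Subtype.ext (hρ (by
      have hd : (g : G)⁻¹ * c * g ∈ ⁅B, B⁆ := by
        have := (H1.le_normalizer_commutator le_normalizer le_normalizer (inv_mem g.2) c).1 hc
        rwa [inv_inv] at this
      have e1 := q2 _ hc _ hd
      have e2 := q2 _ hd _ hc
      change ρ (c * ((g : G)⁻¹ * c * g)) = ρ ((g : G)⁻¹ * c * g * c)
      rw [map_mul, map_mul ρ _ c]
      generalize ρ ((g : G)⁻¹ * c * g) = b at e1 e2
      rw [← sub_eq_zero, ← sub_zero 0]
      conv_rhs => rw [← e1]; enter [2]; rw [e1, ← e2]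
      noncomm_ring)))
    (fun x y w hx hy hw n1 n2 n3 n4 n5 n6 n7 => by
      obtain ⟨x, rfl⟩ := osurj x
      obtain ⟨y, rfl⟩ := osurj y
      obtain ⟨w, rfl⟩ := osurj w
      have a1 := kap x y hx hy n1 n2 n4
      have a2 := kap x w hx hw n1 n3 n5
      have a3 := kap x (y * w) hx (by rw [map_mul]; exact uc hy hw) n1 (by rwa [map_mul])
        (by rwa [map_mul])
      have hz : ⁅(x : G)⁻¹, (y : G)⁻¹⁆⁻¹ ∈ ⁅Q, Q⁆ :=
        inv_mem (commutator_mem_commutator (inv_mem x.2) (inv_mem y.2))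
      have e : ⁅(x : G)⁻¹, ((y * w : Q) : G)⁻¹⁆⁻¹ =
          ⁅(x : G)⁻¹, (y : G)⁻¹⁆⁻¹ * ⁅(x : G)⁻¹, (w : G)⁻¹⁆⁻¹ := by
        have e1 := (zc _ hz _ (inv_mem w.2)).eq
        calc _ = (w : G)⁻¹ * ⁅(x : G)⁻¹, (y : G)⁻¹⁆⁻¹ * w * ⁅(x : G)⁻¹, (w : G)⁻¹⁆⁻¹ := by
              simp only [commutatorElement_def, Subgroup.coe_mul]; group
          _ = _ := by rw [e1]; group
      rw [e, app, a2, map_neg, a1, neg_neg, eq_neg_iff_add_eq_zero, ← two_smul K] at a3
      exact v0 ((smul_eq_zero.1 a3).resolve_left h2))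
  have hz : c * u₀ * c⁻¹ * u₀⁻¹ ∈ ⁅Q, Q⁆ := by
    have := ofc ⟨u₀, hu₀⟩
    rw [fin, hU] at this
    exact (of1 _).1 this.symm
  obtain ⟨z, hz0⟩ : ∃ z, z = c * u₀ * c⁻¹ * u₀⁻¹ := ⟨_, rfl⟩
  rw [← hz0] at hz n₀
  have e1 : c * u₀ = z * u₀ * c := by rw [hz0]; group
  have e2 : c * z = z * c := (m3 hc z hz).symm
  have e3 : c ^ 3 * u₀ = z * z * z * u₀ * c ^ 3 := by
    simp only [pow_succ, pow_zero, one_mul, mul_assoc]
    rw [e1]
    simp only [← mul_assoc, e2]
    simp only [mul_assoc _ c z, e2, mul_assoc _ c u₀, e1, ← mul_assoc]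
  rw [c3, z2 z hz, one_mul, one_mul, mul_one, right_eq_mul] at e3
  exact n₀ e3

theorem lin [IsAlgClosed K] [FiniteDimensional K V] (hρ : Function.Injective ρ) {p q : ℕ}
    [hp : Fact p.Prime] [hq : Fact q.Prime] (hp2 : p ≠ 2) (hpq : p ≠ q) [CharP K p]
    {B Q : Subgroup G} (hB : IsPGroup p B) (hQ : IsPGroup q Q) (hBQ : B ≤ normalizer (Q : Set G))
    (q1 : ∀ c ∈ ⁅B, B⁆, ∀ g ∈ B, (ρ c - 1) * ((ρ g - 1) * (ρ g - 1)) = 0)
    (q2 : ∀ c ∈ ⁅B, B⁆, ∀ d ∈ ⁅B, B⁆, (ρ c - 1) * (ρ d - 1) = 0) :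
    ⁅B, B⁆ ≤ centralizer (Q : Set G) := by
  by_contra hn
  obtain ⟨P, hPQ, hP⟩ := exists_minimal_le_of_wellFoundedLT
    (fun P : Subgroup G => B ≤ normalizer (P : Set G) ∧ ¬ ⁅B, B⁆ ≤ centralizer (P : Set G)) Q ⟨hBQ, hn⟩
  obtain ⟨hBP, hnP⟩ := hP.prop
  have hPq : IsPGroup q P := hQ.to_le hPQ
  have BB : ⁅B, B⁆ ≤ B := commutator_le.2 fun x hx y hy =>
    mul_mem (mul_mem (mul_mem hx hy) (inv_mem hx)) (inv_mem hy)
  have hmin : ∀ U : Subgroup G, U < P → B ≤ normalizer (U : Set G) → ⁅U, ⁅B, B⁆⁆ = ⊥ := by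
    intro U hU hBU
    rw [H1.commutator_eq_bot_iff_le_centralizer']
    by_contra h
    exact hU.not_ge (hP.le_of_le ⟨hBU, h⟩ hU.le)
  obtain ⟨-, m1, m2, m3⟩ := H22.minAction_facts (H1.isSolvable_of_isPGroup hPq) hBP BB
    (H1.le_normalizer_commutator le_normalizer le_normalizer)
    (IsPGroup.coprime_card_of_ne p q hpq _ _ (hB.to_le BB) hPq)
    (by rwa [Ne, H1.commutator_eq_bot_iff_le_centralizer']) hmin
  obtain ⟨c, hc, hcP⟩ := SetLike.not_le_iff_exists.1 hnP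
  have cp : c ^ p = 1 := by
    apply hρ
    have e : ∀ n : ℕ, ρ c ^ n = 1 + n • (ρ c - 1) := fun n => by
      induction n with
      | zero => simp
      | succ n ih =>
        have := q2 c hc c hc
        obtain ⟨a, ha⟩ : ∃ a, ρ c = 1 + a := ⟨ρ c - 1, by abel⟩
        rw [ha, add_sub_cancel_left] at this
        rw [pow_succ, ih, ha, add_sub_cancel_left, mul_add, mul_one, add_mul, one_mul, smul_mul_assoc,
          this, smul_zero, add_zero, succ_nsmul, add_assoc]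
    rw [map_pow, e, ← Nat.cast_smul_eq_nsmul K, CharP.cast_eq_zero, zero_smul, add_zero, map_one]
  have hK : ∀ r : ℕ, r.Prime → p ≠ r → (r : K) ≠ 0 := fun r hr h e =>
    h ((Nat.prime_dvd_prime_iff_eq hp.out hr).1 ((CharP.cast_eq_zero_iff K p r).1 e))
  have d0 : ((X - C 1 : K[X]) ^ 2).natDegree = 2 := by rw [natDegree_pow, natDegree_X_sub_C]
  have n0 : (X - C 1 : K[X]) ^ 2 ≠ 0 := pow_ne_zero _ (X_sub_C_ne_zero 1)
  have dp : (X ^ p ^ (0 + 1) - 1 : K[X]).natDegree = p := by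
    rw [← C_1, natDegree_X_pow_sub_C]; simp
  have p2 := hp.out.two_le
  rcases H22.hh_faithful ρ hρ hpq (hK q hq.out hpq) P hPq c (hBP (BB hc)) 0 (by simpa using cp)
    (by simpa using hcP) ((X - C 1) ^ 2) (by simpa [pow_two] using q2 c hc c hc) with
    h | ⟨k, l, m, μ, e1, e2, e3, -, h⟩
  · have := natDegree_le_of_dvd h n0
    omega
  obtain ⟨rfl, rfl⟩ : k = 0 ∧ l = 0 := by omega
  have := natDegree_le_of_dvd h (mul_ne_zero n0 (by simpa using X_sub_C_ne_zero μ))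
  rw [natDegree_mul n0 (by simpa using X_sub_C_ne_zero μ), d0, dp, pow_zero, pow_one,
    natDegree_X_sub_C] at this
  obtain rfl : p = 3 := by omega
  obtain rfl : q = 2 := (Nat.prime_dvd_prime_iff_eq hq.out Nat.prime_two).1
    (by rw [show 2 = q ^ m by omega]; exact dvd_pow_self q (by omega))
  exact hcP (lin32 ρ hρ (by simpa using hK 2 Nat.prime_two hpq) hB hPq hBP q1 q2 m1 m2
    (H1.commutator_eq_bot_iff_le_centralizer'.1
      (hmin _ m3 (H1.le_normalizer_commutator hBP hBP))) hc cp)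

end lin

variable {p : ℕ} [hp : Fact p.Prime]

theorem step (hp2 : p ≠ 2) {X : Type u} [Group X] [Finite X] (hX : IsPSolvable p X)
    (hV : IsElementaryAbelian p (pCore p X)) (hC : centralizer (pCore p X : Set X) ≤ pCore p X)
    {B : Subgroup X} (hB : IsPGroup p B) (hn : pCore p X ≤ normalizer (B : Set X))
    (h : ⁅⁅B, B⁆, ⁅B, B⁆⁆ = ⊥) : ⁅B, B⁆ ≤ pCore p X := by
  obtain ⟨W, _, _, _, ρ, ι, e1, e2, e3, e4, e5, -⟩ := exists_rep_pCore hX hV hC
  have h0 : ι 1 = 0 := by simpa using e2 1 1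
  let cm : X → pCore p X → pCore p X := fun g v =>
    ⟨g * v * g⁻¹, Normal.conj_mem inferInstance _ v.2 _⟩ * v⁻¹
  have hcm : ∀ g v, (cm g v : X) = ⁅g, (v : X)⁆ := fun _ _ => rfl
  have key : ∀ (g : X) (v : pCore p X), (ρ g - 1) (ι v) = ι (cm g v) := fun g v => by
    have : ι v⁻¹ = - ι v := by rw [eq_neg_iff_add_eq_zero, ← e2, inv_mul_cancel, h0]
    rw [e2, this, ← e5 g v ⟨_, _⟩ rfl, LinearMap.sub_apply, Module.End.one_apply, sub_eq_add_neg]
  have hn' : pCore p X ≤ normalizer ((⁅B, B⁆ : Subgroup X) : Set X) :=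
    H1.le_normalizer_commutator hn hn
  have in1 : ∀ {D : Subgroup X}, pCore p X ≤ normalizer (D : Set X) → ∀ g ∈ D, ∀ v,
      (cm g v : X) ∈ D := fun hD g hg v => by
    have := mul_mem hg ((hD v.2 _).1 (inv_mem hg))
    rw [hcm, commutatorElement_def]
    simpa only [mul_assoc] using this
  have z : ∀ c ∈ ⁅B, B⁆, ∀ v : pCore p X, (v : X) ∈ ⁅B, B⁆ → ι (cm c v) = 0 := fun c hc v hv => by
    have : cm c v = 1 := Subtype.ext (by
      rw [hcm, Subgroup.coe_one, ← mem_bot, ← h]; exact commutator_mem_commutator hc hv)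
    rw [this, h0]
  let π := QuotientGroup.mk' (pCore p X)
  have eB : ⁅B.map π, B.map π⁆ = ⁅B, B⁆.map π := (map_commutator _ _ _).symm
  have hnd := H2.not_dvd_card_pPrimeCore p (X ⧸ pCore p X)
  have hc : ⁅B.map π, B.map π⁆ ≤ centralizer (pPrimeCore p (X ⧸ pCore p X) : Set (X ⧸ pCore p X)) := by
    rw [le_centralizer_iff]
    rw [← relIndex_eq_one, Nat.eq_one_iff_not_exists_prime_dvd]
    intro q hq hd
    have := Fact.mk hq
    obtain ⟨Q, s1, s2⟩ := H98.exists_invSylP (hB.map π) hnd le_normalizer_of_normal q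
    refine s1.not_dvd_relIndex (hd.trans (relIndex_dvd_of_le_left _ (le_centralizer_iff.1
      (lin ρ e1 hp2 (fun e => hnd (e.dvd.trans (hd.trans (relIndex_dvd_card _ _)))) (hB.map π)
      s1.isPGroup s2 ?_ ?_))))
    · rw [eB]
      rintro _ ⟨c, hc, rfl⟩ _ ⟨g, hg, rfl⟩
      refine LinearMap.ext_on_range e4 fun v => ?_
      change (ρ c - 1) ((ρ g - 1) ((ρ g - 1) (ι v))) = 0
      rw [key, key, key]
      exact z c hc _ (commutator_mem_commutator hg (in1 hn g hg v))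
    · rw [eB]
      rintro _ ⟨c, hc, rfl⟩ _ ⟨g, hg, rfl⟩
      refine LinearMap.ext_on_range e4 fun v => ?_
      change (ρ c - 1) ((ρ g - 1) (ι v)) = 0
      rw [key, key]
      exact z c hc _ (in1 hn' g hg v)
  have h6 := hc.trans
    (centralizer_pPrimeCore_le (isPSolvable_quotient hX _) (H2.pCore_quotient_pCore p X))
  have BB : ⁅B, B⁆ ≤ B := commutator_le.2 fun x hx y hy =>
    mul_mem (mul_mem (mul_mem hx hy) (inv_mem hx)) (inv_mem hy)
  rw [eB] at h6
  have h7 : ⁅B, B⁆.map π = ⊥ := by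
    obtain ⟨k, hk⟩ := IsPGroup.iff_card.1 ((hB.to_le BB).map π)
    rw [← card_eq_one, hk]
    have := card_dvd_of_le h6
    rw [hk] at this
    rcases k with _ | k
    · rfl
    · exact absurd ((dvd_pow_self p k.succ_ne_zero).trans this) hnd
  rwa [Subgroup.map_eq_bot_iff, QuotientGroup.ker_mk'] at h7

theorem main (hp2 : p ≠ 2) {G : Type u} [Group G] [Finite G] (hG : IsPSolvable p G) (d : ℕ)
    (hd : ∀ P : Subgroup G, IsPGroup p P → derivedSeries P d = ⊥) : PLengthLE p d G := by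
  refine pLengthLE_of_step' (fun k X _ => ∀ P : Subgroup X, IsPGroup p P → derivedSeries P k = ⊥)
    ?_ ?_ ?_ d G hG hd
  · intro k X Y _ _ _ f hf h Q hQ
    obtain ⟨P, hP, rfl⟩ := H10.exists_isPGroup_map_eq f hf hQ
    rw [← map_derivedSeries_eq (f.subgroupMap_surjective P), h P hP, Subgroup.map_bot]
  · intro X _ _ _ h
    refine coprime_card_of_forall_isPGroup_eq_bot fun P hP => ?_
    have := congrArg (Subgroup.map P.subtype) (h P hP)
    rwa [derivedSeries_zero, ← MonoidHom.range_eq_map, range_subtype, Subgroup.map_bot] at this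
  · intro k X _ _ hX hV hC h Q hQ
    let π := QuotientGroup.mk' (pCore p X)
    let P := Q.comap π
    have hP : IsPGroup p P := hQ.comap_of_ker_isPGroup π (by
      rw [QuotientGroup.ker_mk']; exact H2.pCore_isPGroup p X)
    have hVP : pCore p X ≤ P := (QuotientGroup.ker_mk' _).symm.le.trans (ker_le_comap π Q)
    let D : ℕ → Subgroup X := fun n => (derivedSeries P n).map P.subtype
    have D0 : D 0 = P := by simp only [D, derivedSeries_zero, ← MonoidHom.range_eq_map, range_subtype]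
    have DS : ∀ n, D (n + 1) = ⁅D n, D n⁆ := fun n => map_commutator _ _ _
    have Dk : D (k + 1) = ⊥ := by simp only [D, h P hP, Subgroup.map_bot]
    have hD : D k ≤ pCore p X := by
      rcases k with _ | k
      · rw [DS, D0, commutator_eq_bot_iff_le_centralizer] at Dk
        rw [D0]
        exact Dk.trans ((centralizer_le (SetLike.coe_mono hVP)).trans hC)
      · rw [DS]
        refine step hp2 hX hV hC (hP.to_le (map_subtype_le _)) (hVP.trans ?_) (by rw [← DS, ← DS, Dk])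
        clear Dk h
        induction k with
        | zero => rw [D0]; exact le_normalizer
        | succ k ih => rw [DS]; exact H1.le_normalizer_commutator ih ih
    have e : Q = P.map π := (map_comap_eq_self_of_surjective (QuotientGroup.mk'_surjective _) Q).symm
    rw [e, ← map_derivedSeries_eq (π.subgroupMap_surjective P), Subgroup.map_eq_bot_iff]
    intro x hx
    exact Subtype.ext ((QuotientGroup.eq_one_iff _).2 (hD ⟨x, hx, rfl⟩))

end H18.HD
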