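import Cfsg.Agent.H7.HKSSpec3
import Cfsg.Agent.H72.HKS1
import Cfsg.Agent.H3.HkKit2
import Cfsg.Agent.H14.Std
import Cfsg.Agent.H46.Nil

/-! HKS tower, chapter III: four-groups fix at most two points (`JobM0b`). -/

set_option autoImplicit false
set_option linter.unusedSectionVars false

namespace H18.HK

open MulAction Cfsg Subgroup H89.K H65 H7.HKS
open H72.HKS (kit1 fx_mem lx_le mem_lx lx_two card_eq relIndex_mul_card)
open H3.HK2 (kit2 xm ym nm norm_CU fx_a fx_b)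

universe u

theorem two_ne {F : Type} [Field F] [Fintype F] (ho : Odd (Fintype.card F)) : (2 : F) ≠ 0 :=
  Ring.two_ne_zero fun h => by
    have := FiniteField.even_card_iff_char_two.1 h
    rw [Nat.odd_iff] at ho
    omega

theorem eq_zero_of_neg {F : Type} [Field F] [Fintype F] (ho : Odd (Fintype.card F)) {c : F}
    (h : -c = c) : c = 0 :=
  (mul_eq_zero.1 (show 2 * c = 0 by linear_combination -h)).resolve_left (two_ne ho)

theorem exists_i {F : Type} [Field F] [Fintype F] (ho : Odd (Fintype.card F)) (σ : F ≃+* F) {c : F}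
    (hc : c ≠ 0) (h : σ c = -c) : ∃ i : F, i * i = -1 := by
  suffices IsSquare (-1 : F) from this.imp fun _ k => k.symm
  refine FiniteField.isSquare_neg_one_iff.2 fun h3 => ?_
  obtain ⟨k, hk⟩ : ∃ k, Fintype.card F - 1 = (2 * k + 1) + (2 * k + 1) :=
    ⟨Fintype.card F / 4, by omega⟩
  have h1 := FiniteField.pow_card_sub_one_eq_one c hc
  rw [hk, pow_add] at h1
  have h2 : σ (c ^ (2 * k + 1)) = c ^ (2 * k + 1) := by
    rcases mul_self_eq_one_iff.1 h1 with e | e <;> simp [e]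
  rw [map_pow, h, (odd_two_mul_add_one k).neg_pow] at h2
  exact pow_ne_zero _ hc (eq_zero_of_neg ho h2)

variable {G Ω : Type u} [Group G] [MulAction G Ω] {U : Ω → Subgroup G} {a b c : Ω}
  {t v g u : G} {X Y : Set G} {E : Subgroup G}

theorem mem_c1 : g ∈ centralizer ({t} : Set G) ↔ t * g = g * t := by simp [mem_centralizer_iff]

theorem mem_c2 : g ∈ centralizer ({t, v} : Set G) ↔ t * g = g * t ∧ v * g = g * v := by
  simp [mem_centralizer_iff]

theorem cm_mul (h1 : t * u = u * t) (h2 : v * u = u * v) : t * v * u = u * (t * v) :=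
  (Commute.mul_left h1 h2 :)

theorem cm_left (h1 : t * u = u * t) (h2 : t * v * u = u * (t * v)) : v * u = u * v :=
  mul_left_cancel (a := t) (by rw [← mul_assoc, h2, ← mul_assoc, ← mul_assoc, h1])

theorem cen_mul : centralizer ({t, t * v} : Set G) = centralizer {t, v} := by
  ext g
  rw [mem_c2, mem_c2]
  exact ⟨fun h => ⟨h.1, cm_left h.1 h.2⟩, fun h => ⟨h.1, cm_mul h.1 h.2⟩⟩

theorem iv_sq (h : Iv t a b) : t * t = 1 := by rw [← sq, ← h.2, pow_orderOf_eq_one]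

theorem iv_ne (h : Iv t a b) : t ≠ 1 := fun e => by simpa [e] using h.2

theorem iv_sub (h : Iv t a b) : ({t} : Set G) ⊆ St G a b := Set.singleton_subset_iff.2 h.1

theorem fr_symm (h : Fr t v a b) : Fr v t a b := ⟨h.2.1, h.1, h.2.2.1.symm, h.2.2.2.symm⟩

theorem fr_sq (h : Fr t v a b) : t * v * (t * v) = 1 := by
  rw [mul_assoc, ← mul_assoc v, ← h.2.2.2, mul_assoc, iv_sq h.2.1, mul_one, iv_sq h.1]

theorem fr_ne (h : Fr t v a b) : t * v ≠ 1 := fun e =>
  h.2.2.1 (mul_left_cancel (a := t) ((iv_sq h.1).trans e.symm))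

theorem fr_mul (h : Fr t v a b) : Fr t (t * v) a b :=
  ⟨h.1, ⟨mul_mem h.1.1 h.2.1.1, orderOf_eq_prime (by rw [sq, fr_sq h]) (fr_ne h)⟩,
    fun e => iv_ne h.2.1 (by simpa using e), by rw [mul_assoc, ← h.2.2.2]⟩

theorem fr_sub (h : Fr t v a b) : ({t, v} : Set G) ⊆ St G a b := by
  rintro _ (rfl | rfl)
  exacts [h.1.1, h.2.1.1]

/-- everything in `U a` centralised by `t` is centralised by `g` -/
def Tv (U : Ω → Subgroup G) (a : Ω) (t g : G) : Prop := ∀ u ∈ U a, t * u = u * t → g * u = u * g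

theorem LX_le (h1 : Fx Ω X ⊆ Fx Ω Y) (h2 : centralizer X ≤ centralizer Y) : LX U X ≤ LX U Y :=
  iSup₂_le fun c hc => le_iSup₂_of_le c (h1 hc) (inf_le_inf_left _ h2)

theorem nr1 (h : t * g = g * t) : g ∈ normalizer ({t} : Set G) :=
  centralizer_le_normalizer _ (mem_c1.2 h)

variable [Finite G]

theorem nr_U (h : Rg U) (hg : g • a = a) : g ∈ normalizer (U a : Set G) :=
  H46.mem_nrm_of_cj_le (by
    rintro _ ⟨u, hu, rfl⟩
    simpa [hg] using h.conj g a u hu)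

theorem faith (h : Rg U) (hab : a ≠ b) (hg : g ∈ St G a b) (hc : ∀ u ∈ U a, g * u = u * g) :
    g = 1 := h.t2.faith g fun c => by
  by_cases e : c = a
  · rw [e, hg.1]
  obtain ⟨u, hu, rfl⟩ := h.tr hab.symm e
  rw [← mul_smul, hc u hu, mul_smul, hg.2]

theorem all3 (h : Rg U) (hab : a ≠ b) (hF : Fr t v a b) (hg : g ∈ St G a b) (h1 : Tv U a t g)
    (h2 : Tv U a v g) (h3 : Tv U a (t * v) g) : g = 1 := faith h hab hg fun w hw => by
  obtain ⟨w₁, k1, w₂, k2, w₃, k3, rfl⟩ := (kit1.wie (U a) t v (h.odd a) (nr_U h hF.1.1.1)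
    (nr_U h hF.2.1.1.1) (iv_sq hF.1) (iv_sq hF.2.1) hF.2.2.2).2 w hw (h.nil a)
  exact ((Commute.mul_right (h1 _ k1.1 (mem_c1.1 k1.2)) (h2 _ k2.1 (mem_c1.1 k2.2))).mul_right
    (h3 _ k3.1 (mem_c1.1 k3.2)) :)

/-- a non-trivial member of type L -/
theorem typeL (h : Rg U) (h8 : NoE8 G Ω) (hab : a ≠ b) (hF : Fr t v a b)
    (hW : CU U {t, v} a ≠ ⊥) (nt : ¬ Tv U a t v) {F : Type} [Field F] [Fintype F] {x y : F → G}
    (L : LD x y (CU U {t} a) (CU U {t} b) a b) :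
    sl2h x y (-1) = t ∧ t ∈ LX U {v} ∧ ¬ Tv U a v t := by
  obtain ⟨l, σ, hl, ex, ey, en, eh⟩ := kit2.semi h.sr hab inf_le_left inf_le_left L v hF.2.1.1
    (norm_CU h.sr (nr1 hF.2.2.2) hF.2.1.1.1) (norm_CU h.sr (nr1 hF.2.2.2) hF.2.1.1.2)
  obtain ⟨ho, -, -, hst, -, nn, -⟩ := kit2.bas h.sr hab inf_le_left inf_le_left L
  obtain ⟨⟨u, hu⟩, u1⟩ := ne_bot_iff_exists_ne_one.1 hW
  obtain ⟨c, rfl⟩ := (L.rx u).1 ⟨hu.1, mem_c1.2 (mem_c2.1 hu.2).1⟩
  have c0 : c ≠ 0 := fun e => u1 (Subtype.ext (by simp [e, L.rel.x_zero]))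
  have vc := (mem_c2.1 hu.2).2
  have lc : l * σ c = c := L.inj (by rw [← ex, vc, mul_inv_cancel_right])
  have nall : ¬ ∀ e, v * x e = x e * v := fun k => nt fun u hu e => by
    obtain ⟨d, rfl⟩ := (L.rx u).1 ⟨hu, mem_c1.2 e⟩
    exact k d
  have tx : ∀ e, t * x e = x e * t := fun e => mem_c1.1 (xm L e).2
  have tL : ∀ g ∈ CU U {t} a ⊔ CU U {t} b, t * g = g * t := fun g hg =>
    mem_c1.1 ((sup_le inf_le_right inf_le_right : _ ≤ centralizer ({t} : Set G)) hg)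
  have th : ∀ e, t * sl2h x y e = sl2h x y e * t := fun e => tL _ (mul_mem (nm L _) (nm L _))
  have v2 := iv_sq hF.2.1
  have ss : ∀ e, l * σ (l * σ e) = e := fun e => L.inj (by
    rw [← ex, ← ex, ← mul_assoc, ← mul_assoc, v2, mul_assoc, ← mul_inv_rev, v2]; simp)
  obtain ⟨e, he⟩ : ∃ e, σ e ≠ e := not_forall.1 fun k => nall fun e => by
    have : l = 1 := by rw [k] at lc; exact mul_right_cancel₀ c0 (lc.trans (one_mul c).symm)
    rw [← mul_inv_eq_iff_eq_mul, ex, this, one_mul, k]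
  have d0 : e - σ e ≠ 0 := sub_ne_zero.2 he.symm
  have sd : σ (e - σ e) = -(e - σ e) := by
    have k1 := ss 1
    have k2 := ss e
    simp only [map_one, mul_one, map_mul] at k1 k2
    rw [map_sub]
    linear_combination σ (σ e) * k1 - k2
  have m1 : (-1 : F) ≠ 0 := by simp
  have hneg : ∀ i : F, i ≠ 0 → sl2h x y (-i) = sl2h x y (-1) * sl2h x y i := fun i hi => by
    rw [L.rel.h_mul' m1 hi, neg_one_mul]
  have zx : ∀ e, sl2h x y (-1) * x e = x e * sl2h x y (-1) := fun e => by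
    simpa using L.rel.h_mul_x m1 e
  have z : sl2h x y (-1) = t := by
    rcases h8 a b t v (sl2h x y (-1)) hab hF (hst _ m1) (by
      rw [L.rel.h_mul' m1 m1]; simpa using L.rel.h_one) (th _).symm (by
      rw [eq_comm, ← mul_inv_eq_iff_eq_mul, eh _ m1]; simp) with k | k | k | k
    · obtain ⟨i, hi⟩ := exists_i ho σ d0 sd
      have i0 : i ≠ 0 := fun e => by simp [e] at hi
      have k1 : sl2h x y i * x c = x c * sl2h x y i := by
        rcases h8 a b t v (sl2h x y i) hab hF (hst _ i0) (by rw [L.rel.h_mul' i0 i0, hi, k])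
          (th _).symm (by
            rw [eq_comm, ← mul_inv_eq_iff_eq_mul, eh _ i0]
            rcases mul_self_eq_mul_self_iff.1 (show σ i * σ i = i * i by
              rw [← map_mul, hi]; simp) with e | e
            · rw [e]
            · rw [e, hneg _ i0, k, one_mul]) with e | e | e | e <;> rw [e]
        exacts [by simp, tx c, vc, cm_mul (tx c) vc]
      rw [L.rel.h_mul_x i0, sq, hi, mul_left_inj] at k1
      exact absurd (eq_zero_of_neg ho (by simpa using L.inj k1)) c0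
    · exact k
    · exact absurd (k ▸ zx) nall
    · exact absurd (fun e => cm_left (tx e) (k ▸ zx e)) nall
  refine ⟨z, ?_, fun k => iv_ne hF.1 (all3 h hab hF hF.1.1 (fun _ _ e => e) k fun u hu e' => ?_)⟩
  · have k1 : x c ∈ LX U {v} := mem_lx (fx_a (iv_sub hF.2.1)) ⟨hu.1, mem_c1.2 vc⟩
    have k2 : y (-c⁻¹) ∈ LX U {v} := mem_lx (fx_b (iv_sub hF.2.1)) ⟨(ym L _).1, mem_c1.2 (by
      rw [← mul_inv_eq_iff_eq_mul, ey, map_neg, map_inv₀, mul_neg, ← mul_inv, lc])⟩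
    have k3 : sl2n x y c ∈ LX U {v} := mul_mem (mul_mem k1 k2) k1
    rw [← z, ← nn c c0]
    exact mul_mem k3 k3
  · have k1 := eh _ d0
    rw [sd, hneg _ d0, z] at k1
    have k3 := th (e - σ e)
    have k4 := (hst _ d0).1
    generalize sl2h x y (e - σ e) = w at k1 k3 k4
    have k2 : v = w * (t * v) * w⁻¹ := by
      rw [← mul_assoc, ← k3, ← k1]; group
    have := k (w * u * w⁻¹) (by simpa [show w • a = a from k4] using h.conj w a u hu) (by
      rw [k2]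
      calc _ = w * (t * v * u) * w⁻¹ := by group
        _ = _ := by rw [e']; group)
    refine mul_left_cancel (a := w) (mul_right_cancel (b := w⁻¹) ?_)
    rw [← mul_assoc, ← k3, mul_assoc t, mul_assoc t, this, mul_assoc, mul_assoc, mul_assoc,
      mul_assoc, (Commute.inv_right (k3 : Commute t w)).eq]

theorem typeA (h : Rg U) (hA : AL U) (h8 : NoE8 G Ω) (hab : a ≠ b) (hF : Fr t v a b)
    (hW : CU U {t, v} a ≠ ⊥) (nt : ¬ Tv U a t v) : ∃ E, AD U {t} a E := by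
  rcases hA a b t hab hF.1 with k | ⟨F, _, _, x, y, L⟩
  · exact k.2
  obtain ⟨-, k1, k2⟩ := typeL h h8 hab hF hW nt L
  rcases hA a b v hab hF.2.1 with ⟨-, E, D⟩ | ⟨F', _, _, x', y', L'⟩
  · exact absurd ((kit2.aa h hab (iv_sub hF.2.1) D).2.2.1 t k1 hF.1.1) (iv_ne hF.1)
  obtain ⟨z, -⟩ := typeL h h8 hab (fr_symm hF) (by rwa [Set.pair_comm]) k2 L'
  rw [kit2.lx h hab (iv_sub hF.2.1) L'] at k1
  rcases ((kit2.grp h.sr hab inf_le_left inf_le_left L').1 (z ▸ iv_ne hF.2.1)).2 t k1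
    (iv_sq hF.1) with e | e
  exacts [absurd e (iv_ne hF.1), absurd (e.trans z) hF.2.2.1]

theorem cardA (h : Rg U) (hab : a ≠ b) (hF : Fr t v a b) (nt : ¬ Tv U a t v) (D : AD U {t} a E)
    {r : ℕ} (hr : Nat.card (CU U {t, v} a) = r) : Nat.card (CU U {t} a) = r * (r + 2) ∧
      (∃ k, r + 1 ∣ 2 ^ k) ∧ ∀ e ∈ E, v * e = e * v → IsConj v (e * v) := by
  obtain ⟨-, ⟨k, hk⟩, -, -, k1⟩ := kit2.aa h hab (iv_sub hF.1) D
  obtain ⟨-, k2, k3⟩ := k1 v hF.2.1.1 (mem_c1.2 hF.2.2.2)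
  rw [Set.pair_comm, hr] at k2
  obtain ⟨k3, k4⟩ := k3 (iv_sq hF.2.1) r (by rw [Set.pair_comm, hr])
  have n : Nat.card (CU U {t} a) ≠ r := fun e => nt fun u hu k =>
    (mem_c2.1 ((eq_of_le_of_card_ge (show CU U {t, v} a ≤ CU U {t} a from
      inf_le_inf_left _ (centralizer_le (by simp))) (e.trans hr.symm).le).ge
        ⟨hu, mem_c1.2 k⟩).2).2
  exact ⟨k3.resolve_left n, ⟨k, k2 ▸ hk ▸ card_dvd_of_le inf_le_left⟩, fun e he k =>
    let ⟨f, _, k⟩ := k4 e he n k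
    isConj_iff.2 ⟨f, k⟩⟩

theorem ne_bot_of {r : ℕ} (h3 : 3 ≤ r) (h : Nat.card E = r * (r + 2)) : E ≠ ⊥ := fun e => by
  rw [e, card_bot] at h
  nlinarith

theorem gamma_even (h : Rg U) (hab : a ≠ b) (ht : Iv t a b) {r : ℕ} (h3 : 3 ≤ r) (h4 : 4 ∣ r + 1)
    (hm : Nat.card (CU U {t} a) = r * (r + 2)) (hN : Nat.card (U a) = r * (r + 2) ^ 3) :
    2 ∣ (centralizer ({t} : Set G)).relIndex (St G a b) := by
  obtain ⟨-, k1, k2, -⟩ := kit1.cnt h hab ht.1 ht.2 (ne_bot_of h3 hm) hm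
  rw [← Nat.mul_right_cancel Nat.card_pos (k1.trans (relIndex_mul_card _ _).symm)]
  rw [hN, show r * (r + 2) ^ 3 - r * (r + 2) = (r + 3) * (r * (r + 2) * (r + 1)) from
    Nat.sub_eq_of_eq_add (by ring), show r * (r + 2) * (r * (r + 2) + 1) =
      (r + 1) * (r * (r + 2) * (r + 1)) by ring, ← mul_assoc, ← mul_assoc _ (r + 3)] at k2
  have k3 := Nat.mul_right_cancel (by positivity) k2
  obtain ⟨j, hj⟩ := h4
  generalize (Jst t a b).ncard = γ at k3
  rw [show r + 3 = 4 * j + 2 by omega, hj] at k3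
  have : 2 ∣ γ * (2 * j + 1) := 
    ⟨(Jsw t a b).ncard * j, Nat.mul_left_cancel two_pos (by linear_combination k3.symm)⟩
  exact (Nat.Coprime.dvd_mul_right (by simp)).1 this

theorem hall (h : Rg U) {r : ℕ} (ho : Odd r) (hr : Nat.card (CU U X c) = r)
    (hN : Nat.card (U c) = r * (r + 2) ^ 2) (hg : g • c = c) :
    g ∈ normalizer (CU U X c : Set G) := by
  refine H46.nil_hall_nrm_le (h.nil c) (H46.IsHallOf.isPiHallOf ⟨inf_le_left, ?_⟩) (nr_U h hg)
  have k := relIndex_mul_card (CU U X c) (U c)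
  rw [inf_eq_right.2 inf_le_left, hr, hN, mul_comm] at k
  rw [hr, Nat.mul_left_cancel ho.pos k]
  exact (Nat.coprime_self_add_right.2 (Nat.coprime_two_right.2 ho)).pow_right 2

theorem lx_le_sup (h : Rg U) (hab : a ≠ b) (hX : X ⊆ St G a b) :
    LX U X ≤ CU U X a ⊔ CU U X b := iSup₂_le fun c hc w hw => by
  rcases (fx_mem h hab hX c).1 hc with rfl | ⟨u, hu, rfl⟩
  · exact mem_sup_left hw
  have k0 := (mem_inf.1 hu).2
  have k : u⁻¹ * w * u⁻¹⁻¹ ∈ CU U X b := mem_inf.2 ⟨by simpa using h.conj u⁻¹ _ w hw.1,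
    mul_mem (mul_mem (inv_mem k0) (mem_inf.1 hw).2) (inv_mem (inv_mem k0))⟩
  simpa [mul_assoc] using mul_mem (mul_mem (mem_sup_left hu) (mem_sup_right k))
    (inv_mem (mem_sup_left hu : u ∈ CU U X a ⊔ CU U X b))

theorem caseAB (h : Rg U) (hA : AL U) (h8 : NoE8 G Ω) (hab : a ≠ b) (hF : Fr t v a b)
    (hW : CU U {t, v} a ≠ ⊥) (n1 : ¬ Tv U a t v) (n2 : ¬ Tv U a v t) : False := by
  obtain ⟨E, D⟩ := typeA h hA h8 hab hF hW n1
  obtain ⟨E', D'⟩ := typeA h hA h8 hab (fr_symm hF) (by rwa [Set.pair_comm]) n2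
  generalize hr : Nat.card (CU U {t, v} a) = r
  obtain ⟨m1, ⟨k, hk⟩, cj⟩ := cardA h hab hF n1 D hr
  obtain ⟨m2, -⟩ := cardA h hab (fr_symm hF) n2 D' (r := r) (by rwa [Set.pair_comm])
  have ho : Odd r := (h.odd a).of_dvd_nat (hr ▸ card_dvd_of_le inf_le_left)
  have h3 : 3 ≤ r := by
    have := (one_lt_card_iff_ne_bot _).2 hW
    obtain ⟨j, hj⟩ := ho
    omega
  have w := (kit1.wie (U a) t v (h.odd a) (nr_U h hF.1.1.1) (nr_U h hF.2.1.1.1) (iv_sq hF.1)
    (iv_sq hF.2.1) hF.2.2.2).1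
  rw [hr, m1, m2] at w
  have F3 := fr_symm (fr_mul hF)
  by_cases n3 : Tv U a (t * v) t
  · have m3 : CU U {t * v} a = CU U {t, v} a := le_antisymm (fun u hu => by
      have k := n3 u hu.1 (mem_c1.1 hu.2)
      exact ⟨hu.1, mem_c2.2 ⟨k, cm_left k (mem_c1.1 hu.2)⟩⟩) fun u hu =>
        ⟨hu.1, mem_c1.2 (cm_mul (mem_c2.1 hu.2).1 (mem_c2.1 hu.2).2)⟩
    have hN : Nat.card (U a) = r * (r + 2) ^ 2 := Nat.mul_right_cancel (m := r ^ 2) (by positivity)
      (by rw [w, show Nat.card ↥(U a ⊓ centralizer {t * v}) = r from (congrArg (fun A : Subgroup G => Nat.card A) m3).trans hr]; ring)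
    obtain ⟨s, hs, sa, sb⟩ := lx_two h hab (fr_sub hF) hW b (fx_b (fr_sub hF)) a (fx_a (fr_sub hF))
      hab.symm
    have le1 : LX U {t, v} ≤ LX U {t} := LX_le (fun c hc g hg => hc g (.inl hg))
      (centralizer_le (by simp))
    obtain ⟨-, -, a1, a2, -⟩ := kit2.aa h hab (iv_sub hF.1) D
    have s2 : s * s = 1 := a1 _ (le1 (mul_mem hs hs))
      ⟨by simp [mul_smul, sa, sb], by simp [mul_smul, sa, sb]⟩
    have sc : ∀ g ∈ St G a b, g * s * g⁻¹ = s := fun g hg => by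
      have k1 : g * s * g⁻¹ ∈ CU U {t, v} a ⊔ CU U {t, v} b := H46.conj_mem_of_mem_nrm
        (H46.nrm_sup (zpowers_le.2 (hall h ho hr hN hg.1)) (zpowers_le.2 (hall h ho
          ((kit1.fx h hab (fr_sub hF)).2.2.1.symm.trans hr) (by
            have := (card_eq h a).symm.trans (card_eq h b)
            omega) hg.2)) (mem_zpowers g)) (lx_le_sup h hab (fr_sub hF) hs)
      have k2 : g * s * g⁻¹ ∈ LX U {t} := le1 ((sup_le (fun _ => mem_lx (fx_a (fr_sub hF)))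
        (fun _ => mem_lx (fx_b (fr_sub hF))) : _ ≤ LX U {t, v}) k1)
      have ga : g⁻¹ • a = a := (inv_mem hg).1
      have gb : g⁻¹ • b = b := (inv_mem hg).2
      refine mul_left_cancel (a := s) ((a1 _ (mul_mem (le1 hs) k2) ⟨?_, ?_⟩).trans s2.symm) <;>
        simp [mul_smul, ga, gb, sa, sb, show g • a = a from hg.1, show g • b = b from hg.2]
    obtain ⟨c1, -, c2, -⟩ := kit1.cnt h hab hF.2.1.1 hF.2.1.2 (ne_bot_of h3 m2) m2
    have le : (Jst v a b).ncard ≤ (Jsw v a b).ncard := Set.ncard_le_ncard_of_injOn (s * ·)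
      (fun z hz => by
        obtain ⟨g, hg, rfl⟩ := c1 z hz
        refine ⟨(cj s (a2 s (le1 hs) s2) (mem_c2.1 (lx_le hs)).2).trans
          (isConj_iff.2 ⟨g, (by group : _ = g * s * g⁻¹ * (g * v * g⁻¹)).trans (by rw [sc g hg])⟩), ?_, ?_⟩
        · rw [mul_smul, hz.2.1, sa]
        · rw [mul_smul, hz.2.2, sb])
      (fun _ _ _ _ e => mul_left_cancel e) (Set.toFinite _)
    have pos : 0 < (Jst v a b).ncard := (Set.ncard_pos (Set.toFinite _)).2 ⟨v, .refl v, hF.2.1.1⟩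
    rw [hN, show r * (r + 2) ^ 2 - r * (r + 2) = r * (r + 2) * (r + 1) from
      Nat.sub_eq_of_eq_add (by ring), show r * (r + 2) * (r * (r + 2) + 1) =
        (r + 1) * (r * (r + 2) * (r + 1)) by ring, ← mul_assoc] at c2
    have := Nat.mul_right_cancel (by positivity) c2
    nlinarith
  have hW3 : CU U {t * v, t} a = CU U {t, v} a := by rw [Set.pair_comm, CU, cen_mul]
  obtain ⟨E₃, D₃⟩ := typeA h hA h8 hab F3 (hW3 ▸ hW) n3
  obtain ⟨m3, -⟩ := cardA h hab F3 n3 D₃ (hW3 ▸ hr)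
  have hN : Nat.card (U a) = r * (r + 2) ^ 3 := Nat.mul_right_cancel (m := r ^ 2) (by positivity)
    (by rw [w, m3]; ring)
  have h4 : 4 ∣ r + 1 := by
    obtain ⟨j, -, hj⟩ := (Nat.dvd_prime_pow Nat.prime_two).1 hk
    rw [hj]
    match j, hj with
    | 0, hj => omega
    | 1, hj => omega
    | j + 2, _ => exact ⟨2 ^ j, by ring⟩
  have p : ∀ {s : G}, Iv s a b → IsPGroup 2 (zpowers s) := fun hs =>
    .of_card (n := 1) (by rw [Nat.card_zpowers, hs.2, pow_one])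
  obtain ⟨S, hS, hV⟩ := H46.exists_sylow_ge Nat.prime_two ((p hF.1).to_sup_of_normal_left'
    (p hF.2.1) (zpowers_le.2 (centralizer_le_normalizer _ fun g hg => by
      obtain ⟨n, rfl⟩ := hg
      exact (Commute.zpow_left hF.2.2.2 n :))))
    (sup_le (zpowers_le.2 hF.1.1) (zpowers_le.2 hF.2.1.1))
  have tS : t ∈ S := hV (mem_sup_left (mem_zpowers t))
  obtain ⟨z, zS, z2, zc⟩ := H14.exists_central_involution (H46.Cfsg.IsPiHallOf.isPGroup hS Nat.prime_two)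
    fun e => iv_ne hF.1 (mem_bot.1 (e ▸ tS))
  have iz : Iv z a b := ⟨hS.1 zS, z2⟩
  refine hS.2.2 2 Nat.prime_two rfl ((gamma_even h hab iz h3 h4 ?_ hN).trans
    (relIndex_dvd_of_le_left _ fun s hs => mem_c1.2 (zc s hs).symm))
  rcases h8 a b t v z hab hF iz.1 (iv_sq iz) (zc t tS).symm
    (zc v (hV (mem_sup_right (mem_zpowers v)))).symm with e | e | e | e
  exacts [absurd e (iv_ne iz), e ▸ m1, e ▸ m2, e ▸ m3]

theorem caseT (h : Rg U) (hA : AL U) (h8 : NoE8 G Ω) (hab : a ≠ b) (hF : Fr t v a b)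
    (hW : CU U {t, v} a ≠ ⊥) (n : Tv U a v t) : False :=
  caseAB h hA h8 hab (fr_mul hF) (by rwa [CU, cen_mul])
    (fun k => fr_ne hF (all3 h hab hF (fr_mul hF).2.1.1 k (fun u hu e => cm_mul (n u hu e) e)
      fun _ _ e => e))
    fun k => iv_ne hF.1 (all3 h hab hF hF.1.1 (fun _ _ e => e) n k)

theorem jobM0b : JobM0b.{u} := by
  intro G Ω _ _ _ U h hA h8 a b t v hab hF
  by_contra hW
  by_cases h1 : Tv U a t v
  · exact caseT h.toRg hA h8 hab (fr_symm hF) (by rwa [Set.pair_comm]) h1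
  by_cases h2 : Tv U a v t
  · exact caseT h.toRg hA h8 hab hF hW h2
  exact caseAB h.toRg hA h8 hab hF hW h1 h2

end H18.HK
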