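import Cfsg.Agent.H7.HKT
import Cfsg.Agent.H18.HKM0b

/-! HKS tower, chapter III: `JobP1` (all involutions of type `PSL₂(q)`, `q ≡ 1 (mod 4)`). -/

set_option autoImplicit false
set_option linter.unusedSectionVars false

namespace H18.HKP

open MulAction Cfsg Subgroup H89.K H65 H7.HKS H7.HKT
open H72.HKS (kit1 relIndex_mul_card)
open H3.HK2 (kit2)
open H18.HK (eq_zero_of_neg cm_mul cm_left)

universe u

theorem exists_fix {α : Type*} {T : Set α} (hT : Odd T.ncard) (f : α → α)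
    (hf : ∀ x ∈ T, f x ∈ T) (hff : ∀ x ∈ T, f (f x) = x) : ∃ x ∈ T, f x = x := by
  classical
  have hfin : T.Finite := Set.finite_of_ncard_ne_zero hT.pos.ne'
  have := hfin.fintype
  have hi : Function.Involutive fun x : T => (⟨f x, hf x x.2⟩ : T) :=
    fun x => Subtype.ext (hff x x.2)
  obtain ⟨x, hx⟩ := Equiv.Perm.exists_fixed_point_of_prime (p := 2) (n := 1) (σ := hi.toPerm)
    (by rw [← Nat.card_eq_fintype_card, Nat.card_coe_set_eq]; exact hT.not_two_dvd_nat)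
    (by ext x; exact congrArg Subtype.val (hi x))
  exact ⟨x, x.2, congrArg Subtype.val hx⟩

/-- no field automorphism of order two when `q ≡ 5 (mod 8)` -/
theorem aut_id {F : Type} [Field F] [Fintype F] (hq : Fintype.card F % 4 = 1) {i : F}
    (hi : i * i = -1) (ns : ¬ IsSquare i) (σ : F ≃+* F) (h2 : ∀ e, σ (σ e) = e) (e : F) :
    σ e = e := by
  by_contra he
  have ho : Odd (Fintype.card F) := Nat.odd_iff.2 (by omega)
  have t0 := H18.HK.two_ne ho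
  have ch : ringChar F ≠ 2 := fun h => by have := FiniteField.even_card_iff_char_two.1 h; omega
  obtain ⟨n, hn⟩ : ∃ n, Fintype.card F = 4 * n + 1 := ⟨Fintype.card F / 4, by omega⟩
  have sq : ∀ c : F, c ≠ 0 → c ^ n * c ^ n = 1 → IsSquare c := fun c hc k =>
    (FiniteField.isSquare_iff ch hc).2 (by rwa [show Fintype.card F / 2 = n + n by omega, pow_add])
  have p4 : ∀ c : F, c ≠ 0 → c ^ n * c ^ n = 1 ∨ c ^ n * c ^ n = -1 := fun c hc =>
    mul_self_eq_one_iff.1 (by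
      rw [← FiniteField.pow_card_sub_one_eq_one c hc, hn, Nat.add_sub_cancel]; ring)
  have i0 : i ≠ 0 := fun e => by simp [e] at hi
  have on : Odd n := Nat.not_even_iff_odd.1 fun k => ns (sq i i0 (by rw [← mul_pow, hi, k.neg_one_pow]))
  have c0 : e - σ e ≠ 0 := sub_ne_zero.2 (Ne.symm he)
  have sj : σ ((e - σ e) ^ n) = -(e - σ e) ^ n := by
    rw [map_pow, map_sub, h2, ← neg_sub, on.neg_pow]
  have j0 := pow_ne_zero n c0
  have j2 := p4 _ c0
  generalize (e - σ e) ^ n = j at sj j0 j2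
  rcases j2 with j2 | j2
  · refine j0 (eq_zero_of_neg ho (sj.symm.trans ?_))
    rcases mul_self_eq_one_iff.1 j2 with k | k <;> simp [k]
  rcases p4 2 t0 with k | k
  · obtain ⟨d, hd⟩ := sq 2 t0 k
    have d0 : d ≠ 0 := fun e => t0 (by simp [hd, e])
    exact ns ⟨(1 + i) / d, by field_simp; linear_combination -i * hd - hi⟩
  · have k1 : σ (2 ^ n) = 2 ^ n := by rw [map_pow, map_ofNat]
    refine j0 (eq_zero_of_neg ho (sj.symm.trans ?_))
    rcases mul_self_eq_mul_self_iff.1 (j2.trans k.symm) with e | e <;> rw [e]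
    exacts [k1, by rw [map_neg, k1]]

variable {G Ω : Type u} [Group G] [Finite G] [MulAction G Ω] {U : Ω → Subgroup G} {a b : Ω}
  {t v s g k w : G} {F F' : Type} [Field F] [Fintype F] [Field F'] [Fintype F'] {x y : F → G}
  {x' y' : F' → G} {i c : F} {i' : F'}

structure P1 (U : Ω → Subgroup G) (a b : Ω) : Prop extends C4 U where
  ne : a ≠ b
  q1 : Nat.card (U a) % 4 = 1
  ns : ∀ t, Iv t a b → ¬ SLt U t

structure Dt (U : Ω → Subgroup G) (a b : Ω) (t : G) (x y : F → G) (i : F) : Prop extends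
    P1 U a b where
  iv : Iv t a b
  ld : LD x y (CU U {t} a) (CU U {t} b) a b
  z : sl2h x y (-1) = 1
  ii : i * i = -1
  q : Fintype.card F % 4 = 1

theorem P1.dt (h : P1 U a b) (ht : Iv t a b) : ∃ (F : Type) (_ : Field F) (_ : Fintype F)
    (x y : F → G) (i : F), Dt U a b t x y i := by
  obtain ⟨⟨F, _, _, x, y, L⟩, k⟩ := h.tl h.ne ht
  rw [card_F h.toRg h.ne L, h.q1] at k
  obtain ⟨i, hi⟩ := ex_i k
  exact ⟨F, _, _, x, y, i, h, ht, L, ((h.sl h.ne ht L).resolve_left fun e => h.ns t ht e.1).2, hi, k⟩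

theorem sw_ne (hab : a ≠ b) (hw : Sw w a b) (hg : g ∈ St G a b) : w ≠ g := fun e =>
  hab (hg.1.symm.trans (e ▸ hw.1))

namespace Dt

variable (D : Dt U a b t x y i)
include D

theorem rg : Rg U := D.toRg

theorem oddF : Odd (Fintype.card F) := Nat.odd_iff.2 (by have := D.q; omega)

theorem i0 : i ≠ 0 := fun e => by simpa [e] using D.ii

theorem hneg (hc : c ≠ 0) : sl2h x y (-c) = sl2h x y c := by
  rw [← neg_one_mul, ← D.ld.rel.h_mul' (by simp) hc, D.z, one_mul]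

theorem nn (hc : c ≠ 0) : sl2n x y c * sl2n x y c = 1 :=
  ((kit2.bas D.rg.sr D.ne inf_le_left inf_le_left D.ld).2.2.2.2.2.1 c hc).trans D.z

theorem tx (c : F) : t * x c = x c * t := (mem_CU.1 (x_mem D.ld c)).2.symm

theorem nt (c : F) : sl2n x y c * t = t * sl2n x y c :=
  lx_comm D.rg D.ne D.iv.1 (n_lx D.rg D.ne (sub1 D.iv.1) D.ld c)

theorem ht (c : F) : sl2h x y c * t = t * sl2h x y c :=
  lx_comm D.rg D.ne D.iv.1 (h_lx D.rg D.ne (sub1 D.iv.1) D.ld c)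

theorem hx (hc : c ≠ 0) (e : F) : sl2h x y c * x e * (sl2h x y c)⁻¹ = x (c ^ 2 * e) := by
  rw [D.ld.rel.h_mul_x hc, mul_inv_cancel_right]

theorem not_comm (e : sl2h x y i * x 1 = x 1 * sl2h x y i) : False := by
  have := D.hx D.i0 1
  rw [e, mul_inv_cancel_right, sq, D.ii, mul_one] at this
  exact one_ne_zero (eq_zero_of_neg D.oddF (D.ld.inj this).symm)

theorem fr : Fr t (sl2h x y i) a b :=
  ⟨D.iv, iv_mk (h_st D.rg D.ne D.ld D.i0) (by rw [D.ld.rel.h_mul' D.i0 D.i0, D.ii, D.z])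
    fun e => D.not_comm (by simp [e]), fun e => D.not_comm (e ▸ D.tx 1), (D.ht i).symm⟩

theorem semi (hg : g ∈ St G a b) (e : g * t = t * g) : ∃ (l : F) (σ : F ≃+* F), l ≠ 0 ∧
    (∀ c, g * x c * g⁻¹ = x (l * σ c)) ∧ ∀ c, c ≠ 0 → g * sl2h x y c * g⁻¹ = sl2h x y (σ c) :=
  let ⟨l, σ, h1, h2, _, _, h3⟩ := kit2.semi D.rg.sr D.ne inf_le_left inf_le_left D.ld g hg
    (norm_CU D.toSp hg.1 (mem_N.2 e)) (norm_CU D.toSp hg.2 (mem_N.2 e))
  ⟨l, σ, h1, h2, h3⟩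

theorem tau_comm (hg : g ∈ St G a b) (e : g * t = t * g) :
    g * sl2h x y i = sl2h x y i * g := by
  obtain ⟨l, σ, -, -, k⟩ := D.semi hg e
  rw [← mul_inv_eq_iff_eq_mul, k _ D.i0]
  rcases mul_self_eq_mul_self_iff.1 (show σ i * σ i = i * i by rw [← map_mul, D.ii]; simp) with e | e
  · rw [e]
  · rw [e, D.hneg D.i0]

theorem tau_eq (hF : Fr t v a b) : sl2h x y i = v ∨ sl2h x y i = t * v :=
  ((D.noE8 a b t v _ D.ne hF D.fr.2.1.1 (iv_sq D.fr.2.1) (D.ht i) (D.tau_comm hF.2.1.1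
    hF.2.2.2.symm).symm).resolve_left (iv_ne D.fr.2.1)).resolve_left D.fr.2.2.1.symm

theorem ngx (hF : Fr t v a b) (c : F) : v * x c * v⁻¹ = x (-c) := by
  rw [iv_inv hF.2.1, D.neg D.ne hF _ (x_mem D.ld c), x_inv D.ld]

theorem n_comm (hF : Fr t v a b) (hc : c ≠ 0) : sl2n x y c * v = v * sl2n x y c := by
  rw [eq_comm, ← mul_inv_eq_iff_eq_mul, (neg_act D.rg D.ne D.ld hF.2.1.1 (mem_N.2 hF.2.2.2.symm)
    (D.ngx hF)).2.1 c hc, D.ld.rel.n_neg, inv_eq_of_mul_eq_one_right (D.nn hc)]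

theorem swp (w2 : w * w = 1) (hw : Sw w a b) (e : w * t = t * w) : ∃ μ : F, μ ≠ 0 ∧
    (∀ c, c ≠ 0 → w • x c • b = x (-(μ / c)) • b) ∧
      ∀ c, c ≠ 0 → w * sl2h x y c * w⁻¹ = sl2h x y c⁻¹ :=
  let ⟨μ, h1, h2, h3, _⟩ := kit2.swp D.rg D.ne (sub1 D.iv.1) D.ld w (mem_N.2 e) hw
    (fun c _ => by rw [← mul_smul, w2, one_smul]) (not_lt.1 fun k => by
      rcases D.nof D.ne D.iv w w2 e k with e | e
      exacts [sw_ne D.ne hw (one_mem _) e, sw_ne D.ne hw D.iv.1 e])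
  ⟨μ, h1, h2, h3⟩

theorem xb {c d : F} (e : x c • b = x d • b) : c = d :=
  H3.HK2.x_inj D.rg.sr D.ne inf_le_left D.ld e

theorem smul_xb {l : F} (hg : g ∈ St G a b) (e : ∀ c, g * x c * g⁻¹ = x (l * c)) (c : F) :
    g • x c • b = x (l * c) • b := by
  rw [← e, mul_smul, mul_smul, show g⁻¹ • b = b from (inv_mem hg).2]

theorem scal_sq (D' : Dt U a b s x' y' i') (hF : Fr s t a b) (hk : k ∈ Kh Ω {s}) {l : F}
    (e : ∀ c, k * x c * k⁻¹ = x (l * c)) : l * l = 1 := by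
  obtain ⟨μ, m0, h1, -⟩ := D.swp (D'.nn one_ne_zero) (D'.ld.sw 1 one_ne_zero)
    (D'.n_comm hF one_ne_zero)
  have ks := kh_st D'.iv.1 hk
  have l0 : l ≠ 0 := fun e0 => x_ne D.ld one_ne_zero (by
    have := e 1
    rw [e0, zero_mul, D.ld.rel.x_zero] at this
    simpa using this)
  have := congrArg (· • x 1 • b) (kl D.rg D.ne D'.iv.1 hk (n_lx D.rg D.ne (sub1 D'.iv.1) D'.ld 1))
  simp only [mul_smul] at this
  rw [h1 1 one_ne_zero, D.smul_xb ks e, D.smul_xb ks e, mul_one, h1 l l0] at this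
  have := D.xb this
  field_simp at this
  linear_combination -this

theorem pm (D' : Dt U a b s x' y' i') (hF : Fr s t a b) (hg : g ∈ St G a b) (g2 : g * g = s)
    {l : F} {l' : F'} (e : ∀ c, g * x c * g⁻¹ = x (l * c))
    (e' : ∀ c, g * x' c * g⁻¹ = x' (l' * c)) : False := by
  have gs : g * s = s * g := by rw [← g2, mul_assoc]
  have sq : ∀ u : G, s * u * s⁻¹ = g * (g * u * g⁻¹) * g⁻¹ := fun u => by rw [← g2]; group
  have k1 : l * l = -1 := D.ld.inj (by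
    rw [← D.ngx (fr_symm hF), sq, e, e, mul_one])
  have k2 : l' * l' = 1 := D'.ld.inj (by
    rw [show l' * l' = l' * (l' * 1) by ring, ← e', ← e', ← sq, D'.tx, mul_inv_cancel_right])
  refine one_ne_zero (eq_zero_of_neg D.oddF (k1.symm.trans ?_))
  rcases mul_self_eq_one_iff.1 k2 with rfl | rfl
  · refine D.scal_sq D' hF (kh_of D.rg D.ne D'.iv.1 hg gs fun u hu => ?_) e
    obtain ⟨c, rfl⟩ := (D'.ld.rx u).1 hu
    rw [← mul_inv_eq_iff_eq_mul, e', one_mul]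
  · refine D.scal_sq D' hF (kh_of D.rg D.ne D'.iv.1 (mul_mem hg D.iv.1)
      (cm_mul gs hF.2.2.2.symm) fun u hu => ?_) fun c => ?_
    · obtain ⟨c, rfl⟩ := (D'.ld.rx u).1 hu
      rw [← mul_inv_eq_iff_eq_mul, (by group : g * t * x' c * (g * t)⁻¹ =
        g * (t * x' c * t⁻¹) * g⁻¹), D'.ngx hF, e', neg_one_mul, neg_neg]
    · rw [← e, mul_assoc g, D.tx]; group

theorem nsq : ¬ IsSquare i := by
  rintro ⟨o, ho⟩
  have o0 : o ≠ 0 := fun e => D.i0 (by simp [ho, e])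
  obtain ⟨F', _, _, x', y', i', D'⟩ := D.toP1.dt D.fr.2.1
  have m1 : (-1 : F) ≠ 0 := by simp
  obtain ⟨μ, m0, h1, -⟩ := D'.swp (D.nn o0) (D.ld.sw _ o0) (D.n_comm D.fr o0)
  obtain ⟨ν, n0, h2, -⟩ := D'.swp (D.nn m1) (D.ld.sw _ m1) (D.n_comm D.fr m1)
  have hs := h_st D.rg D.ne D.ld o0
  refine D.pm D' (fr_symm D.fr) hs (by rw [D.ld.rel.h_mul' o0 o0, ho]) (D.hx o0) (l' := μ / ν)
    fun c => ?_
  by_cases c0 : c = 0
  · simp [c0, D'.ld.rel.x_zero]
  refine H72.HKS.reg_eq D.rg D.ne (by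
    simpa [show sl2h x y o • a = a from hs.1] using D.conj (sl2h x y o) a _ (x_mem D'.ld c).1)
    (x_mem D'.ld _).1 ?_
  rw [mul_smul, mul_smul, show (sl2h x y o)⁻¹ • b = b from (inv_mem hs).2, sl2h, mul_smul, h2 c c0,
    h1 _ (by simp [n0, c0])]
  congr 2
  field_simp

theorem scal (hg : g ∈ St G a b) (e : g * t = t * g) {ε : F}
    (h2 : ∀ c, g * g * x c * (g * g)⁻¹ = x (ε * c)) : ∃ l, ∀ c, g * x c * g⁻¹ = x (l * c) := by
  obtain ⟨l, σ, l0, k, -⟩ := D.semi hg e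
  have k1 : ∀ c, l * (σ l * σ (σ c)) = ε * c := fun c => D.ld.inj (by
    rw [← map_mul, ← k, ← k, ← h2]; group)
  have k2 := k1 1
  simp only [map_one, mul_one] at k2
  exact ⟨l, fun c => by rw [k, aut_id D.q D.ii D.nsq σ fun c => mul_left_cancel₀
    (mul_ne_zero l0 ((map_ne_zero σ).2 l0)) (by rw [mul_assoc, k1, k2])]⟩

theorem no_four (hg : g ∈ St G a b) (g2 : g * g = t) : False := by
  have gt : g * t = t * g := by rw [← g2, mul_assoc]
  obtain ⟨F', _, _, x', y', i', D'⟩ := D.toP1.dt D.fr.2.1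
  obtain ⟨l, e⟩ := D.scal hg gt (ε := 1) fun c => by rw [g2, D.tx, mul_inv_cancel_right, one_mul]
  obtain ⟨l', e'⟩ := D'.scal hg (D.tau_comm hg gt) (ε := -1) fun c => by
    rw [g2, D'.ngx (fr_symm D.fr), neg_one_mul]
  exact D'.pm D D.fr hg g2 e' e

end Dt

theorem P1.two (h : P1 U a b) (n : ℕ) : ∀ g ∈ St G a b, g ^ 2 ^ n = 1 → g * g = 1 := by
  induction n with
  | zero => intro g _ e; simp [show g = 1 by simpa using e]
  | succ n ih =>
    intro g hg e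
    by_contra k
    obtain ⟨F, _, _, x, y, i, D⟩ := h.dt (iv_mk (mul_mem hg hg)
      (ih _ (mul_mem hg hg) (by rwa [← sq, ← pow_mul, ← pow_succ'])) k)
    exact D.no_four hg rfl

namespace Dt

variable (D : Dt U a b t x y i)
include D

theorem sw_form (w2 : w * w = 1) (hw : Sw w a b) (e : w * t = t * w) :
    ∃ d, d ≠ 0 ∧ (w = sl2n x y d ∨ w = sl2n x y d * t) := by
  have n2 := D.nn one_ne_zero
  have ns := D.ld.sw 1 one_ne_zero
  have nl := n_lx D.rg D.ne (sub1 D.iv.1) D.ld 1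
  have nt := D.nt 1
  generalize sl2n x y 1 = n at n2 ns nl nt
  have hg : n * w ∈ St G a b :=
    ⟨by simp [mul_smul, hw.1, ns.2], by simp [mul_smul, hw.2, ns.1]⟩
  have gt : n * w * t = t * (n * w) := cm_mul nt e
  have ng : n * (n * w) * n⁻¹ = (n * w)⁻¹ := by
    rw [← mul_assoc, n2, one_mul, mul_inv_rev, inv_eq_of_mul_eq_one_right w2]
  have hw' : w = n * (n * w) := by rw [← mul_assoc, n2, one_mul]
  generalize n * w = g at hg gt ng hw'
  obtain ⟨k, m, ⟨j, rfl⟩, hm⟩ := Nat.exists_eq_two_pow_mul_odd (orderOf_pos g).ne'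
  have v2 := D.toP1.two k _ (pow_mem hg (2 * j + 1)) (by
    rw [← pow_mul, mul_comm, ← hm, pow_orderOf_eq_one])
  have vt : g ^ (2 * j + 1) * t = t * g ^ (2 * j + 1) := (Commute.pow_left gt _ :)
  have k1 : w = g ^ j * n * (g ^ j)⁻¹ * g ^ (2 * j + 1) := by
    have : n * g ^ j * n⁻¹ = (g ^ j)⁻¹ := by rw [← conj_pow, ng, inv_pow]
    calc w = g ^ j * (n * g ^ j * n⁻¹) * n * g := by rw [this, hw']; group
      _ = _ := by group
  have k2 := lx_conj' D.toSp (Commute.pow_left gt j :) nl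
  obtain ⟨l, hl, k3⟩ : ∃ l ∈ LX U {t}, w = l ∨ w = l * t := by
    have k3 := mul_mem k2 (h_lx D.rg D.ne (sub1 D.iv.1) D.ld i)
    rcases D.noE8 a b _ _ _ D.ne D.fr (pow_mem hg _) v2 vt (D.tau_comm (pow_mem hg _) vt) with
      e | e | e | e <;> rw [e] at k1
    exacts [⟨_, k2, .inl (k1.trans (mul_one _))⟩, ⟨_, k2, .inr k1⟩, ⟨_, k3, .inl k1⟩,
      ⟨_, k3, .inr (by rw [k1, ← D.ht, mul_assoc _ (sl2h x y i)])⟩]
  obtain ⟨d, d0, rfl⟩ := (kit2.bas D.rg.sr D.ne inf_le_left inf_le_left D.ld).2.2.2.2.2.2.2.2.2.1 l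
    (lx_eq D.rg D.ne (sub1 D.iv.1) D.ld ▸ hl) (by
      rcases k3 with rfl | rfl
      · exact hw
      · simpa [Sw, mul_smul, show t • a = a from D.iv.1.1, show t • b = b from D.iv.1.2] using hw)
  exact ⟨d, d0, k3⟩

theorem n_conj (hc : c ≠ 0) :
    IsConj (sl2h x y i) (sl2n x y c) ∧ IsConj (sl2h x y i * t) (sl2n x y c * t) := by
  obtain ⟨l, hl, e⟩ := ((kit2.grp D.rg.sr D.ne inf_le_left inf_le_left D.ld).2.1 D.z).2 _
    (h_mem D.ld i) _ (n_mem D.ld c) D.fr.2.1.2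
    (orderOf_eq_prime (by rw [sq, D.nn hc]) (sw_ne D.ne (D.ld.sw c hc) (one_mem _)))
  rw [← lx_eq D.rg D.ne (sub1 D.iv.1) D.ld] at hl
  exact ⟨isConj_iff.2 ⟨l, e⟩, isConj_iff.2 ⟨l, by
    rw [← e, mul_assoc _ l⁻¹, lx_comm D.rg D.ne D.iv.1 (inv_mem hl)]; group⟩⟩

end Dt

theorem P1.conj_or (h : P1 U a b) (hF : Fr t v a b) : IsConj t v ∨ IsConj t (t * v) := by
  obtain ⟨F, _, _, x, y, i, D⟩ := h.dt hF.1
  obtain ⟨F', _, _, x', y', i', D'⟩ := h.dt hF.2.1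
  have c1 := D'.n_conj one_ne_zero
  have n2 := D'.nn one_ne_zero
  have ns := D'.ld.sw 1 one_ne_zero
  have nt := D'.n_comm (fr_symm hF) one_ne_zero
  have vtv : v * t * v = t := by rw [← hF.2.2.2, mul_assoc, iv_sq hF.2.1, mul_one]
  obtain ⟨w, w1, w2, w3, w4⟩ : ∃ w, IsConj t w ∧ w * w = 1 ∧ Sw w a b ∧ w * t = t * w := by
    rcases D'.tau_eq (fr_symm hF) with e | e <;> rw [e] at c1
    · exact ⟨_, c1.1, n2, ns, nt⟩
    · refine ⟨_, vtv ▸ c1.2, ?_, ?_, cm_mul nt hF.2.2.2.symm⟩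
      · rw [mul_assoc, ← mul_assoc v, ← D'.nt, mul_assoc, iv_sq hF.2.1, mul_one, n2]
      · simpa [Sw, mul_smul, show v • a = a from hF.2.1.1.1, show v • b = b from hF.2.1.1.2]
          using ns
  obtain ⟨d, d0, k⟩ := D.sw_form w2 w3 w4
  have c2 := D.n_conj d0
  rcases D.tau_eq hF with e | e <;> rw [e] at c2 <;> rcases k with rfl | rfl
  · exact .inl (w1.trans c2.1.symm)
  · exact .inr (hF.2.2.2 ▸ w1.trans c2.2.symm)
  · exact .inr (w1.trans c2.1.symm)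
  · rw [hF.2.2.2, mul_assoc, iv_sq hF.1, mul_one] at c2
    exact .inl (w1.trans c2.2.symm)

theorem P1.isConj (h : P1 U a b) (hF : Fr t v a b) : IsConj t v := by
  rcases h.conj_or hF with k | k
  · exact k
  rcases h.conj_or (fr_symm hF) with k' | k'
  · exact k'.symm
  · exact k.trans (hF.2.2.2 ▸ k'.symm)

theorem jobP1 : JobP1.{u} := by
  intro G Ω _ _ _ U a b z h4 hab hz q1 ns
  have h : P1 U a b := ⟨h4, hab, q1, ns⟩
  obtain ⟨S, hS, zS⟩ := H46.exists_sylow_ge Nat.prime_two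
    (.of_card (n := 1) (by rw [Nat.card_zpowers, hz.2, pow_one])) (zpowers_le.2 hz.1)
  obtain ⟨t, tS, t2, tc⟩ := H14.exists_central_involution
    (H46.Cfsg.IsPiHallOf.isPGroup hS Nat.prime_two)
    fun e => iv_ne hz (mem_bot.1 (e ▸ zS (mem_zpowers z)))
  have ht : Iv t a b := ⟨hS.1 tS, t2⟩
  obtain ⟨F, _, _, x, y, i, D⟩ := h.dt ht
  obtain ⟨c1, c2, c3, -, -, c4, -⟩ := kit1.cnt D.rg hab ht.1 t2 (h.fx3 hab ht)
    (card_F D.rg hab D.ld)
  have og : Odd (Jst t a b).ncard := by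
    rw [Nat.mul_right_cancel Nat.card_pos (c2.trans (relIndex_mul_card _ _).symm)]
    exact Nat.not_even_iff_odd.1 fun k => hS.2.2 2 Nat.prime_two rfl (k.two_dvd.trans
      (relIndex_dvd_of_le_left _ fun s hs => mem_C.2 (tc s hs)))
  have cq : ∀ {v}, Fr t v a b → Nat.card (CU U {v} a) = Fintype.card F := fun hF => by
    obtain ⟨g, hg, rfl⟩ := c1 _ ⟨h.isConj hF, hF.2.1.1⟩
    rw [← card_F D.rg hab D.ld, ← card_cu_conj D.toSp g t a, show g • a = a from hg.1]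
  have hN := h.prod hab D.fr
  rw [cq D.fr, cq (fr_mul D.fr), card_F D.rg hab D.ld] at hN
  have k1 := c4 3 fun w hw => by
    have w2 : w * w = 1 := by
      obtain ⟨g, rfl⟩ := isConj_iff.1 hw.1
      rw [conj_mul, iv_sq ht, mul_one, mul_inv_cancel]
    obtain ⟨s, hs, e⟩ := exists_fix og (fun s => w * s * w⁻¹)
      (fun s hs => ⟨hs.1.trans (isConj_iff.2 ⟨w, rfl⟩), swap_conj_mem hw.2.1 hw.2.2 hs.2⟩)
      fun s _ => by
        rw [(by group : w * (w * s * w⁻¹) * w⁻¹ = w * w * s * (w * w)⁻¹), w2]; simp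
    have is : Iv s a b := ⟨hs.2, by obtain ⟨g, rfl⟩ := isConj_iff.1 hs.1; rw [ord_conj, t2]⟩
    obtain ⟨F', _, _, x', y', i', D'⟩ := h.dt is
    have e1 : w * s = s * w := mul_inv_eq_iff_eq_mul.1 e
    obtain ⟨-, -, -, e2⟩ := D'.swp w2 hw.2 e1
    have e3 := e2 _ D'.i0
    rw [inv_eq_of_mul_eq_one_right (show i' * -i' = 1 by rw [mul_neg, D'.ii, neg_neg]),
      D'.hneg D'.i0, mul_inv_eq_iff_eq_mul] at e3
    have f := D'.fr
    refine (Set.ncard_eq_three.2 ⟨_, _, _, f.2.2.1, (fr_mul f).2.2.1, (fr_mul' f).2.2.1,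
      rfl⟩).ge.trans (Set.ncard_le_ncard ?_ (Set.toFinite _))
    rintro _ (rfl | rfl | rfl)
    exacts [⟨hs, e1.symm⟩, ⟨⟨hs.1.trans (h.isConj f), f.2.1.1⟩, e3.symm⟩,
      ⟨⟨hs.1.trans (h.isConj (fr_mul f)), (fr_iv f).1⟩, cm_mul e1.symm e3.symm⟩]
  have k2 : {w ∈ Jsw t a b | w * t = t * w}.ncard ≤ Fintype.card F + Fintype.card F := by
    have r : ∀ f : F → G, (Set.range f).ncard ≤ Fintype.card F := fun f => by
      rw [← Set.image_univ, ← Nat.card_eq_fintype_card, ← Set.ncard_univ]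
      exact Set.ncard_image_le (Set.toFinite _)
    refine (Set.ncard_le_ncard (fun w hw => ?_) (Set.toFinite _)).trans ((Set.ncard_union_le
      (Set.range (sl2n x y)) (Set.range fun d => sl2n x y d * t)).trans (add_le_add (r _) (r _)))
    obtain ⟨d, -, k⟩ := D.sw_form (by
      obtain ⟨g, rfl⟩ := isConj_iff.1 hw.1.1
      rw [conj_mul, iv_sq ht, mul_one, mul_inv_cancel]) hw.1.2 hw.2
    exact k.imp (fun k => ⟨d, k.symm⟩) fun k => ⟨d, k.symm⟩
  obtain ⟨r, hr⟩ : ∃ r, Fintype.card F = r + 5 := by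
    have := Fintype.one_lt_card (α := F)
    have := D.q
    exact ⟨Fintype.card F - 5, by omega⟩
  rw [hN, hr, show (r + 5) * (r + 5) * (r + 5) - (r + 5) = (r + 4) * ((r + 5) * (r + 5 + 1)) from
    Nat.sub_eq_of_eq_add (by ring), ← mul_assoc _ (r + 4)] at c3
  have c5 := Nat.mul_right_cancel (m := (r + 5) * (r + 5 + 1)) (by positivity) c3
  rw [c5, mul_assoc] at k1
  have := Nat.le_of_mul_le_mul_left k1 og.pos
  omega

end H18.HKP
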