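import Cfsg.Agent.H18.FF2
import Cfsg.Agent.H46.Coprime
import Cfsg.Agent.H7.Frobenius

/-! Self-normalizing Sylow `2`-subgroups of class two under automorphisms of odd order. -/

set_option autoImplicit false

namespace H18.IM

open Cfsg Subgroup H98 H1.Gold H10.C2 H18.FF
open scoped commutatorElement

variable {X : Type*} [Group X] [Finite X] {G S D E F : Subgroup X}

/-- `S` is a self-normalizing Sylow `2`-subgroup of `G` of class at most two. -/
structure Cx (G S : Subgroup X) : Prop where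
  syl : IsSyl 2 S G
  self : G ⊓ nor S ≤ S
  cl2 : ∀ a ∈ S, ∀ b ∈ S, ⁅a, b⁆ ∈ cen S

theorem odd_cen {W : Subgroup X} (hW : IsPGroup 2 W) {x : X} (hx : (orderOf x).Coprime 2)
    (h : x ∈ cen W ⊓ stab D W) : x ∈ cen D := fun d hd => by
  have m := (mem_stab.1 h.2).2 d hd
  have c : Commute ⁅d, x⁆ x := h.1 _ m
  have e : ⁅d, x⁆ * x = d * x * d⁻¹ := by rw [commutatorElement_def]; group
  have e2 : ⁅d, x⁆ ^ orderOf x = 1 := by
    have := c.mul_pow (orderOf x)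
    rw [e, conj_pow, pow_orderOf_eq_one] at this
    simpa using this.symm
  obtain ⟨k, hk⟩ := two_of_mem hW m
  have := pow_gcd_eq_one.2 ⟨e2, hk⟩
  rw [hx.pow_right k, pow_one] at this
  exact commutatorElement_eq_one_iff_mul_comm.1 this

namespace Cx

omit [Finite X] in
theorem comm_mem {a b : X} (ha : a ∈ S) (hb : b ∈ S) : ⁅a, b⁆ ∈ S :=
  mul_mem (mul_mem (mul_mem ha hb) (inv_mem ha)) (inv_mem hb)

omit [Finite X] in
theorem mul_right (h : Cx G S) {a b c : X} (ha : a ∈ S) (hb : b ∈ S) (hc : c ∈ S) :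
    ⁅a, b * c⁆ = ⁅a, b⁆ * ⁅a, c⁆ := by
  have := h.cl2 a ha c hc b hb
  calc ⁅a, b * c⁆ = ⁅a, b⁆ * (b * ⁅a, c⁆) * b⁻¹ := by simp only [commutatorElement_def]; group
    _ = _ := by rw [this]; group

omit [Finite X] in
theorem le_nor (h : Cx G S) (hD : D ≤ S) (hz : S ⊓ cen S ≤ D) : S ≤ nor D :=
  le_normalizer_of_commutator_le
    (commutator_le.2 fun a ha b hb => hz ⟨comm_mem ha hb, h.cl2 a ha b hb⟩) hD

theorem gen (h : Cx G S) {H Y : Subgroup X} (hS : S ≤ H) (hH : H ≤ G)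
    (hY : ∀ g ∈ H, cj g S ≤ Y) : H ≤ Y := fun g hg => by
  have : Fact (Nat.Prime 2) := ⟨Nat.prime_two⟩
  have h1 : S ≤ Y := by simpa [cj_one] using hY 1 (one_mem _)
  obtain ⟨y, hy, e⟩ := (h.syl.of_le (le_inf hS h1) (inf_le_left.trans hH)).exists_cj_eq
    ((h.syl.cj_of_mem (hH hg)).of_le (le_inf (cj_le_of_le_of_mem hS hg) (hY g hg))
      (inf_le_left.trans hH))
  have h2 : y⁻¹ * g ∈ nor S := by rw [← cj_eq_self_iff, ← cj_cj, ← e, cj_inv_cj]
  have h3 : y ∈ Y := hy.2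
  exact (Y.mul_mem_cancel_left (inv_mem h3)).1
    (h1 (h.self (mem_inf.2 ⟨G.mul_mem (G.inv_mem (hH hy.1)) (hH hg), h2⟩)))

end Cx

/-- A subgroup of index two with an automorphism of odd order. -/
structure Good (G S D : Subgroup X) : Prop where
  le : D ≤ S
  cen : S ⊓ cen S ≤ D
  idx : ∀ a ∈ S, ∀ b ∈ S, a ∉ D → b ∉ D → a * b ∈ D
  odd : ∃ x ∈ G ⊓ nor D, (orderOf x).Coprime 2 ∧ x ∉ H1.Gold.cen D

/-- The conjugates of `Z(S)` under `N_G(D)`. -/
def InU (G S D : Subgroup X) (u : X) : Prop :=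
  ∃ g ∈ G ⊓ nor D, ∃ c ∈ S ⊓ cen S, u = g * c * g⁻¹

def Nb (G S D E : Subgroup X) : Prop := ∃ u, InU G S D u ∧ u ∉ E

omit [Finite X] in
theorem inU_mem (hD : D ≤ S) (hz : S ⊓ cen S ≤ D) {u : X} (hu : InU G S D u) : u ∈ D ⊓ cen D := by
  obtain ⟨g, hg, c, hc, rfl⟩ := hu
  exact conj_mem_of_mem_normalizer
    (le_normalizer_inf le_rfl (normalizer_le_normalizer_centralizer D) hg.2)
    ⟨hz hc, centralizer_anti hD hc.2⟩

omit [Finite X] in
theorem comm_inU (h : Cx G S) (hD : D ≤ S) {g d s : X} (hg : g ∈ G ⊓ nor D) (hd : d ∈ D)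
    (hs : s ∈ cj g S) : InU G S D ⁅d, s⁆ := by
  have h1 := hD (conj_mem_of_mem_normalizer' hg.2 hd)
  have h2 := mem_cj.1 hs
  exact ⟨g, hg, _, ⟨Cx.comm_mem h1 h2, h.cl2 _ h1 _ h2⟩, by
    simp only [commutatorElement_def]; group⟩

section

variable (h : Cx G S)
include h

omit [Finite X] in
theorem Good.SH (hD : Good G S D) : S ≤ G ⊓ nor D := le_inf h.syl.le (h.le_nor hD.le hD.cen)

theorem Good.notZ (hD : Good G S D) : ∃ u, InU G S D u ∧ u ∉ H1.Gold.cen S := by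
  by_contra k
  push Not at k
  obtain ⟨x, hx, ho, hxD⟩ := hD.odd
  refine hxD (odd_cen (W := S ⊓ H1.Gold.cen S) h.syl.isPGroup.to_inf_left ho
    (h.gen (hD.SH h) inf_le_left (fun g hg s hs => ?_) hx))
  have h1 : s ∈ H1.Gold.cen (S ⊓ H1.Gold.cen S) := fun c hc => by
    have := k _ ⟨g⁻¹, inv_mem hg, c, hc, rfl⟩ _ (mem_cj.1 hs)
    calc c * s = g * (g⁻¹ * c * g⁻¹⁻¹ * (g⁻¹ * s * g)) * g⁻¹ := by group
      _ = _ := by rw [← this]; group
  refine ⟨h1, mem_stab.2 ⟨centralizer_le_normalizer _ h1, fun d hd => ?_⟩⟩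
  have := comm_inU h hD.le hg hd hs
  exact ⟨hD.le (inU_mem hD.le hD.cen this).1, k _ this⟩

omit [Finite X] h in
theorem Good.cenS (hE : Good G S E) {u w : X} (hu : u ∈ S) (huE : u ∉ E) (hw : w ∈ H1.Gold.cen E)
    (e : u * w = w * u) : w ∈ H1.Gold.cen S := fun s hs => by
  by_cases k : s ∈ E
  · exact hw s k
  have := hw _ (hE.idx s hs u hu k huE)
  calc s * w = s * (w * u) * u⁻¹ := by group
    _ = _ := by rw [← e, ← mul_assoc, this]; group

theorem Nb.symm (hD : Good G S D) (hE : Good G S E) (hn : Nb G S D E) : Nb G S E D := by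
  obtain ⟨u, hu, huE⟩ := hn
  obtain ⟨t, ht, htZ⟩ := hE.notZ h
  have m := inU_mem hD.le hD.cen hu
  exact ⟨t, ht, fun k => htZ (hE.cenS (hD.le m.1) huE (inU_mem hE.le hE.cen ht).2
    (m.2 t k).symm)⟩

omit [Finite X] h in
theorem zcap (hD : Good G S D) (hE : Good G S E) (hn : Nb G S E D) {w : X}
    (h1 : w ∈ cen D) (h2 : w ∈ E) : w ∈ cen S := by
  obtain ⟨t, ht, htD⟩ := hn
  have m := inU_mem hE.le hE.cen ht
  exact hD.cenS (hE.le m.1) htD h1 (m.2 w h2).symm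

omit [Finite X] in
theorem Good.trans (hD : Good G S D) {u s s' : X} (hu : u ∈ D ⊓ H1.Gold.cen D) (hs : s ∈ S)
    (hs' : s' ∈ S) (n : s ∉ D) (n' : s' ∉ D) : ⁅u, s⁆ * ⁅u, s'⁆ = 1 := by
  rw [← h.mul_right (hD.le hu.1) hs hs']
  exact commutatorElement_eq_one_iff_mul_comm.2 (hu.2 _ (hD.idx s hs s' hs' n n')).symm

omit [Finite X] in
theorem Good.trans' (hD : Good G S D) {u s s' : X} (hu : u ∈ D ⊓ H1.Gold.cen D) (hs : s ∈ S)
    (hs' : s' ∈ S) (n : s ∉ D) (n' : s' ∉ D) : ⁅u, s⁆ = ⁅u, s'⁆ :=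
  mul_left_cancel ((hD.trans h hu hs hs n n).trans (hD.trans h hu hs hs' n n').symm)

omit [Finite X] in
theorem Good.trans'' (hD : Good G S D) {u s s' : X} (hu : u ∈ D ⊓ H1.Gold.cen D) (hs : s ∈ S)
    (hs' : s' ∈ S) (n : s ∉ D) (n' : s' ∉ D) : ⁅s, u⁆ = ⁅s', u⁆ := by
  rw [← commutatorElement_inv, hD.trans' h hu hs hs' n n', commutatorElement_inv]

omit [Finite X] h in
theorem comm_one {u s : X} (hu : u ∈ cen D) (hs : s ∈ D) : ⁅s, u⁆ = 1 :=
  commutatorElement_eq_one_iff_mul_comm.2 (hu s hs)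

theorem exists_f (hD : Good G S D) (hE : Good G S E) {u t : X} (hu : InU G S D u) (huE : u ∉ E)
    (ht : t ∈ E ⊓ cen E) (htD : t ∉ D) : ∃ g ∈ G ⊓ nor D, g * ⁅u, t⁆ * g⁻¹ ∉ cen S := by
  by_contra k
  push Not at k
  have m := inU_mem hD.le hD.cen hu
  have h1 : G ⊓ nor D ≤ cen1 ⁅u, t⁆ := h.gen (hD.SH h) inf_le_left fun g hg s hs => by
    have := k g⁻¹ (inv_mem hg) _ (mem_cj.1 hs)
    refine mem_centralizer_singleton_iff.2 ?_
    calc s * ⁅u, t⁆ = g * (g⁻¹ * s * g * (g⁻¹ * ⁅u, t⁆ * g⁻¹⁻¹)) * g⁻¹ := by group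
      _ = _ := by rw [this]; group
  have h0 : ∀ g ∈ G ⊓ nor D, g ∈ nor (zpowers ⁅u, t⁆) := fun g hg => by
    rw [← cj_eq_self_iff, cj, MonoidHom.map_zpowers]
    congr 1
    show g * ⁅u, t⁆ * g⁻¹ = _
    rw [mem_centralizer_singleton_iff.1 (h1 hg), mul_inv_cancel_right]
  have h2 : G ⊓ nor D ≤ stab (D ⊓ cen D) (zpowers ⁅u, t⁆) :=
    h.gen (hD.SH h) inf_le_left fun g hg s hs => by
      refine mem_stab.2 ⟨h0 s (cj_le_of_le_of_mem (hD.SH h) hg hs), fun w hw => ?_⟩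
      have h3 : g⁻¹ * w * g ∈ D ⊓ cen D := conj_mem_of_mem_normalizer'
        (le_normalizer_inf le_rfl (normalizer_le_normalizer_centralizer D) hg.2) hw
      have h4 := mem_cj.1 hs
      have h5 : ⁅g⁻¹ * w * g, g⁻¹ * s * g⁆ ∈ zpowers ⁅u, t⁆ := by
        by_cases a : g⁻¹ * s * g ∈ D
        · rw [commutatorElement_eq_one_iff_mul_comm.2 (h3.2 _ a).symm]; exact one_mem _
        rw [hD.trans' h h3 h4 (hE.le ht.1) a htD]
        by_cases b : g⁻¹ * w * g ∈ E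
        · rw [comm_one ht.2 b]; exact one_mem _
        · rw [hE.trans'' h ht (hD.le h3.1) (hD.le m.1) b huE]; exact mem_zpowers _
      have := conj_mem_of_mem_normalizer (h0 g hg) h5
      convert this using 1
      simp only [commutatorElement_def]; group
  obtain ⟨g, hg, c, hc, e⟩ := hu
  have h3 := (mem_stab.1 (h2 hg)).2 c ⟨hD.cen hc, centralizer_anti hD.le hc.2⟩
  have h4 : zpowers ⁅u, t⁆ ≤ cen S := zpowers_le.2 (h.cl2 _ (hD.le m.1) _ (hE.le ht.1))
  refine huE (hE.cen (mem_inf.2 ⟨hD.le m.1, ?_⟩))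
  have h5 : c ∈ cen S := hc.2
  have : u = (c⁻¹ * ⁅c, g⁆)⁻¹ := by rw [e, commutatorElement_def]; group
  rw [this]
  exact inv_mem (mul_mem (inv_mem h5) (h4 h3))

theorem exists_inv (hD : Good G S D) (hE : Good G S E) (hn : Nb G S D E) :
    ∃ f ∈ E ⊓ cen E, f ∉ D ∧ f * f = 1 := by
  obtain ⟨t, ht, htD⟩ := hn.symm h hD hE
  obtain ⟨u, hu, huE⟩ := id hn
  have m := inU_mem hD.le hD.cen hu
  have m' := inU_mem hE.le hE.cen ht
  obtain ⟨g, hg, e⟩ := exists_f h hE hD ht htD m huE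
  have h1 := inU_mem hE.le hE.cen ⟨g, hg, _, ⟨Cx.comm_mem (hE.le m'.1) (hD.le m.1),
    h.cl2 _ (hE.le m'.1) _ (hD.le m.1)⟩, rfl⟩
  refine ⟨_, h1, fun k => e (zcap hE hD hn h1.2 k), ?_⟩
  calc _ = g * (⁅t, u⁆ * ⁅t, u⁆) * g⁻¹ := by group
    _ = 1 := by rw [hE.trans h m' (hD.le m.1) (hD.le m.1) huE huE]; group

theorem uniq (hD : Good G S D) (hE : Good G S E) (hF : Good G S F) (h1 : Nb G S D E)
    (h2 : Nb G S D F) : E ≤ F := by
  obtain ⟨e, he, heD, ee⟩ := exists_inv h hD hE h1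
  obtain ⟨f, hf, hfD, ff⟩ := exists_inv h hD hF h2
  obtain ⟨u, hu, huE⟩ := h1
  have m := inU_mem hD.le hD.cen hu
  have huS := hD.le m.1
  have huF : u ∉ F := fun k => huE (hE.cen ⟨huS, zcap hD hF (h2.symm h hD hF) m.2 k⟩)
  have heS := hE.le he.1
  have hfS := hF.le hf.1
  obtain ⟨g, hg, k⟩ := exists_f h hD hE hu huE he heD
  have hz : ⁅u, f⁆ = ⁅u, e⁆ := hD.trans' h m hfS heS hfD heD
  have hy : e * f ∈ D := hD.idx e heS f hfS heD hfD
  have K1 : ∀ a ∈ D, ∀ b ∈ D, ⁅a, b⁆ ≠ ⁅u, e⁆ := fun a ha b hb k1 => k (by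
    have := h.cl2 _ (hD.le (conj_mem_of_mem_normalizer hg.2 ha)) _
      (hD.le (conj_mem_of_mem_normalizer hg.2 hb))
    rw [← k1]
    convert this using 1
    simp only [commutatorElement_def]; group)
  have K2 : ∀ c ∈ D, c * c ≠ ⁅u, e⁆ := fun c hc k1 => k (by
    have h3 := hD.le (conj_mem_of_mem_normalizer hg.2 hc)
    have h4 := inU_mem hD.le hD.cen ⟨g, hg, _, ⟨Cx.comm_mem huS heS, h.cl2 _ huS _ heS⟩, rfl⟩
    refine hD.cenS heS heD h4.2 (commutatorElement_eq_one_iff_mul_comm.1 ?_)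
    rw [← k1, show g * (c * c) * g⁻¹ = g * c * g⁻¹ * (g * c * g⁻¹) by group,
      h.mul_right heS h3 h3]
    by_cases a : g * c * g⁻¹ ∈ E
    · rw [← commutatorElement_inv, comm_one he.2 a]; simp
    · exact hE.trans h he h3 h3 a a)
  have k1 : ∀ d ∈ D, d ∈ E → d ∈ F := fun d hd hdE => by
    by_contra hdF
    refine K1 d hd _ hy ?_
    rw [h.mul_right (hD.le hd) heS hfS, comm_one he.2 hdE, one_mul,
      hF.trans'' h hf (hD.le hd) huS hdF huF, hz]
  have k2 : e ∈ F := by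
    by_contra heF
    refine K2 _ hy ?_
    rw [← hz, ← hF.trans'' h hf heS huS heF huF, commutatorElement_def,
      inv_eq_of_mul_eq_one_right ee, inv_eq_of_mul_eq_one_right ff]
    group
  intro s hs
  by_cases a : s ∈ D
  · exact k1 s a hs
  · exact (F.mul_mem_cancel_right k2).1
      (k1 _ (hD.idx s (hE.le hs) e heS a heD) (mul_mem hs he.1))

end

omit [Finite X] in
theorem Good.cj (hD : Good G S D) {a : X} (h1 : a ∈ nor G) (h2 : a ∈ nor S) :
    Good G S (cj a D) := by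
  have hz : a ∈ nor (S ⊓ H1.Gold.cen S) :=
    le_normalizer_inf le_rfl (normalizer_le_normalizer_centralizer S) h2
  refine ⟨cj_le_of_le hD.le h2, by rw [← cj_eq_self hz]; exact cj_mono a hD.cen,
    fun s hs t ht n n' => ?_, ?_⟩
  · rw [mem_cj] at n n' ⊢
    have := hD.idx _ (conj_mem_of_mem_normalizer' h2 hs) _ (conj_mem_of_mem_normalizer' h2 ht) n n'
    convert this using 1; group
  · obtain ⟨x, hx, ho, hxD⟩ := hD.odd
    refine ⟨a * x * a⁻¹, ⟨conj_mem_of_mem_normalizer h1 hx.1, ?_⟩, by rwa [H46.orderOf_conj], ?_⟩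
    · show _ ∈ normalizer _
      rw [← cj_normalizer]; exact conj_mem_cj hx.2
    · rwa [H1.Gold.cen, ← cj_centralizer, conj_mem_cj_iff]

omit [Finite X] in
theorem Nb.cj (hn : Nb G S D E) {a : X} (h1 : a ∈ nor G) (h2 : a ∈ nor S) :
    Nb G S (cj a D) (cj a E) := by
  obtain ⟨u, ⟨g, hg, c, hc, rfl⟩, huE⟩ := hn
  refine ⟨_, ⟨a * g * a⁻¹, ⟨conj_mem_of_mem_normalizer h1 hg.1, ?_⟩, a * c * a⁻¹,
    conj_mem_of_mem_normalizer
      (le_normalizer_inf le_rfl (normalizer_le_normalizer_centralizer S) h2) hc, rfl⟩, ?_⟩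
  · show _ ∈ normalizer _
    rw [← cj_normalizer]; exact conj_mem_cj hg.2
  · rw [mem_cj]
    convert huE using 2; group

theorem not_nb (h : Cx G S) (hD : Good G S D) {a : X} (h1 : a ∈ nor G) (h2 : a ∈ nor S)
    (ho : (orderOf a).Coprime 2) : ¬ Nb G S D (cj a D) := fun hn => by
  have hD1 := hD.cj h1 h2
  have h3 : cj a (cj a D) ≤ D := uniq h hD1 (hD1.cj h1 h2) hD (hn.cj h1 h2) (hn.symm h hD hD1)
  rw [cj_cj, ← sq] at h3
  rw [cj_eq_self (mem_of_pow_mem_of_coprime (mem_normalizer_of_cj_le h3) ho)] at hn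
  obtain ⟨u, hu, huD⟩ := hn
  exact huD (inU_mem hD.le hD.cen hu).1

omit [Finite X] in
theorem conj_of_odd {V : Subgroup X} {a b : X} (ha : a ∈ nor V) (hb : b ∈ nor V)
    (a2 : a ^ 2 ∈ cen V) (b2 : b ^ 2 ∈ cen V) {k : ℕ} (h : (a * b) ^ (2 * k + 1) ∈ cen V) :
    ((a * b) ^ (k + 1))⁻¹ * a * (a * b) ^ (k + 1) * b⁻¹ ∈ cen V := by
  have h1 := dihedral ha hb a2 b2 (k + 1)
  have e : (a * b) ^ (k + 1) * (a * b) ^ (k + 1) = a * b * (a * b) ^ (2 * k + 1) := by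
    rw [← pow_add, ← pow_succ']; congr 1; ring
  have := mul_mem (mul_mem (inv_mem h1) a2) (conj_cen hb h)
  convert this using 1
  calc _ = (a * (a * b) ^ (k + 1) * a⁻¹ * (a * b) ^ (k + 1))⁻¹ *
        a * ((a * b) ^ (k + 1) * (a * b) ^ (k + 1)) * b⁻¹ := by
        generalize (a * b) ^ (k + 1) = c; group
    _ = _ := by
      rw [e]
      generalize (a * b) ^ (k + 1) = c
      generalize (a * b) ^ (2 * k + 1) = d
      rw [pow_two]; group

theorem frob {p : ℕ} [Fact p.Prime]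
    (h : ∀ Q ≤ G, IsPGroup p Q → res p (G ⊓ nor Q) ≤ cen Q) : HasNormalPComplement p G := by
  refine H7.hasNPC_of_normalizer_centralizer fun Q hQ g hg hc x hx => Subtype.ext ?_
  refine h (Q.map G.subtype) (map_subtype_le _) (hQ.map _) (mem_res_of_coprime
    ⟨g.2, le_normalizer_map G.subtype ⟨g, hg, rfl⟩⟩ (by rwa [orderOf_coe])) x ⟨x, hx, rfl⟩

theorem exists_good (h : Cx G S) (hn : ¬ HasNormalPComplement 2 G) : ∃ D, Good G S D := by
  have : Fact (Nat.Prime 2) := ⟨Nat.prime_two⟩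
  obtain ⟨Q, ⟨hQG, hQ, hQr⟩, hm⟩ := Set.exists_max_image
    {Q : Subgroup X | Q ≤ G ∧ IsPGroup 2 Q ∧ ¬ res 2 (G ⊓ nor Q) ≤ cen Q} (fun Q => Nat.card Q)
    (Set.toFinite _) (by
      by_contra k
      exact hn (frob fun Q h1 h2 => by_contra fun h3 => k ⟨Q, h1, h2, h3⟩))
  obtain ⟨T, hT, hQT⟩ := exists_isSyl_le hQ (le_inf hQG le_normalizer : Q ≤ G ⊓ nor Q)
  obtain ⟨g, hg, hgT⟩ := h.syl.exists_cj_le hT.isPGroup (hT.le.trans inf_le_left)
  have eH : cj g (G ⊓ nor Q) = G ⊓ nor (cj g Q) := by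
    rw [cj_inf, cj_eq_self_of_mem hg, nor, cj_normalizer]
  have hT' := hT.cj g
  rw [eH] at hT'
  have hr : ¬ res 2 (G ⊓ nor (cj g Q)) ≤ cen (cj g Q) := by
    rwa [← eH, ← cj_res, cen, ← cj_centralizer, cj_le_cj_iff]
  have hDS : cj g Q ≤ S := (cj_mono g hQT).trans hgT
  have up : ∀ E, cj g Q < E → E ≤ G → IsPGroup 2 E → res 2 (G ⊓ nor E) ≤ cen (cj g Q) :=
    fun E h1 h2 h3 => by
      refine le_trans (by_contra fun k => ?_) (centralizer_anti h1.le)
      have h4 := hm E ⟨h2, h3, k⟩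
      rw [← card_cj g Q] at h4
      exact h1.ne (eq_of_le_of_card_ge h1.le h4)
  generalize cj g Q = D at *
  set H := G ⊓ nor D with hH
  have hSH : IsSyl 2 (S ⊓ H) H := by
    rwa [hT'.eq_of_le h.syl.isPGroup.to_inf_left (le_inf hgT hT'.le) inf_le_right]
  have hDH : D ≤ H := le_inf (hDS.trans h.syl.le) le_normalizer
  have hC : H ≤ nor (H ⊓ cen D) :=
    le_normalizer_inf le_normalizer (le_normalizer_centralizer inf_le_right)
  have key : ∀ Y, H ≤ nor Y → D ≤ Y → res 2 (H ⊓ Y) ≤ cen D → S ⊓ H ⊓ (H ⊓ Y) ≤ D :=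
    fun Y h1 h2 h3 => by
      by_contra k
      have hL : H ≤ nor (H ⊓ Y) := le_normalizer_inf le_normalizer h1
      have hE := hSH.inf_of_le_normalizer inf_le_left (inf_le_right.trans hL)
      set E := S ⊓ H ⊓ (H ⊓ Y)
      have hlt : D < E := lt_of_le_of_ne (le_inf (le_inf hDS hDH) (le_inf hDH h2))
        fun e => k e.ge
      obtain ⟨T0, hT0, hET⟩ := exists_isSyl_le hE.isPGroup
        (le_inf (hE.le.trans inf_le_left) le_normalizer : E ≤ H ⊓ nor E)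
      refine hr (le_trans (res_mono ?_) ((res_sup_le_right hT0.isPGroup
        ((hT0.le.trans inf_le_left).trans hC)).trans inf_le_right))
      refine (hE.frattini inf_le_left hL).ge.trans (sup_le (hT0.sup_res.ge.trans (sup_le_sup_left (le_inf ((res_le _).trans inf_le_left)
        ((res_mono (inf_le_inf_right _ inf_le_left)).trans (up E hlt
          (hE.le.trans (inf_le_left.trans inf_le_left)) hE.isPGroup))) _))
        (hE.sup_res.ge.trans (sup_le_sup hET (le_inf ((res_le _).trans inf_le_left) h3))))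
  have hD2 : IsPGroup 2 D := h.syl.isPGroup.to_le hDS
  have hz : S ⊓ cen S ≤ D := fun z hz => by
    have h1 : z ∈ cen D := centralizer_anti hDS hz.2
    have h2 : z ∈ H := ⟨h.syl.le hz.1, centralizer_le_normalizer _ h1⟩
    exact key (D ⊔ cen D) (le_normalizer_sup inf_le_right (le_normalizer_centralizer inf_le_right))
      le_sup_left ((res_mono inf_le_right).trans (res_sup_le_right hD2
        (le_normalizer_centralizer le_normalizer))) ⟨⟨hz.1, h2⟩, h2, mem_sup_right h1⟩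
  have hS : S ≤ H := le_inf h.syl.le (h.le_nor hDS hz)
  have hZ : H ≤ nor (D ⊓ cen D) :=
    le_normalizer_inf inf_le_right (le_normalizer_centralizer inf_le_right)
  have hst : H ≤ stab D (D ⊓ cen D) := h.gen hS inf_le_left fun g hg s hs =>
    mem_stab.2 ⟨hZ (cj_le_of_le_of_mem hS hg hs), fun d hd =>
      inU_mem hDS hz (comm_inU h hDS hg hd hs)⟩
  have hab : IsMulCommutative (D ⊓ cen D : Subgroup X) :=
    ⟨⟨fun a b => Subtype.ext (b.2.2 a a.2.1)⟩⟩
  set W := omegaOne 2 (D ⊓ cen D) with hW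
  have hWel : IsElementaryAbelian 2 W := H46.elem_omegaOne_of_comm 2 hab
  have hWD : W ≤ D ⊓ cen D := H46.omegaOne_le _ _
  have hHW : H ≤ nor W := H46.nrm_omegaOne 2 hZ
  have hres : res 2 (H ⊓ cen W) ≤ cen D := res_le_of_forall fun x hx ho => by
    refine odd_cen hD2.to_inf_left ho ⟨?_, hst hx.1⟩
    obtain ⟨k, hk⟩ := (hD2.to_inf_left (K := cen D)).exists_card_eq
    exact H46.coprime_abelian_faithful_Ohm1 (p := 2) hab
      (H46.isPi_of_isPGroup Nat.prime_two hD2.to_inf_left) (zpowers_le.2 (hZ hx.1))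
      (by rw [Nat.card_zpowers, hk]; exact ho.pow_right k) (zpowers_le.2 hx.2) (mem_zpowers x)
  have hDW : D ≤ cen W := le_centralizer_iff.1 (hWD.trans inf_le_right)
  have hSW : ∀ s ∈ S, s ∈ cen W → s ∈ D := fun s h1 h2 =>
    key _ (le_normalizer_centralizer hHW) hDW hres ⟨⟨h1, hS h1⟩, hS h1, h2⟩
  have hCn : H ≤ nor (H ⊓ cen W) :=
    le_normalizer_inf le_normalizer (le_normalizer_centralizer hHW)
  have hMH : S ⊔ (H ⊓ cen W) ≤ H := sup_le hS inf_le_left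
  have sev : SEV H S W (S ⊔ (H ⊓ cen W)) := by
    refine ⟨hWel, (hWD.trans inf_le_left).trans hDS, hHW, h.syl.of_le hS inf_le_left, le_sup_left,
      hMH, fun k => hr ?_, le_sup_right, fun g hg s hs hsW e => ?_⟩
    · rw [← res_res]
      exact (res_mono ((res_mono k).trans (res_sup_le_right h.syl.isPGroup (hS.trans hCn)))).trans
        hres
    have hQS : D ⊔ zpowers s ≤ S := sup_le hDS (zpowers_le.2 hs)
    obtain ⟨m, hm, e1⟩ := (h.syl.of_le le_sup_left (hMH.trans inf_le_left)).exists_cj_le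
      (isPGroup_cj g (h.syl.isPGroup.to_le hQS)) (by
        rw [cj_sup, cj_eq_self hg.2, cj, MonoidHom.map_zpowers]
        exact sup_le (hDS.trans le_sup_left) (zpowers_le.2 e))
    rw [cj_cj] at e1
    have hmg : m * g ∈ H := mul_mem (hMH hm) hg
    have hlt : D < cj (m * g) (D ⊔ zpowers s) := by
      conv_lhs => rw [← cj_eq_self hmg.2]
      exact cj_lt_cj_iff.2 (lt_of_le_of_ne le_sup_left fun k =>
        hsW (hDW (k.ge (mem_sup_right (mem_zpowers s)))))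
    have h3 : G ⊓ nor (cj (m * g) (D ⊔ zpowers s)) ≤ S ⊔ (H ⊓ cen W) := by
      have h4 := up _ hlt (e1.trans h.syl.le) (h.syl.isPGroup.to_le e1)
      rw [← (h.syl.of_le (le_inf h.syl.le (h.le_nor e1 (hz.trans hlt.le))) inf_le_left).sup_res]
      exact sup_le_sup_left (le_inf (le_inf ((res_le _).trans inf_le_left)
        (h4.trans (centralizer_le_normalizer _)))
        (h4.trans (centralizer_anti (hWD.trans inf_le_left)))) _
    have h5 : cj (m * g) S ≤ S ⊔ (H ⊓ cen W) := by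
      refine le_trans (le_inf (cj_le_of_le_of_mem h.syl.le hmg.1) ?_) h3
      rw [nor, ← cj_normalizer]
      exact cj_mono _ (h.le_nor hQS (hz.trans le_sup_left))
    obtain ⟨y, hy, e2⟩ := (h.syl.of_le le_sup_left (hMH.trans inf_le_left)).exists_cj_eq
      ((h.syl.cj_of_mem hmg.1).of_le h5 (hMH.trans inf_le_left))
    have h6 : y⁻¹ * (m * g) ∈ nor S := by rw [← cj_eq_self_iff, ← cj_cj, ← e2, cj_inv_cj]
    have h7 : y⁻¹ * (m * g) ∈ S := h.self ⟨(mul_mem (inv_mem (hMH hy)) hmg).1, h6⟩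
    exact (mul_mem_cancel_left hm).1 ((mul_mem_cancel_left (inv_mem hy)).1 (mem_sup_left h7))
  have hqd : Qd W S := ⟨hWel, hS.trans hHW, commutator_le.2 fun w hw s hs =>
    h.cl2 w (sev.le hw) s hs⟩
  refine ⟨D, hDS, hz, fun a ha a' ha' n n' => ?_, ?_⟩
  · obtain ⟨x, hx, hxM⟩ := SetLike.not_le_iff_exists.1 sev.nle
    have hxW := hHW hx
    have haW : a ∉ cen W := fun k => n (hSW a ha k)
    have b2 : (x * a * x⁻¹) ^ 2 ∈ cen W := by rw [conj_pow]; exact conj_cen hxW (hqd.sq ha)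
    have hbH : x * a * x⁻¹ ∈ H := mul_mem (mul_mem hx (hS ha)) (inv_mem hx)
    have k0 : ∀ c ∈ S, c ∉ D → ∃ r ∈ H, r⁻¹ * c * r * (x * a * x⁻¹)⁻¹ ∈ cen W := fun c hc hcD => by
      obtain ⟨k, hk⟩ := odd_prod sev (one_mem _) hx (by simpa using hxM)
        (by rw [cj_one]; exact mem_sup_left hc) (conj_mem_cj (mem_sup_left ha)) (hqd.sq hc) b2
        (fun k => hcD (hSW c hc k)) (fun k => haW ((conj_cen_iff hxW).1 k))
      exact ⟨_, pow_mem (mul_mem (hS hc) hbH) _,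
        conj_of_odd (hqd.nA hc) (hHW hbH) (hqd.sq hc) b2 hk⟩
    obtain ⟨r, hr1, e⟩ := k0 a ha n
    obtain ⟨r', hr', e'⟩ := k0 a' ha' n'
    have hrr : r' * r⁻¹ ∈ H := mul_mem hr' (inv_mem hr1)
    have k1 : r' * r⁻¹ * a * (r' * r⁻¹)⁻¹ * a'⁻¹ ∈ cen W := by
      have := conj_cen (hHW hr') (mul_mem e (inv_mem e'))
      convert this using 1; group
    have k2 : r' * r⁻¹ ∈ S ⊔ (H ⊓ cen W) := sev.se _ hrr a ha haW (by
      have := mul_mem (mem_sup_right (mem_inf.2 ⟨mul_mem (mul_mem (mul_mem hrr (hS ha))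
        (inv_mem hrr)) (inv_mem (hS ha')), k1⟩) : _ ∈ S ⊔ (H ⊓ cen W)) (mem_sup_left ha')
      simpa using this)
    obtain ⟨s, hs, c, hc, e2⟩ := (mem_sup_left_norm (hS.trans hCn)).1 k2
    rw [e2] at k1
    have hc' : c ∈ cen W := hc.2
    have k3 : s * c * a * (s * c)⁻¹ * a⁻¹ ∈ cen W := by
      have := mul_mem (conj_cen (hqd.nA hs) (mul_mem hc' (conj_cen (hqd.nA ha) (inv_mem hc'))))
        (centralizer_anti sev.le (h.cl2 s hs a ha))
      convert this using 1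
      simp only [commutatorElement_def]; group
    have k4 : a' * a⁻¹ ∈ D := hSW _ (mul_mem ha' (inv_mem ha)) (by
      have := mul_mem (inv_mem k1) k3
      convert this using 1; group)
    have k5 := mul_mem (conj_mem_of_mem_normalizer (hS ha).2 k4)
      (hSW _ (pow_mem ha 2) (hqd.sq ha))
    convert k5 using 1
    rw [pow_two]; group
  · by_contra k
    push Not at k
    exact hr (res_le_of_forall k)

theorem two_case (h : Cx G S) (hS : S ≠ ⊥) {A : Subgroup X} (h1 : A ≤ nor G) (h2 : A ≤ nor S)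
    (ho : ∀ a ∈ A, (orderOf a).Coprime 2)
    (hm : ∀ E ≤ S, E ≠ ⊥ → S ≤ nor E → A ≤ nor E → G ⊓ nor E ≤ S) :
    HasNormalPComplement 2 G := by
  have : Fact (Nat.Prime 2) := ⟨Nat.prime_two⟩
  by_contra hn
  obtain ⟨D, hD⟩ := exists_good h hn
  let E : Subgroup X := ⨅ a ∈ A, cj a D
  have hE : ∀ x, x ∈ E ↔ ∀ a ∈ A, x ∈ cj a D := fun x => by simp only [E, mem_iInf]
  have hED : E ≤ D := fun x hx => by simpa [cj_one] using (hE x).1 hx 1 (one_mem _)
  have hU : ∀ u, InU G S D u → u ∈ E := fun u hu => (hE u).2 fun a ha =>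
    by_contra fun k => not_nb h hD (h1 ha) (h2 ha) (ho a ha) ⟨u, hu, k⟩
  have hz : S ⊓ cen S ≤ E := fun c hc => hU c ⟨1, one_mem _, c, hc, by simp⟩
  have h3 : G ⊓ nor D ≤ nor E := h.gen (hD.SH h) inf_le_left fun g hg =>
    le_normalizer_of_commutator_le
      (commutator_le.2 fun d hd s hs => hU _ (comm_inU h hD.le hg hd hs)) hED
  have h4 := hm E (hED.trans hD.le) (fun e => ?_) ((hD.SH h).trans h3) fun a ha =>
    mem_normalizer_of_cj_le fun x hx => (hE x).2 fun b hb => by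
      have := (hE _).1 (mem_cj.1 hx) (a⁻¹ * b) (mul_mem (inv_mem ha) hb)
      rw [mem_cj] at this ⊢
      convert this using 1; group
  · obtain ⟨x, hx, hc, hxD⟩ := hD.odd
    obtain ⟨k, hk⟩ := two_of_mem h.syl.isPGroup (h4 ⟨hx.1, h3 hx⟩)
    have := (hc.pow_right k).eq_one_of_dvd (orderOf_dvd_of_pow_eq_one hk)
    rw [orderOf_eq_one_iff] at this
    exact hxD (this ▸ one_mem _)
  · have := (nontrivial_iff_ne_bot S).2 hS
    have := h.syl.isPGroup.center_nontrivial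
    obtain ⟨z, hz1⟩ := exists_ne (1 : center S)
    have h5 : (z.1 : X) ∈ E := hz ⟨z.1.2, fun s hs =>
      congrArg Subtype.val (mem_center_iff.1 z.2 ⟨s, hs⟩)⟩
    rw [e, mem_bot] at h5
    exact hz1 (Subtype.ext (Subtype.ext h5))

end H18.IM
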