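/- Abelian subgroups of largest order: replacement, counting, commutator calculus. -/
import Cfsg.Agent.H12.Offender
import Cfsg.Agent.H46.Nil
import Cfsg.Agent.H46.Coprime
import Cfsg.Agent.H16.Chief

set_option autoImplicit false

open Subgroup Cfsg H46 H12
open scoped commutatorElement

namespace H18.JR

universe u

variable {G : Type u} [Group G] {S A R U E K N : Subgroup G}

theorem ea0 (h : R ≤ Cent R) : IsElementaryAbelian 0 R :=
  ⟨⟨⟨fun x y => Subtype.ext (h y.2 x x.2)⟩⟩, fun a _ => pow_zero a⟩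

theorem bo [Finite G] (hA : A ∈ maxEA 0 S) (hR : R ≤ Cent R) (hRS : R ≤ S) (hE : E ≤ A) :
    offM R E ≤ offM R A := (bestOffender_of_mem_maxEA (ea0 hR) hRS hA).1 E hE

theorem rep [Finite G] (hA : A ∈ maxEA 0 S) (hR : R ≤ Cent R) (hRS : R ≤ S) (hAR : A ≤ Nrm R)
    (hU : U ≤ R) : ⁅U, A⁆ ⊔ (A ⊓ Cent ⁅U, A⁆) ∈ maxEA 0 S ∧ offM R (A ⊓ Cent ⁅U, A⁆) = offM R A ∧
      R ⊓ Cent (A ⊓ Cent ⁅U, A⁆) = ⁅U, A⁆ ⊔ (R ⊓ Cent A) := by
  have hV := ea0 hR
  obtain ⟨h1, h2⟩ := offM_replace hR hAR (bestOffender_of_mem_maxEA hV hRS hA).2.1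
    (fun _ => bo hA hR hRS) hU
  refine ⟨?_, h1, h2⟩
  have hUA : ⁅U, A⁆ ≤ R := (commutator_mono hU le_rfl).trans (commutator_le_left' hAR)
  set X := ⁅U, A⁆
  set B := A ⊓ centralizer (X : Set G)
  have hB : IsElementaryAbelian 0 B := ea_mono hA.2.1 inf_le_left
  refine mem_maxEA_of_card_le hA (sup_le (hUA.trans hRS) (inf_le_left.trans hA.1))
    (ea_sup (ea_mono hV hUA) hB (le_centralizer_iff.1 inf_le_right)) ?_
  have e1 := inf_centralizer_of_mem_maxEA hV hRS hA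
  have e2 : R ⊓ A ≤ B := le_inf inf_le_right (inf_le_left.trans (hR.trans (centralizer_anti hUA)))
  have e3 := card_mul_card_le (R ⊓ centralizer (B : Set G)) B
  have e4 : (R ⊓ centralizer (B : Set G)) ⊔ B ≤ X ⊔ B := by
    rw [h2, e1]; exact sup_le (sup_le le_sup_left (e2.trans le_sup_right)) le_sup_right
  have e5 : (R ⊓ centralizer (B : Set G)) ⊓ B ≤ R ⊓ centralizer (A : Set G) := by
    rw [e1]; exact inf_le_inf inf_le_left inf_le_left
  have e6 := e3.trans (Nat.mul_le_mul (card_le_of_le e4) (card_le_of_le e5))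
  rw [mul_comm, show Nat.card B * _ = _ from h1] at e6
  exact Nat.le_of_mul_le_mul_right e6 Nat.card_pos

theorem count [Finite G] (hA : A ∈ maxEA 0 S) (hR : R ≤ Cent R) (hRS : R ≤ S) (hE : E ≤ A)
    (hK : K ≤ R) (hEK : E ≤ Nrm K) (hc : offM R A ≤ Nat.card E * Nat.card K) {x : G}
    (h1 : ∀ e ∈ E, ⁅x, e⁆ ∈ R) (h2 : ∀ e ∈ E, ⁅x, e⁆ ∈ K → e ∈ Cent R) {r : G} (hr : r ∈ R) :
    ∃ e ∈ E, ⁅x, e⁆⁻¹ * r ∈ K := by
  let g : E ⧸ (Cent R).subgroupOf E → R ⧸ K.subgroupOf R :=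
    fun q => QuotientGroup.mk ⟨⁅x, q.out⁆, h1 _ q.out.2⟩
  have hg : Function.Injective g := fun q q' hq => by
    have h3 : ⁅x, (q.out : G)⁆⁻¹ * ⁅x, (q'.out : G)⁆ ∈ K :=
      QuotientGroup.eq (s := K.subgroupOf R).1 hq
    rw [← QuotientGroup.out_eq' q, ← QuotientGroup.out_eq' q', QuotientGroup.eq]
    refine h2 _ (q.out⁻¹ * q'.out).2 ?_
    have := (mem_normalizer_iff''.1 (hEK q.out.2) _).1 h3
    convert this using 1
    change ⁅x, (q.out : G)⁻¹ * q'.out⁆ = _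
    group
  have l : K.relIndex R ≤ (Cent R).relIndex E := by
    have e1 := (bo hA hR hRS (E := E ⊓ Cent R) (inf_le_left.trans hE)).trans hc
    rw [offM, inf_of_le_left (le_cent_comm.1 inf_le_right), ← H12.card_mul_relIndex hK,
      ← H12.card_inf_mul_relIndex (Cent R) E, inf_comm E] at e1
    refine Nat.le_of_mul_le_mul_left (c := Nat.card ↥(Cent R ⊓ E) * Nat.card K) ?_
      (Nat.mul_pos Nat.card_pos Nat.card_pos)
    linarith
  obtain ⟨q, hq⟩ := (hg.bijective_of_nat_card_le l).2 (QuotientGroup.mk ⟨r, hr⟩)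
  exact ⟨_, q.out.2, QuotientGroup.eq (s := K.subgroupOf R).1 hq⟩

theorem sym {x a b : G} (h : Commute a b) (h1 : Commute ⁅x, a⁆ ⁅x, b⁆)
    (h2 : Commute ⁅⁅x, b⁆, a⁆ ⁅x, b⁆) (h3 : Commute ⁅⁅x, b⁆, a⁆ ⁅x, a⁆) :
    ⁅⁅x, a⁆, b⁆ = ⁅⁅x, b⁆, a⁆ := by
  have e : ⁅⁅x, a⁆, b⁆ = ⁅x, a⁆ * ⁅x, b⁆⁻¹ * ⁅⁅x, b⁆, a⁆ * ⁅x, a⁆⁻¹ * ⁅x, b⁆ := by
    simp only [commutatorElement_def]
    calc _ = x * a * x⁻¹ * a⁻¹ * (b * a) * x * a⁻¹ * x⁻¹ * b⁻¹ := by group
      _ = x * a * x⁻¹ * a⁻¹ * (a * b) * x * (b⁻¹ * a⁻¹ * b) * x⁻¹ * b⁻¹ := by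
        rw [← h.eq, ← h.inv_inv.eq, inv_mul_cancel_right]
      _ = _ := by group
  rw [e, ← (h3.mul_right h2.inv_right).eq, mul_assoc _ _ ⁅x, a⁆⁻¹, mul_assoc ⁅x, a⁆,
    ← h1.inv_inv.eq, mul_inv_cancel_left, inv_mul_cancel_right]

/-- the elements of `R` that `A` moves inside `N` -/
def up (R A N : Subgroup G) : Subgroup G where
  carrier := {x | x ∈ R ∧ x ∈ Nrm N ∧ ∀ a ∈ A, ⁅x, a⁆ ∈ N}
  one_mem' := ⟨R.one_mem, Subgroup.one_mem _, fun a _ => by simp⟩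
  mul_mem' := fun {x y} hx hy => ⟨R.mul_mem hx.1 hy.1, Subgroup.mul_mem _ hx.2.1 hy.2.1,
    fun a ha => by
      rw [show ⁅x * y, a⁆ = x * ⁅y, a⁆ * x⁻¹ * ⁅x, a⁆ by group]
      exact N.mul_mem ((mem_normalizer_iff.1 hx.2.1 _).1 (hy.2.2 a ha)) (hx.2.2 a ha)⟩
  inv_mem' := fun {x} hx => ⟨R.inv_mem hx.1, Subgroup.inv_mem _ hx.2.1, fun a ha => by
    rw [show ⁅x⁻¹, a⁆ = x⁻¹ * ⁅x, a⁆⁻¹ * x by group]
    exact (mem_normalizer_iff''.1 hx.2.1 _).1 (N.inv_mem (hx.2.2 a ha))⟩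

/-- all commutators `[x, a₁, …, a_k]` lie in `N` -/
def Mon (A N : Subgroup G) : ℕ → G → Prop
  | 0, x => x ∈ N
  | k + 1, x => ∀ a ∈ A, Mon A N k ⁅x, a⁆

theorem mono [Finite G] (hAR : A ≤ Nrm R) (k : ℕ) : ∀ {N : Subgroup G}, ⁅R, R⁆ ≤ N → N ≤ R →
    A ≤ Nrm N → U ≤ R → (∀ x ∈ U, Mon A N k x) → iterCommutator U A k ≤ N := by
  induction k with
  | zero => exact fun _ _ _ _ h => h
  | succ k ih =>
    intro N h1 h2 h3 h4 h5
    have h6 : ∀ x ∈ R, (∀ a ∈ A, ⁅x, a⁆ ∈ N) → x ∈ up R A N := fun x hx h =>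
      ⟨hx, nrm_of_der_le h1 h2 hx, h⟩
    have h7 : ∀ j, ∀ x ∈ R, Mon A N (j + 1) x → Mon A (up R A N) j x := by
      intro j
      induction j with
      | zero => exact h6
      | succ j ih =>
        exact fun x hx h a ha => ih _ (commutator_le_left' hAR (commutator_mem_commutator hx ha)) (h a ha)
    have := ih (N := up R A N) (h1.trans fun x hx => h6 x (h2 hx) fun a ha =>
      commutator_le_left' h3 (commutator_mem_commutator hx ha)) (fun x hx => hx.1)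
      (fun b hb => mem_normalizer_fintype fun x hx => h6 _ ((mem_normalizer_iff.1 (hAR hb) _).1 hx.1)
        fun a ha => by
          rw [show ⁅b * x * b⁻¹, a⁆ = b * ⁅x, b⁻¹ * a * b⁆ * b⁻¹ by group]
          exact (mem_normalizer_iff.1 (h3 hb) _).1
            (hx.2.2 _ (A.mul_mem (A.mul_mem (A.inv_mem hb) ha) hb))) h4
      fun x hx => h7 k x (h4 hx) (h5 x hx)
    exact commutator_le.2 fun x hx a ha => (this hx).2.2 a ha

theorem nrm_iter (h : A ≤ Nrm U) (k : ℕ) : A ≤ Nrm (iterCommutator U A k) := by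
  cases k with
  | zero => exact h
  | succ k => exact nrm_commutator_right _ _

theorem iter_anti (h : A ≤ Nrm U) {i j : ℕ} (hij : i ≤ j) :
    iterCommutator U A j ≤ iterCommutator U A i := H16.iter_le_of_le h hij le_rfl

theorem iter_add (U A : Subgroup G) (i j : ℕ) :
    iterCommutator (iterCommutator U A i) A j = iterCommutator U A (i + j) := by
  induction j with
  | zero => rfl
  | succ j ih => exact congrArg (fun X => ⁅X, A⁆) ih

theorem exists_last [Finite G] (hS : Group.IsNilpotent S) (hA : A ≤ S) (hU : U ≤ S) (h : A ≤ Nrm U)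
    {k : ℕ} (hk : ¬ iterCommutator U A k ≤ N) :
    ∃ m, ¬ iterCommutator U A (m + k) ≤ N ∧ iterCommutator U A (m + k + 1) ≤ N := by
  by_contra! e
  have h1 : ∀ m, ¬ iterCommutator U A (m + k) ≤ N := fun m => by
    induction m with
    | zero => rwa [zero_add]
    | succ m ih => rw [add_right_comm]; exact e m ih
  have h2 : StrictAnti fun m => iterCommutator U A (m + k) := strictAnti_nat_of_succ_lt fun m => by
    rw [add_right_comm]
    exact nil_commutator_lt hS ((iter_anti h (Nat.zero_le _)).trans hU) hA (nrm_iter h _)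
      fun e => h1 m (e.le.trans bot_le)
  exact not_strictAnti_of_wellFoundedLT _ h2

end H18.JR
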