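/- An abelian subgroup of largest order outside `T` acting with small degree on a critical
subgroup. -/
import Cfsg.Agent.H18.JRep

set_option autoImplicit false

open Subgroup Cfsg H46 H12
open scoped commutatorElement

namespace H18.JR

universe u

variable {G : Type u} [Group G]

/-- the extremal choice -/
structure St (S T C A : Subgroup G) : Prop where
  nil : Group.IsNilpotent S
  le1 : C ≤ T
  le2 : T ≤ S
  nor : C.Normal
  crit : ⁅C, T⁆ ≤ Cent C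
  mem : A ∈ maxEA 0 S
  nle : ¬ A ≤ T
  max : ∀ B ∈ maxEA 0 S, ¬ B ≤ T → Nat.card ↥(B ⊓ C) ≤ Nat.card ↥(A ⊓ C)

local notation "it" => iterCommutator

variable [Finite G] {S T C A R U N B : Subgroup G}

namespace St

omit [Finite G] in
theorem ab (h : St S T C A) : A ≤ Cent A := ea_le_centralizer h.mem.2.1

omit [Finite G] in
theorem nC (h : St S T C A) (X : Subgroup G) : X ≤ Nrm C := by
  have := h.nor; exact H16.le_Nm_of_normal _ _

omit [Finite G] in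
theorem nZ (h : St S T C A) (X : Subgroup G) : X ≤ Nrm (C ⊓ Cent C) := by
  have := h.nor; exact H16.le_Nm_of_normal _ _

omit [Finite G] in
theorem cz (h : St S T C A) : ⁅C, T⁆ ≤ C ⊓ Cent C := le_inf (commutator_le_left' (h.nC _)) h.crit

theorem star (h : St S T C A) (hR : R ≤ Cent R) (hRC : R ≤ C) (hAR : A ≤ Nrm R) (hU : U ≤ R)
    (hc : A ⊓ C ≤ Cent ⁅U, A⁆) : ⁅U, A⁆ ≤ A ∨ A ⊓ Cent ⁅U, A⁆ ≤ T := by
  refine or_iff_not_imp_right.2 fun hn => ?_
  have h1 := h.max _ (rep h.mem hR (hRC.trans (h.le1.trans h.le2)) hAR hU).1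
    fun e => hn (le_sup_right.trans e)
  have h2 := eq_of_le_of_card_ge (le_inf ((le_inf inf_le_left hc).trans le_sup_right) inf_le_right) h1
  exact (le_inf le_sup_left ((commutator_mono hU le_rfl).trans
    ((commutator_le_left' hAR).trans hRC))).trans (h2.ge.trans inf_le_left)

theorem quad (h : St S T C A) (hR : R ≤ Cent R) (hRC : R ≤ C) (hAR : A ≤ Nrm R)
    (hc : A ⊓ T ≤ Cent R) : ⁅R, A⁆ ≤ A := by
  have hRS := hRC.trans (h.le1.trans h.le2)
  have h0 : ⁅R, A⁆ ≤ R := commutator_le_left' hAR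
  refine (h.star hR hRC hAR le_rfl (((inf_le_inf_left A h.le1).trans hc).trans
    (centralizer_anti h0))).elim id fun e => ?_
  have h1 := (rep h.mem hR hRS hAR le_rfl).2.2
  rw [inf_of_le_left (le_cent_comm.1 ((le_inf inf_le_left e).trans hc))] at h1
  have h2 : ⁅R, A⁆ = ⁅⁅R, A⁆, A⁆ := by
    conv_lhs => rw [h1]
    exact commutator_sup_cent (inf_le_left.trans (nrm_commutator_left _ _)) inf_le_right
  rw [nil_eq_bot_of_le_commutator h.nil (h0.trans hRS) h.mem.1 h2.le]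
  exact bot_le

theorem vq (h : St S T C A) : ⁅⁅C, C⁆, A⁆ ≤ A := by
  have h1 : ⁅C, C⁆ ≤ C ⊓ Cent C := (commutator_mono le_rfl h.le1).trans h.cz
  refine h.quad (h1.trans (inf_le_right.trans (centralizer_anti (der_le C)))) (der_le C)
    (nrm_der (h.nC _)) (inf_le_right.trans (le_cent_comm.1 (H46.commutator_eq_bot_iff.1 ?_)))
  exact commutator_commutator_eq_bot_of_rotate (H46.commutator_eq_bot_iff.2 h.crit)
    (by rw [Subgroup.commutator_comm T]; exact H46.commutator_eq_bot_iff.2 h.crit)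

theorem cent_two (h : St S T C A) (hB : B ≤ A) (hN : N ≤ Cent C) (h1 : ⁅C, B⁆ ≤ N)
    (h2 : ⁅N, A⁆ ≤ A) (h3 : ⁅N, A⁆ ≤ Cent C) : B ≤ Cent (it C A 2) := by
  have e : ⁅A, B⁆ = ⊥ := H46.commutator_eq_bot_iff.2 (h.ab.trans (centralizer_anti hB))
  have h4 : ⁅⁅C, A⁆, B⁆ ≤ ⁅N, A⁆ := H16.three_subgroups_rel (nrm_of_le_cent (le_cent_comm.1 h3))
    (nrm_commutator_right _ _) (hB.trans (nrm_commutator_right _ _)) (by rw [e]; simp)
    (commutator_mono (by rwa [Subgroup.commutator_comm]) le_rfl)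
  refine commutator_eq_bot_iff'.1 (commutator_commutator_eq_bot_of_rotate (by rw [e]; simp) ?_)
  rw [Subgroup.commutator_comm B]
  exact H46.commutator_eq_bot_iff.2 (h4.trans (h2.trans h.ab))

theorem form (h : St S T C A) {n : ℕ} (hn : it C A n ≤ Cent C) (i : ℕ) : ∀ j,
    (n ≤ i + j → ⁅it C A i, it C A j⁆ ≤ ⁅⁅C, C⁆, A⁆) ∧ (n < i + j → ⁅it C A i, it C A j⁆ = ⊥) := by
  have l : ∀ k, it C A k ≤ C := fun k => iter_anti (h.nC A) (Nat.zero_le k)
  induction i with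
  | zero =>
    have : ∀ j, n ≤ j → ⁅it C A 0, it C A j⁆ = ⊥ := fun j e =>
      commutator_eq_bot_iff'.2 ((iter_anti (h.nC A) e).trans hn)
    exact fun j => ⟨fun e => (this j (by omega)).le.trans bot_le, fun e => this j (by omega)⟩
  | succ i ih =>
    intro j
    have e1 : ⁅⁅A, it C A j⁆, it C A i⁆ = ⁅it C A i, it C A (j + 1)⁆ := by
      rw [Subgroup.commutator_comm, Subgroup.commutator_comm A]; rfl
    have e2 : C ≤ Nrm ⁅⁅C, C⁆, A⁆ := nrm_of_le_cent (le_cent_comm.1 ((commutator_le_left'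
      (h.nZ A)).trans' (commutator_mono ((commutator_mono le_rfl h.le1).trans h.cz) le_rfl)
        |>.trans inf_le_right))
    refine ⟨fun e => H16.three_subgroups_rel ((l i).trans e2) (nrm_commutator_right _ _)
      ((l j).trans e2) (e1 ▸ (ih (j + 1)).1 (by omega))
      (commutator_mono (commutator_mono (l j) (l i)) le_rfl), fun e => ?_⟩
    refine commutator_commutator_eq_bot_of_rotate (e1 ▸ (ih (j + 1)).2 (by omega)) ?_
    rw [Subgroup.commutator_comm (it C A j)]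
    exact H46.commutator_eq_bot_iff.2 (((ih j).1 (by omega)).trans (h.vq.trans h.ab))

omit [Finite G] in
theorem sy (h : St S T C A) {x a b : G} (hx : x ∈ C) (ha : a ∈ A) (hb : b ∈ A)
    (h1 : ⁅x, a⁆ ∈ Cent C) (h2 : ⁅⁅x, b⁆, a⁆ ∈ Cent C) : ⁅⁅x, a⁆, b⁆ = ⁅⁅x, b⁆, a⁆ :=
  have l : ∀ c ∈ A, ⁅x, c⁆ ∈ C := fun _ hc =>
    commutator_le_left' (h.nC A) (commutator_mem_commutator hx hc)
  sym (h.ab hb a ha) (h1 _ (l b hb)).symm (h2 _ (l b hb)).symm (h2 _ (l a ha)).symm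

theorem last (h : St S T C A) (hU : U ≤ C ⊓ Cent C) (hAU : A ≤ Nrm U) (hn : ¬ it U A 2 ≤ ⊥) :
    ∃ m, it U A (m + 3) = ⊥ ∧ A ⊓ Cent (it U A (m + 1)) ≤ T := by
  obtain ⟨m, h1, h2⟩ := exists_last h.nil h.mem.1 (hU.trans (inf_le_left.trans
    (h.le1.trans h.le2))) hAU hn
  have l : ∀ k, it U A k ≤ C ⊓ Cent C := fun k => (iter_anti hAU (Nat.zero_le k)).trans hU
  refine ⟨m, le_bot_iff.1 h2, (h.star (U := it U A m) (inf_le_right.trans (centralizer_anti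
    inf_le_left)) inf_le_left (h.nZ A) (l m) (inf_le_right.trans
      (le_cent_comm.1 ((l (m + 1)).trans inf_le_right)))).resolve_left fun e => h1 ?_⟩
  exact (H46.commutator_eq_bot_iff.2 (e.trans h.ab)).le

theorem cubic (h : St S T C A) (hU : U ≤ C ⊓ Cent C) (hAU : A ≤ Nrm U) (hN : N ≤ U)
    (hAN : A ≤ Nrm N) (hT : ⁅U, T⁆ ≤ N) : it U A 3 ≤ N := by
  have hZ : C ⊓ Cent C ≤ Cent (C ⊓ Cent C) := inf_le_right.trans (centralizer_anti inf_le_left)
  have cz : ∀ y ∈ C ⊓ Cent C, ∀ a ∈ A, ⁅y, a⁆ ∈ C ⊓ Cent C := fun y hy a ha =>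
    commutator_le_left' (h.nZ A) (commutator_mem_commutator hy ha)
  refine mono hAU 3 ((H46.commutator_eq_bot_iff.2 (hU.trans (hZ.trans (centralizer_anti hU)))).le.trans
    bot_le) hN hAN le_rfl fun x hx b hb c hc d hd => ?_
  have hM : commElt x A ≤ C ⊓ Cent C := commElt_le (h.nZ A) (hU hx)
  have gen : ∀ a ∈ A, ⁅x, a⁆ ∈ commElt x A := fun a ha => subset_closure ⟨a, ha, rfl⟩
  have hAM : A ≤ Nrm (commElt x A) := fun a ha => mem_normalizer_fintype fun y hy => by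
    refine (closure_le ((commElt x A).comap (MulAut.conj a).toMonoidHom)).2 ?_ hy
    rintro _ ⟨e, he, rfl⟩
    change a * ⁅x, e⁆ * a⁻¹ ∈ commElt x A
    rw [show a * ⁅x, e⁆ * a⁻¹ = ⁅x, a⁆⁻¹ * ⁅x, a * e⁆ by group]
    exact mul_mem (inv_mem (gen a ha)) (gen _ (mul_mem ha he))
  have m1 : ⁅⁅x, b⁆, c⁆ ∈ it (commElt x A) A 1 := commutator_mem_commutator (gen b hb) hc
  obtain ⟨a, ha, h1⟩ := count h.mem (hM.trans (hZ.trans (centralizer_anti hM)))
    (hM.trans (inf_le_left.trans (h.le1.trans h.le2))) le_rfl inf_le_left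
    (nrm_of_le_cent (le_cent_comm.1 inf_le_right)) le_rfl gen (fun e he h1 =>
      mem_centralizer_commElt hZ (h.nZ A) ((H46.commutator_eq_bot_iff.2 h.ab).le.trans bot_le)
        (hU hx) he h1.2) (iter_anti hAM (Nat.zero_le 1) m1)
  have h2 : ∀ d ∈ A, ⁅⁅⁅x, b⁆, c⁆, d⁆ = ⁅⁅x, a⁆, d⁆ := fun d hd => by
    rw [← mul_inv_cancel_left ⁅x, a⁆ ⁅⁅x, b⁆, c⁆, commutatorElement_def, commutatorElement_def _ d,
      mul_assoc _ _ d, ← h1.2 d hd]
    group
  by_cases hT' : a ∈ T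
  · exact h2 d hd ▸ commutator_le_left' hAN
      (commutator_mem_commutator (hT (commutator_mem_commutator hx hT')) hd)
  by_cases hn : it (commElt x A) A 2 ≤ ⊥
  · exact (hn.trans bot_le) (commutator_mem_commutator m1 hd)
  obtain ⟨m, h3, h4⟩ := h.last hM hAM hn
  have sy : ∀ y ∈ C ⊓ Cent C, ∀ a ∈ A, ∀ b ∈ A, ⁅⁅y, a⁆, b⁆ = ⁅⁅y, b⁆, a⁆ := fun y hy a ha b hb =>
    h.sy hy.1 ha hb (cz y hy a ha).2 (cz _ (cz y hy b hb) a ha).2
  have hom : ∀ y ∈ C ⊓ Cent C, ∀ z ∈ C ⊓ Cent C, ∀ a ∈ A, ⁅y * z, a⁆ = ⁅y, a⁆ * ⁅z, a⁆ :=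
    fun y hy z hz a ha => by
      rw [← hZ (cz y hy a ha) _ (cz z hz a ha), ← mul_inv_cancel_right ⁅z, a⁆ y,
        hZ hy _ (cz z hz a ha)]
      group
  have op : ∀ y ∈ commElt x A, ⁅y, a⁆ = ⁅⁅y, b⁆, c⁆ := fun y hy => by
    induction hy using closure_induction with
    | mem y hy =>
      obtain ⟨e, he, rfl⟩ := hy
      rw [sy x (hU hx) e he a ha, ← h2 e he, sy _ (cz x (hU hx) b hb) c hc e he,
        sy x (hU hx) b hb e he]
    | one => simp
    | mul y z hy hz h1 h2 =>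
      rw [hom y (hM hy) z (hM hz) a ha, hom y (hM hy) z (hM hz) b hb,
        hom _ (cz y (hM hy) b hb) _ (cz z (hM hz) b hb) c hc, h1, h2]
    | inv y hy h1 =>
      have hi : ∀ y ∈ C ⊓ Cent C, ∀ a ∈ A, ⁅y⁻¹, a⁆ = ⁅y, a⁆⁻¹ := fun y hy a ha =>
        eq_inv_of_mul_eq_one_left (by rw [← hom _ (inv_mem hy) y hy a ha]; simp)
      rw [hi y (hM hy) a ha, hi y (hM hy) b hb, hi _ (cz y (hM hy) b hb) c hc, h1]
  refine absurd (h4 ⟨ha, fun y hy => commutatorElement_eq_one_iff_mul_comm.1 ?_⟩) hT'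
  rw [op y (iter_anti hAM (Nat.zero_le _) hy)]
  exact mem_bot.1 (h3.le (commutator_mem_commutator (commutator_mem_commutator hy hb) hc))

theorem step4 (h : St S T C A) (hn : ¬ it (C ⊓ Cent C) A 2 ≤ ⊥) {k : ℕ}
    (hk : it C A (k + 5) ≤ Cent C) : it C A (k + 4) ≤ C ⊓ Cent C := by
  have hZ : C ⊓ Cent C ≤ Cent (C ⊓ Cent C) := inf_le_right.trans (centralizer_anti inf_le_left)
  have l : ∀ k, it C A k ≤ C := fun k => iter_anti (h.nC A) (Nat.zero_le k)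
  have lz : ∀ k, it (C ⊓ Cent C) A k ≤ C ⊓ Cent C := fun k => iter_anti (h.nZ A) (Nat.zero_le k)
  have cc : ∀ y ∈ C, ∀ a ∈ A, ⁅y, a⁆ ∈ C := fun y hy a ha => l 1 (commutator_mem_commutator hy ha)
  have cz : ∀ y ∈ C ⊓ Cent C, ∀ a ∈ A, ⁅y, a⁆ ∈ C ⊓ Cent C := fun y hy a ha =>
    lz 1 (commutator_mem_commutator hy ha)
  obtain ⟨m, h1, h2⟩ := h.last le_rfl (h.nZ A) hn
  set R := (C ⊓ Cent C) ⊔ it C A (k + 3) with hR
  have r1 : R ≤ C := sup_le inf_le_left (l _)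
  have r2 : R ≤ Cent R := sup_le (inf_le_right.trans (centralizer_anti r1)) (le_cent_comm.1 (sup_le
    (inf_le_right.trans (centralizer_anti (l _)))
    (H46.commutator_eq_bot_iff.1 ((h.form hk _ _).2 (by omega)))))
  have r3 := r1.trans (h.le1.trans h.le2)
  have r4 : A ≤ Nrm R := nrm_sup (h.nZ A) (nrm_iter (h.nC A) _)
  obtain ⟨-, h3, h4⟩ := rep h.mem r2 r3 r4 ((lz m).trans le_sup_left)
  change offM R (A ⊓ Cent (it _ A (m + 1))) = _ at h3
  change R ⊓ Cent (A ⊓ Cent (it _ A (m + 1))) = it _ A (m + 1) ⊔ _ at h4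
  set E := A ⊓ Cent (it (C ⊓ Cent C) A (m + 1)) with hE
  have dec : ∀ y ∈ R ⊓ Cent E, ∃ z ∈ it (C ⊓ Cent C) A (m + 1), ∀ d ∈ A, ⁅y, d⁆ = ⁅z, d⁆ := by
    intro y hy
    obtain ⟨z, hz, w, hw, rfl⟩ := (mem_sup_of_nrm (inf_le_left.trans (r1.trans (nrm_of_le_cent
      (le_cent_comm.1 ((lz _).trans inf_le_right)))))).1 (h4.le hy)
    exact ⟨z, hz, fun d hd => by
      rw [commutatorElement_def, commutatorElement_def, mul_assoc z, ← hw.2 d hd]; group⟩
  rw [← iter_add C A (k + 1) 3]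
  refine mono (h.nC A) 3 ((commutator_mono le_rfl h.le1).trans h.cz) inf_le_left (h.nZ A) (l _)
    fun x hx b hb c hc d hd => ?_
  have mz : ∀ y ∈ C, ∀ e ∈ E, ⁅y, e⁆ ∈ C ⊓ Cent C := fun y hy e he =>
    h.cz (commutator_mem_commutator hy (h2 he))
  let F := closure {e | e ∈ E ∧ ⁅x, e⁆ ∈ R ⊓ Cent E}
  have hF : ∀ y, (∀ e ∈ E, ⁅x, e⁆ ∈ R ⊓ Cent E → ⁅y, e⁆ = 1) → y ∈ Cent F := fun y hy => by
    rw [Cent, centralizer_closure]
    exact fun e he => (commutatorElement_eq_one_iff_mul_comm.1 (hy e he.1 he.2)).symm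
  obtain ⟨e, he, h5⟩ := count (R := R ⊓ Cent F) (E := E) (K := R ⊓ Cent E) (x := x) h.mem
    (inf_le_left.trans (r2.trans (centralizer_anti inf_le_left))) (inf_le_left.trans r3) inf_le_left
    (inf_le_inf_left R (centralizer_anti ((closure_le _).2 fun _ he => he.1)))
    (nrm_of_le_cent (le_cent_comm.1 inf_le_right)) (le_trans (Nat.mul_le_mul_left _
      (card_le_of_le (inf_le_inf_right _ inf_le_left))) h3.ge)
    (fun e he => ⟨mem_sup_left (mz x (l _ hx) e he), hF _ fun f hf h5 => by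
      rw [h.sy (l _ hx) he.1 hf.1 (mz x (l _ hx) e he).2 (cz _ (mz x (l _ hx) f hf) e he.1).2]
      exact commutatorElement_eq_one_iff_mul_comm.2 (h5.2 e he).symm⟩)
    (fun e he h5 => le_cent_comm.1 (inf_le_right (a := R)) (subset_closure ⟨he, h5⟩))
    (r := ⁅⁅x, b⁆, c⁆) ⟨mem_sup_right (commutator_mem_commutator (commutator_mem_commutator hx hb) hc),
      hF _ fun f hf h5 => by
        obtain ⟨z, hz, h6⟩ := dec _ h5
        have hy := cc x (l _ hx) b hb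
        rw [← h.sy hy hf.1 hc (mz _ hy f hf).2 (mz _ (cc _ hy c hc) f hf).2,
          ← h.sy (l _ hx) hf.1 hb (mz x (l _ hx) f hf).2 (mz _ hy f hf).2, h6 b hb]
        exact mem_bot.1 (h1.le (commutator_mem_commutator (commutator_mem_commutator hz hb) hc))⟩
  obtain ⟨z, hz, h6⟩ := dec _ h5
  change ⁅⁅⁅x, b⁆, c⁆, d⁆ ∈ _
  rw [← mul_inv_cancel_left ⁅x, e⁆ ⁅⁅x, b⁆, c⁆, show ∀ u v : G, ⁅u * v, d⁆ = u * ⁅v, d⁆ * u⁻¹ * ⁅u, d⁆ from
    fun u v => by group, h6 d hd]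
  have h7 := mz x (l _ hx) e he
  exact mul_mem (mul_mem (mul_mem h7 (cz z (lz _ hz) d hd)) (inv_mem h7)) (cz _ h7 d hd)

theorem step5 (h : St S T C A) (hn : it (C ⊓ Cent C) A 2 ≤ ⊥) {k : ℕ}
    (hk : it C A (k + 6) ≤ Cent C) : it C A (k + 5) ≤ C ⊓ Cent C := by
  have l : ∀ k, it C A k ≤ C := fun k => iter_anti (h.nC A) (Nat.zero_le k)
  have h0 : ⁅C ⊓ Cent C, A⁆ ≤ C ⊓ Cent C := commutator_le_left' (h.nZ A)
  have h1 := h.cent_two (B := A ⊓ T) inf_le_left inf_le_right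
    ((commutator_mono le_rfl inf_le_right).trans h.cz) ((le_inf h0
      (H46.commutator_eq_bot_iff.1 (le_bot_iff.1 hn))).trans ((inf_centralizer_of_mem_maxEA
        (ea0 (inf_le_right.trans (centralizer_anti inf_le_left)))
        (inf_le_left.trans (h.le1.trans h.le2)) h.mem).le.trans inf_le_right))
    (h0.trans inf_le_right)
  rw [← iter_add C A (k + 3) 2]
  refine mono (h.nC A) 2 ((commutator_mono le_rfl h.le1).trans h.cz) inf_le_left (h.nZ A) (l _)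
    fun x hx a ha b hb => ?_
  have r1 : zpowers x ⊔ it C A (k + 4) ≤ it C A (k + 3) :=
    sup_le (zpowers_le.2 hx) (iter_anti (h.nC A) (by omega))
  have r2 : zpowers x ⊔ it C A (k + 4) ≤ Cent (it C A (k + 4)) :=
    r1.trans (H46.commutator_eq_bot_iff.1 ((h.form hk _ _).2 (by omega)))
  have := h.quad (sup_le (le_cent_comm.1 (sup_le (zpowers_le.2 fun y hy => by
      obtain ⟨i, rfl⟩ := hy
      exact (Commute.refl x).zpow_left i) (le_cent_comm.1 (le_sup_left.trans r2))))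
      (le_cent_comm.1 r2)) (r1.trans (l _))
    (commutator_le_left_iff.1 ((commutator_mono r1 le_rfl).trans le_sup_right))
    (h1.trans (centralizer_anti (r1.trans (iter_anti (h.nC A) (by omega)))))
  change ⁅⁅x, a⁆, b⁆ ∈ _
  rw [commutatorElement_eq_one_iff_mul_comm.2 (h.ab hb _ (this (commutator_mem_commutator
    (mem_sup_left (mem_zpowers x)) ha)))]
  exact one_mem _

theorem deg (h : St S T C A) : it C A 4 ≤ C ⊓ Cent C ∨
    (it C A 5 ≤ C ⊓ Cent C ∧ it (C ⊓ Cent C) A 2 ≤ ⊥) := by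
  by_cases hn : it (C ⊓ Cent C) A 2 ≤ ⊥
  · refine Or.inr ⟨?_, hn⟩
    by_contra e
    obtain ⟨m, h1, h2⟩ := exists_last h.nil h.mem.1 (h.le1.trans h.le2) (h.nC A) e
    exact h1 (h.step5 hn (h2.trans inf_le_right))
  · refine Or.inl ?_
    by_contra e
    obtain ⟨m, h1, h2⟩ := exists_last h.nil h.mem.1 (h.le1.trans h.le2) (h.nC A) e
    exact h1 (h.step4 hn (h2.trans inf_le_right))

end St

theorem exists_st (hS : Group.IsNilpotent S) (h1 : C ≤ T) (h2 : T ≤ S) [hC : C.Normal]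
    (h3 : ⁅C, T⁆ ≤ Cent C) (hA : A ∈ maxEA 0 S) (hn : ¬ A ≤ T) : ∃ B, St S T C B := by
  obtain ⟨B, hB, hm⟩ := Set.exists_max_image {B | B ∈ maxEA 0 S ∧ ¬ B ≤ T}
    (fun B => Nat.card ↥(B ⊓ C)) (Set.toFinite _) ⟨A, hA, hn⟩
  exact ⟨B, hS, h1, h2, hC, h3, hB.1, hB.2, fun D h4 h5 => hm D ⟨h4, h5⟩⟩

end H18.JR
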