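/- The Thompson subgroup (abelian subgroups of largest order) controls transfer for `p ≥ 7`. -/
import Cfsg.Agent.H18.JRep2
import Cfsg.Agent.H16.Transfer
import Cfsg.Agent.H13.MaxAb
import Cfsg.Agent.H7.Tate

set_option autoImplicit false

open Subgroup Cfsg H46 H12

namespace H18.JR

universe u

local notation "it" => iterCommutator

variable {G : Type u} [Group G] [Finite G] {p : ℕ} [Fact p.Prime]

theorem engel {S : Subgroup G} (hS : IsPGroup p S) (hT : pCore p G ≤ S)
    (hn : ¬ (thompsonSubgroupAOf S).Normal) : ∃ g ∈ S, g ∉ pCore p G ∧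
      ∀ U V, IsChiefFactor U V → U ≤ pCore p G → it U (zpowers g) 6 ≤ V := by
  obtain ⟨A, hA, h1⟩ : ∃ A ∈ maxEA 0 S, ¬ A ≤ pCore p G := by
    by_contra! e
    refine hn (normalizer_eq_top_iff.1 (eq_top_iff.2 ?_))
    rw [H13.thompsonSubgroupAOf_eq, ← H13.maxAb_eq_of_forall_le hT e]
    exact (H16.le_Nm_of_normal _ _).trans (H13.normalizer_le_normalizer_sSup_maxAb 0 _)
  have hP := H2.pCore_isPGroup p G
  obtain ⟨C, hC, h2, h3, h4⟩ := H16.exists_crit (pCore p G) hP
  obtain ⟨A, h⟩ := exists_st hS.isNilpotent h2 hT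
    ((Subgroup.commutator_comm _ _).le.trans (h3.trans inf_le_right)) hA h1
  obtain ⟨g, hg, h5⟩ := SetLike.not_le_iff_exists.1 h.nle
  have hgA := zpowers_le.2 hg
  have z3 : ∀ U V, IsChiefFactor U V → U ≤ C ⊓ Cent C → it U (zpowers g) 3 ≤ V := by
    intro U V hU hZ
    have := hU.2.1
    have := hU.2.2.1
    exact (H16.iter_mono le_rfl hgA 3).trans (h.cubic hZ (H16.le_Nm_of_normal _ _) hU.1.le
      (H16.le_Nm_of_normal _ _) (H16.chief_comm_le hU
        (hP.to_le (sup_le (hZ.trans (inf_le_left.trans h2)) le_rfl))))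
  have zi : ∀ i, 3 ≤ i → it C A i ≤ C ⊓ Cent C → ∀ U V, IsChiefFactor U V → U ≤ C →
      it U (zpowers g) i ≤ V := by
    intro i hi h6 U V hU hUC
    have := hU.2.1
    have := hU.2.2.1
    by_cases e : U ⊓ (C ⊓ Cent C) ≤ V
    · exact (le_inf (iter_anti (H16.le_Nm_of_normal _ _) (Nat.zero_le i))
        ((H16.iter_mono hUC hgA i).trans h6)).trans e
    · exact H16.iter_le_of_le_sup (H16.chief_le_sup hU inf_le_left e)
        ((H16.iter_le_of_le (H16.le_Nm_of_normal _ _) hi
          (z3 _ _ (H16.chief_inf hU e) inf_le_right)).trans inf_le_left)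
  refine ⟨g, h.mem.1 hg, h5, fun U V hU hUT => ?_⟩
  rcases h.deg with e | ⟨e, e'⟩
  · exact H16.iter_le_of_critical (i := 4) (j := 3) hP h2 h3 h4 (by omega) (zi 4 (by omega) e) z3 hU hUT
  · exact H16.iter_le_of_critical (i := 5) (j := 2) hP h2 h3 h4 (by omega) (zi 5 (by omega) e)
      (fun U V _ hZ => (H16.iter_mono hZ hgA 2).trans (e'.trans bot_le)) hU hUT

theorem isCharPFunctor_JA (p : ℕ) [Fact p.Prime] : IsCharPFunctor.{u} p thompsonSubgroupA := by
  have top : ∀ (Q : Type u) [Group Q], thompsonSubgroupA Q = sSup (H13.maxAb 0 ⊤) := fun Q _ => by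
    rw [thompsonSubgroupA, H13.maxAb_top, H13.maxAbelianSubgroups_eq]
  refine ⟨fun Q _ _ _ _ e => ?_, fun Q R _ _ _ _ φ => ?_⟩
  · obtain ⟨A, hA⟩ := H13.maxAb_nonempty 0 (⊤ : Subgroup Q)
    have h : A = ⊥ := le_bot_iff.1 ((le_sSup hA).trans ((top Q).symm.trans e).le)
    obtain ⟨x, hx⟩ := exists_ne (1 : Q)
    exact hx (mem_bot.1 (h.le (H13.mem_of_mem_maxAb hA (mem_top x) (pow_zero x) fun a ha => by
      rw [mem_bot.1 (h.le ha), one_mul, mul_one])))
  · rw [top, top, ← H13.sSup_maxAb_map φ.injective.injOn, map_top_of_surjective _ φ.surjective]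

theorem ft_JA (hp : 7 ≤ p) : H16.FT p {thompsonSubgroupA} G :=
  H16.ft_of_engel (G := G) (isCharPFunctor_JA p) (fun _ _ _ _ T hn => by
    obtain ⟨g, h1, h2, h3⟩ := engel T.2 (H2.pCore_le_sylow T) hn
    refine ⟨g, h1, h2, fun U V hU hUT => ?_⟩
    have := hU.2.1
    exact H16.iter_le_of_le (H16.le_Nm_of_normal _ _) (by omega) (h3 U V hU hUT)) G
    (H94.involves_refl G)

theorem quot_equiv (P : Sylow p G) {H : Subgroup G} (hP : ↑P ≤ H)
    (h : _root_.commutator G ⊓ P ≤ ⁅H, H⁆) : Nonempty (G ⧸ pResidual p G ≃* H ⧸ pResidual p H) := by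
  have e := H7.tate_of_commutator P hP h
  let f := (QuotientGroup.mk' (pResidual p G)).comp H.subtype
  have h1 : f.range = ⊤ := by
    rw [MonoidHom.range_comp, range_subtype, eq_top_iff, ← map_top_of_surjective _
      (QuotientGroup.mk'_surjective (pResidual p G)), ← H7.pResidual_sup_sylow P, Subgroup.map_sup,
      QuotientGroup.map_mk'_self, bot_sup_eq]
    exact map_mono hP
  have h2 : f.ker = pResidual p H := by
    rw [← MonoidHom.comap_ker, QuotientGroup.ker_mk', ← comap_map_eq_self_of_injective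
      H.subtype_injective (pResidual p H), ← e, comap_inf, comap_subtype, comap_subtype,
      subgroupOf_self, inf_top_eq]
  exact ⟨(QuotientGroup.quotientKerEquivOfSurjective f (MonoidHom.range_eq_top.1 h1)).symm.trans
    (QuotientGroup.quotientMulEquivOfEq h2)⟩

theorem main (hp : 7 ≤ p) (S : Sylow p G) : Nonempty (G ⧸ pResidual p G ≃*
    Nrm (thompsonSubgroupAOf (S : Subgroup G)) ⧸
      pResidual p (Nrm (thompsonSubgroupAOf (S : Subgroup G)))) :=
  quot_equiv S (by
      rw [H13.thompsonSubgroupAOf_eq]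
      exact le_normalizer.trans (H13.normalizer_le_normalizer_sSup_maxAb 0 _))
    ((inf_comm _ _).le.trans
      ((H16.ft_singleton_iff' (isCharPFunctor_JA p) (H7.isSylowIn_top S)).1 (ft_JA hp)))

end H18.JR
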