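import Cfsg.Agent.H53.KUSpec

/-! Tower KU (S2196), slot `B1a`: no invariant totally isotropic subspace. -/

set_option autoImplicit false

namespace H18.KUB1a

open Cfsg H59 H53.WU H53.KU Module Submodule

variable {S : HS}

/-- `R + g R` -/
noncomputable def UU (R : Submodule S.F S.V) (g : S.G) : Submodule S.F S.V :=
  R ⊔ R.map (g.1 : S.V →ₗ[S.F] S.V)

theorem map_eq {K : Subgroup S.G} {R : Submodule S.F S.V} (h : ∀ k ∈ K, ∀ x ∈ R, k.1 x ∈ R)
    {k : S.G} (hk : k ∈ K) : R.map (k.1 : S.V →ₗ[S.F] S.V) = R := by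
  refine le_antisymm ?_ fun x hx => ⟨_, h _ (inv_mem hk) x hx, k.1.apply_symm_apply x⟩
  rintro _ ⟨x, hx, rfl⟩
  exact h k hk x hx

theorem finrank_UU {K : Subgroup S.G} {R : Submodule S.F S.V} (h : ∀ k ∈ K, ∀ x ∈ R, k.1 x ∈ R)
    {g g' : S.G} (hd : DC K K g g') : finrank S.F (UU R g') = finrank S.F (UU R g) := by
  obtain ⟨k, hk, p, hp, rfl⟩ := hd
  rw [← LinearEquiv.finrank_map_eq k.1 (UU R g), UU, UU, Submodule.map_sup, map_eq h hk]
  have : ((k * g * p).1 : S.V →ₗ[S.F] S.V) = (k.1 : S.V →ₗ[S.F] S.V) ∘ₗ (g.1 : S.V →ₗ[S.F] S.V) ∘ₗ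
    (p.1 : S.V →ₗ[S.F] S.V) := rfl
  rw [this, map_comp, map_comp, map_eq h hp]

theorem jobB1a (ext : JobExt) (frm : JobFrm) (tr : JobTr) : JobB1a := by
  intro S o2 h4 R hR ti inv
  obtain ⟨x, hx, x0⟩ := (Submodule.ne_bot_iff R).1 hR
  obtain ⟨z, z1, z2⟩ := S.h.exists_partner (ti x hx x hx) x0
  have hd : finrank S.F R = S.r + 3 := by
    rw [← S.hr]
    refine le_antisymm ?_ (not_lt.1 fun hlt => ?_)
    · have h1 := S.h.finrank_add_finrank_perp R
      have h2 : finrank S.F R ≤ finrank S.F (perp S.B R) :=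
        finrank_mono fun y hy => S.h.mem_perp'.2 fun w hw => ti y hy w hw
      change _ ≤ finrank S.F S.V / 2
      omega
    · obtain ⟨y, y1, y2, y3, -⟩ := ext S.toHS 1 R ⟨0, one_pow _⟩ ti (fun _ h => h) hlt
      have y0 : y ≠ 0 := fun h => y1 (h ▸ R.zero_mem)
      have z0 : z ≠ 0 := fun h => by simp [h] at z1
      rcases o2 x y z ⟨x0, ti x hx x hx⟩ ⟨y0, y2⟩ ⟨z0, z2⟩ with
        ⟨k, hk, c, h⟩ | ⟨k, hk, c, h⟩ | ⟨k, hk, c, h⟩
      · exact y1 ((R.smul_mem_iff c.ne_zero).1 (h ▸ inv k hk x hx))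
      · have := ti x hx z ((R.smul_mem_iff c.ne_zero).1 (h ▸ inv k hk x hx))
        exact one_ne_zero (z1.symm.trans this)
      · have h1 := k.2.1 ((k⁻¹).1 x) y
        rw [y3 _ (inv _ (inv_mem hk) x hx), h, map_smul,
          show k.1 ((k⁻¹).1 x) = x from k.1.apply_symm_apply x, z1] at h1
        simp at h1
  let b := finBasisOfFinrankEq S.F R hd
  obtain ⟨Φ, hΦ⟩ := frm S.toHS _ (fun i => (b i : S.V)) (fun i j => ti _ (b i).2 _ (b j).2)
    (b.linearIndependent.map' R.subtype (ker_subtype R))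
  have he : ∀ i, Φ.e i ∈ R := fun i => hΦ ▸ (b i).2
  have hs : ∀ W : Submodule S.F S.V, (∀ i, Φ.e i ∈ W) → R ≤ W := fun W h v hv => by
    have := congrArg R.subtype (b.sum_repr ⟨v, hv⟩)
    rw [map_sum] at this
    rw [show v = _ from this.symm]
    exact sum_mem fun i _ => by
      rw [map_smul]; exact W.smul_mem _ (by simpa [hΦ] using h i)
  choose g c hg using fun k : Fin 4 =>
    tr S.toHS _ Φ (Φ.sw 1 fun i => decide (i.val < k.val)) S.hr (by omega)
  have g1 : ∀ (k : Fin 4) i, i.val < k.val → (g k).1 (Φ.e i) = (c k i : S.F) • Φ.f i :=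
    fun k i h => by rw [hg]; simp [Fr.sw, h]
  have g2 : ∀ (k : Fin 4) i, ¬ i.val < k.val → (g k).1 (Φ.e i) = (c k i : S.F) • Φ.e i :=
    fun k i h => by rw [hg]; simp [Fr.sw, h]
  have hf : ∀ (k : Fin 4) i, i.val < k.val → Φ.f i ∈ UU R (g k) := fun k i h =>
    mem_sup_right ((smul_mem_iff _ (c k i).ne_zero).1 ⟨_, he i, g1 k i h⟩)
  have hU : ∀ (k : Fin 4) (W : Submodule S.F S.V), (∀ i, Φ.e i ∈ W) →
      (∀ i, i.val < k.val → Φ.f i ∈ W) → UU R (g k) ≤ W := fun k W h1 h2 =>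
    sup_le (hs W h1) (map_le_iff_le_comap.2 (hs _ fun i => by
      change (g k).1 (Φ.e i) ∈ W
      by_cases h : i.val < k.val
      · rw [g1 k i h]; exact W.smul_mem _ (h2 i h)
      · rw [g2 k i h]; exact W.smul_mem _ (h1 i)))
  have lt : ∀ j k : Fin 4, j < k → finrank S.F (UU R (g j)) < finrank S.F (UU R (g k)) := by
    intro j k h
    have hj : j.val < S.r + 3 := by omega
    refine finrank_lt_finrank_of_lt (lt_of_le_not_ge (hU j _ (fun i => mem_sup_left (he i))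
      fun i hi => hf k i (hi.trans h)) fun hle => ?_)
    have h1 := hU j (LinearMap.ker (S.B (Φ.e ⟨j, hj⟩))) (fun i => Φ.ee _ i) (fun i hi => by
      rw [LinearMap.mem_ker, Φ.ef, if_neg]
      rintro rfl
      exact lt_irrefl _ hi) (hle (hf k ⟨j, hj⟩ h))
    rw [LinearMap.mem_ker, Φ.ef, if_pos rfl] at h1
    exact one_ne_zero h1
  obtain ⟨i, j, hij, h⟩ := h4 g
  have := finrank_UU inv h
  rcases lt_or_gt_of_ne hij with h | h <;> have := lt _ _ h <;> omega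

end H18.KUB1a
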