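import Cfsg.Agent.H63.KgvSpec

/-! # Tower KGV: job LF -/

set_option autoImplicit false

namespace H18.Kgv

open Polynomial Finset Cfsg H63.Kgv

theorem iter_pow {A : Type} [Monoid A] (p n : ℕ) (x : A) :
    (fun y : A => y ^ p)^[n] x = x ^ p ^ n := by
  induction n with
  | zero => simp
  | succ n ih => rw [Function.iterate_succ_apply', ih, ← pow_mul, pow_succ]

theorem job : JLF := by
  intro br hd p _ M K _ _ _ g θ s t D x ht hD hx
  have hD0 : 0 < D := Nat.pos_of_dvd_of_pos hD s.pos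
  have hper : Function.IsPeriodicPt (fun y : Kˣ => y ^ p) D x := (iter_pow p D x).trans hx
  obtain ⟨e, he⟩ : dg p x ∣ D := hper.minimalPeriod_dvd
  have hd0 : dg p x ≠ 0 := fun h => by rw [h, zero_mul] at he; omega
  have hxd : x ^ p ^ dg p x = x :=
    (iter_pow p _ x).symm.trans (Function.isPeriodicPt_minimalPeriod (fun y : Kˣ => y ^ p) x)
  obtain ⟨F, L, _, _, _, _, _, ψ, χ, γ, ψ', χ', γ', b1, b2, hfin, hn, htr⟩ :=
    br p M K g θ s (dg p x) e (he ▸ hD)
  have hx' : x ^ p ^ (dg p x * e) = x := he ▸ hx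
  have hχ : ∀ a : L, χ' x a = χ x (Algebra.norm F a) := fun a => by
    by_cases ha : a = 0
    · rw [ha, Algebra.norm_zero, MulChar.map_zero, MulChar.map_zero]
    · obtain ⟨n, hn'⟩ := (Submonoid.mem_powers_iff _ _).1
        (mem_powers_iff_mem_zpowers.2 (b2.gen (Units.mk0 a ha)))
      have e1 : a = (γ' : L) ^ n := by
        rw [← Units.val_pow_eq_pow_val, hn', Units.val_mk0]
      rw [e1, map_pow, map_pow, map_pow, hn, b2.val x hx', b1.val x hxd]
  have h1 : HH p M g θ t x ^ dg p x = GG p M g θ t (dg p x) x := Complex.cpow_nat_inv_pow _ hd0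
  have h2 := hd F L (ψ t) (χ x) (b1.ne t ht)
  rw [he, pow_mul, h1, b1.gs t x hxd, b2.gs t x hx', ← hfin, ← h2, gaussSum]
  simp only [hχ, htr]

end H18.Kgv
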