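import Cfsg.Agent.H10.WSpec
import Cfsg.Agent.H61.PSLMax
import Cfsg.Agent.H61.HurSolv

/-! The abstract model `H61.Main` for groups isomorphic to `L₂(q)`. -/

set_option autoImplicit false

namespace H18.L2

open Cfsg H61 MulAction

variable {G : Type*} [Group G]

theorem exists_main {q : ℕ} (h : H10.W.IsL2 G q) :
    ∃ (p : ℕ) (X : Type) (_ : MulAction G X) (hh : Hur p G X) (x y : X) (d n : ℕ),
      Main hh x y q d n ∧
        ((Even q ∧ d + 1 = q ∧ n = q + 1) ∨ (Odd q ∧ 2 * d + 1 = q ∧ 2 * n = q + 1)) := by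
  obtain ⟨F, _, _, rfl, ⟨e⟩⟩ := h
  obtain ⟨p, _, _⟩ := exists_char F
  obtain ⟨y, m⟩ := main_psl (F := F) p
  have hp := psl_params m
  rw [Nat.card_eq_fintype_card] at m hp
  letI : MulAction G (PL F) := MulAction.compHom _ e.toMonoidHom
  have hs : ∀ (a : G) (x : PL F), a • x = e.toMonoidHom a • x := fun _ _ => rfl
  let hh := (hur_psl F p).comap e.toMonoidHom e.injective hs
  have hQ : ∀ x, hh.Q x = ((hur_psl F p).Q x).comap e.toMonoidHom := fun x => by
    ext g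
    rw [Subgroup.mem_comap, Hur.mem_Q, Hur.mem_Q, hs, ← map_pow,
      map_eq_one_iff _ (show Function.Injective e.toMonoidHom from e.injective)]
  have hst : ∀ x : PL F, stabilizer G x = (stabilizer _ x).comap e.toMonoidHom := fun _ => rfl
  have hor : ∀ x : PL F, orbit G x = orbit (H10.W.PSL2 F) x := fun x => by
    ext z
    exact ⟨fun ⟨g, hg⟩ => ⟨e g, hg⟩, fun ⟨g, hg⟩ => ⟨e.symm g, by
      show e.toMonoidHom (e.symm g) • x = z
      simpa using hg⟩⟩
  have hc : ∀ H : Subgroup (H10.W.PSL2 F), Nat.card (H.comap e.toMonoidHom) = Nat.card H :=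
    fun H => by
      rw [Subgroup.comap_equiv_eq_map_symm']
      exact Subgroup.card_map_of_injective e.symm.injective
  refine ⟨p, PL F, inferInstance, hh, pinf (AlgebraicClosure F), y, _, _, ⟨m.two_le, ?_, ?_, ?_, ?_, ?_, fun t ht => ?_,
    m.params⟩, hp⟩
  · rw [hQ, hc, m.card_Q]
  · rw [hor, m.card_orbit]
  · rw [hst, hc, m.card_stab]
  · rw [hQ, m.Q_y, MonoidHom.comap_bot, (MonoidHom.ker_eq_bot_iff _).2 e.injective]
  · rw [hst, hc, m.card_stab_y]
  · rw [hor, hor]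
    refine m.special t fun k => ht ?_
    rw [hst, k, MonoidHom.comap_bot, (MonoidHom.ker_eq_bot_iff _).2 e.injective]

variable [Finite G] {p : ℕ} {X : Type*} [MulAction G X] {hh : Hur p G X} {x y : X} {q d n : ℕ}

/-- The dihedral subgroup of order `2 d`. -/
theorem exists_dih_d (m : Main hh x y q d n) :
    ∃ (a b : X) (w : G), a ≠ b ∧ Nat.card (tor G a b) = d ∧ w • a = b ∧ w • b = a := by
  obtain ⟨b, hb, hne, hc⟩ := m.exists_split
  obtain ⟨w, h1, h2⟩ := m.exists_swap_split (mem_orbit_self x) hb hne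
  exact ⟨x, b, w, hne, hc, h1, h2⟩

/-- The dihedral subgroup of order `2 n`. -/
theorem exists_dih_n (m : Main hh x y q d n) :
    ∃ (a b : X) (w : G), a ≠ b ∧ Nat.card (tor G a b) = n ∧ w • a = b ∧ w • b = a := by
  obtain ⟨b, _, hne, ht, hc⟩ := m.exists_nonsplit (mem_orbit_self y)
  obtain ⟨w, h1, h2⟩ := m.exists_swap hne (ht ▸ m.stabilizer_y_ne_bot (mem_orbit_self y))
  exact ⟨y, b, w, hne, hc, h1, h2⟩

theorem exists_sub_d (m : Main hh x y q d n) (hq : 3 ≤ q) :
    ∃ H : Subgroup G, H ≠ ⊤ ∧ Nat.card H = 2 * d := by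
  obtain ⟨a, b, w, hab, hc, h1, h2⟩ := exists_dih_d m
  exact ⟨_, m.pairStab_ne_top hq hab, by rw [card_pairStab hab h1 h2, hc]⟩

theorem exists_sub_n (m : Main hh x y q d n) (hq : 3 ≤ q) :
    ∃ H : Subgroup G, H ≠ ⊤ ∧ Nat.card H = 2 * n := by
  obtain ⟨a, b, w, hab, hc, h1, h2⟩ := exists_dih_n m
  exact ⟨_, m.pairStab_ne_top hq hab, by rw [card_pairStab hab h1 h2, hc]⟩

/-- Elements of order prime to `p` are inverted by an element of order at most two. -/
theorem real_of (m : Main hh x y q d n) {g : G} (hg : g ^ p ≠ 1) :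
    ∃ w : G, w * w = 1 ∧ w * g * w⁻¹ = g⁻¹ := by
  obtain ⟨a, b, hab, ht⟩ := hh.exists_tor hg
  obtain ⟨w, h1, h2⟩ := m.exists_swap hab fun k => hg (by
    rw [k, Subgroup.mem_bot] at ht
    rw [ht, one_pow])
  exact ⟨w, hh.swap_mul_self hab h1 h2, hh.swap_conj hab h1 h2 ht⟩

end H18.L2
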