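import Cfsg.Agent.H18.PSolv
import Cfsg.Agent.H46.Coprime
import Cfsg.Agent.H2.MinNormal

/-! Groups whose maximal subgroups are p-nilpotent or of prime index (rows S4378, S4379). -/

namespace H18.L2
open Cfsg Subgroup H46
universe u
variable {G : Type u} [Group G] {p : ℕ}

/-- `X / Y` is a `p`-group, elementwise. -/
def PP (p : ℕ) (X Y : Subgroup G) : Prop := ∀ x ∈ X, ∃ k : ℕ, x ^ p ^ k ∈ Y
/-- `X / Y` is a `p'`-group, elementwise. -/
def PQ (p : ℕ) (X Y : Subgroup G) : Prop := ∀ x ∈ X, ∃ m : ℕ, ¬ p ∣ m ∧ x ^ m ∈ Y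

theorem PP.relIndex [Finite G] [Fact p.Prime] {X Y : Subgroup G} [Y.Normal] (h : PP p X Y) :
    ∃ k, Y.relIndex X = p ^ k := by
  have : IsPGroup p (X ⧸ Y.subgroupOf X) := by
    intro q
    obtain ⟨x, rfl⟩ := QuotientGroup.mk_surjective q
    obtain ⟨k, hk⟩ := h x x.2
    refine ⟨k, ?_⟩
    rw [← QuotientGroup.mk_pow, QuotientGroup.eq_one_iff, mem_subgroupOf]
    simpa using hk
  exact this.exists_card_eq

theorem PQ.relIndex [Finite G] [hp : Fact p.Prime] {X Y : Subgroup G} [Y.Normal] (h : PQ p X Y) :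
    ¬ p ∣ Y.relIndex X := by
  intro hd
  obtain ⟨q, hq⟩ := exists_prime_orderOf_dvd_card' (G := X ⧸ Y.subgroupOf X) p hd
  obtain ⟨x, rfl⟩ := QuotientGroup.mk_surjective q
  obtain ⟨m, hm, hx⟩ := h x x.2
  apply hm
  rw [← hq, orderOf_dvd_iff_pow_eq_one, ← QuotientGroup.mk_pow, QuotientGroup.eq_one_iff,
    mem_subgroupOf]
  simpa using hx

theorem pq_bot_of_card [Finite G] {X : Subgroup G} (h : ¬ p ∣ Nat.card X) : PQ p X ⊥ := by
  intro x hx
  refine ⟨_, h, ?_⟩
  have := pow_card_eq_one' (G := X) (x := ⟨x, hx⟩)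
  rw [mem_bot]
  exact congrArg Subtype.val this

theorem PQ.card [Finite G] [hp : Fact p.Prime] {X : Subgroup G} (h : PQ p X ⊥) :
    ¬ p ∣ Nat.card X := by
  have := h.relIndex
  rwa [relIndex_bot_left] at this

structure Ch (p : ℕ) (A B C : Subgroup G) : Prop where
  nA : A.Normal
  nB : B.Normal
  nC : C.Normal
  ab : A ≤ B
  bc : B ≤ C
  a : PQ p A ⊥
  b : PP p B A
  c : PQ p C B
  d : PP p ⊤ C

def Hyp (p : ℕ) (G : Type u) [Group G] : Prop :=
  ∀ M : Subgroup G, IsCoatom M →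
    (∃ K : Subgroup G, K ≤ M ∧ M ≤ Nrm K ∧ PQ p K ⊥ ∧ PP p M K) ∨ M.index.Prime

theorem Hyp.quo [Finite G] (h : Hyp p G) (N : Subgroup G) [N.Normal] : Hyp p (G ⧸ N) := by
  intro M hM
  have hs := QuotientGroup.mk'_surjective N
  rcases h (M.comap (QuotientGroup.mk' N)) (isCoatom_comap_of_surjective hs hM) with
    ⟨K, h1, h2, h3, h4⟩ | h1
  · left
    refine ⟨K.map (QuotientGroup.mk' N), map_le_iff_le_comap.2 h1, ?_, ?_, ?_⟩
    · intro m hm
      obtain ⟨g, rfl⟩ := hs m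
      exact le_normalizer_map _ (mem_map_of_mem _ (h2 hm))
    · rintro _ ⟨x, hx, rfl⟩
      obtain ⟨m, hm, hx'⟩ := h3 x hx
      refine ⟨m, hm, ?_⟩
      rw [mem_bot] at hx' ⊢
      rw [← map_pow, hx', map_one]
    · intro m hm
      obtain ⟨g, rfl⟩ := hs m
      obtain ⟨k, hk⟩ := h4 g hm
      exact ⟨k, by rw [← map_pow]; exact mem_map_of_mem _ hk⟩
  · right
    rwa [index_comap_of_surjective _ hs] at h1

/-- A chain modulo `N`. -/
structure ChM (p : ℕ) (N A B C : Subgroup G) : Prop where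
  nA : A.Normal
  nB : B.Normal
  nC : C.Normal
  na : N ≤ A
  ab : A ≤ B
  bc : B ≤ C
  a : PQ p A N
  b : PP p B A
  c : PQ p C B
  d : PP p ⊤ C

theorem Ch.pull {N : Subgroup G} [N.Normal] {A B C : Subgroup (G ⧸ N)} (h : Ch p A B C) :
    ChM p N (A.comap (QuotientGroup.mk' N)) (B.comap (QuotientGroup.mk' N))
      (C.comap (QuotientGroup.mk' N)) := by
  have := h.nA; have := h.nB; have := h.nC
  refine ⟨inferInstance, inferInstance, inferInstance, ?_, comap_mono h.ab, comap_mono h.bc,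
    ?_, ?_, ?_, ?_⟩
  · intro x hx
    rw [mem_comap, QuotientGroup.mk'_apply, (QuotientGroup.eq_one_iff x).2 hx]
    exact A.one_mem
  · intro x hx
    obtain ⟨m, hm, hx'⟩ := h.a _ hx
    refine ⟨m, hm, ?_⟩
    rwa [mem_bot, ← map_pow, QuotientGroup.mk'_apply, QuotientGroup.eq_one_iff] at hx'
  · intro x hx
    obtain ⟨k, hk⟩ := h.b _ hx
    exact ⟨k, by rwa [mem_comap, map_pow]⟩
  · intro x hx
    obtain ⟨m, hm, hx'⟩ := h.c _ hx
    exact ⟨m, hm, by rwa [mem_comap, map_pow]⟩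
  · intro x hx
    obtain ⟨k, hk⟩ := h.d (QuotientGroup.mk' N x) (mem_top _)
    exact ⟨k, by rwa [mem_comap, map_pow]⟩

theorem PP.inf {X Y X' Y' : Subgroup G} (h : PP p X Y) (h' : PP p X' Y') :
    PP p (X ⊓ X') (Y ⊓ Y') := by
  intro x hx
  obtain ⟨k, hk⟩ := h x hx.1
  obtain ⟨l, hl⟩ := h' x hx.2
  refine ⟨k + l, ?_, ?_⟩
  · rw [pow_add, pow_mul]; exact Y.pow_mem hk _
  · rw [add_comm, pow_add, pow_mul]; exact Y'.pow_mem hl _

theorem PQ.inf [hp : Fact p.Prime] {X Y X' Y' : Subgroup G} (h : PQ p X Y) (h' : PQ p X' Y') :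
    PQ p (X ⊓ X') (Y ⊓ Y') := by
  intro x hx
  obtain ⟨k, hk0, hk⟩ := h x hx.1
  obtain ⟨l, hl0, hl⟩ := h' x hx.2
  refine ⟨k * l, fun hd => (hp.out.dvd_mul.1 hd).elim hk0 hl0, ?_, ?_⟩
  · rw [pow_mul]; exact Y.pow_mem hk _
  · rw [mul_comm, pow_mul]; exact Y'.pow_mem hl _

theorem PQ.trans [hp : Fact p.Prime] {X Y Z : Subgroup G} (h : PQ p X Y) (h' : PQ p Y Z) :
    PQ p X Z := by
  intro x hx
  obtain ⟨k, hk0, hk⟩ := h x hx
  obtain ⟨l, hl0, hl⟩ := h' _ hk
  exact ⟨k * l, fun hd => (hp.out.dvd_mul.1 hd).elim hk0 hl0, by rwa [pow_mul]⟩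

theorem PP.trans {X Y Z : Subgroup G} (h : PP p X Y) (h' : PP p Y Z) : PP p X Z := by
  intro x hx
  obtain ⟨k, hk⟩ := h x hx
  obtain ⟨l, hl⟩ := h' _ hk
  exact ⟨k + l, by rwa [pow_add, pow_mul]⟩

theorem pq_refl [hp : Fact p.Prime] (X : Subgroup G) : PQ p X X := fun x hx =>
  ⟨1, hp.out.one_lt.ne' ∘ Nat.dvd_one.1, by simpa using hx⟩

theorem pp_refl (X : Subgroup G) : PP p X X := fun x hx => ⟨0, by simpa using hx⟩

theorem pp_bot {X : Subgroup G} (h : IsPGroup p X) : PP p X ⊥ := fun x hx => by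
  obtain ⟨k, hk⟩ := h ⟨x, hx⟩
  exact ⟨k, by rw [mem_bot]; simpa using congrArg Subtype.val hk⟩

theorem main_aux [hp : Fact p.Prime] (n : ℕ) : ∀ (G : Type u) [Group G] [Finite G],
    Nat.card G = n → IsPSolvable p G → Hyp p G → ∃ A B C : Subgroup G, Ch p A B C := by
  induction n using Nat.strong_induction_on with
  | _ n ih =>
  intro G _ _ hn hG hH
  have quo : ∀ (N : Subgroup G) [N.Normal], N ≠ ⊥ → ∃ A B C : Subgroup G, ChM p N A B C := by
    intro N _ hN
    have hlt : Nat.card (G ⧸ N) < n := by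
      rw [← hn, card_eq_card_quotient_mul_card_subgroup N]
      have h1 : 1 < Nat.card N := one_lt_card_iff_ne_bot _ |>.2 hN
      have h2 : 0 < Nat.card (G ⧸ N) := Nat.card_pos
      nlinarith
    obtain ⟨A, B, C, h⟩ := ih _ hlt (G ⧸ N) rfl (isPSolvable_quotient hG N) (hH.quo N)
    exact ⟨_, _, _, h.pull⟩
  by_cases hR : ∃ R : Subgroup G, R.Normal ∧ R ≠ ⊥ ∧ ¬ p ∣ Nat.card R
  · obtain ⟨R, _, hR0, hR⟩ := hR
    obtain ⟨A, B, C, h⟩ := quo R hR0
    exact ⟨A, B, C, h.nA, h.nB, h.nC, h.ab, h.bc, h.a.trans (pq_bot_of_card hR), h.b, h.c, h.d⟩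
  push Not at hR
  rcases subsingleton_or_nontrivial G with h1 | h1
  · refine ⟨⊥, ⊥, ⊥, inferInstance, inferInstance, inferInstance, le_rfl, le_rfl, pq_refl _,
      pp_refl _, pq_refl _, fun x _ => ⟨0, ?_⟩⟩
    rw [mem_bot]; exact Subsingleton.elim _ _
  obtain ⟨N, hNn, hN0, hmin⟩ := H2.exists_minimal_normal G
  have hNp : IsPGroup p N := by
    obtain ⟨M, hMn, hM0, hMN, hM⟩ := isPSolvable_exists_normal_le hG N hN0
    rcases hmin M hMn hMN with h | h
    · exact absurd h hM0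
    subst h
    rcases hM with hM | hM
    · exact hM
    · exact absurd (hR M hMn hM0) ((Nat.Prime.coprime_iff_not_dvd hp.out).1 hM.symm)
  have hNe := H2.isElementaryAbelian_of_minimal_normal hNp hmin
  have hNc : N ≤ Cent N := comm_iff_le_cent.1 hNe.1
  by_cases hΦ : N ≤ frattini G
  · obtain ⟨A, B, C, h⟩ := quo N hN0
    have := h.nA
    have hco : (Nat.card N).Coprime (N.relIndex A) := by
      obtain ⟨k, hk⟩ := hNp.exists_card_eq
      rw [hk]
      exact Nat.Coprime.pow_left _ ((Nat.Prime.coprime_iff_not_dvd hp.out).2 h.a.relIndex)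
    have hAN : ∀ X : Subgroup G, X ≤ Nrm N := fun X => by
      rw [Nrm, normalizer_eq_top]; exact le_top
    obtain ⟨H, hH⟩ := exists_sd_of_hall (N := N) (K := A) ⟨h.na, hco⟩ (hAN A)
    have hHc : Nat.card H = N.relIndex A := hH.relIndex_left.symm
    have hHn : H.Normal := by
      rw [← normalizer_eq_top_iff]
      apply frattini_nongenerating
      rw [eq_top_iff]
      intro g _
      have h2 : IsSd N (cj g H) A := by
        have := hH.cj g
        rwa [cj_of_mem_nrm (hAN ⊤ (mem_top g)), cj_of_mem_nrm (H := A) (by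
          rw [Nrm, normalizer_eq_top]; exact mem_top g)] at this
      obtain ⟨m, hm, hm'⟩ := hH.exists_cj h2 (by rw [hHc]; exact hco.symm)
        (Or.inr (sol_of_comm hNe.1))
      have h3 : m⁻¹ * g ∈ Nrm H := by
        rw [mem_nrm_iff_cj, cj_mul, ← hm', ← cj_mul, inv_mul_cancel, cj_one]
      have : g = m * (m⁻¹ * g) := by group
      rw [this]
      exact mul_mem (mem_sup_right (hΦ hm)) (mem_sup_left h3)
    have hH0 : H = ⊥ := by
      by_contra h0
      have := hR H hHn h0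
      rw [hHc] at this
      exact h.a.relIndex this
    have hAN' : A = N := by rw [← hH.sup, hH0, sup_bot_eq]
    refine ⟨⊥, B, C, inferInstance, h.nB, h.nC, bot_le, h.bc, pq_refl _, ?_, h.c, h.d⟩
    exact (hAN' ▸ h.b).trans (pp_bot hNp)
  obtain ⟨M, hM, hNM⟩ : ∃ M : Subgroup G, IsCoatom M ∧ ¬ N ≤ M := by
    by_contra hc
    push Not at hc
    apply hΦ
    rw [frattini, Order.radical]
    exact le_iInf₂ fun M hM => hc M hM
  have hsup : N ⊔ M = ⊤ := hM.2 _ (right_lt_sup.2 hNM)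
  have hdec : ∀ g : G, ∃ a ∈ N, ∃ m ∈ M, a * m = g := fun g => by
    have : g ∈ N ⊔ M := hsup ▸ mem_top g
    exact mem_sup_of_normal_left.1 this
  have hinf : N ⊓ M = ⊥ := by
    have : (N ⊓ M).Normal := ⟨fun x hx g => by
      obtain ⟨a, ha, m, hm, rfl⟩ := hdec g
      have h2 : m * x * m⁻¹ ∈ N ⊓ M :=
        ⟨hNn.conj_mem x hx.1 m, M.mul_mem (M.mul_mem hm hx.2) (M.inv_mem hm)⟩
      have h3 := mem_cent.1 (hNc ha) _ h2.1
      have : a * m * x * (a * m)⁻¹ = m * x * m⁻¹ := by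
        calc a * m * x * (a * m)⁻¹ = a * (m * x * m⁻¹) * a⁻¹ := by group
          _ = m * x * m⁻¹ := by rw [← h3]; group
      rwa [this]⟩
    rcases hmin _ this inf_le_left with h | h
    · exact h
    · exact absurd (h ▸ inf_le_right) hNM
  rcases hH M hM with ⟨K, h1, h2, h3, h4⟩ | hpr
  · have hNK : (N ⊔ K).Normal := by
      rw [← normalizer_eq_top_iff, eq_top_iff, ← hsup]
      refine sup_le (le_sup_left.trans le_normalizer) (nrm_sup ?_ h2)
      rw [Nrm, normalizer_eq_top]; exact le_top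
    refine ⟨⊥, N, N ⊔ K, inferInstance, hNn, hNK, bot_le, le_sup_left, pq_refl _, pp_bot hNp, ?_, ?_⟩
    · intro x hx
      obtain ⟨a, ha, k, hk, rfl⟩ := mem_sup_of_normal_left.1 hx
      obtain ⟨m, hm, hk'⟩ := h3 k hk
      refine ⟨m, hm, ?_⟩
      rw [← QuotientGroup.eq_one_iff, QuotientGroup.mk_pow, QuotientGroup.mk_mul,
        (QuotientGroup.eq_one_iff a).2 ha, one_mul, ← QuotientGroup.mk_pow, mem_bot.1 hk',
        QuotientGroup.mk_one]
    · intro x _
      obtain ⟨a, ha, m, hm, rfl⟩ := hdec x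
      obtain ⟨k, hk⟩ := h4 m hm
      refine ⟨k, ?_⟩
      rw [← QuotientGroup.eq_one_iff, QuotientGroup.mk_pow, QuotientGroup.mk_mul,
        (QuotientGroup.eq_one_iff a).2 (mem_sup_left ha), one_mul, ← QuotientGroup.mk_pow,
        QuotientGroup.eq_one_iff]
      exact mem_sup_right hk
  have hNcard : Nat.card N = p := by
    have h2 : Nat.card N = M.index := by
      have := (isComplement'_of_disjoint_and_mul_eq_univ (H := N) (K := M)
        (disjoint_iff.2 hinf) (by rw [← normal_mul, hsup, coe_top])).index_eq_card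
      exact this.symm
    obtain ⟨k, hk⟩ := hNp.exists_card_eq
    rw [← h2, hk] at hpr
    rw [hk, (Nat.Prime.eq_one_of_pow hpr), pow_one]
  by_cases hL : M ⊓ Cent N = ⊥
  · refine ⟨⊥, N, ⊤, inferInstance, hNn, inferInstance, bot_le, le_top, pq_refl _, pp_bot hNp, ?_,
      pp_refl _⟩
    intro x _
    have hcy : IsCyclic N := isCyclic_of_prime_card hNcard
    have h2 : (MulAut.conjNormal x : MulAut N) ^ (p - 1) = 1 := by
      rw [← Nat.totient_prime hp.out, ← hNcard, ← IsCyclic.card_mulAut]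
      exact pow_card_eq_one'
    refine ⟨p - 1, Nat.not_dvd_of_pos_of_lt (by have := hp.out.two_le; omega)
      (by have := hp.out.two_le; omega), ?_⟩
    have h3 : x ^ (p - 1) ∈ Cent N := by
      rw [mem_cent]
      intro h hh
      rw [← map_pow] at h2
      have := congrArg Subtype.val (DFunLike.congr_fun h2 ⟨h, hh⟩)
      simp only [MulAut.conjNormal_apply, MulAut.one_apply] at this
      rw [mul_inv_eq_iff_eq_mul] at this
      exact this.symm
    obtain ⟨a, ha, m, hm, he⟩ := hdec (x ^ (p - 1))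
    have h4 : m ∈ M ⊓ Cent N := ⟨hm, by
      have : m = a⁻¹ * x ^ (p - 1) := by rw [← he]; group
      rw [this]; exact (Cent N).mul_mem ((Cent N).inv_mem (hNc ha)) h3⟩
    rw [hL, mem_bot] at h4
    rw [← he, h4, mul_one]; exact ha
  · have hLn : (M ⊓ Cent N).Normal := by
      rw [← normalizer_eq_top_iff, eq_top_iff, ← hsup]
      refine sup_le (nrm_of_le_cent (le_cent_symm inf_le_right)) (nrm_inf le_nrm_self (nrm_cent ?_))
      rw [Nrm, normalizer_eq_top]; exact le_top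
    obtain ⟨A, B, C, h⟩ := quo N hN0
    obtain ⟨A', B', C', h'⟩ := quo _ hL
    have := h.nA; have := h.nB; have := h.nC; have := h'.nA; have := h'.nB; have := h'.nC
    refine ⟨A ⊓ A', B ⊓ B', C ⊓ C', inferInstance, inferInstance, inferInstance,
      inf_le_inf h.ab h'.ab, inf_le_inf h.bc h'.bc, ?_, h.b.inf h'.b, h.c.inf h'.c, ?_⟩
    · have h2 := h.a.inf h'.a
      rwa [← inf_assoc, hinf, bot_inf_eq] at h2
    · have h2 := h.d.inf h'.d
      rwa [top_inf_eq] at h2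

theorem main [Finite G] [hp : Fact p.Prime] (hG : IsPSolvable p G)
    (hmax : ∀ M : Subgroup G, IsCoatom M → (∃ K : Subgroup ↥M, K.Normal ∧ ¬ p ∣ Nat.card K ∧
      ∃ k : ℕ, K.index = p ^ k) ∨ (M.index).Prime) :
    ∃ A B C : Subgroup G, A.Normal ∧ B.Normal ∧ C.Normal ∧ A ≤ B ∧ B ≤ C ∧ ¬ p ∣ Nat.card A ∧
      (∃ k : ℕ, A.relIndex B = p ^ k) ∧ ¬ p ∣ B.relIndex C ∧ ∃ k : ℕ, C.index = p ^ k := by
  have hH : Hyp p G := by
    intro M hM
    rcases hmax M hM with ⟨K, hK, h1, k, h2⟩ | h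
    · left
      refine ⟨K.map M.subtype, map_subtype_le K, ?_, ?_, ?_⟩
      · intro m hm
        exact le_normalizer_map _ ⟨⟨m, hm⟩, by rw [normalizer_eq_top]; exact mem_top _, rfl⟩
      · apply pq_bot_of_card
        rwa [card_map_of_injective M.subtype_injective]
      · intro m hm
        refine ⟨k, ⟨⟨m, hm⟩ ^ p ^ k, ?_, rfl⟩⟩
        rw [← h2]; exact K.pow_index_mem _
    · exact Or.inr h
  obtain ⟨A, B, C, h⟩ := main_aux _ G rfl hG hH
  have := h.nA; have := h.nB; have := h.nC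
  refine ⟨A, B, C, h.nA, h.nB, h.nC, h.ab, h.bc, h.a.card, h.b.relIndex, h.c.relIndex, ?_⟩
  have h2 := h.d.relIndex
  rwa [relIndex_top_right] at h2

end H18.L2
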