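/- Numerical searches for simple groups of order `244823040`: the primes `7` and `11`. -/
import Cfsg.Agent.H45.MN23

set_option autoImplicit false
set_option maxRecDepth 100000

namespace H18.M24
open H45.MN

theorem d7 : ((cas 244823040 7).all fun x => x.2.2 % 23 == 0 || x.2.2 % 11 != 0 ||
    degs 244823040 7 x.1 x.2.1 (fun d => big 7 x.2.2 d && r23 d && Nat.blt 20 d) fun D =>
      if x.2.2 % 2 = 0 then (cset 244823040 7 x.2.1 x.2.2).all fun c => c % 23 == 0 ||
        cols 244823040 [5, 7, 11, 23] 7 x.2.1 x.2.2 D c fun _ => false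
      else x.2.1 == 3 && D == [-69, 92]) = true := by
  decide +kernel

theorem d11 : ((cas 244823040 11).all fun x => x.2.2 % 23 == 0 || x.2.2 % 7 == 0 ||
    [(10, 1), (5, 2), (5, 24), (10, 12)].contains x.2 ||
    degs 244823040 11 x.1 x.2.1 (fun d => big 11 x.2.2 d && r23 d && Nat.blt 20 d) fun D =>
      if x.2.2 % 2 = 0 then (cset 244823040 11 x.2.1 x.2.2).all fun c => c % 23 == 0 ||
        colsF 244823040 [5, 7, 11, 23] 11 x.2.1 x.2.2 D c (fun _ _ => true) 0 fun _ => false
      else x.2.1 == 2 && x.2.2 == 5 && D == [23]) = true := by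
  decide +kernel

end H18.M24
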