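/- Numerical searches for simple groups of order `244823040`: the primes `5` and `7`. -/
import Cfsg.Agent.H45.MSpec5

set_option autoImplicit false
set_option maxRecDepth 100000

namespace H18.M24
open H45.MN

/-- the admissible degrees -/
def fl (d : ℕ) : Bool := r23 d && r11 d && Nat.blt 20 d

theorem d5 : ((cas 244823040 5).all fun x => x.2.2 % 23 == 0 || x.2.2 % 11 == 0 || x.2.2 % 2 != 0 ||
    degs 244823040 5 x.1 x.2.1 fl fun D => (x.2.1 == 4 && [2, 12, 32, 192].contains x.2.2 &&
      ([-5544, 5796, -2024, 1771].isPerm (D ++ [-(1 + D.sum)]) ||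
        [-5544, 5796, -759, 506].isPerm (D ++ [-(1 + D.sum)]))) ||
      (cset 244823040 5 x.2.1 x.2.2).all fun c => c % 23 == 0 || c % 11 == 0 ||
        cols 244823040 [5, 7, 11, 23] 5 x.2.1 x.2.2 D c fun _ => false) = true := by
  decide +kernel

theorem d7' : ((cas 244823040 7).all fun x => x.2.2 % 23 == 0 || x.2.2 % 11 == 0 || x.2.2 % 5 == 0 ||
    if x.2.1 = 6 then (x.1 * 6 % 2024 != 0 || [3, 24, 192].contains x.2.2) else
      degs 244823040 7 x.1 x.2.1 fl fun D => !(List.contains [506, -759, -2024] (1 + D.sum)) &&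
        (!D.contains 2024 || x.2.1 == 3 && [6, 48, 384].contains x.2.2 && D == [-1035, 2024])) = true := by
  decide +kernel

end H18.M24
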