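/- Simple groups of order `244823040`: the principal blocks for the primes `5` and `7`. -/
import Cfsg.Agent.H18.M24N3

set_option autoImplicit false
set_option linter.unusedSectionVars false

namespace H18.M24
open Cfsg H28 H29 H39 H87 Subgroup H45 H45.MO H45.MN H45.M24

universe u

variable {G : Type u} [Group G] [Fintype G]
  {n e v : ℕ} {L E : List (IrrCharacter G)} {s : IrrCharacter G → ℤ}

theorem exists_ten (B : Bk 11 n 10 v L E s) : ∃ g : G, 10 ∣ orderOf g := by
  obtain ⟨y, hy⟩ := B.exists_ord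
  obtain ⟨g, hg⟩ := isConj_iff.1 (B.isConj_pow rfl hy (m := 2) (by norm_num))
  have h1 : ∀ k : ℕ, g ^ k * y * (g ^ k)⁻¹ = y ^ 2 ^ k := fun k => by
    induction k with
    | zero => simp
    | succ k ih =>
      rw [pow_succ' 2, pow_mul, ← hg, conj_pow, ← ih, pow_succ' g]; group
  have h2 := h1 (orderOf g)
  rw [pow_orderOf_eq_one, one_mul, inv_one, mul_one] at h2
  have h3 : 1 ≡ 2 ^ orderOf g [MOD 11] := hy ▸ pow_eq_pow_iff_modEq.1 ((pow_one y).trans h2)
  have h4 : (2 : ZMod 11) ^ orderOf g = 1 := by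
    simpa using ((ZMod.natCast_eq_natCast_iff _ _ 11).2 h3).symm
  rw [← Nat.div_add_mod (orderOf g) 10, pow_add, pow_mul, show (2 : ZMod 11) ^ 10 = 1 by decide,
    one_pow, one_mul] at h4
  exact ⟨g, Nat.dvd_of_mod_eq_zero ((by decide : ∀ r < 10, (2 : ZMod 11) ^ r = 1 → r = 0) _
    (Nat.mod_lt _ (by norm_num)) h4)⟩

theorem regE1 {p : ℕ} (A : Bk p n e v L E s) {θ : IrrCharacter G} (h : θ ∈ E) :
    1 + (cl s L 1).sum = s θ * dg θ :=
  iv_one θ ▸ A.regZ h (by simpa using A.hp.one_lt.ne') fun χ _ => ic_one χ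

theorem four (C : Bk 5 n 4 v L E s) {x y z w : ℤ}
    (h : [x, y, z, w].isPerm (cl s L 1 ++ [-(1 + (cl s L 1).sum)]) = true) :
    ∃ a b c d, [a, b, c, d].Perm (L ++ E) ∧ sn L s a * dg a = x ∧ sn L s b * dg b = y ∧
      sn L s c * dg c = z ∧ sn L s d * dg d = w := by
  obtain ⟨θ, rfl⟩ := C.E_eq rfl
  have h1 : θ ∈ [θ] := List.mem_singleton_self θ
  have h2 : cl s L 1 ++ [-(1 + (cl s L 1).sum)] = (L ++ [θ]).map fun χ => sn L s χ * dg χ := by
    rw [List.map_append, regE1 C h1, List.map_singleton, sn, if_neg (C.disj h1), neg_mul]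
    exact congrArg (· ++ _) (List.map_congr_left fun χ hχ => by rw [sn, if_pos hχ, iv_one])
  rw [List.isPerm_iff, h2] at h
  obtain ⟨l, h3, h4⟩ := (congrFun₂ (List.eq_map_comp_perm _) _ _).mpr h
  obtain ⟨a, b, c, d, rfl⟩ : ∃ a b c d, l = [a, b, c, d] :=
    List.length_eq_four.1 (by simpa using (congrArg List.length h3).symm)
  simp only [List.map_cons, List.map_nil, List.cons.injEq, and_true] at h3
  exact ⟨a, b, c, d, h4, h3.1.symm, h3.2.1.symm, h3.2.2.1.symm, h3.2.2.2.symm⟩

theorem jobP3a : JobP3a.{u} := by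
  rintro G _ _ _ hG ⟨n, L, E, s, A⟩ ⟨n1, L1, E1, s1, B⟩
  have := Fact.mk (by norm_num : Nat.Prime 5)
  have := Fact.mk (by norm_num : Nat.Prime 7)
  obtain ⟨n5, e5, v5, L5, E5, s5, C⟩ := exists_bk (nonab hG) (p := 5) (m := 48964608)
    (by norm_num) hG (by norm_num)
  obtain ⟨n7, e7, v7, L7, E7, s7, D⟩ := exists_bk (nonab hG) (p := 7) (m := 34974720)
    (by norm_num) hG (by norm_num)
  have hf : ∀ χ : IrrCharacter G, χ ≠ one G → fl (dg χ) = true := fun χ h => by
    simp only [fl, r23, A.r23, B.r11, Nat.blt_eq.mpr (dg21 hG h), Bool.and_self]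
  have h2 : 2 ∣ v5 := by
    obtain ⟨g, hg⟩ := exists_ten B
    exact by_contra fun k => C.not_both Nat.prime_two (by norm_num) k
      ((by norm_num : 5 ∣ 10).trans hg) ((by norm_num : 2 ∣ 10).trans hg)
  have h0 := List.all_eq_true.1 d5 _ (hG ▸ C.mem)
  rw [Bool.or_assoc, Bool.or_assoc] at h0
  have h5 := degs_spec (by norm_num) C.ne0 (hG ▸ C.deg _ fun χ h => hf χ (C.ne_one h))
    (or_res (or_res (or_res h0 (C.ndv_v A (by norm_num))) (C.ndv_v B (by norm_num)))
      (by simp; omega))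
  rw [Bool.or_comm] at h5
  replace h5 := or_res h5 fun k => by
    obtain ⟨a, ha, h3⟩ := C.inv h2
    have k := List.all_eq_true.1 k _ (hG ▸ h3)
    rw [Bool.or_assoc] at k
    simpa using cols_spec (col24 hG C ha) (or_res (or_res k (A.ndv_c (by norm_num) ha))
      (B.ndv_c (by norm_num) ha))
  simp only [Bool.and_eq_true, beq_iff_eq, List.contains_iff_mem, Bool.or_eq_true] at h5
  obtain ⟨⟨rfl, hv⟩, h5⟩ := h5
  have h7 : ¬ 7 ∣ v5 := by
    simp only [List.mem_cons, List.not_mem_nil, or_false] at hv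
    omega
  obtain ⟨χ, m7, m5, hs⟩ := C.meet D (by norm_num) h7
  have n7' := D.ndv m7
  have H := D.deg _ fun χ h => hf χ (D.ne_one h)
  replace h0 := List.all_eq_true.1 d7' _ (hG ▸ D.mem)
  rw [Bool.or_assoc, Bool.or_assoc] at h0
  replace h0 := or_res (or_res (or_res h0 (D.ndv_v A (by norm_num))) (D.ndv_v B (by norm_num)))
    fun k => h7 (D.dvd_v C (by norm_num) (Nat.dvd_of_mod_eq_zero (beq_iff_eq.1 k)))
  have hL : χ ∈ L7 → -(sn L5 s5 χ * dg χ) ∈ cl s7 L7 1 := fun k =>
    List.mem_map.2 ⟨χ, k, by rw [hs, sn, if_pos k, iv_one, neg_mul, neg_neg]⟩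
  have hE : χ ∈ E7 → 1 + (cl s7 L7 1).sum = sn L5 s5 χ * dg χ := fun k => by
    rw [regE1 D k, hs, sn, if_neg (D.disj k), neg_neg]
  have sg := sn_sign C
  rcases h5 with h5 | h5 <;> obtain ⟨a, b, c, d, hp, ha, hb, hc, hd⟩ := four C h5 <;>
    have m5' := hp.mem_iff.2 m5 <;>
    simp only [List.mem_cons, List.not_mem_nil, or_false] at m5'
  swap
  · exfalso
    have k : sn L5 s5 χ * dg χ = -759 ∨ sn L5 s5 χ * dg χ = 506 := by
      have := sg χ
      rcases m5' with rfl | rfl | rfl | rfl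
      · rcases this with k | k <;> rw [k] at ha <;> omega
      · rcases this with k | k <;> rw [k] at hb <;> omega
      exacts [.inl hc, .inr hd]
    rcases List.mem_append.1 m7 with k1 | k1
    · have := (H.mem _ (hL k1)).2.1
      omega
    · have k2 := H.md
      split_ifs at h0 with k3
      · rw [hE k1, show e7 = 6 from k3] at k2
        omega
      · have := degs_spec (by norm_num) D.ne0 (hG ▸ H) h0
        rw [hE k1] at this
        rcases k with k | k <;> simp [k] at this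
  have da : sn L5 s5 a = -1 ∧ dg a = 5544 := by rcases sg a with k | k <;> rw [k] at ha <;> omega
  have db : sn L5 s5 b = 1 ∧ dg b = 5796 := by rcases sg b with k | k <;> rw [k] at hb <;> omega
  have dc : sn L5 s5 c = -1 ∧ dg c = 2024 := by rcases sg c with k | k <;> rw [k] at hc <;> omega
  have dd : sn L5 s5 d = 1 ∧ dg d = 1771 := by rcases sg d with k | k <;> rw [k] at hd <;> omega
  obtain rfl : χ = c := by rcases m5' with rfl | rfl | rfl | rfl <;> first | rfl | omega
  have s7c : sn L7 s7 χ = 1 := by omega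
  have key : (∀ g, 7 ∣ orderOf g → χ.1 g = 1) ∧
      ((∃ ζ θ θ', S7 χ ζ θ θ') ∨ ∃ v ∈ [3, 24, 192], HB G 7 6 v) := by
    split_ifs at h0 with k3
    · obtain rfl : e7 = 6 := k3
      have := dc.2 ▸ D.dg_dvd m7
      refine ⟨fun g hg => by rw [D.sym_sing rfl m7 hg, s7c, Int.cast_one],
        .inr ⟨v7, List.contains_iff_mem.1 (or_res h0 (by simp; omega)), _, _, _, _, D⟩⟩
    have k := degs_spec (by norm_num) D.ne0 (hG ▸ H) h0
    simp only [Bool.and_eq_true, Bool.or_eq_true, Bool.not_eq_true', beq_iff_eq,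
      List.contains_iff_mem, ← Bool.not_eq_true] at k
    have k1 : χ ∈ L7 := (List.mem_append.1 m7).resolve_right fun k1 => k.1 (by simp [hE k1, hc])
    obtain ⟨⟨rfl, k4⟩, k5⟩ := k.2.resolve_left (not_not.2 (by simpa [hc] using hL k1))
    rw [sn, if_pos k1] at s7c
    obtain ⟨θ, θ', rfl⟩ := List.length_eq_two.1 D.len.2
    have k6 := regE1 D (θ := θ) (by simp)
    have k7 := regE1 D (θ := θ') (by simp)
    rw [k5] at k6 k7
    obtain ⟨ζ, c', rfl⟩ := List.length_eq_two.1 (show L7.length = 2 by have := D.len.1; omega)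
    simp only [MN.cl, List.map_cons, List.map_nil, List.cons.injEq, and_true, iv_one] at k5
    have dζ : s7 ζ = -1 ∧ dg ζ = 1035 := by rcases D.sg ζ with k | k <;> rw [k] at k5 <;> omega
    have dθ : s7 θ = 1 ∧ dg θ = 990 := by
      rcases D.sg θ with k | k <;> rw [k] at k6 <;> simp at k6 <;> omega
    have dθ' : dg θ' = 990 := by
      rcases D.sg θ' with k | k <;> rw [k] at k7 <;> simp at k7 <;> omega
    obtain rfl : χ = c' := by
      simp only [List.mem_cons, List.not_mem_nil, or_false] at k1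
      exact k1.resolve_left fun e => by rw [e] at dc; omega
    refine ⟨fun g hg => by rw [D.sing k1 hg, s7c, Int.cast_one], .inl ⟨ζ, θ, θ',
      ⟨_, _, _, _, k4, D, by simp [or_comm]⟩, dζ.2, dθ.2, dθ', fun g hg => ⟨?_, ?_⟩,
      fun g hg => ⟨?_, D.uni _ (by simp) _ (by simp) g hg⟩⟩⟩
    · simpa [dζ.1] using D.sing (χ := ζ) (by simp) hg
    · simpa [dθ.1] using D.singE (θ := θ) (by simp) hg
    · have := D.regE (θ := θ) (by simp) hg
      simp only [dθ.1, dζ.1, s7c, List.map_cons, List.map_nil, List.sum_cons, List.sum_nil] at this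
      push_cast at this
      linear_combination this
  have m : ∀ η ∈ [a, b, χ, d], ∀ g, 5 ∣ orderOf g → η.1 g = sn L5 s5 η := fun η h g hg =>
    C.sym_sing rfl (hp.mem_iff.1 h) hg
  refine ⟨a, b, χ, d, ⟨da.2, db.2, dc.2, dd.2, fun g hg => ?_, fun g hg => ?_, key.1⟩,
    ⟨v5, hv, _, _, _, _, C⟩, key.2⟩
  · rw [m a (by simp) g hg, m b (by simp) g hg, m χ (by simp) g hg, m d (by simp) g hg, da.1, db.1,
      dc.1, dd.1]
    simp
  · have := C.sym_reg rfl hg
    rw [← (hp.map _).sum_eq] at this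
    simp only [da.1, db.1, dc.1, dd.1, List.map_cons, List.map_nil, List.sum_cons,
      List.sum_nil] at this
    push_cast at this
    linear_combination this

end H18.M24
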