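import Cfsg.Agent.H23.NDSpec

/-! ND tower (S4780): `JobJ`, the choice of the fourth section. -/

set_option autoImplicit false

namespace H18.NDJ

open H23.ND Subgroup
open scoped commutatorElement

universe u

section pure

variable {H : Type u} [Group H]

theorem core [Finite H] {A : Subgroup H} {d : H} (hA : ∀ a ∈ A, d * a * d⁻¹ ∈ A)
    (hc : ∀ a ∈ A, ∀ b ∈ A, a * b = b * a) :
    (∀ a ∈ A, d * a * d⁻¹ * a⁻¹ = 1 → a = 1) ↔ ∀ a ∈ A, ∃ y ∈ A, d * y * d⁻¹ * y⁻¹ = a := by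
  let f : A →* A := MonoidHom.mk' (fun y => ⟨d * y * d⁻¹ * (y : H)⁻¹,
    mul_mem (hA _ y.2) (inv_mem y.2)⟩) fun x y => Subtype.ext (by
      have := hc _ (inv_mem x.2) _ (mul_mem (hA _ y.2) (inv_mem y.2))
      calc d * ((x : H) * y) * d⁻¹ * ((x : H) * y)⁻¹
          = d * x * d⁻¹ * (d * y * d⁻¹ * (y : H)⁻¹ * (x : H)⁻¹) := by group
        _ = d * x * d⁻¹ * (x : H)⁻¹ * (d * y * d⁻¹ * (y : H)⁻¹) := by rw [← this]; group)
  have k := Finite.injective_iff_surjective (f := f)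
  rw [injective_iff_map_eq_one] at k
  refine ⟨fun h a ha => ?_, fun h a ha e => ?_⟩
  · obtain ⟨y, hy⟩ := k.1 (fun x e => Subtype.ext (h x x.2 (congrArg Subtype.val e))) ⟨a, ha⟩
    exact ⟨y, y.2, congrArg Subtype.val hy⟩
  · exact congrArg Subtype.val (k.2 (fun x => by
      obtain ⟨y, hy, e⟩ := h x x.2
      exact ⟨⟨y, hy⟩, Subtype.ext e⟩) ⟨a, ha⟩ (Subtype.ext e))

theorem coreQ [Finite H] {A B : Subgroup H} [B.Normal] {d : H} (hA : ∀ a ∈ A, d * a * d⁻¹ ∈ A)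
    (hc : ⁅A, A⁆ ≤ B) : (∀ a ∈ A, d * a * d⁻¹ * a⁻¹ ∈ B → a ∈ B) ↔
      ∀ a ∈ A, ∃ y ∈ A, (d * y * d⁻¹ * y⁻¹)⁻¹ * a ∈ B := by
  have k := core (A := A.map (QuotientGroup.mk' B)) (d := QuotientGroup.mk' B d) (by
    rintro _ ⟨a, ha, rfl⟩
    exact ⟨_, hA a ha, by simp⟩) (by
    rintro _ ⟨a, ha, rfl⟩ _ ⟨b, hb, rfl⟩
    have := (QuotientGroup.eq_one_iff _).2 (hc (commutator_mem_commutator ha hb))
    exact commutatorElement_eq_one_iff_mul_comm.1 this)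
  refine ⟨fun h a ha => ?_, fun h a ha e => ?_⟩
  · obtain ⟨_, ⟨y, hy, rfl⟩, e⟩ := k.1 (by
      rintro _ ⟨x, hx, rfl⟩ e
      exact (QuotientGroup.eq_one_iff _).2 (h x hx ((QuotientGroup.eq_one_iff _).1 e))) _ ⟨a, ha, rfl⟩
    exact ⟨y, hy, QuotientGroup.eq.1 e⟩
  · refine (QuotientGroup.eq_one_iff _).1 (k.2 ?_ _ ⟨a, ha, rfl⟩ ((QuotientGroup.eq_one_iff _).2 e))
    rintro _ ⟨x, hx, rfl⟩
    obtain ⟨y, hy, e⟩ := h x hx
    exact ⟨_, ⟨y, hy, rfl⟩, QuotientGroup.eq.2 e⟩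

theorem l1 {D A Y : H} (h1 : Commute D A) (h2 : Commute D (A * Y * A⁻¹ * Y⁻¹))
    (h3 : Commute Y (A * Y * A⁻¹ * Y⁻¹)) : Commute A (D * Y * D⁻¹ * Y⁻¹) := by
  have k := (((h2.mul_left h3).mul_left h2.inv_left).mul_left h3.inv_left).eq
  have e : A * D = D * A := h1.eq.symm
  have e' : A * D⁻¹ = D⁻¹ * A := h1.inv_left.eq.symm
  have k1 : A * (D * Y * D⁻¹ * Y⁻¹) * A⁻¹ = D * (A * Y * A⁻¹) * D⁻¹ * (A * Y * A⁻¹)⁻¹ := by
    calc _ = (A * D) * Y * A⁻¹ * (A * D⁻¹) * Y⁻¹ * A⁻¹ := by group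
      _ = _ := by rw [e, e']; group
  have k2 : D * (A * Y * A⁻¹) * D⁻¹ * (A * Y * A⁻¹)⁻¹ =
      (A * Y * A⁻¹ * Y⁻¹) * (D * Y * D⁻¹ * Y⁻¹) * (A * Y * A⁻¹ * Y⁻¹)⁻¹ := by
    calc _ = (D * (A * Y * A⁻¹ * Y⁻¹)) * Y * D⁻¹ * (A * Y * A⁻¹)⁻¹ := by group
      _ = _ := by rw [h2.eq]; group
  rw [k2, ← k, mul_inv_cancel_right] at k1
  exact mul_inv_eq_iff_eq_mul.1 k1

theorem l2 {A F B : H} (h1 : Commute A F) (h2 : Commute F (A * B * A⁻¹ * B⁻¹)) :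
    A * (F * B) * A⁻¹ * (F * B)⁻¹ = A * B * A⁻¹ * B⁻¹ := by
  calc _ = (A * F) * B * A⁻¹ * B⁻¹ * F⁻¹ := by group
    _ = (F * (A * B * A⁻¹ * B⁻¹)) * F⁻¹ := by rw [h1.eq]; group
    _ = _ := by rw [h2.eq, mul_inv_cancel_right]

theorem l3 {A U B : H} (h : Commute U B) :
    A * U * B * (A * U)⁻¹ * B⁻¹ = A * B * A⁻¹ * B⁻¹ := by
  calc _ = A * (U * B) * U⁻¹ * A⁻¹ * B⁻¹ := by group
    _ = _ := by rw [h.eq]; group

theorem cm_of {J X Y : Subgroup H} [J.Normal] (h : ⁅X, Y⁆ ≤ J) {x y : H} (hx : x ∈ X) (hy : y ∈ Y) :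
    Commute (QuotientGroup.mk' J x) (QuotientGroup.mk' J y) :=
  commutatorElement_eq_one_iff_commute.1
    ((QuotientGroup.eq_one_iff _).2 (h (commutator_mem_commutator hx hy)))

theorem t3 {P X N : Subgroup H} [N.Normal] (h : ⁅⁅X, P⁆, P⁆ ≤ N) : ⁅⁅P, P⁆, X⁆ ≤ N :=
  H24.three_subgroups_le (by rwa [commutator_comm P X]) h

theorem bot_of [Finite H] {p : ℕ} (hp : p.Prime) {U J : Subgroup H} (hU : IsPGroup p U)
    (h1 : J ≤ U) (h2 : J ≤ ⁅J, U⁆) : J = ⊥ := by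
  have : Fact p.Prime := ⟨hp⟩
  obtain ⟨n, hn⟩ := (Subgroup.isNilpotent_iff_lowerCentralSeries U).1 hU.isNilpotent
  have : ∀ m, J ≤ U.lowerCentralSeries m := fun m => by
    induction m with
    | zero => exact h1
    | succ m ih => exact h2.trans (commutator_mono ih le_rfl)
  exact eq_bot_iff.2 (hn ▸ this n)

theorem l4 {D Y Z : H} (h : Commute Y⁻¹ (D * Z * D⁻¹ * Z⁻¹)) :
    D * (Y * Z) * D⁻¹ * (Y * Z)⁻¹ = D * Y * D⁻¹ * Y⁻¹ * (D * Z * D⁻¹ * Z⁻¹) := by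
  calc _ = D * Y * D⁻¹ * (D * Z * D⁻¹ * Z⁻¹ * Y⁻¹) := by group
    _ = _ := by rw [← h.eq]; group

/-- The image of `z ↦ [d, z]` on `A / B`. -/
def J0 (A B : Subgroup H) [hA : A.Normal] [B.Normal] (d : H) (hc : ⁅A, A⁆ ≤ B) : Subgroup H where
  carrier := {g | ∃ y ∈ A, QuotientGroup.mk' B (d * y * d⁻¹ * y⁻¹) = QuotientGroup.mk' B g}
  one_mem' := ⟨1, one_mem _, by simp⟩
  mul_mem' := fun {g k} ⟨y, hy, e⟩ ⟨z, hz, f⟩ => ⟨y * z, mul_mem hy hz, by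
    have c := cm_of hc (inv_mem hy) (mul_mem (hA.conj_mem z hz d) (inv_mem hz))
    rw [map_mul _ g, ← e, ← f]
    simp only [map_mul, map_inv] at c ⊢
    exact l4 c⟩
  inv_mem' := fun {g} ⟨y, hy, e⟩ => ⟨y⁻¹, inv_mem hy, by
    have c := (cm_of hc hy (inv_mem (hA.conj_mem y hy d))).eq
    rw [map_inv _ g, ← e]
    simp only [map_mul, map_inv] at c ⊢
    rw [mul_inv_rev (_ * _ * _), inv_inv, c]
    group⟩

theorem mem_J0 {A B : Subgroup H} [A.Normal] [B.Normal] {d g : H} {hc : ⁅A, A⁆ ≤ B} :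
    g ∈ J0 A B d hc ↔ ∃ y ∈ A, (d * y * d⁻¹ * y⁻¹)⁻¹ * g ∈ B :=
  exists_congr fun _ => and_congr_right fun _ => QuotientGroup.eq

end pure

theorem jobJ : JobJ.{u} := by
  intro G _ _ p P _ h pg gf hC hC0 hcl hne
  have l2P : L2 P ≤ P := commutator_le_left _ _
  have l32 : L3 P ≤ L2 P := commutator_le_left _ _
  have l43 : L4 P ≤ L3 P := commutator_le_left _ _
  have l4P : L4 P ≤ P := l43.trans (l32.trans l2P)
  have c22 : ⁅L2 P, L2 P⁆ ≤ L4 P := t3 le_rfl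
  have c23 : ⁅L2 P, L3 P⁆ ≤ L5 P := t3 le_rfl
  have c20 : ⁅L2 P, C0 P h⁆ ≤ L5 P := t3 (commutator_mono hC0 le_rfl)
  have c44 : ⁅L4 P, L4 P⁆ ≤ L5 P := commutator_mono le_rfl l4P
  obtain ⟨d, d1, d2, d3⟩ := gf.g1 (L2 P) (L3 P) l32 le_rfl le_rfl
  have n4 : ∀ a ∈ L4 P, d * a * d⁻¹ ∈ L4 P := fun a ha => Normal.conj_mem inferInstance a ha d
  by_cases hs : ∀ a ∈ L4 P, ∃ y ∈ L4 P, (d * y * d⁻¹ * y⁻¹)⁻¹ * a ∈ L5 P
  · refine ⟨L5 P, inferInstance, le_rfl, fun k => hne (bot_of pg.b.hp pg.pg l4P k), .inl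
      (commutator_le.2 fun a ha b hb => (coreQ n4 c44).2 hs _
        (c22 (commutator_mem_commutator ha hb)) ?_)⟩
    have u1 := d3 a ha
    have v1 := d3 b hb
    have k1 := cm_of c23 hb u1
    have k2 := cm_of c23 ha v1
    have k3 := cm_of c23 (l32 u1) v1
    have k4 := cm_of c23 (c22.trans (l43.trans l32) (commutator_mem_commutator ha hb)) u1
    have k5 := cm_of c23 (c22.trans (l43.trans l32) (commutator_mem_commutator ha hb)) v1
    refine (QuotientGroup.eq_one_iff _).1 ?_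
    change QuotientGroup.mk' (L5 P) _ = 1
    rw [show d * ⁅a, b⁆ * d⁻¹ * ⁅a, b⁆⁻¹ = (d * a * d⁻¹ * a⁻¹ * a) * (d * b * d⁻¹ * b⁻¹ * b) *
      (d * a * d⁻¹ * a⁻¹ * a)⁻¹ * (d * b * d⁻¹ * b⁻¹ * b)⁻¹ * ⁅a, b⁆⁻¹ by
        simp only [commutatorElement_def]; group]
    generalize d * a * d⁻¹ * a⁻¹ = u at *
    generalize d * b * d⁻¹ * b⁻¹ = v at *
    simp only [commutatorElement_def, map_mul, map_inv] at k4 k5 ⊢
    generalize QuotientGroup.mk' (L5 P) a = A at *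
    generalize QuotientGroup.mk' (L5 P) b = B at *
    generalize QuotientGroup.mk' (L5 P) u = U at *
    generalize QuotientGroup.mk' (L5 P) v = V at *
    have e1 : U * A * B * (U * A)⁻¹ * B⁻¹ = A * B * A⁻¹ * B⁻¹ := by
      calc _ = U * A * B * A⁻¹ * (U⁻¹ * B⁻¹) := by group
        _ = U * (A * B * A⁻¹ * B⁻¹) * U⁻¹ := by rw [← k1.inv_inv.eq]; group
        _ = _ := by rw [← k4.eq, mul_inv_cancel_right]
    rw [l2 (k3.mul_left k2) (by rw [e1]; exact k5.symm), e1, mul_inv_cancel]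
  · let J := J0 (L4 P) (L5 P) d c44
    have j5 : L5 P ≤ J := fun g hg => mem_J0.2 ⟨1, one_mem _, by simpa using hg⟩
    have j4 : J ≤ L4 P := fun g hg => by
      obtain ⟨y, hy, e⟩ := mem_J0.1 hg
      exact (mul_mem_cancel_left (inv_mem (mul_mem (n4 y hy) (inv_mem hy)))).1
        (commutator_le_left _ _ e)
    have jn : J.Normal := ⟨fun w hw g => by
      obtain ⟨x, hx, k, hk, rfl⟩ := dec_gen pg.b.gen g
      have ck : Commute k d := by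
        obtain ⟨i, rfl⟩ := hk
        obtain ⟨j, rfl⟩ := d1
        exact Commute.zpow_zpow_self h i j
      have k1 : k * w * k⁻¹ ∈ J := by
        obtain ⟨y, hy, e⟩ := mem_J0.1 hw
        refine mem_J0.2 ⟨k * y * k⁻¹, Normal.conj_mem inferInstance y hy k, ?_⟩
        convert Normal.conj_mem inferInstance _ e k using 1
        calc _ = k * y * (k⁻¹ * d) * k * y⁻¹ * (k⁻¹ * d⁻¹) * k * w * k⁻¹ := by group
          _ = _ := by rw [ck.inv_left.eq, ck.inv_inv.eq]; group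
      have k2 := j5 (commutator_mem_commutator (j4 k1) hx)
      convert mul_mem (inv_mem k2) k1 using 1
      simp only [commutatorElement_def]
      group⟩
    refine ⟨J, jn, j5, fun k => hs fun a ha => mem_J0.1 (k ha), .inr fun a ha a3 z hz => ?_⟩
    obtain ⟨b0, b1, b2⟩ := gf.lift d d1 (L3 P) (l32.trans l2P) a (l2P ha) (d3 a ha)
    have a1 : a * b0 ∈ L2 P := mul_mem ha (l32 b1)
    have a2 : a * b0 ∉ L3 P := fun k => a3 ((mul_mem_cancel_right b1).1 k)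
    have kb : ∀ b ∈ L2 P, QuotientGroup.mk' J (a * b0 * b * (a * b0)⁻¹ * b⁻¹) =
        QuotientGroup.mk' J (a * b * a⁻¹ * b⁻¹) := fun b hb => by
      simp only [map_mul, map_inv]
      exact l3 (cm_of (c23.trans j5) hb b1).symm
    generalize a * b0 = a' at a1 a2 b2 kb
    let Y : Subgroup G := P ⊓ (centralizer {QuotientGroup.mk' (L4 P) a'}).comap
      (QuotientGroup.mk' (L4 P))
    have mY : ∀ y, y ∈ Y ↔ y ∈ P ∧ a' * y * a'⁻¹ * y⁻¹ ∈ L4 P := fun y => mem_inf.trans <|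
      and_congr_right fun _ => by
      rw [mem_comap, mem_centralizer_singleton_iff, eq_comm,
        ← commutatorElement_eq_one_iff_mul_comm]
      exact QuotientGroup.eq_one_iff (a' * y * a'⁻¹ * y⁻¹)
    have nY : ∀ y ∈ Y, d * y * d⁻¹ ∈ Y := fun y hy => (mY _).2
      ⟨Normal.conj_mem inferInstance _ ((mY y).1 hy).1 d, by
        convert n4 _ ((mY y).1 hy).2 using 1
        have e : a' * d = d * a' := b2.symm
        have e' : d⁻¹ * a'⁻¹ = a'⁻¹ * d⁻¹ := by rw [← mul_inv_rev, e, mul_inv_rev]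
        calc _ = (a' * d) * y * (d⁻¹ * a'⁻¹) * d * y⁻¹ * d⁻¹ := by group
          _ = _ := by rw [e, e']; group⟩
    have cC : L2 P ≤ CC P := gf.g0 ▸ le_sup_right
    obtain ⟨y, hy, e⟩ := hcl a' a1 a2 _ (Normal.conj_mem' inferInstance _ (inv_mem hz) a')
    have e1 : a' * y * a'⁻¹ * y⁻¹ = z := by
      calc _ = a' * (y * a' * y⁻¹)⁻¹ := by group
        _ = _ := by rw [e]; group
    obtain ⟨y', y1, y2⟩ := (coreQ nY ((commutator_mono inf_le_left inf_le_left).trans cC)).1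
      (fun x hx => gf.fc d d1 d2 x hx.1) y ((mY y).2 ⟨hy, e1 ▸ hz⟩)
    rw [gf.g0] at y2
    obtain ⟨c, hc, b, hb, e2⟩ := mem_sup_of_normal_right.1 y2
    refine ⟨b, hb, QuotientGroup.eq.1 ((kb b hb).symm.trans ?_)⟩
    have e3 : y = d * y' * d⁻¹ * y'⁻¹ * c * b := by rw [mul_assoc _ c, e2]; group
    have cen : ∀ w ∈ L4 P, ∀ x ∈ P, Commute (QuotientGroup.mk' J x) (QuotientGroup.mk' J w) :=
      fun w hw x hx => (cm_of j5 hw hx).symm
    obtain ⟨y3, y4⟩ := (mY y').1 y1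
    have k1 : Commute (QuotientGroup.mk' J d) (QuotientGroup.mk' J (a' * y' * a'⁻¹ * y'⁻¹)) :=
      commutatorElement_eq_one_iff_commute.1 ((QuotientGroup.eq_one_iff _).2
        (mem_J0.2 ⟨_, y4, by rw [inv_mul_cancel]; exact one_mem _⟩ : d * _ * d⁻¹ * _⁻¹ ∈ J))
    have k2 := cen _ y4 _ y3
    have k3 := cm_of (c20.trans j5) a1 hc
    have k4 := cen _ (c22 (commutator_mem_commutator a1 hb)) _
      (mul_mem (mul_mem (Normal.conj_mem inferInstance _ y3 d) (inv_mem y3)) hc.1)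
    have k5 : Commute (QuotientGroup.mk' J d) (QuotientGroup.mk' J a') := Commute.map b2 _
    change _ = QuotientGroup.mk' J z
    rw [← e1, e3]
    simp only [commutatorElement_def, map_mul, map_inv] at k1 k2 k4 ⊢
    exact (l2 ((l1 k5 k1 k2).mul_right k3) k4).symm

end H18.NDJ
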