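import Cfsg.Agent.S3993
import Cfsg.Agent.S4249
import Cfsg.Agent.S0205
import Cfsg.Agent.H1.Cocycle
import Cfsg.Agent.H4.NilpCoprime

/-! Numbers of elements of given order taking three values (row S4004). -/

namespace H18.OC
open Finset Subgroup
open scoped Pointwise
universe u
variable {G : Type u} [Group G] [Finite G]

/-- The number of elements of order `m`. -/
noncomputable def s (G : Type u) [Group G] (m : ℕ) : ℕ := Nat.card {g : G // orderOf g = m}

theorem s_eq [Fintype G] (m : ℕ) : s G m = #{x : G | orderOf x = m} := by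
  classical
  rw [s, Nat.card_eq_fintype_card, Fintype.card_subtype]

theorem sum_s {n : ℕ} (hn : n ≠ 0) : ∑ m ∈ n.divisors, s G m = Nat.card {g : G // g ^ n = 1} := by
  classical
  have := Fintype.ofFinite G
  simp only [s_eq]
  rw [sum_card_orderOf_eq_card_pow_eq_one hn, Nat.card_eq_fintype_card, Fintype.card_subtype]

theorem s_one : s G 1 = 1 := by
  have := sum_s (G := G) (n := 1) one_ne_zero
  simpa using this

theorem s_ne_zero_iff {m : ℕ} : s G m ≠ 0 ↔ ∃ g : G, orderOf g = m := by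
  rw [s, Nat.card_ne_zero, nonempty_subtype]
  exact and_iff_left inferInstance

theorem s_prime_ne {p : ℕ} (hp : p.Prime) (h : p ∣ Nat.card G) : s G p ≠ 0 := by
  have := Fact.mk hp
  exact s_ne_zero_iff.2 (exists_prime_orderOf_dvd_card' p h)

theorem totient_dvd (m : ℕ) : m.totient ∣ s G m := by
  classical
  have := Fintype.ofFinite G
  rw [s_eq, card_eq_sum_card_image (fun g => zpowers g)]
  refine dvd_sum fun Z hZ => ?_
  obtain ⟨g, hg, rfl⟩ := mem_image.1 hZ
  have hg' : orderOf g = m := by simpa using hg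
  have h1 := IsCyclic.card_orderOf_eq_totient (α := zpowers g) (d := m)
    (by rw [Fintype.card_zpowers, hg'])
  rw [← h1]
  apply dvd_of_eq
  refine card_bij (fun x _ => (x : G)) ?_ (fun a _ b _ h => Subtype.ext h) ?_
  · intro x hx
    have hx' : orderOf (x : G) = m := by simpa using hx
    simp only [mem_filter, mem_univ, true_and]
    refine ⟨hx', eq_of_le_of_card_ge (zpowers_le_of_mem x.2) ?_⟩
    rw [Nat.card_zpowers, Nat.card_zpowers, hx', hg']
  · intro y hy
    simp only [mem_filter, mem_univ, true_and] at hy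
    exact ⟨⟨y, hy.2 ▸ mem_zpowers y⟩, by simpa using hy.1, rfl⟩

theorem dvd_of_sq {p m : ℕ} (hp : p.Prime) (h : p * p ∣ m) : p ∣ s G m := by
  refine dvd_trans ?_ (totient_dvd m)
  refine dvd_trans ?_ (Nat.totient_dvd_of_dvd h)
  rw [Nat.totient_mul_of_prime_of_dvd hp dvd_rfl]
  exact dvd_mul_right _ _

theorem key {p : ℕ} (hp : p.Prime) (d : ℕ) (hd : ¬ p ∣ d) (h : p * d ∣ Nat.card G) :
    p ∣ s G d + s G (p * d) := by
  induction d using Nat.strong_induction_on with
  | _ d ih =>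
  have hd0 : d ≠ 0 := by rintro rfl; exact hd (dvd_zero p)
  have h1 := Cfsg.Agent.S3993.result (G := G) _ h
  rw [← sum_s (mul_ne_zero hp.ne_zero hd0)] at h1
  have h2 : (p * d).divisors = d.divisors ∪ d.divisors.image (p * ·) := by
    ext e
    simp only [Nat.mem_divisors, mem_union, mem_image]
    constructor
    · rintro ⟨he, -⟩
      by_cases hpe : p ∣ e
      · obtain ⟨k, rfl⟩ := hpe
        exact Or.inr ⟨k, ⟨Nat.dvd_of_mul_dvd_mul_left hp.pos he, hd0⟩, rfl⟩
      · exact Or.inl ⟨((hp.coprime_iff_not_dvd.2 hpe).symm).dvd_of_dvd_mul_left he, hd0⟩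
    · rintro (⟨he, -⟩ | ⟨k, ⟨hk, -⟩, rfl⟩)
      · exact ⟨he.mul_left _, mul_ne_zero hp.ne_zero hd0⟩
      · exact ⟨Nat.mul_dvd_mul_left _ hk, mul_ne_zero hp.ne_zero hd0⟩
  rw [h2, sum_union, sum_image (fun a _ b _ hab => Nat.eq_of_mul_eq_mul_left hp.pos hab),
    ← sum_add_distrib, ← Nat.insert_self_properDivisors hd0, sum_insert Nat.self_notMem_properDivisors] at h1
  · have h3 : p ∣ ∑ e ∈ d.properDivisors, (s G e + s G (p * e)) := by
      refine dvd_sum fun e he => ?_
      rw [Nat.mem_properDivisors] at he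
      exact ih e he.2 (fun h' => hd (h'.trans he.1)) ((Nat.mul_dvd_mul_left _ he.1).trans h)
    exact (Nat.dvd_add_left h3).1 ((dvd_mul_right p d).trans h1)
  · rw [disjoint_left]
    intro e he he'
    obtain ⟨k, -, rfl⟩ := mem_image.1 he'
    exact hd ((dvd_mul_right p k).trans (Nat.mem_divisors.1 he).1)

theorem key1 {p : ℕ} (hp : p.Prime) (h : p ∣ Nat.card G) : p ∣ 1 + s G p := by
  have := key (G := G) hp 1 hp.not_dvd_one (by simpa using h)
  rwa [s_one, mul_one] at this

/-- The hypothesis: two values. -/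
def Two (G : Type u) [Group G] (u v : ℕ) : Prop := ∀ m, 1 < m → s G m = 0 ∨ s G m = u ∨ s G m = v

theorem Two.symm {u v : ℕ} (h : Two G u v) : Two G v u := fun m hm => by
  rcases h m hm with h | h | h <;> simp [h]

theorem not_dvd_two (hodd : Odd (Nat.card G)) {p : ℕ} (hp : p.Prime) (h : p ∣ Nat.card G) :
    ¬ p ∣ 2 := fun h2 => by
  have := (Nat.prime_dvd_prime_iff_eq hp Nat.prime_two).1 h2
  subst this
  exact (Nat.not_even_iff_odd.2 hodd) (even_iff_two_dvd.2 h)

theorem mul_dvd {p q : ℕ} (hp : p.Prime) (hq : q.Prime) (hne : p ≠ q) (h1 : p ∣ Nat.card G)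
    (h2 : q ∣ Nat.card G) : p * q ∣ Nat.card G :=
  ((Nat.coprime_primes hp hq).2 hne).mul_dvd_of_dvd_of_dvd h1 h2

theorem stepA (hodd : Odd (Nat.card G)) {u v p q : ℕ} (h : Two G u v) (hp : p.Prime) (hq : q.Prime)
    (hne : p ≠ q) (h1 : p ∣ Nat.card G) (h2 : q ∣ Nat.card G) (e1 : s G p = u) (e2 : s G q = u) :
    s G (p * q) = v ∧ p ∣ 1 + u ∧ p ∣ u + v ∧ p ^ (Nat.card G).factorization p ∣ 1 + u := by
  have k1 := key1 hp h1
  have k2 := key (G := G) hp q (fun h => hne ((Nat.prime_dvd_prime_iff_eq hp hq).1 h))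
    (mul_dvd hp hq hne h1 h2)
  have h2' := not_dvd_two hodd hp h1
  rw [e1] at k1
  rw [e2] at k2
  have hpu : ¬ p ∣ u := fun h => hp.not_dvd_one ((Nat.dvd_add_left h).1 k1)
  have h3 : s G (p * q) = v := by
    rcases h (p * q) (by nlinarith [hp.two_le, hq.two_le]) with h | h | h
    · rw [h] at k2; exact absurd k2 hpu
    · rw [h, ← two_mul] at k2
      exact ((hp.dvd_mul.1 k2).elim h2' hpu).elim
    · exact h
  rw [h3] at k2
  refine ⟨h3, k1, k2, ?_⟩
  have hpv : ¬ p ∣ v := fun h => hpu ((Nat.dvd_add_left h).1 k2)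
  have h4 := Cfsg.Agent.S3993.result (G := G) _ (Nat.ordProj_dvd (Nat.card G) p)
  have ha : 0 < (Nat.card G).factorization p := hp.factorization_pos_of_dvd Nat.card_pos.ne' h1
  obtain ⟨a, ha'⟩ : ∃ a, (Nat.card G).factorization p = a + 1 := ⟨_, (Nat.succ_pred_eq_of_pos ha).symm⟩
  rw [← sum_s (pow_ne_zero _ hp.ne_zero), Nat.sum_divisors_prime_pow hp, ha', sum_range_succ',
    sum_range_succ', pow_zero, s_one, zero_add, pow_one, e1, sum_eq_zero] at h4
  · rw [ha']; simpa [add_comm] using h4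
  · intro i _
    have h5 : p ∣ s G (p ^ (i + 1 + 1)) := dvd_of_sq hp ⟨p ^ i, by ring⟩
    rcases h (p ^ (i + 1 + 1)) (Nat.one_lt_pow (by omega) hp.one_lt) with h | h | h
    · exact h
    · exact absurd (h ▸ h5) hpu
    · exact absurd (h ▸ h5) hpv

theorem lemA (hodd : Odd (Nat.card G)) {u v p q : ℕ} (h : Two G u v) (hp : p.Prime) (hq : q.Prime)
    (hne : p ≠ q) (h1 : p ∣ Nat.card G) (h2 : q ∣ Nat.card G) (e1 : s G p = u) (e2 : s G q = u) :
    False := by
  classical
  obtain ⟨a1, a2, a3, -⟩ := stepA hodd h hp hq hne h1 h2 e1 e2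
  have h2' := not_dvd_two hodd hp h1
  have hpu : ¬ p ∣ u := fun h => hp.not_dvd_one ((Nat.dvd_add_left h).1 a2)
  have hpv : ¬ p ∣ v := fun h => hpu ((Nat.dvd_add_left h).1 a3)
  have all : ∀ r, r.Prime → r ∣ Nat.card G → s G r = u := by
    intro r hr hrG
    rcases h r hr.one_lt with e | e | e
    · exact absurd e (s_prime_ne hr hrG)
    · exact e
    by_cases huv : u = v
    · rw [e, huv]
    exfalso
    have hrp : r ≠ p := by rintro rfl; exact huv (e1.symm.trans e)
    have hrq : r ≠ q := by rintro rfl; exact huv (e2.symm.trans e)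
    have hr2 := not_dvd_two hodd hr hrG
    have k1 := key (G := G) hp r (fun h => hrp ((Nat.prime_dvd_prime_iff_eq hp hr).1 h).symm)
      (mul_dvd hp hr hrp.symm h1 hrG)
    rw [e] at k1
    have e3 : s G (p * r) = u := by
      rcases h (p * r) (by nlinarith [hp.two_le, hr.two_le]) with h | h | h
      · rw [h] at k1; exact absurd k1 hpv
      · exact h
      · rw [h, ← two_mul] at k1
        exact ((hp.dvd_mul.1 k1).elim h2' hpv).elim
    have k2 := key (G := G) hr p (fun h => hrp ((Nat.prime_dvd_prime_iff_eq hr hp).1 h))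
      (mul_dvd hr hp hrp hrG h1)
    rw [mul_comm, e3, e1, ← two_mul] at k2
    have hru : r ∣ u := (hr.dvd_mul.1 k2).resolve_left hr2
    have k3 := key1 hr hrG
    rw [e] at k3
    have hrv : ¬ r ∣ v := fun h => hr.not_dvd_one ((Nat.dvd_add_left h).1 k3)
    have hrpq : ¬ r ∣ p * q := fun h => (hr.dvd_mul.1 h).elim
      (fun h => hrp ((Nat.prime_dvd_prime_iff_eq hr hp).1 h))
      (fun h => hrq ((Nat.prime_dvd_prime_iff_eq hr hq).1 h))
    have k4 := key (G := G) hr (p * q) hrpq
      ((hr.coprime_iff_not_dvd.2 hrpq).mul_dvd_of_dvd_of_dvd hrG (mul_dvd hp hq hne h1 h2))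
    rw [a1] at k4
    rcases h (r * (p * q)) (by have := Nat.mul_pos hp.pos hq.pos; nlinarith [hr.two_le]) with h | h | h
    · rw [h] at k4; exact hrv k4
    · rw [h] at k4; exact hrv ((Nat.dvd_add_left hru).1 k4)
    · rw [h, ← two_mul] at k4
      exact (hr.dvd_mul.1 k4).elim hr2 hrv
  have hdvd : Nat.card G ∣ 1 + u := by
    rw [← Nat.factorization_prime_le_iff_dvd Nat.card_pos.ne' (by omega)]
    intro r hr
    by_cases hrG : r ∣ Nat.card G
    · rw [← hr.pow_dvd_iff_le_factorization (by omega)]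
      by_cases hrp : r = p
      · subst hrp
        exact (stepA hodd h hr hq hne hrG h2 e1 e2).2.2.2
      · exact (stepA hodd h hr hp hrp hrG h1 (all r hr hrG) e1).2.2.2
    · rw [Nat.factorization_eq_zero_of_not_dvd hrG]; exact Nat.zero_le _
  have hsum := sum_s (G := G) (n := Nat.card G) Nat.card_pos.ne'
  have hle : ∑ m ∈ ({1, p, q} : Finset ℕ), s G m ≤ ∑ m ∈ (Nat.card G).divisors, s G m := by
    apply sum_le_sum_of_subset
    intro m hm
    simp only [mem_insert, mem_singleton] at hm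
    rw [Nat.mem_divisors]
    refine ⟨?_, Nat.card_pos.ne'⟩
    rcases hm with rfl | rfl | rfl
    · exact one_dvd _
    · exact h1
    · exact h2
  rw [sum_insert (by simp [hp.ne_one.symm, hq.ne_one.symm]), sum_pair hne, s_one, e1, e2, hsum] at hle
  have h5 : Nat.card {g : G // g ^ Nat.card G = 1} ≤ Nat.card G :=
    Nat.card_le_card_of_injective _ Subtype.val_injective
  have h6 := Nat.le_of_dvd (by omega) hdvd
  have h7 : u ≠ 0 := e1 ▸ s_prime_ne hp h1
  omega

theorem lemB (hodd : Odd (Nat.card G)) {p q : ℕ} (hp : p.Prime) (hq : q.Prime)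
    (hne : p ≠ q) (h1 : p ∣ Nat.card G) (h2 : q ∣ Nat.card G) : s G (p * q) ≠ s G p := by
  classical
  intro e
  have := Fact.mk hp
  have := Fintype.ofFinite G
  have k1 := key1 hp h1
  have hpq : ¬ p ∣ q := fun h => hne ((Nat.prime_dvd_prime_iff_eq hp hq).1 h)
  have k2 := key (G := G) hp q hpq (mul_dvd hp hq hne h1 h2)
  rw [e] at k2
  have hv : ¬ p ∣ s G q := fun h =>
    hp.not_dvd_one ((Nat.dvd_add_left ((Nat.dvd_add_right h).1 k2)).1 k1)
  have hq2 : 2 < q := lt_of_le_of_ne hq.two_le fun h => not_dvd_two hodd hq h2 (h ▸ dvd_rfl)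
  have hcop : q.Coprime p := (Nat.coprime_primes hq hp).2 hne.symm
  have fix : ∀ x : G, orderOf x = p → ∃ y : G, orderOf y = q ∧ Commute x y := by
    intro x hx
    let σ : Equiv.Perm {g : G // orderOf g = q} :=
      Equiv.Perm.subtypePerm (MulAut.conj x).toEquiv (fun g => by
        change orderOf (MulAut.conj x g) = q ↔ _
        rw [MulEquiv.orderOf_eq])
    have hσ : ∀ n : ℕ, ∀ g, ((σ ^ n) g).1 = x ^ n * g * (x ^ n)⁻¹ := by
      intro n
      induction n with
      | zero => intro g; simp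
      | succ n ih =>
        intro g
        rw [pow_succ', Equiv.Perm.mul_apply]
        change x * ((σ ^ n) g).1 * x⁻¹ = _
        rw [ih]; group
    obtain ⟨y, hy⟩ := Equiv.Perm.exists_fixed_point_of_prime (p := p) (n := 1) (σ := σ)
      (by rw [← Nat.card_eq_fintype_card]; exact hv) (by
        ext g
        rw [pow_one, hσ, ← hx, pow_orderOf_eq_one]; simp)
    refine ⟨y, y.2, ?_⟩
    have := congrArg Subtype.val hy
    change x * y * x⁻¹ = y at this
    rw [mul_inv_eq_iff_eq_mul] at this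
    exact this
  let f : {g : G // orderOf g = p * q} → {g : G // orderOf g = p} := fun g =>
    ⟨g.1 ^ q, by rw [orderOf_pow_of_dvd hq.ne_zero (by rw [g.2]; exact dvd_mul_left _ _), g.2,
      Nat.mul_div_cancel _ hq.pos]⟩
  have hord : ∀ x y : G, orderOf x = p → orderOf y = q → Commute x y → orderOf (x * y) = p * q := by
    intro x y hx hy hc
    rw [hc.orderOf_mul_eq_mul_orderOf_of_coprime (by rw [hx, hy]; exact hcop.symm), hx, hy]
  have hlt : Fintype.card {g : G // orderOf g = p} < Fintype.card {g : G // orderOf g = p * q} := by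
    apply Fintype.card_lt_of_surjective_not_injective f
    · rintro ⟨x, hx⟩
      obtain ⟨k, hk⟩ := exists_pow_eq_self_of_coprime (x := x) (n := q) (by rw [hx]; exact hcop)
      have hx' : orderOf (x ^ k) = p := by
        have h3 : orderOf (x ^ k) ∣ p := hx ▸ orderOf_pow_dvd k
        rcases (Nat.dvd_prime hp).1 h3 with h | h
        · rw [orderOf_eq_one_iff] at h
          rw [← pow_mul, mul_comm, pow_mul, h, one_pow] at hk
          rw [← hk, orderOf_one] at hx
          exact absurd hx hp.ne_one.symm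
        · exact h
      obtain ⟨y, hy, hc⟩ := fix _ hx'
      refine ⟨⟨x ^ k * y, hord _ _ hx' hy hc⟩, Subtype.ext ?_⟩
      change (x ^ k * y) ^ q = x
      rw [hc.mul_pow, ← hy, pow_orderOf_eq_one, mul_one, hy, ← pow_mul, mul_comm, pow_mul, hk]
    · intro hinj
      obtain ⟨x, hx⟩ := exists_prime_orderOf_dvd_card' (G := G) p h1
      obtain ⟨y, hy, hc⟩ := fix _ hx
      have hy2 : orderOf (y⁻¹) = q := by rw [orderOf_inv, hy]
      have := hinj (a₁ := ⟨x * y, hord _ _ hx hy hc⟩) (a₂ := ⟨x * y⁻¹, hord _ _ hx hy2 hc.inv_right⟩)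
        (Subtype.ext (by
          change (x * y) ^ q = (x * y⁻¹) ^ q
          rw [hc.mul_pow, hc.inv_right.mul_pow, inv_pow, ← hy, pow_orderOf_eq_one, inv_one]))
      have h3 : y = y⁻¹ := mul_left_cancel (congrArg Subtype.val this)
      have h4 : y ^ 2 = 1 := by rw [sq]; nth_rewrite 1 [h3]; exact inv_mul_cancel y
      have := Nat.le_of_dvd two_pos (hy ▸ orderOf_dvd_of_pow_eq_one h4)
      omega
  rw [← Nat.card_eq_fintype_card, ← Nat.card_eq_fintype_card] at hlt
  exact absurd e hlt.ne'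

theorem s_eq_zero_of_dvd {m n : ℕ} (h : s G m = 0) (hmn : m ∣ n) : s G n = 0 := by
  by_contra hn
  obtain ⟨g, hg⟩ := s_ne_zero_iff.1 hn
  exact s_ne_zero_iff.2 ⟨g ^ (orderOf g / m),
    orderOf_pow_orderOf_div (orderOf_pos g).ne' (hg ▸ hmn)⟩ h

theorem lemC {p q : ℕ} (hp : p.Prime) (hq : q.Prime) (hne : p ≠ q) (h1 : p ∣ Nat.card G)
    (h2 : q ∣ Nat.card G) (h : Two G (s G p) (s G q)) (h0 : s G (p * q) = 0) : s G (p * p) = 0 := by
  by_contra hn
  obtain ⟨g, hg⟩ := s_ne_zero_iff.1 hn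
  have hqp : ¬ q ∣ p * p := fun h => hne ((Nat.prime_dvd_prime_iff_eq hq hp).1
    ((hq.dvd_mul.1 h).elim id id)).symm
  have k := key (G := G) hq (p * p) hqp
    ((hq.coprime_iff_not_dvd.2 hqp).mul_dvd_of_dvd_of_dvd h2 (hg ▸ orderOf_dvd_natCard g))
  rw [s_eq_zero_of_dvd (n := q * (p * p)) h0 ⟨p, by ring⟩, add_zero] at k
  have k' : p ∣ s G (p * p) := dvd_of_sq hp dvd_rfl
  rcases h (p * p) (by nlinarith [hp.two_le]) with e | e | e
  · exact hn e
  · exact hp.not_dvd_one ((Nat.dvd_add_left (e ▸ k')).1 (key1 hp h1))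
  · exact hq.not_dvd_one ((Nat.dvd_add_left (e ▸ k)).1 (key1 hq h2))

theorem frob {p q : ℕ} (hp : p.Prime) (hq : q.Prime) (hne : p ≠ q) (h1 : p ∣ Nat.card G)
    (h2 : q ∣ Nat.card G) (ho : ∀ g : G, orderOf g = 1 ∨ orderOf g = p ∨ orderOf g = q)
    {M : Subgroup G} [M.Normal] (hM : M.index = p) :
    ∃ C : Subgroup G, Cfsg.IsFrobeniusComplement C ∧ (Nat.card C).Prime := by
  have := Fact.mk hp
  have := Fact.mk hq
  have hcop : p.Coprime q := (Nat.coprime_primes hp hq).2 hne
  have nc : ∀ x y : G, orderOf x = p → orderOf y = q → ¬ Commute x y := by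
    intro x y hx hy hc
    have := hc.orderOf_mul_eq_mul_orderOf_of_coprime (by rw [hx, hy]; exact hcop)
    rw [hx, hy] at this
    rcases ho (x * y) with h | h | h <;> rw [this] at h <;> nlinarith [hp.two_le, hq.two_le]
  have hq' : ∀ g : G, g ^ p ≠ 1 → orderOf g = q := fun g hg => by
    rcases ho g with h | h | h
    · rw [orderOf_eq_one_iff.1 h, one_pow] at hg; exact absurd rfl hg
    · rw [← h, pow_orderOf_eq_one] at hg; exact absurd rfl hg
    · exact h
  obtain ⟨y, hy⟩ := exists_prime_orderOf_dvd_card' (G := G) q h2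
  have hyp : y ^ p ≠ 1 := fun h => hne ((Nat.prime_dvd_prime_iff_eq hq hp).1
    (hy ▸ orderOf_dvd_of_pow_eq_one h)).symm
  have hle : closure {g : G | g ^ p ≠ 1} ≤ M := by
    rw [closure_le]
    intro g hg
    have h3 : g ^ p ∈ M := hM ▸ M.pow_index_mem g
    obtain ⟨k, hk⟩ := exists_pow_eq_self_of_coprime (x := g) (n := p) (by rw [hq' g hg]; exact hcop)
    rw [← hk]; exact M.pow_mem h3 k
  obtain ⟨hnil, hidx⟩ := Cfsg.Agent.S4249.result (G := G) p hp (fun hP => by
      obtain ⟨k, hk⟩ := hP y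
      exact hne ((Nat.prime_dvd_prime_iff_eq hq hp).1
        (hq.dvd_of_dvd_pow (hy ▸ orderOf_dvd_of_pow_eq_one hk))).symm)
    (fun h => by
      rw [h, top_le_iff] at hle
      rw [hle, index_top] at hM
      exact hp.ne_one hM.symm)
  set H := closure {g : G | g ^ p ≠ 1} with hH
  have hyH : y ∈ H := subset_closure hyp
  have hHp : ∀ x ∈ H, orderOf x ≠ p := by
    intro x hx hxp
    exact nc x y hxp hy (H4.commute_of_nilpotent hx hyH (by rw [hxp, hy]; exact hcop))
  have hHn : H.Normal := by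
    have : H = M := by
      refine eq_of_le_of_card_ge hle (le_of_eq ?_)
      have e1 := H.card_mul_index
      have e2 := M.card_mul_index
      rw [hidx] at e1; rw [hM, ← e1] at e2
      exact Nat.eq_of_mul_eq_mul_right hp.pos e2
    rw [this]; infer_instance
  obtain ⟨x, hx⟩ := exists_prime_orderOf_dvd_card' (G := G) p h1
  have hc : Nat.card (zpowers x) = p := by rw [Nat.card_zpowers, hx]
  have hinf : ∀ z ∈ H, z ∈ zpowers x → z = 1 := by
    intro z hz hz'
    rcases (Nat.dvd_prime hp).1 (hx ▸ orderOf_dvd_of_mem_zpowers hz') with h | h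
    · exact orderOf_eq_one_iff.1 h
    · exact absurd h (hHp z hz)
  have hsup : H ⊔ zpowers x = ⊤ := by
    have h3 : (H ⊔ zpowers x).index ∣ p := hidx ▸ index_dvd_of_le le_sup_left
    rcases (Nat.dvd_prime hp).1 h3 with h | h
    · exact index_eq_one.1 h
    · exfalso
      have : H = H ⊔ zpowers x := by
        refine eq_of_le_of_card_ge le_sup_left (le_of_eq ?_)
        have e1 := H.card_mul_index
        have e2 := (H ⊔ zpowers x).card_mul_index
        rw [hidx] at e1; rw [h, ← e1] at e2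
        exact Nat.eq_of_mul_eq_mul_right hp.pos e2
      exact hHp x (this ▸ mem_sup_right (mem_zpowers x)) hx
  refine ⟨zpowers x, ⟨?_, ?_, ?_⟩, hc ▸ hp⟩
  · rw [Ne, zpowers_eq_bot]
    rintro rfl
    rw [orderOf_one] at hx; exact hp.ne_one hx.symm
  · intro h
    have : y = 1 := hinf y hyH (h ▸ mem_top y)
    rw [this, one_pow] at hyp; exact hyp rfl
  · intro g hg
    by_contra hne'
    have := Fact.mk (hc ▸ hp : (Nat.card (zpowers x)).Prime)
    have h3 : zpowers x ≤ MulAut.conj g • zpowers x := by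
      rcases (zpowers x ⊓ MulAut.conj g • zpowers x).subgroupOf (zpowers x) |>.eq_bot_or_eq_top_of_prime_card with h | h
      · rw [subgroupOf_eq_bot] at h
        exact absurd (h.eq_bot_of_le inf_le_left) hne'
      · rw [subgroupOf_eq_top] at h
        exact h.trans inf_le_right
    have h4 : g⁻¹ * x * g ∈ zpowers x := by
      have := h3 (mem_zpowers x)
      rw [mem_pointwise_smul_iff_inv_smul_mem] at this
      simpa using this
    obtain ⟨c, hc', h, hh, e⟩ := mem_sup_of_normal_right.1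
      (show g⁻¹ ∈ zpowers x ⊔ H by rw [sup_comm, hsup]; exact mem_top _)
    have hg' : g = h⁻¹ * c⁻¹ := by rw [← mul_inv_rev, e, inv_inv]
    have h5 : h * x * h⁻¹ ∈ zpowers x := by
      have : h * x * h⁻¹ = c⁻¹ * (g⁻¹ * x * g) * c := by rw [hg']; group
      rw [this]; exact mul_mem (mul_mem (inv_mem hc') h4) hc'
    have h6 : h * x * h⁻¹ * x⁻¹ = 1 := by
      refine hinf _ ?_ (mul_mem h5 (inv_mem (mem_zpowers x)))
      have : h * x * h⁻¹ * x⁻¹ = h * (x * h⁻¹ * x⁻¹) := by group
      rw [this]; exact mul_mem hh (hHn.conj_mem _ (inv_mem hh) x)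
    have h7 : Commute x h := by
      have : h * x = x * h := by
        rw [mul_inv_eq_one, mul_inv_eq_iff_eq_mul] at h6; exact h6
      exact this.symm
    rcases ho h with e' | e' | e'
    · rw [orderOf_eq_one_iff.1 e'] at hg'
      apply hg; rw [hg']; simpa using hc'
    · exact hHp h hh e'
    · exact nc x h hx e' h7

theorem main (hodd : Odd (Nat.card G))
    (h : (((fun m : ℕ => Nat.card {g : G // orderOf g = m}) '' Set.range (orderOf : G → ℕ))).ncard = 3) :
    (Nat.card G).primeFactors.card ≤ 2 ∧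
      ((Nat.card G).primeFactors.card = 2 →
        (∀ (p : ℕ) [Fact p.Prime] (P : Sylow p G), p ∣ Nat.card G →
          Monoid.exponent ↥(P : Subgroup G) = p) ∧
        ∃ C : Subgroup G, Cfsg.IsFrobeniusComplement C ∧ (Nat.card ↥C).Prime) := by
  classical
  obtain ⟨u, v, huv, hT⟩ : ∃ u v, u ≠ v ∧ Two G u v := by
    set V := (fun m : ℕ => Nat.card {g : G // orderOf g = m}) '' Set.range (orderOf : G → ℕ) with hV
    have h1 : 1 ∈ V := ⟨1, ⟨1, orderOf_one⟩, s_one⟩
    have h2 : (V \ {1}).ncard = 2 := by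
      rw [Set.ncard_diff_singleton_of_mem h1, h]
    obtain ⟨u, v, huv, e⟩ := Set.ncard_eq_two.1 h2
    refine ⟨u, v, huv, fun m hm => ?_⟩
    by_cases h0 : s G m = 0
    · exact Or.inl h0
    right
    obtain ⟨g, hg⟩ := s_ne_zero_iff.1 h0
    have h3 : s G m ∈ V \ {1} := by
      refine ⟨⟨m, ⟨g, hg⟩, rfl⟩, fun h1 => ?_⟩
      have h4 : Odd m := hodd.of_dvd_nat (hg ▸ orderOf_dvd_natCard g)
      have h5 : 2 ∣ s G m := (Nat.totient_even (by obtain ⟨k, rfl⟩ := h4; omega)).two_dvd.trans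
        (totient_dvd m)
      rw [Set.mem_singleton_iff.1 h1] at h5
      omega
    rw [e] at h3
    exact h3
  have hA : ∀ p q, p.Prime → q.Prime → p ≠ q → p ∣ Nat.card G → q ∣ Nat.card G → s G p ≠ s G q := by
    intro p q hp hq hne h1 h2 e
    rcases hT p hp.one_lt with e1 | e1 | e1
    · exact s_prime_ne hp h1 e1
    · exact lemA hodd hT hp hq hne h1 h2 e1 (e ▸ e1)
    · exact lemA hodd hT.symm hp hq hne h1 h2 e1 (e ▸ e1)
  have hval : ∀ p, p.Prime → p ∣ Nat.card G → s G p = u ∨ s G p = v := fun p hp h1 =>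
    (hT p hp.one_lt).resolve_left (s_prime_ne hp h1)
  constructor
  · by_contra hc
    obtain ⟨p, hp, q, hq, r, hr, h1, h2, h3⟩ := two_lt_card.1 (not_le.1 hc)
    rw [Nat.mem_primeFactors] at hp hq hr
    have := hA p q hp.1 hq.1 h1 hp.2.1 hq.2.1
    have := hA p r hp.1 hr.1 h2 hp.2.1 hr.2.1
    have := hA q r hq.1 hr.1 h3 hq.2.1 hr.2.1
    have := hval p hp.1 hp.2.1
    have := hval q hq.1 hq.2.1
    have := hval r hr.1 hr.2.1
    omega
  intro h2
  obtain ⟨p, q, hne, e⟩ := card_eq_two.1 h2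
  have hp : p ∈ (Nat.card G).primeFactors := by rw [e]; simp
  have hq : q ∈ (Nat.card G).primeFactors := by rw [e]; simp
  rw [Nat.mem_primeFactors] at hp hq
  have hr : ∀ r, r.Prime → r ∣ Nat.card G → r = p ∨ r = q := fun r hr h1 => by
    have : r ∈ (Nat.card G).primeFactors := Nat.mem_primeFactors.2 ⟨hr, h1, Nat.card_pos.ne'⟩
    rw [e] at this; simpa using this
  have hT' : Two G (s G p) (s G q) := by
    have := hA p q hp.1 hq.1 hne hp.2.1 hq.2.1
    have := hval p hp.1 hp.2.1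
    have := hval q hq.1 hq.2.1
    intro m hm
    have := hT m hm
    omega
  have h0 : s G (p * q) = 0 := by
    have h1 := lemB hodd hp.1 hq.1 hne hp.2.1 hq.2.1
    have h3 := lemB hodd hq.1 hp.1 hne.symm hq.2.1 hp.2.1
    rw [mul_comm] at h3
    have := hT' (p * q) (by nlinarith [hp.1.two_le, hq.1.two_le])
    omega
  have hpp := lemC hp.1 hq.1 hne hp.2.1 hq.2.1 hT' h0
  have hqq := lemC hq.1 hp.1 hne.symm hq.2.1 hp.2.1 hT'.symm (mul_comm p q ▸ h0)
  have ho : ∀ g : G, orderOf g = 1 ∨ orderOf g = p ∨ orderOf g = q := by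
    intro g
    by_cases h1 : orderOf g = 1
    · exact Or.inl h1
    right
    obtain ⟨r, hr1, k, hk⟩ := Nat.exists_prime_and_dvd h1
    have hr2 := hr r hr1 ((Dvd.intro _ hk.symm).trans (orderOf_dvd_natCard g))
    by_cases h3 : k = 1
    · rw [hk, h3, mul_one]; exact hr2
    exfalso
    obtain ⟨t, ht1, l, hl⟩ := Nat.exists_prime_and_dvd h3
    have ht2 := hr t ht1 (((Dvd.intro _ hl.symm).trans (Dvd.intro_left _ hk.symm)).trans
      (orderOf_dvd_natCard g))
    have h4 : s G (r * t) = 0 := by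
      rcases hr2 with rfl | rfl <;> rcases ht2 with rfl | rfl
      · exact hpp
      · exact h0
      · rw [mul_comm]; exact h0
      · exact hqq
    exact s_ne_zero_iff.2 ⟨g, rfl⟩ (s_eq_zero_of_dvd h4 ⟨l, by rw [hk, hl]; ring⟩)
  constructor
  · intro r hr' P hrG
    have : Nontrivial (P : Subgroup G) := by
      rw [nontrivial_iff_ne_bot]; exact P.ne_bot_of_dvd_card hrG
    rw [Monoid.exponent_eq_prime_iff hr'.out]
    intro g hg
    obtain ⟨k, hk⟩ := (IsPGroup.iff_orderOf.1 P.2) g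
    have h3 : r ∣ orderOf g := by
      rw [hk]
      refine dvd_pow_self r fun h => hg ?_
      rw [h, pow_zero, orderOf_eq_one_iff] at hk; exact hk
    have h4 := ho g
    rw [orderOf_coe] at h4
    rcases h4 with h4 | h4 | h4
    · exact absurd (orderOf_eq_one_iff.1 h4) hg
    · rw [h4] at h3 ⊢; exact ((Nat.prime_dvd_prime_iff_eq hr'.out hp.1).1 h3).symm
    · rw [h4] at h3 ⊢; exact ((Nat.prime_dvd_prime_iff_eq hr'.out hq.1).1 h3).symm
  · have := Cfsg.Agent.S0205.result (G := G) hodd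
    have : Nontrivial G := by
      rw [← Finite.one_lt_card_iff_nontrivial]
      exact hp.1.one_lt.trans_le (Nat.le_of_dvd Nat.card_pos hp.2.1)
    obtain ⟨M, hMn, hM⟩ := H1.exists_normal_prime_index G
    rcases hr _ hM M.index_dvd_card with h3 | h3
    · exact frob hp.1 hq.1 hne hp.2.1 hq.2.1 ho h3
    · exact frob hq.1 hp.1 hne.symm hq.2.1 hp.2.1 (fun g => by have := ho g; tauto) h3

end H18.OC
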