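import Cfsg.Agent.H18.PSolv
import Cfsg.Agent.H4.HallBasic
import Cfsg.Agent.H1.Glauberman

/-! Hall-Čunihin theorems: `D_π` for `π`-separable groups under a solvability condition. -/

set_option autoImplicit false
open Cfsg Pointwise

namespace H18

universe u

theorem hall_of_class (π : Set ℕ) (C : ∀ (X : Type u) [Group X], Prop)
    (hq : ∀ (X : Type u) [Group X] [Finite X] (N : Subgroup X) [N.Normal], C X → C (X ⧸ N))
    (hstep : ∀ (X : Type u) [Group X] [Finite X] [Nontrivial X], C X → ∃ N : Subgroup X,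
      N.Normal ∧ N ≠ ⊥ ∧ (PiNum π (Nat.card N) ∨ (PiNum πᶜ (Nat.card N) ∧ (Group.IsSolvable N ∨
        ∀ K : Subgroup X, IsPiSubgroup π K → Group.IsSolvable K))))
    (n : ℕ) : ∀ (G : Type u) [Group G] [Finite G], C G → Nat.card G = n →
      ∃ H : Subgroup G, IsPiHall π H ∧
      ∀ K : Subgroup G, IsPiSubgroup π K → ∃ g : G, K ≤ MulAut.conj g • H := by
  induction n using Nat.strong_induction_on with
  | _ n ih =>
  intro G _ _ hC hG
  rcases subsingleton_or_nontrivial G with htriv | htriv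
  · refine ⟨⊤, ⟨Subsingleton.elim (⊥ : Subgroup G) ⊤ ▸ H4.isPiSubgroup_bot, fun p hp _ hd => ?_⟩,
      fun K _ => ⟨1, ?_⟩⟩
    · rw [Subgroup.index_top] at hd
      exact hp.ne_one (Nat.eq_one_of_dvd_one hd)
    · rw [H4.conj_one_smul]; exact le_top
  obtain ⟨N, hN, hne, hcase⟩ := hstep G hC
  obtain ⟨Hb, hHb, hall⟩ := ih _ (hG ▸ H4.card_quotient_lt N hne) (G ⧸ N) (hq G N hC) rfl
  have key : ∀ K : Subgroup G, IsPiSubgroup π K →
      ∃ g : G, K ≤ MulAut.conj g • Hb.comap (QuotientGroup.mk' N) := by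
    intro K hK
    obtain ⟨g, hg⟩ := hall _ (H4.isPiSubgroup_map hK (QuotientGroup.mk' N))
    obtain ⟨g, rfl⟩ := QuotientGroup.mk'_surjective N g
    refine ⟨g, ?_⟩
    rw [← H4.comap_conj_smul, ← Subgroup.map_le_iff_le_comap]
    exact hg
  rcases hcase with hπ | ⟨hπ, hsolv⟩
  · exact ⟨_, H4.isPiHall_comap_mk' hπ hHb, key⟩
  set H1 := Hb.comap (QuotientGroup.mk' N) with hH1
  have hle : N ≤ H1 := QuotientGroup.le_comap_mk' N Hb
  have hcopN : ∀ m : ℕ, PiNum π m → (Nat.card N).Coprime m := fun m hm => (hm.coprime hπ).symm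
  have hidx : (N.subgroupOf H1).index = Nat.card Hb := by
    have h1 := H4.card_mul_relIndex hle
    rw [hH1, H4.card_comap_mk'] at h1
    exact Nat.eq_of_mul_eq_mul_left Nat.card_pos h1
  obtain ⟨H, hH⟩ := Subgroup.exists_right_complement'_of_coprime (N := N.subgroupOf H1) (by
    rw [hidx, H4.card_subgroupOf_of_le hle]
    exact hcopN _ hHb.1)
  have hcardH : Nat.card H = Nat.card Hb := by rw [← hidx, hH.symm.index_eq_card]
  have hsup : N ⊔ H.map H1.subtype = H1 := by
    have := congrArg (Subgroup.map H1.subtype) hH.sup_eq_top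
    rwa [Subgroup.map_sup, Subgroup.map_subgroupOf_eq_of_le hle, ← MonoidHom.range_eq_map,
      Subgroup.range_subtype] at this
  have hpi : IsPiSubgroup π (H.map H1.subtype) :=
    H4.isPiSubgroup_of_card_dvd hHb.1 (by rw [Subgroup.card_subtype, hcardH])
  refine ⟨H.map H1.subtype, ⟨hpi, fun q hq hqπ hd => ?_⟩, fun K hK => ?_⟩
  · rw [Subgroup.index_map_subtype, hH.index_eq_card, H4.card_subgroupOf_of_le hle, hH1,
      Subgroup.index_comap_of_surjective _ (QuotientGroup.mk'_surjective N)] at hd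
    rcases (Nat.Prime.dvd_mul hq).mp hd with h | h
    · exact hπ q hq h hqπ
    · exact hHb.2 q hq hqπ h
  · obtain ⟨g, hg⟩ := key K hK
    rw [Subgroup.subset_pointwise_smul_iff] at hg
    have hK' := H4.isPiSubgroup_smul hK (MulAut.conj g)⁻¹
    obtain ⟨b, -, hb⟩ := _root_.H1.exists_conj_le_of_le_mul ((MulAut.conj g)⁻¹ • K) N (H.map H1.subtype)
      (by rw [Subgroup.normalizer_eq_top]; exact le_top) (hcopN _ hK').symm
      (hsolv.symm.imp (fun h => h _ hK') id) (fun a ha => by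
        have := hg ha
        rw [← hsup] at this
        obtain ⟨x, hx, y, hy, rfl⟩ := Subgroup.mem_sup_of_normal_left.1 this
        exact ⟨x, hx, y, hy, rfl⟩)
    refine ⟨g * b⁻¹, ?_⟩
    rw [← H4.conj_smul_conj_smul, Subgroup.subset_pointwise_smul_iff, map_inv,
      Subgroup.subset_pointwise_smul_iff, inv_inv]
    exact hb

variable {G : Type u} [Group G] [Finite G]

/-- `D_π` for `π`-separable groups when all `π'`-groups or all `π`-groups are solvable. -/
theorem IsPiSep.hall {π : Set ℕ} (h : IsPiSep π G)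
    (hs : (∀ (X : Type u) [Group X] [Finite X], PiNum πᶜ (Nat.card X) → Group.IsSolvable X) ∨
      (∀ (X : Type u) [Group X] [Finite X], PiNum π (Nat.card X) → Group.IsSolvable X)) :
    ∃ H : Subgroup G, IsPiHall π H ∧
      ∀ K : Subgroup G, IsPiSubgroup π K → ∃ g : G, K ≤ MulAut.conj g • H := by
  refine hall_of_class π (fun X _ => IsPiSep π X) (fun X _ _ N _ hX => hX.quotient N)
    (fun X _ _ _ hX => ?_) _ G h rfl
  obtain ⟨M, hM, h1, -, h2⟩ := hX.exists_normal_between (N := ⊥) (K := ⊤) bot_lt_top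
  rw [Subgroup.relIndex_bot_left] at h2
  exact ⟨M, hM, h1.ne', h2.imp id fun h3 => ⟨h3, hs.imp (fun h => h M h3) fun h K hK => h K hK⟩⟩

/-- The family of prime sets describing `π`-solvable groups. -/
def piSolvFam (π : Set ℕ) : Set (Set ℕ) := {σ | σ = πᶜ ∨ ∃ p ∈ π, p.Prime ∧ σ = {p}}

/-- `π`-solvable groups: normal series with `π'`-factors and `p`-factors, `p ∈ π`. -/
def IsPiSolv (π : Set ℕ) (G : Type*) [Group G] : Prop := HasSeries (FamNum (piSolvFam π)) G

theorem famNum_piSolvFam_iff {π : Set ℕ} {n : ℕ} (hn : n ≠ 0) : FamNum (piSolvFam π) n ↔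
    (∃ p ∈ π, p.Prime ∧ ∃ k : ℕ, n = p ^ k) ∨ (∀ q : ℕ, q.Prime → q ∣ n → q ∉ π) := by
  constructor
  · rintro ⟨σ, rfl | ⟨p, hpπ, hp, rfl⟩, h⟩
    · exact Or.inr h
    · exact Or.inl ⟨p, hpπ, hp, (piNum_singleton_iff hp hn).1 h⟩
  · rintro (⟨p, hpπ, hp, h⟩ | h)
    · exact ⟨{p}, Or.inr ⟨p, hpπ, hp, rfl⟩, (piNum_singleton_iff hp hn).2 h⟩
    · exact ⟨πᶜ, Or.inl rfl, h⟩

/-- The form in which `π`-solvability is written in the statements. -/
theorem isPiSolv_iff {π : Set ℕ} : IsPiSolv π G ↔ HasSeries (fun n =>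
    (∃ p ∈ π, p.Prime ∧ ∃ k : ℕ, n = p ^ k) ∨ (∀ q : ℕ, q.Prime → q ∣ n → q ∉ π)) G :=
  ⟨fun h => h.mono fun _ hn => (famNum_piSolvFam_iff hn).1,
    fun h => h.mono fun _ hn => (famNum_piSolvFam_iff hn).2⟩

theorem IsPiSolv.isPiSep {π : Set ℕ} (h : IsPiSolv π G) : IsPiSep π G := by
  refine HasSeries.mono h fun n _ => ?_
  rintro ⟨σ, rfl | ⟨p, hpπ, -, rfl⟩, h⟩
  · exact famNum_pair_iff.2 (Or.inr h)
  · exact famNum_pair_iff.2 (Or.inl (h.mono (Set.singleton_subset_iff.2 hpπ)))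

/-- A group with a normal series with prime-power factors is solvable. -/
theorem isSolvable_of_hasSteps (h : HasSteps (fun n => ∃ p k : ℕ, p.Prime ∧ n = p ^ k) G) :
    Group.IsSolvable G := by
  suffices H : ∀ N : Subgroup G, ∀ _ : N.Normal, Group.IsSolvable (G ⧸ N) by
    have := H ⊥ inferInstance
    exact Group.isSolvable_of_isSolvable_injective
      (f := (QuotientGroup.quotientBot (G := G)).symm.toMonoidHom)
      (QuotientGroup.quotientBot (G := G)).symm.injective
  intro N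
  induction N using (wellFounded_gt (α := Subgroup G)).induction with
  | _ N ih =>
    intro hN
    by_cases hne : N = ⊤
    · subst hne
      have : Subsingleton (G ⧸ (⊤ : Subgroup G)) := QuotientGroup.subsingleton_quotient_top
      infer_instance
    obtain ⟨M, hM, hlt, p, k, hp, hk⟩ := h N hN hne
    have := ih M hlt hM
    have := Fact.mk hp
    rw [relIndex_eq_card_map] at hk
    have hP : IsPGroup p (M.map (QuotientGroup.mk' N)) := IsPGroup.of_card hk
    have := hP.isNilpotent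
    exact Group.isSolvable_of_ker_le_range (M.map (QuotientGroup.mk' N)).subtype
      (QuotientGroup.map N M (MonoidHom.id G) hlt.le) (by
        rw [Subgroup.range_subtype]
        intro x hx
        obtain ⟨x, rfl⟩ := QuotientGroup.mk'_surjective N x
        exact ⟨x, (QuotientGroup.eq_one_iff x).1 hx, rfl⟩)

theorem IsPiSolv.isSolvable {π : Set ℕ} (h : IsPiSolv π G) (hG : PiNum π (Nat.card G)) :
    Group.IsSolvable G := by
  refine isSolvable_of_hasSteps fun N hN hne => ?_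
  obtain ⟨M, hM, hlt, σ, rfl | ⟨p, -, hp, rfl⟩, hσ⟩ :=
    HasSeries.hasSteps (dvdClosed_famNum _) h N hN hne
  · exact absurd (Subgroup.relIndex_eq_one.1 ((hG.of_dvd ((Subgroup.relIndex_dvd_card _ _).trans
      (Subgroup.card_subgroup_dvd_card M))).eq_one hσ)) (not_le_of_gt hlt)
  · obtain ⟨k, hk⟩ := (piNum_singleton_iff hp (n := N.relIndex M)
      Subgroup.index_ne_zero_of_finite).1 hσ
    exact ⟨M, hM, hlt, p, k, hp, hk⟩

/-- `D_π` for `π`-solvable groups. -/
theorem IsPiSolv.hall {π : Set ℕ} (h : IsPiSolv π G) : ∃ H : Subgroup G, IsPiHall π H ∧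
      ∀ K : Subgroup G, IsPiSubgroup π K → ∃ g : G, K ≤ MulAut.conj g • H := by
  refine hall_of_class π (fun X _ => IsPiSolv π X)
    (fun X _ _ N _ hX => HasSeries.of_surjective (dvdClosed_famNum _) hX _
      (QuotientGroup.mk'_surjective N)) (fun X _ _ _ hX => ?_) _ G h rfl
  obtain ⟨M, hM, h1, -, h2⟩ := hX.isPiSep.exists_normal_between (N := ⊥) (K := ⊤) bot_lt_top
  rw [Subgroup.relIndex_bot_left] at h2
  exact ⟨M, hM, h1.ne', h2.imp id fun h3 => ⟨h3, Or.inr fun K hK => IsPiSolv.isSolvable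
    (HasSeries.of_injective (dvdClosed_famNum _) hX K.subtype K.subtype_injective) hK⟩⟩

/-- `D_{π'}` for `π`-solvable groups. -/
theorem IsPiSolv.hall_compl {π : Set ℕ} (h : IsPiSolv π G) : ∃ H : Subgroup G, IsPiHall πᶜ H ∧
      ∀ K : Subgroup G, IsPiSubgroup πᶜ K → ∃ g : G, K ≤ MulAut.conj g • H := by
  refine hall_of_class πᶜ (fun X _ => IsPiSolv π X)
    (fun X _ _ N _ hX => HasSeries.of_surjective (dvdClosed_famNum _) hX _
      (QuotientGroup.mk'_surjective N)) (fun X _ _ _ hX => ?_) _ G h rfl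
  obtain ⟨M, hM, h1, -, h2⟩ := hX.isPiSep.exists_normal_between (N := ⊥) (K := ⊤) bot_lt_top
  rw [Subgroup.relIndex_bot_left] at h2
  refine ⟨M, hM, h1.ne', h2.symm.imp id fun h3 => ⟨by rwa [compl_compl], Or.inl ?_⟩⟩
  exact IsPiSolv.isSolvable
    (HasSeries.of_injective (dvdClosed_famNum _) hX M.subtype M.subtype_injective) h3

/-- `p`-complements of `p`-solvable groups. -/
theorem exists_pComplement {p : ℕ} [hp : Fact p.Prime] (h : IsPSolvable p G) :
    ∃ H : Subgroup G, IsPiHall {p}ᶜ H ∧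
      ∀ K : Subgroup G, (Nat.card K).Coprime p → ∃ g : G, K ≤ MulAut.conj g • H := by
  obtain ⟨H, h1, h2⟩ := (isPiSep_compl.2 (isPSolvable_iff_isPiSep.1 h)).hall (Or.inl
    fun X _ _ hX => by
      rw [compl_compl, ← isPGroup_iff_piNum] at hX
      have := hX.isNilpotent
      infer_instance)
  exact ⟨H, h1, fun K hK => h2 K ((piNum_compl_singleton_iff hp.out).2 hK)⟩

theorem isPiHall_compl_singleton_iff {p : ℕ} [hp : Fact p.Prime] {H : Subgroup G} :
    IsPiHall {p}ᶜ H ↔ (Nat.card H).Coprime p ∧ ∃ n : ℕ, H.index = p ^ n := by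
  rw [← piNum_compl_singleton_iff hp.out,
    ← piNum_singleton_iff hp.out Subgroup.index_ne_zero_of_finite]
  refine and_congr Iff.rfl ⟨fun h q hq hd => ?_, fun h q hq hqp hd => hqp (h q hq hd)⟩
  by_contra hne
  exact h q hq hne hd

end H18
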