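/- Powell's theorem: the `(p,p')`-length of a `p`-soluble group is attained on a `2`-generator subgroup. -/
import Cfsg.Agent.H18.Misc
import Cfsg.Agent.H18.PSolv
import Cfsg.Agent.H46.Misc

set_option autoImplicit false
set_option linter.unusedSectionVars false
open Cfsg hiding pRank
open H46 Subgroup
open scoped commutatorElement

namespace H18.PW

universe u

section Basic
variable {G : Type u} [Group G] {β : Set ℕ} {K L N T : Subgroup G}

/-- `O^β(L)` -/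
def res (β : Set ℕ) (L : Subgroup G) : Subgroup G := closure {x | x ∈ L ∧ IsPiElt βᶜ x}

/-- the lower `(β,β')`-series whose last step is a `β`-step -/
def lw : ℕ → Set ℕ → Subgroup G → Subgroup G
  | 0, _, K => K
  | m + 1, β, K => res β (lw m βᶜ K)

theorem res_le : res β L ≤ L := (closure_le _).2 fun _ h => h.1

theorem res_mono (h : K ≤ L) : res β K ≤ res β L := closure_mono fun _ hx => ⟨h hx.1, hx.2⟩

theorem mem_res {x : G} (hx : x ∈ L) (h : IsPiElt βᶜ x) : x ∈ res β L := subset_closure ⟨hx, h⟩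

theorem elt_map {H : Type u} [Group H] (f : G →* H) {x : G} (h : IsPiElt β x) : IsPiElt β (f x) :=
  PNat.of_dvd h (orderOf_map_dvd f x)

theorem map_res [Finite G] {H : Type u} [Group H] (f : G →* H) (L : Subgroup G) :
    (res β L).map f = res β (L.map f) := by
  apply le_antisymm
  · rw [res, MonoidHom.map_closure, closure_le]
    rintro _ ⟨x, hx, rfl⟩
    exact mem_res ⟨x, hx.1, rfl⟩ (elt_map f hx.2)
  · rw [res, closure_le]
    rintro _ ⟨⟨x, hx, rfl⟩, hy⟩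
    refine ⟨piPart βᶜ x, mem_res (piPart_mem _ hx) (isPiElt_piPart _ _), ?_⟩
    have h1 : IsPiElt βᶜᶜ (f ((piPart βᶜ x)⁻¹ * x)) := elt_map f (piPart_spec βᶜ x).2.2
    have h2 : IsPiElt βᶜ (f ((piPart βᶜ x)⁻¹ * x)) := by
      rw [map_mul, map_inv]
      refine IsPiElt.mul (elt_map f (isPiElt_piPart _ _)).inv hy ?_
      exact ((commute_of_mem_zpowers (piPart_mem_zpowers _ x) (mem_zpowers x)).map f).inv_left
    have := h2.eq_one h1
    rw [map_mul, map_inv, inv_mul_eq_one] at this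
    exact this

theorem res_eq_bot_iff [Finite G] : res β L = ⊥ ↔ IsPi β L := by
  constructor
  · intro h q hq hd
    by_contra hn
    obtain ⟨x, hx, ho⟩ := cauchy hq hd
    have : x ∈ res β L := mem_res hx (by rw [IsPiElt, ho, pnat_prime hq]; exact hn)
    rw [h, mem_bot] at this
    rw [this, orderOf_one] at ho
    exact hq.one_lt.ne ho
  · intro h
    rw [eq_bot_iff, res, closure_le]
    intro x hx
    exact (h.elt hx.1).eq_one hx.2

theorem lw_le : ∀ (m : ℕ) (β : Set ℕ) (K : Subgroup G), lw m β K ≤ K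
  | 0, _, _ => le_rfl
  | m + 1, β, K => res_le.trans (lw_le m βᶜ K)

theorem lw_mono (h : K ≤ L) : ∀ (m : ℕ) (β : Set ℕ), lw m β K ≤ lw m β L
  | 0, _ => h
  | m + 1, β => res_mono (lw_mono h m βᶜ)

theorem map_lw [Finite G] {H : Type u} [Group H] (f : G →* H) (K : Subgroup G) :
    ∀ (m : ℕ) (β : Set ℕ), (lw m β K).map f = lw m β (K.map f)
  | 0, _ => rfl
  | m + 1, β => by rw [lw, map_res, map_lw f K m βᶜ]; rfl

theorem nrm_lw [Finite G] (m : ℕ) (β : Set ℕ) (K : Subgroup G) : Nrm K ≤ Nrm (lw m β K) :=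
  nrm_le_of_cj (F := fun K => lw m β K) (fun _ H => map_lw _ H m β) K

theorem lw_normalIn [Finite G] (m : ℕ) (β : Set ℕ) (K : Subgroup G) : lw m β K ⊴ K :=
  ⟨lw_le _ _ _, le_nrm_self.trans (nrm_lw m β K)⟩

theorem lw_succ_eq_bot [Finite G] {m : ℕ} : lw (m + 1) β K = ⊥ ↔ IsPi β (lw m βᶜ K) :=
  res_eq_bot_iff

theorem lw_le_sup [Finite G] [N.Normal] (h : K ≤ N ⊔ T) (m : ℕ) (β : Set ℕ) :
    lw m β K ≤ N ⊔ lw m β T := by
  have h1 : K.map (QuotientGroup.mk' N) ≤ T.map (QuotientGroup.mk' N) := by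
    refine (map_mono h).trans ?_
    rw [Subgroup.map_sup, QuotientGroup.map_mk'_self, bot_sup_eq]
  have h2 := lw_mono h1 m β
  rw [← map_lw, ← map_lw, map_le_iff_le_comap, comap_map_eq, QuotientGroup.ker_mk'] at h2
  rwa [sup_comm]

theorem lw_top_map_subtype [Finite G] (m : ℕ) (β : Set ℕ) (K : Subgroup G) :
    (lw m β (⊤ : Subgroup K)).map K.subtype = lw m β K := by
  rw [map_lw, ← MonoidHom.range_eq_map, range_subtype]

end Basic

theorem solOr {p : ℕ} {β : Set ℕ} (hβ : β = {p} ∨ β = {p}ᶜ) {G : Type u} [Group G] [Finite G]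
    {A B : Subgroup G} (hA : IsPi β A) (hB : IsPi βᶜ B) : SolOr A B := by
  rcases hβ with rfl | rfl
  · exact Or.inl hA.sol
  · rw [compl_compl] at hB
    exact Or.inr hB.sol

theorem compl_or {p : ℕ} {β : Set ℕ} (hβ : β = {p} ∨ β = {p}ᶜ) : βᶜ = {p} ∨ βᶜ = {p}ᶜ := by
  rcases hβ with rfl | rfl
  · exact Or.inr rfl
  · exact Or.inl (compl_compl _)

theorem sep_of_or {p : ℕ} {β : Set ℕ} (hβ : β = {p} ∨ β = {p}ᶜ) {G : Type u} [Group G]
    (h : IsPiSep {p} G) : IsPiSep β G := by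
  rcases hβ with rfl | rfl
  · exact h
  · exact isPiSep_compl.2 h

/-- the length is attained on a two-generator subgroup -/
theorem key {p : ℕ} : ∀ (G : Type u) [Group G] [Finite G], IsPiSep {p} G → ∀ β : Set ℕ,
    (β = {p} ∨ β = {p}ᶜ) → ∀ m : ℕ, (∀ a b : G, lw m β (zpowers a ⊔ zpowers b) = ⊥) →
    lw m β (⊤ : Subgroup G) = ⊥ := by
  refine @H18.induction_card _ ?_
  intro G _ _ ih hG β hβ m h2
  by_contra hne
  have ih1 : ∀ H : Subgroup G, H ≠ ⊤ → ∀ β' : Set ℕ, (β' = {p} ∨ β' = {p}ᶜ) → ∀ m' : ℕ,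
      (∀ a ∈ H, ∀ b ∈ H, lw m' β' (zpowers a ⊔ zpowers b) = ⊥) → lw m' β' H = ⊥ := by
    intro H hH β' hβ' m' h
    rw [← lw_top_map_subtype, ih H (by
      have := card_lt_of_lt (lt_top_iff_ne_top.2 hH); rwa [card_top] at this)
      (hG.subgroup H) β' hβ' m' ?_, Subgroup.map_bot]
    intro a b
    have := h a a.2 b b.2
    rw [← map_eq_bot_iff_of_injective _ H.subtype_injective, map_lw, Subgroup.map_sup,
      MonoidHom.map_zpowers, MonoidHom.map_zpowers]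
    exact this
  have hp : ∀ H : Subgroup G, H ≠ ⊤ → lw m β H = ⊥ := fun H hH =>
    ih1 H hH β hβ m fun a _ b _ => h2 a b
  set N := lw m β (⊤ : Subgroup G) with hN
  haveI hNn : N.Normal := normalIn_top_iff.1 (lw_normalIn m β ⊤)
  have hmin : ∀ M : Subgroup G, M.Normal → M ≠ ⊥ → N ≤ M := by
    intro M hM h1
    have := ih (G ⧸ M) (H18.card_quotient_lt h1) (hG.quotient M) β hβ m (by
      intro a b
      obtain ⟨a, rfl⟩ := QuotientGroup.mk'_surjective M a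
      obtain ⟨b, rfl⟩ := QuotientGroup.mk'_surjective M b
      rw [← MonoidHom.map_zpowers, ← MonoidHom.map_zpowers, ← Subgroup.map_sup, ← map_lw, h2,
        Subgroup.map_bot])
    rw [← map_top_of_surjective _ (QuotientGroup.mk'_surjective M), ← map_lw, Subgroup.map_eq_bot_iff,
      QuotientGroup.ker_mk'] at this
    exact this
  match m, hN, h2, hp with
  | 0, hN, h2, hp =>
    obtain ⟨a, -, ha⟩ := exists_ne_one_of_ne_bot hne
    have := h2 a a
    rw [sup_idem, lw, zpowers_eq_bot] at this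
    exact ha this
  | m + 1, hN, h2, hp =>
  set L := lw m βᶜ (⊤ : Subgroup G) with hL
  have hLn : L ⊴ ⊤ := lw_normalIn m βᶜ ⊤
  have hNL : N ≤ L := hN ▸ res_le
  have hnβ : ¬ IsPi β N := fun h => hne (by
    rw [eq_bot_iff]
    conv_lhs => rw [hN]
    refine (closure_le _).2 fun x hx => ?_
    exact (h.elt (hN ▸ mem_res hx.1 hx.2)).eq_one hx.2)
  have hnorm : ∀ M : Subgroup G, M.Normal → IsPi β M → M = ⊥ := fun M hM h => by
    by_contra h1
    exact hnβ (h.of_le (hmin M hM h1))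
  have hNβ : IsPi βᶜ N := by
    obtain ⟨M, hM, h1, h3, h4⟩ := (sep_of_or hβ hG).exists_normal_between (N := ⊥) (K := N)
      (bot_lt_iff_ne_bot.2 hne)
    rw [relIndex_bot_left] at h4
    have e : M = N := le_antisymm h3 (hmin M hM h1.ne')
    rw [e] at h4
    exact h4.resolve_left hnβ
  have hidx : PNat β (N.relIndex L) := by
    rw [relIndex_eq_card_map]
    refine res_eq_bot_iff.1 ?_
    rw [← map_res, Subgroup.map_eq_bot_iff, QuotientGroup.ker_mk']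
    exact hN.ge
  have hall : IsPiHallOf βᶜ N L := isPiHallOf_compl_mk hNL hNβ hidx
  obtain ⟨Y, hY⟩ := exists_sd_of_hall hall.isHallOf (le_top.trans (normalIn_top_iff.2 hNn).nrm)
  have hYh : IsPiHallOf β Y L := by have := hY.hall_compl_right hall; rwa [compl_compl] at this
  have hYβ := hYh.isPi
  have hco : (Nat.card Y).Coprime (Nat.card N) := hYβ.coprime hNβ
  have hso : SolOr Y N := solOr hβ hYβ hNβ
  have hY1 : Y ≠ ⊥ := by
    intro h
    have hLN : L = N := by rw [← hY.sup, h, sup_bot_eq]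
    match m, hL, h2 with
    | 0, hL, h2 =>
      obtain ⟨a, ha, ha1⟩ := exists_ne_one_of_ne_bot hne
      have := mem_res (β := β) (L := zpowers a ⊔ zpowers a) (mem_sup_left (mem_zpowers a)) (hNβ.elt ha)
      rw [show res β (zpowers a ⊔ zpowers a) = ⊥ from h2 a a, mem_bot] at this
      exact ha1 this
    | m + 1, hL, h2 =>
      refine hne (eq_bot_iff.2 ?_)
      rw [← hLN]
      conv_lhs => rw [hL]
      refine (closure_le _).2 fun x hx => ?_
      exact (hNβ.elt (hLN ▸ hL ▸ mem_res hx.1 hx.2)).eq_one hx.2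
  have hnN : ∀ X : Subgroup G, X ≤ Nrm N := fun X => le_top.trans (normalIn_top_iff.2 hNn).nrm
  have hM : N ⊔ Nrm Y = ⊤ := by
    rw [eq_top_iff]
    intro g _
    have h3 := hY.cj g
    rw [cj_of_mem_nrm (hnN ⊤ (mem_top g)), cj_of_mem_nrm (hLn.nrm (mem_top g))] at h3
    obtain ⟨n, hn, e⟩ := hY.exists_cj h3 hco hso
    have : n⁻¹ * g ∈ Nrm Y := by rw [mem_nrm_iff_cj, cj_mul, ← e, ← cj_mul]; simp
    rw [show g = n * (n⁻¹ * g) by group]
    exact mul_mem (mem_sup_left hn) (mem_sup_right this)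
  have hC : Y ⊓ Cent N = ⊥ := by
    refine hnorm _ (normalIn_top_iff.1 ⟨le_top, ?_⟩) hYβ.inf_left
    rw [← hM]
    exact sup_le (nrm_of_le_cent (le_cent_symm inf_le_right))
      (nrm_inf le_rfl (nrm_cent (hnN _)))
  have hYN : ¬ Y ≤ Cent N := fun h => hY1 (by rw [← hC, inf_of_le_left h])
  have hM1 : Nrm Y ≠ ⊤ := fun h => hY1 (hnorm Y (normalIn_top_iff.1 ⟨le_top, h.ge⟩) hYβ)
  have hlw : ∀ T : Subgroup G, lw (m + 1) β T = ⊥ → Y ≤ Nrm (lw m βᶜ T) ∨ T ≤ Nrm Y →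
      lw m βᶜ T ≤ Y := by
    intro T hT h
    rcases h with h | h
    · exact hYh.le_of_nrm (lw_succ_eq_bot.1 hT) (lw_mono le_top _ _) h
    · exact hYh.le_of_le_nrm (lw_succ_eq_bot.1 hT) (lw_mono le_top _ _) ((lw_le _ _ _).trans h)
  have hab : IsMulCommutative N := by
    have hmn : MinNormal N ⊤ := by
      obtain ⟨M, hM, h1⟩ := exists_minNormal_le hne (hnN ⊤)
      rwa [le_antisymm h1 (hmin M (normalIn_top_iff.1 ⟨le_top, hM.nrm⟩) hM.ne_bot)] at hM
    refine hmn.comm ?_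
    by_contra hns
    refine hYN (le_cent_symm (le_of_forall_sylow_le fun r hr hd => ?_))
    obtain ⟨Q, hQ, hYQ⟩ := coprime_Sylow_exists hr (hnN Y) hco hso
    refine ⟨Q, hQ, ?_⟩
    have hT : Nrm Q ≠ ⊤ := fun h => hns (sol_of_le hQ.isPi.sol
      (hmin Q (normalIn_top_iff.1 ⟨le_top, h.ge⟩) (hQ.ne_bot hr rfl hd)))
    have h3 : N ⊔ Nrm Q = ⊤ := by
      have := frattini_arg hr (normalIn_top_iff.2 hNn) hQ
      rwa [top_inf_eq] at this
    have h4 := hlw _ (hp _ hT) (Or.inl (hYQ.trans (lw_normalIn _ _ _).nrm))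
    have h5 : lw m βᶜ (Nrm Q) = Y := by
      refine le_antisymm h4 ?_
      have h6 : Y ≤ (N ⊔ lw m βᶜ (Nrm Q)) ⊓ Y := le_inf (hY.le_right.trans (lw_le_sup h3.ge _ _)) le_rfl
      rwa [modr (hnN _) h4, hY.inf, bot_sup_eq] at h6
    exact cent_of_normalIn_of_coprime (normalIn_nrm Q) (h5 ▸ lw_normalIn m βᶜ (Nrm Q))
      (coprime_of_le hco le_rfl hQ.le).symm
  have hNM : N ⊓ Nrm Y = ⊥ := by
    by_contra h
    have h3 : N ≤ N ⊓ Nrm Y := hmin _ (normalIn_top_iff.1 ⟨le_top, by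
      rw [← hM]
      exact sup_le (nrm_of_comm hab inf_le_left) (nrm_inf (hnN _) le_nrm_self)⟩) h
    exact hYN (cent_of_nrm_of_disjoint (hnN _) (h3.trans inf_le_right) (by rw [inf_comm, hY.inf]))
  have hLN : ¬ L ≤ N := fun h => hY1 (by rw [← hY.inf, inf_of_le_right (hY.le_right.trans h)])
  have : ¬ ∀ a ∈ Nrm Y, ∀ b ∈ Nrm Y, lw m βᶜ (zpowers a ⊔ zpowers b) = ⊥ := fun h => hLN (by
    have := lw_le_sup (K := ⊤) hM.ge m βᶜ
    rwa [ih1 _ hM1 βᶜ (compl_or hβ) m h, sup_bot_eq] at this)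
  push Not at this
  obtain ⟨a, ha, b, hb, hab'⟩ := this
  have hK : N ⊔ (zpowers a ⊔ zpowers b) = ⊤ := by
    by_contra h
    refine hab' (eq_bot_iff.2 ?_)
    rw [← hC]
    refine le_inf (hlw _ (h2 a b) (Or.inr (sup_le ((zpowers_le).2 ha) ((zpowers_le).2 hb)))) ?_
    refine (lw_mono le_sup_right _ _).trans (cent_of_normalIn_of_coprime (lw_normalIn m βᶜ _)
      (normalIn_sup_left (hnN _)) ((lw_succ_eq_bot.1 (hp _ h)).coprime hNβ))
  have hsurj : Function.Surjective fun n : N =>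
      ((⟨n * (a * n⁻¹ * a⁻¹), mul_mem n.2 (hNn.conj_mem _ (inv_mem n.2) a)⟩ : N),
        (⟨n * (b * n⁻¹ * b⁻¹), mul_mem n.2 (hNn.conj_mem _ (inv_mem n.2) b)⟩ : N)) := by
    rintro ⟨⟨x, hx⟩, ⟨y, hy⟩⟩
    have h3 : ⊤ ≤ N ⊔ (zpowers (x * a) ⊔ zpowers (y * b)) := by
      rw [← hK]
      refine sup_le le_sup_left (sup_le ((zpowers_le).2 ?_) ((zpowers_le).2 ?_))
      · rw [show a = x⁻¹ * (x * a) by group]
        exact mul_mem (mem_sup_left (inv_mem hx)) (mem_sup_right (mem_sup_left (by simp)))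
      · rw [show b = y⁻¹ * (y * b) by group]
        exact mul_mem (mem_sup_left (inv_mem hy)) (mem_sup_right (mem_sup_right (by simp)))
    have h4 := lw_succ_eq_bot.1 (h2 (x * a) (y * b))
    have h5 : IsSd N (lw m βᶜ (zpowers (x * a) ⊔ zpowers (y * b))) L :=
      ⟨hnN _, hNβ.inf_eq_bot' h4,
        le_antisymm (sup_le hNL (lw_mono le_top _ _)) (lw_le_sup h3 _ _)⟩
    obtain ⟨n, hn, e⟩ := hY.exists_cj h5 hco hso
    have h6 := (lw_normalIn m βᶜ (zpowers (x * a) ⊔ zpowers (y * b))).nrm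
    rw [← e, ← cj_nrm] at h6
    have h7 : ∀ z ∈ N, ∀ c ∈ Nrm Y, z * c ∈ cj n (Nrm Y) → n * (c * n⁻¹ * c⁻¹) = z := by
      intro z hz c hc h
      rw [mem_cj] at h
      have h8 : n⁻¹ * z * (c * n * c⁻¹) ∈ N ⊓ Nrm Y :=
        ⟨N.mul_mem (N.mul_mem (N.inv_mem hn) hz) (hNn.conj_mem _ hn c), by
          have : _ ∈ Nrm Y := (Nrm Y).mul_mem h ((Nrm Y).inv_mem hc)
          rwa [show n⁻¹ * (z * c) * n * c⁻¹ = n⁻¹ * z * (c * n * c⁻¹) by group] at this⟩
      rw [hNM, mem_bot] at h8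
      calc n * (c * n⁻¹ * c⁻¹) = n * (n⁻¹ * z * (c * n * c⁻¹)) * (c * n⁻¹ * c⁻¹) := by rw [h8]; group
        _ = z := by group
    exact ⟨⟨n, hn⟩, Prod.ext (Subtype.ext (h7 x hx a ha (h6 (mem_sup_left (mem_zpowers _)))))
      (Subtype.ext (h7 y hy b hb (h6 (mem_sup_right (mem_zpowers _)))))⟩
  have h8 := Nat.card_le_card_of_surjective _ hsurj
  rw [Nat.card_prod] at h8
  have := one_lt_card.2 hne
  nlinarith

/-- an element that lies in a `g`-invariant `β`-subgroup for each `g` lies in `O_β` -/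
theorem mem_piCore {G : Type u} [Group G] [Finite G] {β : Set ℕ} (hG : IsPiSep β G) {c : G}
    (h : ∀ g : G, ∃ D : Subgroup G, IsPi β D ∧ c ∈ D ∧ g ∈ Nrm D) : c ∈ piCore β G := by
  let f := QuotientGroup.mk' (piCore β G)
  have h0 : piCore βᶜᶜ (G ⧸ piCore β G) = ⊥ := by rw [compl_compl]; exact piCore_quotient_piCore β
  have h1 := (isPiSep_compl.2 (hG.quotient (piCore β G))).centralizer_piCore_le h0
  have hR : IsPi βᶜ (piCore βᶜ (G ⧸ piCore β G)) := piNum_card_piCore _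
  have h2 : f c ∈ piCore βᶜ (G ⧸ piCore β G) := by
    refine h1 fun r hr => ?_
    obtain ⟨g, rfl⟩ := QuotientGroup.mk'_surjective _ r
    obtain ⟨D, hD, hc, hg⟩ := h g
    have h3 : f (g * c * g⁻¹ * c⁻¹) ∈ D.map f ⊓ piCore βᶜ (G ⧸ piCore β G) := by
      refine ⟨⟨_, mul_mem (conj_mem_of_mem_nrm hg hc) (inv_mem hc), rfl⟩, ?_⟩
      rw [show g * c * g⁻¹ * c⁻¹ = g * (c * g⁻¹ * c⁻¹) by group, map_mul, map_mul, map_mul, map_inv,
        map_inv]
      exact mul_mem hr ((piCore_normal _ _).conj_mem _ (inv_mem hr) _)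
    rw [(hD.map f).inf_eq_bot hR, mem_bot, map_mul, map_mul, map_mul, map_inv, map_inv,
      mul_inv_eq_one, mul_inv_eq_iff_eq_mul] at h3
    exact h3
  obtain ⟨D, hD, hc, -⟩ := h 1
  have := (elt_map f (hD.elt hc)).eq_one (hR.elt h2)
  exact (QuotientGroup.eq_one_iff c).1 this

theorem mem_piCoreOf {G : Type u} [Group G] [Finite G] {β : Set ℕ} {H : Subgroup G} (hH : IsPiSep β H)
    {c : G} (hc : c ∈ H) (h : ∀ g : G, ∃ D : Subgroup G, IsPi β D ∧ c ∈ D ∧ g ∈ Nrm D) :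
    c ∈ piCoreOf β H := by
  refine ⟨⟨c, hc⟩, mem_piCore hH fun g => ?_, rfl⟩
  obtain ⟨D, hD, hcD, hg⟩ := h g
  refine ⟨D.subgroupOf H, hD.subgroupOf H, hcD, mem_nrm_of_cj_le ?_⟩
  rintro _ ⟨x, hx, rfl⟩
  exact conj_mem_of_mem_nrm (H := D) hg hx

theorem exists_lw_eq_bot {π : Set ℕ} : ∀ (G : Type u) [Group G] [Finite G], IsPiSep π G →
    ∃ m : ℕ, ∀ k, m ≤ k → ∀ β : Set ℕ, (β = π ∨ β = πᶜ) → lw k β (⊤ : Subgroup G) = ⊥ := by
  refine @H18.induction_card _ ?_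
  intro G _ _ ih hG
  by_cases h1 : (⊤ : Subgroup G) = ⊥
  · exact ⟨0, fun k _ β _ => eq_bot_iff.2 ((lw_le _ _ _).trans h1.le)⟩
  obtain ⟨N, hN, h2, -, h3⟩ := hG.exists_normal_between (N := ⊥) (K := ⊤) (bot_lt_iff_ne_bot.2 h1)
  rw [relIndex_bot_left] at h3
  obtain ⟨m, hm⟩ := ih (G ⧸ N) (H18.card_quotient_lt h2.ne') (hG.quotient N)
  have hc : ∀ β : Set ℕ, (β = π ∨ β = πᶜ) → (βᶜ = π ∨ βᶜ = πᶜ) := by
    rintro β (rfl | rfl)
    · exact Or.inr rfl
    · exact Or.inl (compl_compl _)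
  have h4 : ∀ k, m ≤ k → ∀ β : Set ℕ, (β = π ∨ β = πᶜ) → lw k β (⊤ : Subgroup G) ≤ N := by
    intro k hk β hβ
    have := hm k hk β hβ
    rwa [← map_top_of_surjective _ (QuotientGroup.mk'_surjective N), ← map_lw,
      Subgroup.map_eq_bot_iff, QuotientGroup.ker_mk'] at this
  refine ⟨m + 2, fun k hk β hβ => ?_⟩
  obtain ⟨k, rfl⟩ : ∃ j, k = j + 2 := ⟨k - 2, by omega⟩
  have h5 : IsPi β N ∨ IsPi βᶜ N := by
    rcases hβ with rfl | rfl
    · exact h3
    · rw [compl_compl]; exact h3.symm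
  rcases h5 with h5 | h5
  · exact lw_succ_eq_bot.2 (h5.of_le (h4 _ (by omega) _ (hc β hβ)))
  · exact eq_bot_iff.2 (res_le.trans (lw_succ_eq_bot.2
      (h5.of_le (h4 _ (by omega) _ (hc _ (hc β hβ))))).le)

theorem powell {G : Type u} [Group G] [Finite G] [IsSimpleGroup G] (hna : ¬ IsMulCommutative G)
    {p : ℕ} [hp : Fact p.Prime] (hdvd : p ∣ Nat.card G)
    (hprop : ∀ H : Subgroup G, H ≠ ⊤ → IsPSolvable p H) :
    ∃ x y z : G, zpowers x ⊔ zpowers y ⊔ zpowers z = ⊤ := by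
  classical
  by_contra h3
  push Not at h3
  have hs : ∀ x y z : G, IsPiSep {p} ↥(zpowers x ⊔ zpowers y ⊔ zpowers z) := fun x y z =>
    isPSolvable_iff_isPiSep.1 (hprop _ (h3 x y z))
  have hex : ∃ m : ℕ, ∃ β : Set ℕ, (β = {p} ∨ β = {p}ᶜ) ∧
      ∀ a b : G, lw m β (zpowers a ⊔ zpowers b) = ⊥ := by
    choose f hf using fun ab : G × G => exists_lw_eq_bot _ (hs ab.1 ab.2 1)
    obtain ⟨m, hm⟩ := Finite.exists_le f
    refine ⟨m, {p}, Or.inl rfl, fun a b => ?_⟩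
    have := hf (a, b) m (hm _) {p} (Or.inl rfl)
    have h5 := lw_top_map_subtype m {p} (zpowers a ⊔ zpowers b ⊔ zpowers 1)
    rw [this, Subgroup.map_bot] at h5
    exact eq_bot_iff.2 ((lw_mono le_sup_left _ _).trans h5.ge)
  obtain ⟨β, hβ, h2⟩ := Nat.find_spec hex
  have hmin := fun k => Nat.find_min hex (m := k)
  generalize Nat.find hex = m at h2 hmin
  match m, h2, hmin with
  | 0, h2, _ =>
    obtain ⟨a, ha⟩ := exists_ne (1 : G)
    have := h2 a a
    rw [sup_idem, lw, zpowers_eq_bot] at this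
    exact ha this
  | m + 1, h2, hmin =>
  have h4 := hmin m (Nat.lt_succ_self m)
  push Not at h4
  obtain ⟨a, b, hab⟩ := h4 βᶜ (compl_or hβ)
  obtain ⟨c, hc, hc1⟩ := exists_ne_one_of_ne_bot hab
  have hD : ∀ x y g : G, (∀ g : G, ∃ D : Subgroup G, IsPi β D ∧ x ∈ D ∧ g ∈ Nrm D) →
      (∀ g : G, ∃ D : Subgroup G, IsPi β D ∧ y ∈ D ∧ g ∈ Nrm D) →
      ∃ D : Subgroup G, IsPi β D ∧ x ∈ D ∧ y ∈ D ∧ g ∈ Nrm D := fun x y g hx hy =>
    ⟨_, isPi_piCoreOf β _,
      mem_piCoreOf (sep_of_or hβ (hs x y g)) (mem_sup_left (mem_sup_left (mem_zpowers x))) hx,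
      mem_piCoreOf (sep_of_or hβ (hs x y g)) (mem_sup_left (mem_sup_right (mem_zpowers y))) hy,
      le_nrm_piCoreOf β _ (mem_sup_right (mem_zpowers g))⟩
  let C : Subgroup G :=
    { carrier := {x | ∀ g : G, ∃ D : Subgroup G, IsPi β D ∧ x ∈ D ∧ g ∈ Nrm D}
      one_mem' := fun g => ⟨⊥, IsPi.bot, one_mem _, (NormalIn.bot ⊤).nrm (mem_top g)⟩
      mul_mem' := fun {x y} hx hy g => by
        obtain ⟨D, h1, h2, h3, h4⟩ := hD x y g hx hy
        exact ⟨D, h1, mul_mem h2 h3, h4⟩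
      inv_mem' := fun {x} hx g => by
        obtain ⟨D, h1, h2, h3⟩ := hx g
        exact ⟨D, h1, inv_mem h2, h3⟩ }
  have hCn : C.Normal := ⟨fun x hx k g => by
    obtain ⟨D, h1, h2, h3⟩ := hx (k⁻¹ * g * k)
    exact ⟨cj k D, h1.cj k, conj_mem_cj.2 h2, by rw [← cj_nrm]; exact mem_cj.2 h3⟩⟩
  have hcC : c ∈ C := fun g => by
    have h5 : lw (m + 1) β (zpowers a ⊔ zpowers b ⊔ zpowers g) = ⊥ := by
      rw [← lw_top_map_subtype, key _ (hs a b g) β hβ (m + 1) ?_, Subgroup.map_bot]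
      intro x y
      rw [← map_eq_bot_iff_of_injective _ (subtype_injective _), map_lw, Subgroup.map_sup,
        MonoidHom.map_zpowers, MonoidHom.map_zpowers]
      exact h2 _ _
    exact ⟨_, lw_succ_eq_bot.1 h5, lw_mono le_sup_left _ _ hc,
      (lw_normalIn _ _ _).nrm (mem_sup_right (mem_zpowers g))⟩
  have hC : C = ⊤ := (hCn.eq_bot_or_eq_top).resolve_left (ne_bot_of_mem hcC hc1)
  have hG : IsPi β (⊤ : Subgroup G) := isPi_iff_elt.2 fun x _ => by
    obtain ⟨D, h1, h2, -⟩ := (hC ▸ mem_top x : x ∈ C) 1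
    exact h1.elt h2
  rcases hβ with rfl | rfl
  · haveI : Group.IsSolvable G := by
      have := hG.sol
      exact Group.isSolvable_of_surjective (f := (⊤ : Subgroup G).subtype) fun x => ⟨⟨x, mem_top x⟩, rfl⟩
    exact hna ⟨⟨IsSimpleGroup.comm_iff_isSolvable.2 this⟩⟩
  · exact hG.not_dvd hp.out rfl (by rwa [card_top])

end H18.PW
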