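import Cfsg.Agent.H18.SAK

/-! STD-A, wreath case: `JobNW`. -/

set_option autoImplicit false
set_option linter.unusedSectionVars false

namespace H18.SA

open H64.SG (O2 Syl Cz Cs Ns cjs Is2 Inv2 UF IsO2 fx mem_Cs mem_Cz mem_fx is2_of_sq
  isPGroup_iff_is2)
open H57 H98 H67.SA Subgroup
open scoped commutatorElement

universe u

variable {n : ℕ} {F : Type} [Field F] [Finite F] [CharP F 2] {G : Type u} [Group G] [Finite G]
  {e e₁ e₂ : SLn n F →* G} {g m t : G} {β : Au n F} {A B : Subgroup (SLn n F)} {a b : SLn n F}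

theorem exists_r0 (hn : 2 ≤ n) (fc : FC n F) : ∃ r ∈ UU n F, r * r = 1 ∧
    (∀ u ∈ UU n F, cm r u ∈ ZZ n F) ∧ ∃ u ∈ Er n F, r * u ≠ u * r := by
  have h1 : (⟨1, by omega⟩ : Fin (n + 1)) < la n := by simp [Fin.lt_def]; omega
  have h0 : (0 : Fin (n + 1)) ≠ ⟨1, by omega⟩ := by simp [Fin.ext_iff]
  refine ⟨_, x_mem_UU h1 1, x_mul_self .., (fc.z2 _ (x_mem_UU h1 1)).2 fun i j h2 h3 => ?_,
    x 0 ⟨1, by omega⟩ 1, x_mem_Row _ _ _, fun h => x0_ne (F := F) hn ?_⟩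
  · rw [x_apply h1.ne, if_neg h2.ne, if_neg, add_zero]
    rintro ⟨rfl, rfl⟩
    simp at h3
    omega
  · rw [← one_mul (1 : F), ← x_cm h0 h1.ne (zero_ne_la (by omega)), cm_eq_one, h]

namespace HB

variable (h : HB e t e₁ e₂) (fa : FA n F)
include h fa

theorem half {Z : Subgroup G} (h1 : g ∈ Ns e₁.range) (h2 : g ∈ Ns (two e₁ e₂ (Er n F)))
    (h3 : ∀ w ∈ two e₁ e₂ (Er n F), cm g w ∈ Z) (h4 : Nat.card Z = Nat.card F)
    (h5 : e (x 0 (la n) 1) ∈ Z) : g ∈ Cs ((Er n F).map e₁) := by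
  obtain ⟨β, i⟩ := exists_ind h.hn h.ker h1
  rcases fa.slr β (i.st h.ker isP_Er (h.nor₁ isP_Er h1 h2)) with k | k
  · exact mem_Cs_map.2 fun s hs => (i.comm (k s hs)).symm
  · rw [rel_eq h.ker i isP_Er] at k
    have k1 := k.trans (rel_le_card (A := Z ⊓ e₁.range) fun u hu => mem_inf.2 ⟨h3 u (mem_sup_left hu),
      mul_mem (conj_mem_of_mem_normalizer h1 (map_le_range _ _ hu)) (inv_mem (map_le_range _ _ hu))⟩)
    have k2 := (eq_of_le_of_card_ge inf_le_left (h4.le.trans k1)).ge h5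
    rw [h.diag] at k2
    exact absurd (h.eq_one₂ (is2_of_sq (x_mul_self ..)) k2.2) (x0_ne h.hn)

variable (fc : FC n F)
include fc

theorem r0 (h1 : m ∈ Ns (two e₁ e₂ (Er n F))) :
    m * e₁ (x 0 (la n) 1) * m⁻¹ ≠ e (x 0 (la n) 1) := fun h2 => by
  obtain ⟨r, r1, r2, r3, u, r4, r5⟩ := exists_r0 h.hn fc
  have n1 : e₁ r ∈ Ns (two e₁ e₂ (Er n F)) := by
    simpa using h.nor_two (Pr_le_Ns (P00_le_Pr (UU_le_P00 r1))) (one_mem _)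
  obtain ⟨S, hS, s1⟩ := exists_isSyl_le (H := Ns (two e₁ e₂ (Er n F)) ⊓ Cz (e (x 0 (la n) 1)))
    (is2_of_sq h.tt).zpowers (zpowers_le.2 ⟨h.t_mem_Ns h.tt _, mem_Cz.2 (h.t_comm _).symm⟩)
  obtain ⟨k, k1, k2⟩ := hS.exists_cj_le (((is2_of_sq r2).map e₁).conj m).zpowers (zpowers_le.2
    (mem_inf.2 ⟨mul_mem (mul_mem h1 n1) (inv_mem h1), mem_Cz.2 (by
      rw [← h2, conj_mul, conj_mul, ← map_mul, UU_le_Cs r1 _ (x_mem_ZZ 1), map_mul])⟩))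
  have k3 := H9.UF.le_of_pg h.uf hS.isPGroup (s1 (mem_zpowers t)) (k2 (conj_mem_cj (mem_zpowers _)))
  have k4 : k * m * e₁ (x 0 (la n) 1) * (k * m)⁻¹ = e (x 0 (la n) 1) := by
    calc _ = k * (m * e₁ (x 0 (la n) 1) * m⁻¹) * k⁻¹ := by group
      _ = _ := by rw [h2, ← mem_Cz.1 k1.2, mul_inv_cancel_right]
  rw [show k * (m * e₁ r * m⁻¹) * k⁻¹ = k * m * e₁ r * (k * m)⁻¹ by group] at k3
  have k5 := mul_mem (mem_inf.1 k1).1 h1
  generalize k * m = m at k3 k4 k5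
  have a1 := mul_mem (mul_mem k5 n1) (inv_mem k5)
  have a2 : ∀ w ∈ two e₁ e₂ (Er n F), cm (m * e₁ r * m⁻¹) w ∈ cjs m ((ZZ n F).map e₁) := by
    intro w hw
    obtain ⟨a, ha, b, -, k⟩ := h.mem_two.1 (conj_mem_of_mem_normalizer' k5 hw)
    refine mem_cjs.2 ⟨_, r3 a (QQ_le_UU (Er_le_QQ ha)), ?_⟩
    calc _ = e₁ r * (e₁ a * e₂ b) * (e₁ r)⁻¹ * (e₁ a * e₂ b)⁻¹ := by
          rw [← mul_assoc, mul_assoc _ (e₂ b), ← map_inv, ← h.comm]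
          simp [cm, mul_assoc]
      _ = _ := by rw [← k, cm]; group
  have a3 : Nat.card (cjs m ((ZZ n F).map e₁)) = Nat.card F := by
    rw [card_cjs, card_map2 h.ker isP_ZZ, card_ZZ (by have := h.hn; omega)]
  have a4 : e (x 0 (la n) 1) ∈ cjs m ((ZZ n F).map e₁) := k4 ▸ conj_mem_cj ⟨_, x_mem_ZZ 1, rfl⟩
  rcases h.pm _ k3 with k | k
  · have a5 : m * e₁ r * m⁻¹ ∈ Cs (two e₁ e₂ (Er n F)) := by
      rw [Cs, centralizer_sup]
      exact ⟨h.half fa k.1 a1 a2 a3 a4,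
        h.symm.half fa k.2 (by rwa [two_comm]) (by rwa [two_comm]) a3 a4⟩
    have := a5 _ (conj_mem_of_mem_normalizer k5 (mem_sup_left ⟨u, r4, rfl⟩))
    rw [conj_mul, conj_mul, mul_left_inj, mul_right_inj] at this
    exact r5 ((e_comm_iff h.ker (isPGroup_iff_is2.1 isP_Er u r4)).1 this.symm)
  · have := rel_le_card (B := (Er n F).map e₁) fun u hu => a2 u (mem_sup_left hu)
    rw [h.rel_swap k.1 isP_Er, a3, card_Er] at this
    exact absurd ((Nat.pow_le_pow_iff_right one_lt_card).1 (this.trans_eq (pow_one _).symm))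
      (by have := h.hn; omega)

theorem r1 (h1 : m ∈ Ns (two e₁ e₂ (Er n F))) : cjs m ((Er n F).map e₁) ≤ (Er n F).map e₁ ∨
    cjs m ((Er n F).map e₁) ≤ (Er n F).map e₂ := le_or_le (by
  rintro _ ⟨_, ⟨v, hv, rfl⟩, rfl⟩
  obtain ⟨a, ha, b, hb, k⟩ := h.mem_two.1 (conj_mem_of_mem_normalizer h1 (mem_sup_left ⟨v, hv, rfl⟩))
  change m * e₁ v * m⁻¹ ∈ _ ∨ m * e₁ v * m⁻¹ ∈ _
  by_cases b1 : b = 1
  · exact .inl ⟨a, ha, by simp [k, b1]⟩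
  by_cases a1 : a = 1
  · exact .inr ⟨b, hb, by simp [k, a1]⟩
  have v1 : v ≠ 1 := by
    rintro rfl
    exact b1 (h.eq_one₂ (isPGroup_iff_is2.1 isP_Er b hb) (by rw [← k]; simp))
  have z1 := ZZ_le_Er (x_mem_ZZ (n := n) (1 : F))
  obtain ⟨p0, q0, rfl⟩ := fc.trr _ z1 v hv (x0_ne h.hn) v1
  obtain ⟨p1, q1, e1⟩ := fc.trr a ha _ z1 a1 (x0_ne h.hn)
  obtain ⟨p2, q2, e2⟩ := fc.trr b hb _ z1 b1 (x0_ne h.hn)
  refine absurd ?_ (h.r0 fa fc (mul_mem (mul_mem (h.nor_two (Pr_le_Ns q1) (Pr_le_Ns q2)) h1)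
    (h.nor_two (Pr_le_Ns q0) (one_mem _))))
  rw [h.diag]
  conv_rhs => rw [← e2]; lhs; rw [e2, ← e1]
  rw [← h.conj2, ← k]
  simp [mul_assoc])

omit fa in
theorem r2 (h1 : m ∈ Ns (two e₁ e₂ (Er n F))) (fa : FA n F) :
    cjs m ((Er n F).map e₁) = (Er n F).map e₁ ∧ cjs m ((Er n F).map e₂) = (Er n F).map e₂ ∨
      cjs m ((Er n F).map e₁) = (Er n F).map e₂ ∧ cjs m ((Er n F).map e₂) = (Er n F).map e₁ :=
  h.fix_or isP_Er (ZZ_le_Er (x_mem_ZZ 1)) (h.r1 fa fc h1)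
    (h.symm.r1 fa fc (by rwa [two_comm]))

theorem key (cu : Cs ((Er n F).map e) ≤ Ns (G12 e₁ e₂)) (h1 : m ∈ Ns ((Er n F).map e₁))
    (h2 : m ∈ Ns ((Er n F).map e₂)) : cjs m ((Pr n F).map e₁) ≤ G12 e₁ e₂ := by
  have z1 := ZZ_le_Er (x_mem_ZZ (n := n) (1 : F))
  have z2 : Is2 (x 0 (la n) (1 : F)) := is2_of_sq (x_mul_self ..)
  have c0 : Cs ((Er n F).map e₁) ⊓ Cs ((Er n F).map e₂) ≤ Ns (G12 e₁ e₂) := by
    rw [← centralizer_sup]; exact (centralizer_anti (h.map_le _)).trans cu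
  have c2 : ∀ p, m * e₁ p * m⁻¹ ∈ Cs ((Er n F).map e₂) := fun p => conj_mem_of_mem_normalizer
    (normalizer_le_normalizer_centralizer _ h2) (Cs_range_le _ (h.le_Cs' ⟨p, rfl⟩))
  let S : Subgroup (Au n F) → Subgroup (SLn n F) := fun D =>
    { carrier := {p | ∃ β ∈ D ⊓ St (Er n F), ∀ u ∈ Er n F,
        m * e₁ p * m⁻¹ * e₁ u * (m * e₁ p * m⁻¹)⁻¹ = e₁ (β u)}
      one_mem' := ⟨1, one_mem _, by simp⟩
      mul_mem' := fun ⟨β, b1, b2⟩ ⟨γ, d1, d2⟩ => ⟨_, mul_mem b1 d1, fun u hu => by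
        rw [MulAut.mul_apply, ← b2 _ ((d1.2 u).1 hu), ← d2 u hu, map_mul]; group⟩
      inv_mem' := fun ⟨β, b1, b2⟩ => ⟨_, inv_mem b1, fun u hu => by
        have := b2 _ (((inv_mem b1).2 u).1 hu)
        rw [MulAut.apply_inv_self] at this
        rw [← this, map_inv]; group⟩ }
  have s1 : ∀ D, Pr n F ≤ S D → Pr n F ≤ S ⁅D, D⁆ := fun D k => fc.pfr.trans (commutator_le.2
    fun p hp q hq => by
      obtain ⟨β, b1, b2⟩ := k hp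
      obtain ⟨γ, d1, d2⟩ := k hq
      rw [mem_inf] at b1 d1
      have b3 := inv_mem b1.2
      have d3 := inv_mem d1.2
      refine ⟨⁅β, γ⁆, ⟨commutator_mem_commutator b1.1 d1.1,
        mul_mem (mul_mem (mul_mem b1.2 d1.2) b3) d3⟩, fun u hu => ?_⟩
      have u1 := (d3 u).1 hu
      have u2 := (b3 _).1 u1
      have f1 := d2 _ u1
      have f2 := b2 _ u2
      rw [MulAut.apply_inv_self] at f1 f2
      simp only [commutatorElement_def, MulAut.mul_apply, map_mul, map_inv]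
      rw [← b2 _ ((d1.2 _).1 u2), ← d2 _ u2, ← f1, ← f2]
      group)
  have s0 : Pr n F ≤ S (St (Er n F)) := fun p hp => by
    have n1 := mul_mem (mul_mem h1 (map_mem_Ns (Pr_le_Ns hp))) (inv_mem h1)
    obtain ⟨k, k1, k2⟩ := ktr h.uf n1 (h.cjs_map (Er n F) ▸ c2 p) (h.cjs_map (Er n F) ▸ c0)
    have k3 : k ∈ Ns ((Er n F).map e₁) := mem_normalizer_of_cj_le (by
      rintro _ ⟨u, hu, rfl⟩
      exact (k2 u hu).symm.subst (motive := (· ∈ _)) (conj_mem_of_mem_normalizer n1 hu))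
    obtain ⟨β, i⟩ := exists_ind h.hn h.ker (h.nor k1 z2 (x0_ne h.hn)
      (map_le_range _ _ (conj_mem_of_mem_normalizer k3 ⟨_, z1, rfl⟩))).1
    have k4 := i.st h.ker isP_Er k3
    exact ⟨β, ⟨k4, k4⟩, fun u hu => (k2 _ ⟨u, hu, rfl⟩).symm.trans (i u)⟩
  rw [← map_cje, Pr, map_Pat_le]
  intro i j _ hj c
  obtain ⟨β, b1, b2⟩ := s1 _ (s1 _ s0) (x_mem_Pat (i := i) (j := j) hj c)
  obtain ⟨p, -, rfl⟩ := mem_cI.1 (fa.ner b1.1)
  have d1 : (e₁ p)⁻¹ * (m * e₁ (x i j c) * m⁻¹) ∈ Cs ((Er n F).map e₁) := mem_Cs_map.2 fun u hu => by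
    have := b2 u hu
    rw [MulAut.conj_apply, map_mul, map_mul, map_inv] at this
    calc _ = (e₁ p)⁻¹ * (e₁ p * e₁ u * (e₁ p)⁻¹) * (m * e₁ (x i j c) * m⁻¹) := by group
      _ = _ := by rw [← this]; group
  have d2 : (e₁ p)⁻¹ * (m * e₁ (x i j c) * m⁻¹) ∈ Cs ((Er n F).map e₂) :=
    mul_mem (inv_mem (Cs_range_le _ (h.le_Cs' ⟨p, rfl⟩))) (c2 _)
  obtain ⟨d3, d4⟩ := h.nor (c0 ⟨d1, d2⟩) z2 (x0_ne h.hn) (by
    rw [← d1 _ ⟨_, z1, rfl⟩, mul_inv_cancel_right]; exact ⟨_, rfl⟩)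
  obtain ⟨β₁, i1⟩ := exists_ind h.hn h.ker d3
  obtain ⟨β₂, i2⟩ := exists_ind h.hn h.ker₂ d4
  have hn := h.hn
  obtain ⟨ζ₁, -, rfl⟩ := mem_cI.1 (fa.ctM 1 le_rfl (by omega) β₁ (Ml_one (n := n) (F := F) ▸
    i1.fix h.ker isP_Er d1))
  obtain ⟨ζ₂, -, rfl⟩ := mem_cI.1 (fa.ctM 1 le_rfl (by omega) β₂ (Ml_one (n := n) (F := F) ▸
    i2.fix h.ker₂ isP_Er d2))
  exact h.mem_G (a := p * ζ₁) (b := ζ₂) (by simpa using (ind_conj p).mul i1)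
    (by simpa using (h.ind₂ p 1).mul i2) (by rw [cje_apply, conj_mul, ← map_mul, x_mul_self]; simp)

theorem nw0 (cr : Cs ((Er n F).map e) ≤ Ns (G12 e₁ e₂)) (cc : Cs ((Ec n F).map e) ≤ Ns (G12 e₁ e₂))
    (h1 : cjs m ((Er n F).map e₁) = (Er n F).map e₁) (h2 : cjs m ((Er n F).map e₂) = (Er n F).map e₂)
    (h3 : m ∈ Ns (two e₁ e₂ (Ec n F))) : cjs m e₁.range ≤ G12 e₁ e₂ := by
  have g1 : ∀ f : SLn n F →* G, (Er n F).map (H67.SA.twe f (gam n F)) = (Ec n F).map f :=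
    fun f => map_twe_of_Sw gam_Er
  have g2 : G12 (H67.SA.twe e₁ (gam n F)) (H67.SA.twe e₂ (gam n F)) = G12 e₁ e₂ := by
    simp only [G12, range_twe]
  have h4 := (h.twe (gam n F)).r2 fc (m := m) (by simpa only [two, g1] using h3) fa
  simp only [g1] at h4
  rcases h4 with h4 | h4
  · have := (h.twe (gam n F)).key fa fc (m := m) (by rwa [g1, g2])
      (g1 _ ▸ cj_eq_self_iff.1 h4.1) (g1 _ ▸ cj_eq_self_iff.1 h4.2)
    rw [map_twe_of_Sw gam_Pr, g2] at this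
    rw [MonoidHom.range_eq_map, ← fc.top, Subgroup.map_sup, cjs, Subgroup.map_sup]
    exact sup_le (h.key fa fc cr (cj_eq_self_iff.1 h1) (cj_eq_self_iff.1 h2)) this
  · have z2 : Is2 (x 0 (la n) (1 : F)) := is2_of_sq (x_mul_self ..)
    exact absurd (eq_one2 h.ker z2 (conj_eq_one_iff.1 (h.eq_one h.hn
      (map_le_range _ _ (h1.le (conj_mem_cj ⟨_, ZZ_le_Er (x_mem_ZZ 1), rfl⟩)))
      (map_le_range _ _ (h4.1.le (conj_mem_cj ⟨_, ZZ_le_Ec (x_mem_ZZ 1), rfl⟩)))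
      ((z2.map e₁).conj m)))) (x0_ne h.hn)

theorem nw (cr : Cs ((Er n F).map e) ≤ Ns (G12 e₁ e₂)) (cc : Cs ((Ec n F).map e) ≤ Ns (G12 e₁ e₂)) :
    Ns (two e₁ e₂ (Er n F)) ⊓ Ns (two e₁ e₂ (Ec n F)) ≤ Ns (G12 e₁ e₂) := by
  have hG : G12 e₂ e₁ = G12 e₁ e₂ := G12_comm
  have k : ∀ m, cjs m ((Er n F).map e₁) = (Er n F).map e₁ →
      cjs m ((Er n F).map e₂) = (Er n F).map e₂ → m ∈ Ns (two e₁ e₂ (Ec n F)) →
      m ∈ Ns (G12 e₁ e₂) := fun m h1 h2 h3 => mem_normalizer_of_cj_le (by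
    rw [cj_sup]
    exact sup_le (h.nw0 fa fc cr cc h1 h2 h3) ((h.symm.nw0 fa fc (by rwa [hG]) (by rwa [hG]) h2 h1
      (by rwa [two_comm])).trans hG.le))
  intro m hm
  rcases h.r2 fc hm.1 fa with h1 | h1
  · exact k m h1.1 h1.2 hm.2
  · exact (mul_mem_cancel_left h.uf.mem).1 (k _ (h.t_fix h1.1) (h.symm.t_fix h1.2)
      (mul_mem (h.t_mem_Ns h.tt _) hm.2))

end HB

theorem jobNW (hA : JobFA) (hC : JobFC) : JobNW.{u} := by
  intro n F _ _ _ hp G _ _ e t e₁ e₂ _ c w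
  have hn := hp.two_le
  exact (hb_of hp c w).nw (hA n F hp) (hC n F hp) (Ml_one (n := n) (F := F) ▸ w.cu 1 le_rfl (by omega))
    (Ml_n (n := n) (F := F) ▸ w.cu n (by omega) le_rfl)

end H18.SA
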