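import Cfsg.Agent.H18.SAK

/-! STD-A, wreath case: `JobW1`. -/

set_option autoImplicit false
set_option linter.unusedSectionVars false

namespace H18.SA

open H64.SG (O2 Syl Cz Cs Ns cjs Is2 Inv2 UF IsO2 fx mem_Cs mem_Cz mem_fx is2_of_sq
  isPGroup_iff_is2)
open H57 H98 H67.SA Subgroup
open scoped commutatorElement

universe u

variable {n : ℕ} {F : Type} [Field F] [Finite F] [CharP F 2] {G : Type u} [Group G] [Finite G]
  {e e₁ e₂ f₁ f₂ : SLn n F →* G} {g m t : G} {β β₁ β₂ : Au n F} {A B : Subgroup (SLn n F)}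
  {a b : SLn n F} {W P N : Subgroup G}

namespace HB

variable (h : HB e t e₁ e₂)
include h

theorem stU (h1 : m ∈ Ns (two e₁ e₂ (UU n F))) (i : Ind e₁ m β) : β ∈ St (UU n F) :=
  i.st h.ker isP_UU (h.nor₁ isP_UU i.mem_Ns h1)

theorem norZ (fa : FA n F) (h1 : m ∈ Ns (two e₁ e₂ (UU n F))) (h2 : m ∈ Ns e₁.range) :
    m ∈ Ns ((ZZ n F).map e₁) := by
  obtain ⟨β, i⟩ := exists_ind h.hn h.ker h2
  exact i.mem_Ns_map (fa.nu β (h.stU h1 i)).1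

theorem swap_nor (h1 : cjs m e₁.range = e₂.range) : t * m ∈ Ns e₁.range :=
  cj_eq_self_iff.1 ((cj_cj t m _).symm.trans ((congrArg _ h1).trans h.symm.cjs_range))

theorem swap_map (h1 : t * m ∈ Ns (A.map e₁)) : cjs m (A.map e₁) = A.map e₂ := by
  rw [← h.cjs_map, ← one_mul m, ← h.tt, mul_assoc]
  exact (cj_cj t _ _).symm.trans (congrArg _ (cj_eq_self h1))

theorem mem_Z (hW : IsPGroup 2 W) (h1 : two e₁ e₂ (UU n F) ≤ W) (hg : g ∈ W) (i1 : Ind e₁ g β₁)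
    (i2 : Ind e₂ g β₂) (b1 : β₁ ∈ cI (ZZ n F)) (b2 : β₂ ∈ cI (ZZ n F)) :
    g ∈ two e₁ e₂ (ZZ n F) := by
  obtain ⟨a, ha, rfl⟩ := mem_cI.1 b1
  obtain ⟨b, hb, rfl⟩ := mem_cI.1 b2
  exact h.mem_two.2 ⟨a, ha, b, hb, h.eq_mul hW hg (h1 (mem_sup_left ⟨a, ZZ_le_UU ha, rfl⟩))
    (h1 (mem_sup_right ⟨b, ZZ_le_UU hb, rfl⟩)) i1 i2⟩

theorem rel_two (i1 : Ind e₁ g β₁) (i2 : Ind e₂ g β₂) (hA : IsPGroup 2 A) :
    (fx β₁).relIndex A * (fx β₂).relIndex A ≤ (Cz g).relIndex (two e₁ e₂ A) := by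
  have k : Cz g ⊓ two e₁ e₂ A ≤ (fx β₁ ⊓ A).map e₁ ⊔ (fx β₂ ⊓ A).map e₂ := fun w hw => by
    obtain ⟨a, ha, b, hb, rfl⟩ := h.mem_two.1 hw.2
    have a2 := isPGroup_iff_is2.1 hA a ha
    have b2 := isPGroup_iff_is2.1 hA b hb
    have := h.inj2 h.hn (a2.map β₁.toMonoidHom) (b2.map β₂.toMonoidHom) a2 b2 (by
      change e₁ (β₁ a) * e₂ (β₂ b) = _
      rw [← i1, ← i2, conj_mul, mem_Cz.1 hw.1, mul_inv_cancel_right])
    exact h.mem_sup.2 ⟨a, ⟨mem_fx.2 this.1, ha⟩, b, ⟨mem_fx.2 this.2, hb⟩, rfl⟩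
  have k1 := card_le_of_le k
  rw [h.card_sup h.hn (hA.to_le inf_le_right) (hA.to_le inf_le_right)] at k1
  refine Nat.le_of_mul_le_mul_right (c := Nat.card ↥(fx β₁ ⊓ A) * Nat.card ↥(fx β₂ ⊓ A)) ?_
    (Nat.mul_pos Nat.card_pos Nat.card_pos)
  rw [mul_mul_mul_comm, rel_mul_card, rel_mul_card, ← sq, ← h.card_two h.hn hA,
    ← rel_mul_card (X := Cz g)]
  exact Nat.mul_le_mul_left _ k1

theorem card_Z : Nat.card ((ZZ n F).map e₁) = Nat.card F := by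
  rw [card_map2 h.ker isP_ZZ, card_ZZ (by have := h.hn; omega)]

section

variable (fa : FA n F) (fc : FC n F) (hW : IsPGroup 2 W) (h1 : W ≤ Ns (G12 e₁ e₂))
  (h2 : two e₁ e₂ (UU n F) ≤ W)
include hW h1 h2

theorem norU : W ≤ Ns (two e₁ e₂ (UU n F)) := by
  rw [← (H64.SG.syl_iff.1 h.syl_two).eq_of_le (hW.to_le inf_le_left) (le_inf h2 (two_le _))
    inf_le_right]
  exact le_normalizer_inf le_normalizer h1

include fc

theorem low1 (hg : g ∈ W) (i : Ind e₁ g β) (b1 : β ∉ cI (ZZ n F)) :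
    Nat.card F ≤ (Cz g).relIndex ((UU n F).map e₁) :=
  rel_eq h.ker i isP_UU ▸ (fc.si1 β (h.stU (h.norU hW h1 h2 hg) i)).resolve_left b1

theorem low2 (hg : g ∈ W) (i1 : Ind e₁ g β₁) (i2 : Ind e₂ g β₂) (b1 : β₁ ∉ cI (ZZ n F))
    (h3 : ¬ W ≤ Ns e₁.range) : 2 * Nat.card F ≤ (Cz g).relIndex W := by
  have k := h.low1 fc hW h1 h2 hg i1 b1
  by_cases h4 : Cz g ⊓ W ≤ Ns e₁.range
  · rw [← inf_relIndex_right, ← inf_eq_left.2 h4, inf_right_comm, inf_relIndex_right,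
      ← relIndex_inf_mul_relIndex, mul_comm]
    refine Nat.mul_le_mul (k.trans (rel_mono (le_inf ((map_le_range _ _).trans le_normalizer)
      (le_sup_left.trans h2)))) ?_
    have k1 : (Ns e₁.range).relIndex W ≠ 0 := index_ne_zero_of_finite
    have k2 := mt relIndex_eq_one.1 h3
    omega
  · obtain ⟨w, hw, k1⟩ := SetLike.not_le_iff_exists.1 h4
    have k2 := ((h.pm w (h1 hw.2)).resolve_left fun k => k1 k.1).1
    have k3 := h.swap_map (h.nor₁ isP_UU (h.swap_nor k2)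
      (mul_mem (h.t_mem_Ns h.tt _) (h.norU hW h1 h2 hw.2)))
    have k4 : (Cz g).relIndex ((UU n F).map e₂) = (Cz g).relIndex ((UU n F).map e₁) := by
      rw [← k3]
      conv_lhs => rw [← cj_eq_self_of_mem hw.1]
      exact relIndex_map_map_of_injective _ _ (MulAut.conj w).injective
    refine le_trans ?_ ((h.rel_two i1 i2 isP_UU).trans (rel_mono h2))
    rw [rel_eq h.ker i1 isP_UU, rel_eq h.ker₂ i2 isP_UU, k4]
    exact Nat.mul_le_mul (le_trans one_lt_card k) k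

include fa

theorem cjZ (hm : m ∈ Ns W) : cjs m ((ZZ n F).map e₁) ≤ two e₁ e₂ (ZZ n F) := by
  rintro _ ⟨z, hz, rfl⟩
  change m * z * m⁻¹ ∈ _
  by_contra h3
  have hG : G12 e₂ e₁ = G12 e₁ e₂ := G12_comm
  have h1' : W ≤ Ns (G12 e₂ e₁) := by rwa [hG]
  have h2' : two e₂ e₁ (UU n F) ≤ W := by rwa [two_comm]
  have nU := h.norU hW h1 h2
  have z1 : ∀ w : G, w * z * w⁻¹ ≠ 1 := fun w k => h3 (by
    rw [conj_eq_one_iff.1 k]; simp)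
  have hg := conj_mem_of_mem_normalizer hm (h2 (mem_sup_left (map_mono ZZ_le_UU hz)))
  have e1 := rel_cj (g := z) m hm
  generalize m * z * m⁻¹ = g at hg h3 e1
  have c1 : ((ZZ n F).map e₁ : Set G).ncard = Nat.card F := h.card_Z
  have c2 : ((ZZ n F).map e₂ : Set G).ncard = Nat.card F := h.symm.card_Z
  have low : g ∈ Ns e₁.range → g ∈ Ns e₂.range → ∃ β₁ β₂, Ind e₁ g β₁ ∧ Ind e₂ g β₂ ∧
      (β₁ ∉ cI (ZZ n F) ∨ β₂ ∉ cI (ZZ n F)) := fun k1 k2 => by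
    obtain ⟨β₁, i1⟩ := exists_ind h.hn h.ker k1
    obtain ⟨β₂, i2⟩ := exists_ind h.hn h.ker₂ k2
    exact ⟨β₁, β₂, i1, i2, not_and_or.1 fun k => h3 (h.mem_Z hW h2 hg i1 i2 k.1 k.2)⟩
  have nn : ∀ w ∈ W, w ∈ Ns e₁.range ↔ w ∈ Ns e₂.range := fun w hw => by
    rcases h.pm w (h1 hw) with k | k
    · exact iff_of_true k.1 k.2
    · exact iff_of_false (fun k1 => h.ne h.hn (k.1.ge.trans (cj_eq_self k1).le))
        fun k1 => h.ne h.hn ((cj_eq_self k1).ge.trans k.2.le)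
  by_cases h4 : W ≤ Ns e₁.range
  · have u1 := (rel_le_ncard (B := W) (g := z) (S := (ZZ n F).map e₁ \ {1}) (Set.toFinite _)
      fun w hw => ⟨conj_mem_of_mem_normalizer (h.norZ fa (nU hw) (h4 hw)) hz, z1 w⟩).trans_lt
      (Set.ncard_sdiff_singleton_lt_of_mem (one_mem _) (Set.toFinite _))
    rw [c1, ← e1] at u1
    obtain ⟨β₁, β₂, i1, i2, k | k⟩ := low (h4 hg) ((nn g hg).1 (h4 hg))
    · exact u1.not_ge ((h.low1 fc hW h1 h2 hg i1 k).trans (rel_mono (le_sup_left.trans h2)))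
    · exact u1.not_ge ((h.symm.low1 fc hW h1' h2' hg i2 k).trans (rel_mono (le_sup_right.trans h2)))
  · have u1 := ((rel_le_ncard (B := W) (g := z) (S := ((ZZ n F).map e₁ ∪ (ZZ n F).map e₂) \ {1})
      (Set.toFinite _) fun w hw => ⟨(h.pm w (h1 hw)).imp
        (fun k => conj_mem_of_mem_normalizer (h.norZ fa (nU hw) k.1) hz) fun k => (h.swap_map
          (h.norZ fa (mul_mem (h.t_mem_Ns h.tt _) (nU hw)) (h.swap_nor k.1))).le (conj_mem_cj hz),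
        z1 w⟩).trans_lt (Set.ncard_sdiff_singleton_lt_of_mem (.inl (one_mem _))
          (Set.toFinite _))).trans_le (Set.ncard_union_le _ _)
    rw [c1, c2, ← e1, ← two_mul] at u1
    rcases h.pm g (h1 hg) with k | k
    · obtain ⟨β₁, β₂, i1, i2, k | k⟩ := low k.1 k.2
      · exact u1.not_ge (h.low2 fc hW h1 h2 hg i1 i2 k h4)
      · exact u1.not_ge (h.symm.low2 fc hW h1' h2' hg i2 i1 k fun k => h4 fun w hw =>
          (nn w hw).2 (k hw))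
    · refine u1.not_ge (le_trans ?_ (rel_mono (le_sup_left.trans h2)))
      rw [h.rel_swap k.1 isP_UU, card_UU]
      refine le_trans ?_ (Nat.pow_le_pow_right Nat.card_pos ((by omega : 2 ≤ 3).trans
        (three_le_NN h.hn)))
      rw [sq]
      exact Nat.mul_le_mul_right _ one_lt_card

end

end HB

/-- The properties of `P = C_W(Z*)`. -/
structure PR (P : Subgroup G) (e₁ e₂ : SLn n F →* G) : Prop where
  p2 : IsPGroup 2 P
  le : two e₁ e₂ (UU n F) ≤ P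
  n1 : P ≤ Ns e₁.range
  n2 : P ≤ Ns e₂.range
  nu : P ≤ Ns (two e₁ e₂ (UU n F))
  cz : P ≤ Cs (two e₁ e₂ (ZZ n F))

theorem PR.symm (p : PR P e₁ e₂) : PR P e₂ e₁ :=
  ⟨p.p2, by rw [two_comm]; exact p.le, p.n2, p.n1, by rw [two_comm]; exact p.nu,
    by rw [two_comm]; exact p.cz⟩

theorem PR.mem (p : PR P e₁ e₂) (ha : a ∈ UU n F) : e₁ a ∈ P := p.le (mem_sup_left ⟨a, ha, rfl⟩)

/-- The automorphisms induced by `C_P(L₂)` on `L₁`. -/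
def DD (P : Subgroup G) (e₁ e₂ : SLn n F →* G) : Subgroup (Au n F) where
  carrier := {α | ∃ g ∈ P ⊓ Cs e₂.range, Ind e₁ g α}
  one_mem' := ⟨1, one_mem _, ind_one⟩
  mul_mem' := fun ⟨_, a, b⟩ ⟨_, c, d⟩ => ⟨_, mul_mem a c, b.mul d⟩
  inv_mem' := fun ⟨_, a, b⟩ => ⟨_, inv_mem a, b.inv⟩

namespace HB

variable (h : HB e t e₁ e₂) (p : PR P e₁ e₂) (fc : FC n F)
include h p

theorem dd : IsPGroup 2 (DD P e₁ e₂) ∧ cI (UU n F) ≤ DD P e₁ e₂ ∧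
    ∀ β ∈ DD P e₁ e₂, ∀ z ∈ ZZ n F, β z = z := by
  refine ⟨isPGroup_iff_is2.2 fun _ ⟨g, hg, i⟩ =>
    i.is2 h.hn h.ker (isPGroup_iff_is2.1 p.p2 g hg.1), ?_, fun _ ⟨g, hg, i⟩ =>
      i.fix h.ker isP_ZZ (centralizer_anti le_sup_left (p.cz hg.1))⟩
  rintro _ ⟨u, hu, rfl⟩
  exact ⟨_, ⟨p.mem hu, h.le_Cs' ⟨u, rfl⟩⟩, ind_conj u⟩

include fc

theorem zle (h1 : P ≤ Ns N) (hg : g ∈ N) (hP : g ∈ P) (i : Ind e₁ g β) (b1 : β ∉ cI (ZZ n F)) :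
    (ZZ n F).map e₁ ≤ N := map_le_iff_le_comap.2 (fc.nzn β (h.stU (p.nu hP) i) b1 _
  (le_trans (fun _ hu => p.mem hu) (comap_le_normalizer_comap e₁ h1)) fun u hu => by
    rw [mem_comap, map_mul, ← i, map_inv]
    simpa only [mul_assoc] using
      mul_mem hg (conj_mem_of_mem_normalizer (h1 (p.mem hu)) (inv_mem hg)))

theorem perm (h1 : m ∈ Ns P) (h2 : m ∈ Ns (two e₁ e₂ (ZZ n F))) :
    cjs m ((ZZ n F).map e₁) ≤ (ZZ n F).map e₁ ∨ cjs m ((ZZ n F).map e₁) ≤ (ZZ n F).map e₂ := by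
  have k1 : P ≤ Ns (cjs m ((UU n F).map e₁)) := by
    rw [← H64.SG.cj_Ns]
    exact (cj_eq_self h1).ge.trans (cj_mono m fun w hw => h.nor₁ isP_UU (p.n1 hw) (p.nu hw))
  have k2 : ¬ cjs m ((UU n F).map e₁) ≤ two e₁ e₂ (ZZ n F) := fun k => by
    have := card_le_of_le k
    rw [card_cjs, card_map2 h.ker isP_UU, h.card_two h.hn isP_ZZ, card_UU,
      card_ZZ (by have := h.hn; omega), Nat.pow_le_pow_iff_right one_lt_card] at this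
    have := three_le_NN h.hn
    omega
  have k3 : cjs m ((UU n F).map e₁) ⊓ two e₁ e₂ (ZZ n F) ≤ cjs m ((ZZ n F).map e₁) := by
    conv_lhs => rw [← cj_eq_self h2]
    exact (cj_inf m _ _).ge.trans (cj_mono m ((le_inf inf_le_right
      (inf_le_left.trans (map_le_range _ _))).trans (h.inf₁ isP_ZZ).le))
  obtain ⟨g, hg, k4⟩ := SetLike.not_le_iff_exists.1 k2
  have hP : g ∈ P := cj_le_of_le (le_sup_left.trans p.le) h1 hg
  obtain ⟨β₁, i1⟩ := exists_ind h.hn h.ker (p.n1 hP)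
  obtain ⟨β₂, i2⟩ := exists_ind h.hn h.ker₂ (p.n2 hP)
  refine (not_and_or.1 fun k => k4 (h.mem_Z p.p2 p.le hP i1 i2 k.1 k.2)).imp (fun k => ?_) fun k => ?_
  · exact (eq_of_le_of_card_ge ((le_inf (h.zle p fc k1 hg hP i1 k) le_sup_left).trans k3)
      (by rw [card_cjs])).ge
  · exact (eq_of_le_of_card_ge ((le_inf (h.symm.zle p.symm fc k1 hg hP i2 k) le_sup_right).trans k3)
      (by rw [card_cjs, h.card_Z, h.symm.card_Z])).ge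

variable (h' : HB e t f₁ f₂) (p' : PR P f₁ f₂) (h1 : m ∈ Ns P)
  (h2 : cjs m ((ZZ n F).map e₂) = (ZZ n F).map f₂)
include h' p' h1 h2

theorem th0 (hg : g ∈ P ⊓ Cs e₂.range) : ∃ ζ ∈ ZZ n F, Ind f₂ (m * g * m⁻¹) (MulAut.conj ζ) := by
  have hP := conj_mem_of_mem_normalizer h1 hg.1
  obtain ⟨β, i⟩ := exists_ind h.hn h'.ker₂ (p'.n2 hP)
  by_cases k : β ∈ cI (ZZ n F)
  · obtain ⟨ζ, k', rfl⟩ := mem_cI.1 k
    exact ⟨ζ, k', i⟩
  · have := h'.symm.zle p'.symm fc (N := cjs m (P ⊓ Cs e₂.range)) (by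
      rw [← H64.SG.cj_Ns]
      exact (cj_eq_self h1).ge.trans (cj_mono m (le_normalizer_inf le_normalizer
        (le_normalizer_centralizer p.n2)))) (conj_mem_cj hg) hP i k
    rw [← h2] at this
    exact absurd (eq_one_of_Cs h.hn h.ker₂ ⟨_, rfl⟩ (cj_le_cj_iff.1 this ⟨_, x_mem_ZZ 1, rfl⟩).2
      ((is2_of_sq (x_mul_self ..)).map e₂)) (inv2_x0 h.hn h.ker₂).2

theorem th1 : ∃ θ : Au n F → Au n F,
    (∀ g ∈ P ⊓ Cs e₂.range, ∀ α, Ind e₁ g α → Ind f₁ (m * g * m⁻¹) (θ α)) ∧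
    Set.MapsTo θ (DD P e₁ e₂) (DD P f₁ f₂) ∧ Set.InjOn θ (DD P e₁ e₂) := by
  have : ∀ α, ∃ α', ∀ g ∈ P ⊓ Cs e₂.range, Ind e₁ g α → Ind f₁ (m * g * m⁻¹) α' := fun α => by
    by_cases k : α ∈ DD P e₁ e₂
    · obtain ⟨g, hg, i⟩ := k
      obtain ⟨β, j⟩ := exists_ind h.hn h'.ker (p'.n1 (conj_mem_of_mem_normalizer h1 hg.1))
      refine ⟨β, fun g' hg' i' => ?_⟩
      have k := mul_mem hg' (inv_mem hg)
      have := h.eq_mul (a := 1) (b := 1) p.p2 k.1 (by simp) (by simp)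
        (by simpa using i'.mul i.inv) (by simpa using ind_one_iff.2 k.2)
      rwa [mul_inv_eq_iff_eq_mul.1 this, map_one, map_one, one_mul, one_mul]
    · exact ⟨1, fun g hg i => absurd ⟨g, hg, i⟩ k⟩
  choose θ hθ using this
  refine ⟨θ, fun g hg α => hθ α g hg, fun α ⟨g, hg, i⟩ => ?_, fun α ⟨g, hg, i⟩ α' ⟨g', hg', i'⟩ k => ?_⟩
  · obtain ⟨ζ, z1, z2⟩ := h.th0 p fc h' p' h1 h2 hg
    exact ⟨_, ⟨P.mul_mem (conj_mem_of_mem_normalizer h1 hg.1) (P.inv_mem (p'.symm.mem (ZZ_le_UU z1))),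
      ind_conj_iff.1 z2⟩, by
        simpa using (hθ α g hg i).mul (ind_one_iff.2 (h'.le_Cs ⟨ζ, rfl⟩)).inv⟩
  · have k1 := mul_mem hg (inv_mem hg')
    obtain ⟨ζ, z1, z2⟩ := h.th0 p fc h' p' h1 h2 k1
    have k2 := h'.eq_mul (a := 1) p.p2 (conj_mem_of_mem_normalizer h1 k1.1) (by simp)
      (p'.symm.mem (ZZ_le_UU z1)) (by
        simpa [k, mul_assoc] using (hθ α g hg i).mul (hθ α' g' hg' i').inv) z2
    have k3 : g * g'⁻¹ ∈ (ZZ n F).map e₂ := conj_mem_cjs.1 (h2.ge ⟨ζ, z1, by simp [k2]⟩)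
    rw [mul_inv_eq_one.1 (eq_one_of_Cs h.hn h.ker₂ (map_le_range _ _ k3) k1.2
      (isPGroup_iff_is2.1 p.p2 _ k1.1))] at i
    exact i.unique h.hn h.ker i'

theorem th2 (fd : FD n F) (h3 : cjs m ((ZZ n F).map e₁) = (ZZ n F).map f₁) :
    cjs m ((QQ n F).map e₁) ≤ two f₁ f₂ (QQ n F) := by
  obtain ⟨θ, t1, t2, t3⟩ := h.th1 p fc h' p' h1 h2
  obtain ⟨θ', -, t4, t5⟩ := h'.th1 p' fc h p (inv_mem h1) (by rw [← h2]; exact cj_inv_cj m _)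
  have k : ∀ a ∈ UU n F, Ind f₁ (m * e₁ a * m⁻¹) (θ (MulAut.conj a)) := fun a ha =>
    t1 _ ⟨p.mem ha, h.le_Cs' ⟨a, rfl⟩⟩ _ (ind_conj a)
  obtain ⟨d1, d2, d3⟩ := h.dd p
  obtain ⟨d4, d5, d6⟩ := h'.dd p'
  have := fd.th _ _ d4 d1 d5 d2 d6 d3 θ (fun _ ⟨a, ha, i⟩ _ ⟨b, hb, j⟩ =>
    (t1 _ (mul_mem ha hb) _ (i.mul j)).unique h.hn h'.ker
      (by simpa only [conj_mul] using (t1 a ha _ i).mul (t1 b hb _ j)))
    ⟨t2, t3, (Set.eq_of_subset_of_ncard_le t2.image_subset (by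
      rw [t3.ncard_image]
      exact Set.ncard_le_ncard_of_injOn θ' t4 t5 (Set.toFinite _)) (Set.toFinite _)).ge⟩ (by
      rintro _ ⟨z, hz, rfl⟩
      obtain ⟨z', hz', k1⟩ := h3.le (conj_mem_cj ⟨z, hz, rfl⟩)
      exact ⟨z', hz', (ind_conj z').unique h.hn h'.ker (k1 ▸ k z (ZZ_le_UU hz))⟩)
  rintro _ ⟨_, ⟨a, ha, rfl⟩, rfl⟩
  obtain ⟨a', ha', k1⟩ := mem_cI.1 (this _ ⟨a, ha, rfl⟩)
  have k2 := p.mem (QQ_le_UU ha)
  obtain ⟨ζ, z1, z2⟩ := h.th0 p fc h' p' h1 h2 ⟨k2, h.le_Cs' ⟨a, rfl⟩⟩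
  exact h'.mem_two.2 ⟨a', ha', ζ, ZZ_le_QQ z1, h'.eq_mul p.p2 (conj_mem_of_mem_normalizer h1 k2)
    (p'.mem (QQ_le_UU ha')) (p'.symm.mem (ZZ_le_UU z1)) (k1 ▸ k a (QQ_le_UU ha)) z2⟩

end HB

theorem jobW1 (hA : JobFA) (hC : JobFC) (hD : JobFD) : JobW1.{u} := by
  intro n F _ _ _ hp G _ _ e t e₁ e₂ _ c w W hW h1 h2 m hm
  have h := hb_of hp c w
  have fa := hA n F hp
  have fc := hC n F hp
  have fd := hD n F hp
  have hG : G12 e₂ e₁ = G12 e₁ e₂ := G12_comm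
  have k1 : m ∈ Ns (two e₁ e₂ (ZZ n F)) := mem_normalizer_of_cj_le (by
    rw [cj_sup]
    exact sup_le (h.cjZ fa fc hW h1 h2 hm)
      ((h.symm.cjZ fa fc hW (by rwa [hG]) (by rwa [two_comm]) hm).trans (two_comm _).le))
  have k2 : ∀ g ∈ W ⊓ Cs (two e₁ e₂ (ZZ n F)), g ∈ Ns e₁.range ∧ g ∈ Ns e₂.range := fun g hg =>
    h.nor (h1 hg.1) (is2_of_sq (x_mul_self ..)) (x0_ne h.hn) (by
      rw [← hg.2 _ (mem_sup_left ⟨_, x_mem_ZZ 1, rfl⟩), mul_inv_cancel_right]; exact ⟨_, rfl⟩)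
  have p : PR (W ⊓ Cs (two e₁ e₂ (ZZ n F))) e₁ e₂ := ⟨hW.to_le inf_le_left, le_inf h2 fun g hg => by
    obtain ⟨a, ha, b, hb, rfl⟩ := h.mem_two.1 hg
    intro z hz
    obtain ⟨y, hy, z, hz', rfl⟩ := h.mem_two.1 hz
    rw [h.mul_mul, h.mul_mul, UU_le_Cs ha y hy, UU_le_Cs hb z hz'], fun g hg => (k2 g hg).1,
    fun g hg => (k2 g hg).2, inf_le_left.trans (h.norU hW h1 h2), inf_le_right⟩
  have k3 : m ∈ Ns (W ⊓ Cs (two e₁ e₂ (ZZ n F))) := le_normalizer_inf (zpowers_le.2 hm)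
    (le_normalizer_centralizer (zpowers_le.2 k1)) (mem_zpowers m)
  refine mem_normalizer_of_cj_le ?_
  rw [cj_sup]
  rcases h.fix_or isP_ZZ (x_mem_ZZ 1) (h.perm p fc k3 k1)
    (h.symm.perm p.symm fc k3 (by rwa [two_comm])) with k | k
  · exact sup_le (h.th2 p fc h p k3 k.2 fd k.1)
      ((h.symm.th2 p.symm fc h.symm p.symm k3 k.1 fd k.2).trans (two_comm _).le)
  · exact sup_le ((h.th2 p fc h.symm p.symm k3 k.2 fd k.1).trans (two_comm _).le)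
      (h.symm.th2 p.symm fc h p k3 k.1 fd k.2)

end H18.SA
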