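import Cfsg.Agent.H64.SFMod
import Cfsg.Agent.H86.NUT2

/-! STD-F4: the layers of `U` in `E₆(F)` and `²E₆(q)`, coboundaries (`JobM2`). -/

set_option autoImplicit false
set_option linter.unusedSectionVars false

namespace H18.SFM2

open Cfsg.Lie H63 H64 H65 Subgroup
open H64.SG (Ns Inv2 UU x_mem_gen)
open H64.SF (x n S L ip ad rf Qx TY Z nW act Wd wd0 wd0_spec D4 M2 Sh FI FR xm xd)
open H46.SF
open H67.SA (cm cm_eq_one)
open H86.F4 (PP mem_PP pos_iff OT OT_lt)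
open H86.NT (O3 tO tI O3_comm tl mem_tl)
open H86.WR (XF US)
open H63.TG (Rg)

/-- The positive long roots. -/
abbrev lL : List ℕ := [24, 25, 26, 30, 31, 32, 41, 42, 43, 45, 46, 47]

theorem t_lL : ∀ r < 48, 24 ≤ r → (sh r = false ↔ r ∈ lL) := by decide +kernel

/-- A closed set of positive roots. -/
def Cl (T : List ℕ) : Prop := ∀ r ∈ T, r ∈ PP ∧ ∀ s ∈ T, ∀ c ∈ OT s r, c ∈ T

instance (T : List ℕ) : Decidable (Cl T) := by unfold Cl; infer_instance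

theorem cl_lL : ∀ k ∈ PP, Cl (lL ++ tl (k + 1)) ∧ Cl (tl (k + 1)) := by decide +kernel

section X

variable {F : Type} [Field F] [CharP F 2]

theorem Cl.eq_zero {T : List ℕ} (hT : Cl T) {c : ℕ} (h1 : c ∈ PP) (h2 : c ∉ T) {a : F}
    (ha : x F c a ∈ US F T) : a = 0 := by
  classical
  have h := H64.SF.stB (F := F)
  have hc : CommUp (XR chevF4 (xG chevF4 F)) {r | (r : ℕ) ∈ T} Fin.val :=
    fun a ha b hb _ y hy z hz => by
      obtain ⟨t, rfl⟩ := h.toSt.mem_XR.1 hy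
      obtain ⟨u, rfl⟩ := h.toSt.mem_XR.1 hz
      refine H86.F4.comm_mem h.toSt (hT a ha).1 (hT b hb).1 (fun c hc h1 t => ?_) t u
      have := (OT_lt a (hT a ha).1 b (hT b hb).1).1 c hc
      exact x_mem_gen (r := H86.F4.R c h1)
        (by exact ⟨(hT b hb).2 a ha c hc, this.1, this.2.1⟩) t
  have := eq_one_of_prod_mem h.rgd hc (fun r hr => (pos_iff r).2 (hT r hr).1)
    (L := [H86.F4.R c (mem_PP.1 h1).2]) (by simp)
    (by simpa using (pos_iff (H86.F4.R c (mem_PP.1 h1).2)).2 h1)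
    (y := fun s => if s = H86.F4.R c (mem_PP.1 h1).2 then x F c a else 1)
    (fun s => by
      split_ifs with e
      exacts [e ▸ x_mem_XR chevF4 (xG chevF4 F) (H86.F4.R c _) a, one_mem _]) (by simpa)
    (List.mem_singleton_self _) h2
  exact h.eq_zero_of_x_eq_one (H86.F4.R c (mem_PP.1 h1).2) (by simpa using this)

end X

section Abs

variable {F : Type} [Field F] [Finite F] [CharP F 2] {G : Type} [Group G] {R : Type} [CommRing R]
  (e : XF F →* G) (y : ℕ → R → G)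

/-- The layer at `r`. -/
def In (r : ℕ) (g : G) : Prop :=
  (sh r = true ∧ ∃ a, g = y r a) ∨ (sh r = false ∧ ∃ c, g = e (x F r c))

/-- The layers from `k` on. -/
def NN (k : ℕ) : Subgroup G := closure {g | ∃ r, k ≤ r ∧ r < 48 ∧ In e y r g}

variable {e y}

theorem In.mem {r k : ℕ} {g : G} (h : In e y r g) (h1 : k ≤ r) (h2 : r < 48) : g ∈ NN e y k :=
  subset_closure ⟨r, h1, h2, h⟩

theorem NN_le {k : ℕ} {A : Subgroup G} (h : ∀ r, k ≤ r → r < 48 → ∀ g, In e y r g → g ∈ A) :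
    NN e y k ≤ A := (closure_le _).2 fun g ⟨r, h1, h2, h3⟩ => h r h1 h2 g h3

theorem NN_mono {k l : ℕ} (h : k ≤ l) : NN e y l ≤ NN e y k :=
  NN_le fun _ h1 h2 _ hg => hg.mem (h.trans h1) h2

theorem NN_48 {g : G} (h : g ∈ NN e y 48) : g = 1 :=
  mem_bot.1 (NN_le (fun _ h1 h2 => absurd h2 (by omega)) h)

theorem inS {r : ℕ} (h : sh r = true) (a : R) : In e y r (y r a) := Or.inl ⟨h, a, rfl⟩

variable {θ : MulAut G} {ι : F →+* R} {σ : RingAut R} {η : R}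

theorem si (h : Rg ι σ η) (c : F) : σ (ι c) = ι c := (h.fix _).2 ⟨c, rfl⟩

theorem two (h : Rg ι σ η) (a : R) : a + a = 0 :=
  haveI : CharP R 2 := charP_of_injective_ringHom h.inj 2
  CharTwo.add_self_eq_zero a

theorem tr (h : Rg ι σ η) (a : R) : ∃ c, ι c = a + σ a :=
  (h.fix _).1 (by rw [map_add, h.ss, add_comm])

theorem tr0 (h : Rg ι σ η) {a : R} (e : ι 0 = a + σ a) : ∃ c, ι c = a :=
  (h.fix _).1 (by rw [map_zero] at e; linear_combination -e - two h a)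

variable (T : TY e θ ι σ η y)
include T

theorem y0 {r : ℕ} (h : S r) : y r 0 = 1 := by simpa using T.add r h 0 0

theorem ysq {r : ℕ} (h : S r) (a : R) : y r a * y r a = 1 := by
  rw [T.add r h, two T.rg, y0 T h]

theorem inX {r : ℕ} (h : r < 48) (c : F) : In e y r (e (x F r c)) := by
  cases k : sh r
  · exact Or.inr ⟨k, c, rfl⟩
  · exact T.yx r ⟨h, k⟩ c ▸ inS k _

theorem In.mul {r : ℕ} (h : r < 48) {u v : G} (hu : In e y r u) (hv : In e y r v) :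
    In e y r (u * v) := by
  rcases hu with ⟨h1, a, rfl⟩ | ⟨h1, a, rfl⟩ <;> rcases hv with ⟨h2, b, rfl⟩ | ⟨h2, b, rfl⟩
  · exact T.add r ⟨h, h1⟩ a b ▸ inS h1 _
  · simp [h1] at h2
  · simp [h1] at h2
  · rw [← map_mul, SF.x_add h]; exact inX T h _

theorem In.sq {r : ℕ} (h : r < 48) {u : G} (hu : In e y r u) : u * u = 1 := by
  rcases hu with ⟨h1, a, rfl⟩ | ⟨h1, a, rfl⟩
  · exact ysq T ⟨h, h1⟩ a
  · rw [← map_mul, SF.x_sq h, map_one]

theorem In.th {r : ℕ} (h : r < 48) {u : G} (hu : In e y r u) : In e y r (θ u) ∧ θ (θ u) = u := by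
  rcases hu with ⟨h1, a, rfl⟩ | ⟨h1, a, rfl⟩
  · rw [T.ty r ⟨h, h1⟩, T.ty r ⟨h, h1⟩, T.rg.ss]; exact ⟨inS h1 _, rfl⟩
  · rw [T.te, T.te]; exact ⟨inX T h _, rfl⟩

theorem th_mem {k : ℕ} {g : G} (h : g ∈ NN e y k) : θ g ∈ NN e y k :=
  NN_le (A := (NN e y k).comap θ.toMonoidHom) (fun _ h1 h2 _ hg => (hg.th T h2).1.mem h1 h2) h

theorem th_th {k : ℕ} {g : G} (h : g ∈ NN e y k) : θ (θ g) = g :=
  NN_le (A := (θ.toMonoidHom.comp θ.toMonoidHom).eqLocus (MonoidHom.id G))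
    (fun _ _ h2 _ hg => (hg.th T h2).2) h

theorem comm {a b : ℕ} (ha : a ∈ PP) (hb : b ∈ PP) {u v : G} (hu : In e y a u) (hv : In e y b v) :
    cm u v ∈ NN e y (b + 1) := by
  have a2 := (mem_PP.1 ha).2
  have b2 := (mem_PP.1 hb).2
  have hA : ∀ c ∈ O3 a b, ∀ g, In e y c g → g ∈ NN e y (b + 1) := fun c hc g hg => by
    have := (tO a ha b hb).2.2 c hc
    exact hg.mem this.2.1 this.2.2
  generalize NN e y (b + 1) = A at hA ⊢
  have k1 : ∀ {a b : ℕ}, (∀ c ∈ O3 a b, ∀ g, In e y c g → g ∈ A) → ad a b < 48 →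
      ∀ g, In e y (ad a b) g → g ∈ A := fun hA h => hA _ (by simp [O3, h])
  have k : ∀ {a b : ℕ}, S a → L b → (∀ c ∈ O3 a b, ∀ g, In e y c g → g ∈ A) →
      ∀ u c, cm (y a u) (e (x F b c)) ∈ A := fun {a b} e1 e2 hA u c => by
    rcases lt_or_ge (ip a b) 0 with h | h
    · obtain ⟨m, hm⟩ := (T.rg.fix (u * σ u)).1 (by rw [map_mul, T.rg.ss, mul_comm])
      obtain ⟨l1, l2, l3, -⟩ := SF.ad_lt2 a e1.1 b e2.1 e1.2 e2.2 h
      rw [T.cl a b e1 e2 h u c m hm]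
      exact mul_mem (k1 hA l1 _ (inS l3 _)) (hA _ (by simp [O3, l2]) _ (inX T l2 _))
    · rw [cm_eq_one.2 (T.cp a e1 b (SF.mem_lY.2 ⟨e2.1, by rw [e1.2, e2.2]; simp; omega⟩) u c)]
      exact one_mem _
  have t1 := (tO a ha b hb).1
  rcases hu with ⟨e1, c, rfl⟩ | ⟨e1, c, rfl⟩ <;> rcases hv with ⟨e2, d, rfl⟩ | ⟨e2, d, rfl⟩
  · rcases tI a ha b hb e1 e2 with h | h | h | h
    · rw [← h, cm_eq_one.2 (by rw [T.add a ⟨a2, e1⟩, T.add a ⟨a2, e1⟩, add_comm])]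
      exact one_mem _
    · rw [cm_eq_one.2 (T.c60 a b ⟨a2, e1⟩ ⟨b2, e2⟩ h c d)]; exact one_mem _
    · obtain ⟨m, hm⟩ := (T.rg.fix (c * σ d + σ c * d)).1 (by simp [T.rg.ss, add_comm])
      have l1 := ((SF.ad_lt a a2 b b2).2.1 ⟨e1, e2, h⟩).1
      exact T.c90 a b ⟨a2, e1⟩ ⟨b2, e2⟩ h c d m hm ▸ k1 hA l1 _ (inX T l1 _)
    · have l1 := (t_120 a a2 b b2 e1 e2 h).1
      exact T.c120 a b ⟨a2, e1⟩ ⟨b2, e2⟩ h c d ▸ k1 hA l1.1 _ (inS l1.2.1 _)
  · exact k ⟨a2, e1⟩ ⟨b2, e2⟩ hA c d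
  · simpa [cm, mul_assoc] using
      inv_mem (k ⟨b2, e2⟩ ⟨a2, e1⟩ (fun c hc => hA c (O3_comm ha hb hc)) d c)
  · rw [cm, ← map_inv, ← map_inv, ← map_mul, ← map_mul, ← map_mul]
    rcases lt_or_ge (ip a b) 0 with h | h
    · have l1 := ((SF.ad_lt a a2 b b2).1 ⟨e1.trans e2.symm, h, t1⟩).1
      rw [← cm, SF.x_c1 a2 b2 (e1.trans e2.symm) h t1 c d]
      exact k1 hA l1 _ (inX T l1 _)
    · rw [SF.x_c0 a2 b2 h]; simp

theorem ind {k : ℕ} {p : G → Prop} (h1 : p 1)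
    (h2 : ∀ r, k ≤ r → r < 48 → ∀ s, In e y r s → ∀ g ∈ NN e y k, p g → p (s * g)) {g : G}
    (hg : g ∈ NN e y k) : p g := by
  refine (closure_induction_left (p := fun g _ => g ∈ NN e y k ∧ p g) ⟨one_mem _, h1⟩ ?_ ?_ hg).2
  · rintro s ⟨r, r1, r2, hs⟩ g _ ⟨k1, k2⟩
    exact ⟨mul_mem (hs.mem r1 r2) k1, h2 r r1 r2 s hs g k1 k2⟩
  · rintro s ⟨r, r1, r2, hs⟩ g _ ⟨k1, k2⟩
    rw [inv_eq_of_mul_eq_one_right (hs.sq T r2)]
    exact ⟨mul_mem (hs.mem r1 r2) k1, h2 r r1 r2 s hs g k1 k2⟩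

theorem conj {k : ℕ} (hk : 24 ≤ k) {u v : G} (hu : u ∈ NN e y 24) (hv : v ∈ NN e y k) :
    u * v * u⁻¹ ∈ NN e y k := by
  refine ind T (p := fun u => ∀ v ∈ NN e y k, u * v * u⁻¹ ∈ NN e y k) (by simp)
    (fun r r1 r2 s hs g _ ih v hv => ?_) hu v hv
  rw [show s * g * v * (s * g)⁻¹ = s * (g * v * g⁻¹) * s⁻¹ by group]
  refine NN_le (A := (NN e y k).comap (MulAut.conj s).toMonoidHom) (fun b b1 b2 z hz => ?_) (ih v hv)
  change s * z * s⁻¹ ∈ NN e y k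
  rw [show s * z * s⁻¹ = cm s z * z by simp [cm]]
  exact mul_mem (NN_mono (by omega) (comm T (mem_PP.2 ⟨r1, r2⟩) (mem_PP.2 ⟨by omega, b2⟩) hs hz))
    (hz.mem b1 b2)

theorem cm_mem {k : ℕ} (hk : k ∈ PP) {u s : G} (hu : u ∈ NN e y 24) (hs : In e y k s) :
    cm u s ∈ NN e y (k + 1) := by
  refine ind T (p := fun u => cm u s ∈ NN e y (k + 1)) (by simp [cm]) (k := 24)
    (fun r r1 r2 z hz g _ ih => ?_) hu
  rw [show cm (z * g) s = z * cm g s * z⁻¹ * cm z s by simp only [cm]; group]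
  exact mul_mem (conj T (by have := mem_PP.1 hk; omega) (hz.mem r1 r2) ih)
    (comm T (mem_PP.2 ⟨r1, r2⟩) hk hz hs)

theorem dec {k : ℕ} (hk : k ∈ PP) {g : G} (hg : g ∈ NN e y k) :
    ∃ s, In e y k s ∧ ∃ v ∈ NN e y (k + 1), g = s * v := by
  obtain ⟨k1, k2⟩ := mem_PP.1 hk
  refine ind T (p := fun g => ∃ s, In e y k s ∧ ∃ v ∈ NN e y (k + 1), g = s * v)
    ⟨_, inX T k2 0, 1, one_mem _, by simp [SF.x_zero k2]⟩ ?_ hg
  rintro r r1 r2 z hz _ - ⟨s, hs, v, hv, rfl⟩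
  rcases r1.eq_or_lt with rfl | h
  · exact ⟨_, hz.mul T k2 hs, v, hv, (mul_assoc _ _ _).symm⟩
  · exact ⟨s, hs, _, mul_mem (conj T (by omega) (inv_mem (hs.mem k1 k2)) (hz.mem h r2)) hv, by group⟩

theorem e_mem {l : List ℕ} {k : ℕ} (h : ∀ r ∈ l, k ≤ r) {u : XF F} (hu : u ∈ US F l) :
    e u ∈ NN e y k :=
  SF.US_le (K := (NN e y k).comap e) (fun r hr h1 a => (inX T h1 a).mem (h r hr) h1) hu

/-- The fixed points of `θ` in the layers. -/
theorem fix (he : Function.Injective e) {k : ℕ} (hk : k ≤ 48) : 24 ≤ k → ∀ g ∈ NN e y k, θ g = g →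
    ∃ z ∈ US F (tl k), g = e z := by
  induction hk using Nat.decreasingInduction with
  | self => exact fun _ g hg _ => ⟨1, one_mem _, by rw [NN_48 hg, map_one]⟩
  | of_succ k hk ih =>
    intro k1 g hg h
    have p : k ∈ PP := mem_PP.2 ⟨k1, hk⟩
    obtain ⟨s, hs, v, hv, rfl⟩ := dec T p hg
    have key : ∀ c, s = e (x F k c) → ∃ z ∈ US F (tl k), s * v = e z := by
      rintro c rfl
      rw [map_mul, T.te, mul_left_cancel_iff] at h
      obtain ⟨z, hz, rfl⟩ := ih (by omega) v hv h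
      exact ⟨_, mul_mem (SF.x_mem (mem_tl.2 ⟨p, le_rfl⟩) hk c) (SF.US_mono (fun r hr =>
        mem_tl.2 ⟨(mem_tl.1 hr).1, by have := (mem_tl.1 hr).2; omega⟩) hz), (map_mul _ _ _).symm⟩
    rcases hs with ⟨h1, a, rfl⟩ | ⟨-, c, rfl⟩
    · obtain ⟨c, hc⟩ := tr T.rg a
      have h2 : e (x F k c) = θ v * v⁻¹ := by
        rw [map_mul, T.ty k ⟨hk, h1⟩] at h
        rw [← T.yx k ⟨hk, h1⟩, hc, add_comm, ← T.add k ⟨hk, h1⟩, eq_mul_inv_iff_mul_eq, mul_assoc,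
          ← h, ← mul_assoc, ysq T ⟨hk, h1⟩, one_mul]
      obtain ⟨z, hz, h3⟩ := ih (by omega) _ (h2 ▸ mul_mem (th_mem T hv) (inv_mem hv)) (T.te _)
      obtain rfl : c = 0 := (cl_lL k p).2.eq_zero p (by simp [mem_tl]) (he h3 ▸ hz)
      obtain ⟨d, rfl⟩ := tr0 T.rg hc
      exact key d (T.yx k ⟨hk, h1⟩ d)
    · exact key c rfl

/-- Twisted involutions in the layers. -/
theorem red (he : Function.Injective e) {k : ℕ} (hk : k ≤ 48) : 24 ≤ k → ∀ u ∈ US F lL,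
    ∀ g ∈ NN e y k, e u * g * θ (e u * g) = 1 →
      ∃ w ∈ NN e y 24, ∃ u' ∈ US F lL, u' * u' = 1 ∧ e u * g = w * e u' * (θ w)⁻¹ := by
  induction hk using Nat.decreasingInduction with
  | self =>
    intro _ u hu g hg h
    rw [NN_48 hg, mul_one, T.te, ← map_mul, ← map_one e] at h
    exact ⟨1, one_mem _, u, hu, he h, by simp [NN_48 hg]⟩
  | of_succ k hk ih =>
    intro k1 u hu g hg h
    have p : k ∈ PP := mem_PP.2 ⟨k1, hk⟩
    obtain ⟨s, hs, v, hv, rfl⟩ := dec T p hg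
    have m : e u ∈ NN e y 24 := e_mem T (by decide) hu
    rcases hs with ⟨h1, a, rfl⟩ | ⟨h1, c, rfl⟩
    · have hS : S k := ⟨hk, h1⟩
      have my : ∀ a, y k a ∈ NN e y 24 := fun a => (inS h1 a).mem k1 hk
      have iy : ∀ a, (y k a)⁻¹ = y k a := fun a => inv_eq_of_mul_eq_one_right (ysq T hS a)
      obtain ⟨c, hc⟩ := tr T.rg a
      have h2 : e (u * u * x F k c) ∈ NN e y (k + 1) := by
        rw [map_mul, map_mul, T.te, T.ty k hS] at h
        have h3 : e (u * u * x F k c) = e u * (cm (e u) (y k a) * (y k a * v⁻¹ * (y k a)⁻¹)) *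
            (e u)⁻¹ * (e u * (y k a * v) * (e u * (y k (σ a) * θ v))) * (θ v)⁻¹ := by
          rw [map_mul, map_mul, ← T.yx k hS, hc, ← T.add k hS, cm]; group
        rw [h3, h, mul_one]
        exact mul_mem (conj T (by omega) m (mul_mem (cm_mem T p m (inS h1 a))
          (conj T (by omega) (my a) (inv_mem hv)))) (inv_mem (th_mem T hv))
      obtain ⟨z, hz, h3⟩ := fix T he (k := k + 1) hk (by omega) _ h2 (T.te _)
      obtain rfl : c = 0 := (cl_lL k p).1.eq_zero p (by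
        simp only [List.mem_append, mem_tl, ← t_lL k hk k1, h1]; simp) (by
          rw [eq_inv_mul_of_mul_eq (he h3)]
          exact mul_mem (inv_mem (SF.US_mono (fun _ => List.mem_append_left _) (mul_mem hu hu)))
            (SF.US_mono (fun _ => List.mem_append_right _) hz))
      obtain ⟨d, rfl⟩ := tr0 T.rg hc
      have h4 : y k (ι d) = y k (η * ι d) * (θ (y k (η * ι d)))⁻¹ := by
        rw [T.ty k hS, iy, T.add k hS, map_mul, si T.rg, T.rg.eta]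
        congr 1; linear_combination -two T.rg (η * ι d)
      generalize hw : y k (η * ι d) = w at h4
      have mw : w ∈ NN e y 24 := hw ▸ my _
      have h5 : e u * (y k (ι d) * v) = w * (e u * ((cm (e u)⁻¹ w⁻¹) * ((θ w)⁻¹ * v * (θ w)⁻¹⁻¹))) *
          (θ w)⁻¹ := by
        rw [h4, cm]; group
      obtain ⟨w', m', u', hu', h6, h7⟩ := ih (by omega) u hu _ (mul_mem (cm_mem T p (inv_mem m)
        (s := w⁻¹) (by rw [← hw, iy]; exact inS h1 _))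
        (conj T (by omega) (inv_mem (th_mem T mw)) hv)) (by
          rw [h5] at h
          generalize e u * (cm (e u)⁻¹ w⁻¹ * ((θ w)⁻¹ * v * (θ w)⁻¹⁻¹)) = q at h ⊢
          rw [map_mul, map_mul, map_inv, th_th T mw] at h
          rw [← conj_eq_one_iff (a := w), ← h]; group)
      exact ⟨w * w', mul_mem mw m', u', hu', h6, by rw [h5, h7, map_mul]; group⟩
    · rw [← mul_assoc, ← map_mul] at h ⊢
      exact ih (by omega) _ (mul_mem hu (SF.x_mem ((t_lL k hk k1).1 h1) hk c)) v hv h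

theorem y_conj {w : List ℕ} (hw : Wd w) {r : ℕ} (hr : S r) (a : R) : ∃ a', a' + σ a' = a + σ a ∧
    e (nW F w) * y r a' * (e (nW F w))⁻¹ = y (act w r) a := by
  induction w generalizing a with
  | nil => exact ⟨a, rfl, by simp⟩
  | cons s w ih =>
    have h1 : Wd w := fun v hv => hw v (List.mem_cons_of_mem _ hv)
    have h2 : S (act w r) := ⟨(SF.act_lt h1 hr.1).1, (SF.act_lt h1 hr.1).2.trans hr.2⟩
    obtain ⟨a', k1, k2⟩ := ih h1 (if sh s then σ a else a)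
    refine ⟨a', k1.trans (by split_ifs; exacts [by rw [T.rg.ss, add_comm], rfl]), ?_⟩
    have k3 := T.nw _ h2 s (hw s List.mem_cons_self) (if sh s then σ a else a)
    rw [← k2] at k3
    rw [SF.nW_cons, SF.act_cons, map_mul, mul_inv_rev, ← mul_assoc, mul_assoc (e (n F s)),
      mul_assoc (e (n F s)), k3]
    cases sh s <;> simp [T.rg.ss]

theorem lay [Finite G] {A : ℕ → G → Prop} (hA : ∀ a, A 44 (y 44 a)) {W : Subgroup G}
    (h : ¬ NN e y 24 ≤ W) : ∃ N ≤ W, NN e y 24 ≤ Ns N ∧ θ ∈ H67.SA.St N ∧ ∃ i ∈ NN e y 24, i ∉ W ∧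
      (∀ u ∈ NN e y 24, cm u i ∈ N) ∧ (i * i = 1 ∧ θ i = i ∨
        ∃ g b j c, D4 e θ A b j c ∧ i = e g * j * (e g)⁻¹ ∧ i * θ i ∈ W) := by
  obtain ⟨k, p, h1, h2⟩ : ∃ k ∈ PP, NN e y (k + 1) ≤ W ∧ ¬ NN e y k ≤ W := by
    by_contra h0
    push Not at h0
    have : ∀ k, k ≤ 48 → 24 ≤ k → NN e y k ≤ W := fun k hk => by
      induction hk using Nat.decreasingInduction with
      | self => exact fun _ g hg => NN_48 hg ▸ one_mem _
      | of_succ k hk ih => exact fun k1 => h0 k (mem_PP.2 ⟨k1, hk⟩) (ih (by omega))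
    exact h (this 24 (by omega) le_rfl)
  obtain ⟨k1, k2⟩ := mem_PP.1 p
  refine ⟨_, h1, fun u hu => H98.mem_normalizer_of_cj_le (by
    rintro _ ⟨v, hv, rfl⟩; exact conj T (by omega) hu hv),
    H67.SA.mem_St_of_finite fun g => th_mem T, ?_⟩
  by_cases h3 : ∀ c, e (x F k c) ∈ W
  · obtain ⟨s, hs, h4⟩ : ∃ s, In e y k s ∧ s ∉ W := by
      by_contra h0
      push Not at h0
      exact h2 fun g hg => by
        obtain ⟨s, hs, v, hv, rfl⟩ := dec T p hg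
        exact mul_mem (h0 s hs) (h1 hv)
    refine ⟨s, hs.mem k1 k2, h4, fun u hu => cm_mem T p hu hs, Or.inr ?_⟩
    rcases hs with ⟨h5, a, rfl⟩ | ⟨-, c, rfl⟩
    swap
    · exact absurd (h3 c) h4
    have s4 : S 44 := by decide +kernel
    obtain ⟨-, w1, w2⟩ := wd0_spec k k2
    obtain ⟨a', e1, e2⟩ := y_conj T w1 s4 a
    obtain ⟨c, hc⟩ := tr T.rg a
    rw [h5, if_pos rfl] at w2
    refine ⟨_, 44, y 44 a', c, ⟨hA a', ?_, ?_⟩, by rw [e2, w2], ?_⟩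
    · rintro rfl
      obtain ⟨d, rfl⟩ := tr0 T.rg hc
      exact h4 (T.yx k ⟨k2, h5⟩ d ▸ h3 d)
    · rw [T.ty _ s4, T.add _ s4, e1, ← hc, T.yx _ s4]
    · rw [T.ty _ ⟨k2, h5⟩, T.add _ ⟨k2, h5⟩, ← hc, T.yx _ ⟨k2, h5⟩]; exact h3 c
  · push Not at h3
    obtain ⟨c, hc⟩ := h3
    exact ⟨_, (inX T k2 c).mem k1 k2, hc, fun u hu => cm_mem T p hu (inX T k2 c),
      Or.inl ⟨(inX T k2 c).sq T k2, T.te _⟩⟩

theorem tw {r s : ℕ} (hr : S r) (hs : s ∈ SF.lY r) :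
    e (x F r 1 * x F s 1) = y r η * e (x F s 1) * (θ (y r η))⁻¹ := by
  rw [T.cp r hr s hs, T.ty r hr, inv_eq_of_mul_eq_one_right (ysq T hr _), mul_assoc, T.add r hr,
    T.rg.eta, ← add_assoc, two T.rg, zero_add, ← map_one ι, ← T.cp r hr s hs, T.yx r hr, map_mul]

theorem cob (he : Function.Injective e) (hI : FI F) (hR : FR F) {v : G} (hv : v ∈ NN e y 24)
    (h : v * θ v = 1) : (∃ w ∈ NN e y 24, v = w * (θ w)⁻¹) ∨
      ∃ g c, c ≠ 0 ∧ ¬ Sh (x F 47 c) ∧ v = g * e (x F 47 c) * (θ g)⁻¹ := by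
  obtain ⟨w, hw, u, hu, h1, h2⟩ := red T he (k := 24) (by omega) le_rfl 1 (one_mem _) v hv (by simpa)
  rw [map_one, one_mul] at h2
  by_cases h0 : u = 1
  · exact Or.inl ⟨w, hw, by simpa [h0] using h2⟩
  have k : ∀ (g : G) (u' : XF F), SF.Lg u' → v = g * e u' * (θ g)⁻¹ →
      ∃ g c, c ≠ 0 ∧ ¬ Sh (x F 47 c) ∧ v = g * e (x F 47 c) * (θ g)⁻¹ := by
    rintro g _ ⟨z, c, hc, rfl⟩ e1
    exact ⟨g * e z, c, hc, hR.shL _ (SF.x_mem (by simp) (by omega) c), by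
      rw [e1, map_mul θ, T.te, map_mul, map_mul, map_inv]; group⟩
  have k2 : ∀ r s, S r → L s → s ∈ SF.lY r → IsConj (x F r 1 * x F s 1) u →
      ∃ g c, c ≠ 0 ∧ ¬ Sh (x F 47 c) ∧ v = g * e (x F 47 c) * (θ g)⁻¹ := fun r s hr hs h3 h4 => by
    obtain ⟨z, rfl⟩ := isConj_iff.1 h4
    refine k (w * e z * y r η) _ (SF.lg_x hs one_ne_zero) ?_
    rw [h2, map_mul, map_mul, tw T hr h3, map_inv, map_mul θ, map_mul θ, T.te]; group
  rcases hI.cls u ⟨h1, h0⟩ with h3 | h3 | h3 | h3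
  · exact absurd h3 (hR.shL u hu)
  · exact Or.inr (k w u h3 h2)
  · exact Or.inr (k2 44 47 (by decide +kernel) (by decide +kernel) (by decide +kernel) h3)
  · exact Or.inr (k2 39 45 (by decide +kernel) (by decide +kernel) (by decide +kernel) h3)

theorem m2 [Finite G] (he : Function.Injective e) (hI : FI F) (hR : FR F) {U : Subgroup G}
    (hU : NN e y 24 = U) {A : ℕ → G → Prop} (hA : ∀ a, A 44 (y 44 a)) : M2 e θ Sh U A := by
  subst hU
  exact ⟨fun _ _ h => lay T hA h, fun _ hv h => cob T he hI hR hv h⟩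

end Abs

theorem o_surj' : ∀ s < 72, 36 ≤ s → ∃ r < 48, 24 ≤ r ∧ (s = o1 r ∨ (sh r = true ∧ s = o2 r)) := by
  decide +kernel

theorem jobM2 (hI : SF.JobFI) (hR : SF.JobFR) : SF.JobM2 := by
  refine ⟨fun F _ _ _ => ?_, fun F K _ _ _ _ _ _ X => ?_⟩
  · obtain ⟨η, y, T, sw, hy⟩ := jobYE F
    refine m2 T iE_inj (hI F) (hR F) (le_antisymm (NN_le fun r r1 r2 g hg => ?_)
      (H64.SG.gen_le_iff.2 fun s hs a => ?_)) fun a => ⟨rfl, ?_⟩
    · obtain ⟨h1, h2, -⟩ := o_facts r r2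
      obtain ⟨h3, h4⟩ := H86.NU.o_pos.1 r r2 r1
      have k := H86.NU.yE_mem (A := UU chevE6 (xG chevE6 F))
        (x_mem_gen (r := ⟨_, h1⟩) ((H86.NU.posE _).2 h3)) (x_mem_gen (r := ⟨_, h2⟩) ((H86.NU.posE _).2 h4))
      rcases hg with ⟨h, ⟨a, b⟩, rfl⟩ | ⟨-, c, rfl⟩
      · rw [hy r ⟨r2, h⟩]; split_ifs <;> exact k _ _
      · rw [iE_x r2]; exact k _ _
    · have k : ∀ r < 48, 24 ≤ r → sh r = true → ∀ a b, yE F r a b ∈ NN (iE F) y 24 :=
        fun r r2 r1 h a b => by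
          cases e : sw r
          · have := (inS (e := iE F) (y := y) h (a, b)).mem r1 r2
            rwa [hy r ⟨r2, h⟩, e] at this
          · have := (inS (e := iE F) (y := y) h (b, a)).mem r1 r2
            rwa [hy r ⟨r2, h⟩, e] at this
      obtain ⟨r, r2, r1, e | ⟨h, e⟩⟩ := o_surj' s s.2 ((H86.NU.posE s).1 hs)
      · rw [e]
        cases h : sh r
        · rw [← yE_long h a a, ← iE_x r2]; exact (inX T r2 a).mem r1 r2
        · rw [← yE_left]; exact k r r2 r1 h _ _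
      · rw [e, ← yE_right h]; exact k r r2 r1 h _ _
    · obtain ⟨a, b⟩ := a
      rw [hy 44 (by decide +kernel)]
      split_ifs <;> exact ⟨_, _, rfl⟩
  · obtain ⟨η, T⟩ := H86.NT.ty X
    refine m2 T (iT_inj X.hq X.hK X.hf X.hφ) (hI F) (hR F) (Eq.trans (le_antisymm
      (NN_le fun r r1 r2 g hg => ?_) (gen_le fun r hr g hg => ?_)) (H86.NT.GT_PP X))
      fun a => ⟨rfl, _, rfl⟩
    · refine H86.NT.X_le (r := ⟨r, r2⟩) (mem_PP.2 ⟨r1, r2⟩) ?_
      rcases hg with ⟨h, a, rfl⟩ | ⟨-, c, rfl⟩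
      exacts [H86.NT.y_mem ⟨r2, h⟩ a, H86.NT.i_mem r2 c]
    · refine In.mem (r := r) ?_ (mem_PP.1 hr).1 r.2
      cases h : sh r
      exacts [Or.inr ⟨h, (H86.NT.mem_L h).1 hg⟩, Or.inl ⟨h, (H86.NT.mem_S h).1 hg⟩]

end H18.SFM2
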