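import Cfsg.Agent.H86.SPODef
import Cfsg.Agent.H67.SAAB
import Cfsg.Agent.H64.SGCov

/-! STD-SP endgame, orthogonal model, slot `XS`: facts on `X = Sp_(n+1)(q)`. -/

set_option autoImplicit false
set_option linter.unusedSectionVars false

namespace H18.SPOXS

open H64.SG (O2 Cz Ns Inv2 IsO2 fx mem_fx mem_Cz)
open H67.UA H67.SP Subgroup

variable {n : ℕ} {F : Type} [Field F] [StarRing F] [TrivialStar F] [CharP F 2] [Finite F]

theorem wx_add {z : XU n F} {a b : Vn n F} (ha : Wx z a) (hb : Wx z b) : Wx z (a + b) := by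
  obtain ⟨x, rfl⟩ := ha
  obtain ⟨y, rfl⟩ := hb
  exact ⟨x + y, by rw [ac_add]; abel⟩

theorem wx_smul {z : XU n F} {a : Vn n F} (ha : Wx z a) (c : F) : Wx z (c • a) := by
  obtain ⟨x, rfl⟩ := ha
  exact ⟨c • x, by rw [ac_smul, smul_add]⟩

theorem wx_ac {z g : XU n F} (hg : g ∈ Cz z) {a : Vn n F} (ha : Wx z a) : Wx z (ac g a) := by
  obtain ⟨x, rfl⟩ := ha
  exact ⟨ac g x, by rw [ac_add, ← ac_mul, ← mem_Cz.1 hg, ac_mul]⟩

theorem wx_fix {z : XU n F} (hz : z * z = 1) {a : Vn n F} (ha : Wx z a) : ac z a = a := by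
  obtain ⟨x, rfl⟩ := ha
  rw [ac_add, ← ac_mul, hz, ac_one, add_comm]

theorem wx_perp {z : XU n F} (hz : z * z = 1) {a b : Vn n F} (ha : Wx z a) (hb : Wx z b) :
    hf a b = 0 := by
  obtain ⟨x, rfl⟩ := ha
  rw [hf_add_left, hf_ac_left, inv_eq_of_mul_eq_one_right hz, wx_fix hz hb,
    CharTwo.add_self_eq_zero]

theorem ac_eq (g : XU n F) (y : Vn n F) : ac g y = y + (ac g y + y) := by
  rw [add_left_comm, v_add_self, add_zero]

/-- The elements that are trivial on `W = [V, z]` and on `V / W`. -/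
def RR (z : XU n F) : Subgroup (XU n F) where
  carrier := {g | (∀ y, Wx z (ac g y + y)) ∧ ∀ w, Wx z w → ac g w = w}
  one_mem' := ⟨fun y => ⟨0, by simp⟩, fun w _ => ac_one w⟩
  mul_mem' := fun {a b} ha hb => ⟨fun y => by
    have h := wx_add (ha.1 y) (hb.1 y)
    rw [ac_mul, ac_eq b y, ac_add, ha.2 _ (hb.1 y)]
    rwa [add_right_comm], fun w hw => by rw [ac_mul, hb.2 w hw, ha.2 w hw]⟩
  inv_mem' := fun {a} ha => ⟨fun y => by
    have h := ha.1 (ac a⁻¹ y)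
    rwa [ac_ac_inv, add_comm] at h, fun w hw => ac_inj a (by rw [ac_ac_inv, ha.2 w hw])⟩

theorem RR_sq {z g : XU n F} (hg : g ∈ RR z) : g * g = 1 := ac_ext fun y => by
  rw [ac_mul, ac_one]
  nth_rw 1 [ac_eq g y]
  rw [ac_add, hg.2 _ (hg.1 y), ← add_assoc, v_add_self, zero_add]

theorem RR_le {z : XU n F} (hz : z * z = 1) : RR z ≤ Cz z := fun g hg => mem_Cz.2 (ac_ext fun y => by
  rw [ac_mul, ac_mul]
  have h1 : ac g (ac z y) = ac g y + (ac z y + y) := by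
    nth_rw 1 [ac_eq z y]
    rw [ac_add, hg.2 _ ⟨y, rfl⟩]
  have h2 : ac z (ac g y) = ac z y + (ac g y + y) := by
    nth_rw 1 [ac_eq g y]
    rw [ac_add, wx_fix hz (hg.1 y)]
  rw [h1, h2]; abel)

theorem RR_conj {z g h : XU n F} (hh : h ∈ Cz z) (hg : g ∈ RR z) : h * g * h⁻¹ ∈ RR z :=
  ⟨fun y => by
    have k := wx_ac hh (hg.1 (ac h⁻¹ y))
    rwa [ac_add, ac_ac_inv, ← ac_mul, ← ac_mul] at k, fun w hw => by
    rw [ac_mul, ac_mul, hg.2 _ (wx_ac (inv_mem hh) hw), ac_ac_inv]⟩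

theorem RR_norm (z : XU n F) : Cz z ≤ Ns (RR z) := fun h hh => mem_normalizer_iff.2 fun g =>
  ⟨RR_conj hh, fun k => by simpa [mul_assoc] using RR_conj (inv_mem hh) k⟩

theorem RR_two (z : XU n F) : IsPGroup 2 (RR z) := fun g => ⟨1, Subtype.ext (by
  simpa [pow_two] using RR_sq g.2)⟩

theorem TT_mem [FV n F] {z : XU n F} (hz : z * z = 1) {w : Vn n F} (hw : Wx z w) :
    TT w ∈ RR z := ⟨fun y => by
  rw [ac_Tc (FV.iso w) (star_one F), add_right_comm, v_add_self, zero_add]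
  exact wx_smul hw _, fun a ha => by
  rw [ac_Tc (FV.iso w) (star_one F), wx_perp hz ha hw, mul_zero, zero_smul, add_zero]⟩

theorem jobXS : H86.SPO.JobXS := by
  intro n F _ _ _ _ _ _ b c o
  refine ⟨?_, fun ψ h1 h2 => ?_, fun z hz => ?_⟩
  · rintro _ ⟨v, hv, rfl⟩
    have h : TT v ∈ Cz (TT v : XU n F) := mem_Cz.2 rfl
    rw [FR.cz v 1 hv one_ne_zero] at h ⊢
    exact H67.SA.le_O2_of_perfect (FR.perf v hv) h
  · obtain ⟨g, σ, -, -, hψ⟩ := FO.std ψ h1 h2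
    have hs : Sr (g * xa n F * g⁻¹) := (FR.sr _).2 (isConj_iff.2 ⟨g, rfl⟩)
    have h0 : hf (ev 1 : Vn n F) (ev 0) = 0 := by
      have h5 := H67.SP.Par.five (n := n) F
      rw [hf_ev, if_neg]
      intro h
      have := congrArg Fin.val h
      rw [Fin.val_rev, Fin.val_zero, Fin.val_one', Nat.mod_eq_of_lt (by omega)] at this
      omega
    have he : ∀ i, (fun j => σ ((ev i : Vn n F) j)) = ev i := fun i => funext fun j => by
      rw [ev_apply]; split_ifs <;> simp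
    have hx : fs n F σ (xa n F) = xa n F := by
      rw [xa, qq, FA.fs_EE σ _ _ _ h0, he, he, map_zero]
    obtain ⟨k1, k2, -⟩ := (FR.rk _).2.1.1 hs
    refine ⟨_, H67.SA.le_O2_of_perfect (FO.a4 ψ h1 h2) (mem_fx.2 ?_), k1, fun h => ?_⟩
    · rw [hψ]
      simp [mul_assoc, hx]
    · have := ((FR.rk _).1.1 h).2
      omega
  · have k1 := ((FR.rk _).2.1.1 hz).1
    have hA := H64.SG.isO2_pCoreOf (Cz z)
    have hR := hA.2.2.2 _ (RR_le k1.1) (RR_norm z) (RR_two z)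
    refine ⟨k1, _, hA, ?_⟩
    obtain ⟨u, v, h1, h2, h3⟩ := hz
    have hp := FV.pp u v h1
    have hw : ∀ s t : F, Wx z (s • u + t • v) := fun s t => by
      obtain ⟨y, hy⟩ := FW.sep 2 ![u, v] (LinearIndependent.pair_iff.2 h2) ![t, s]
      have y0 : hf y u = t := hy 0
      have y1 : hf y v = s := hy 1
      refine ⟨y, ?_⟩
      rw [h3, ac_qq hp, y0, y1, add_comm _ y, ← add_assoc, ← add_assoc, v_add_self, zero_add]
    have hm : ∀ s t : F, ¬ (s = 0 ∧ t = 0) → TT (s • u + t • v) ∈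
        closure {x | x ∈ Cfsg.pCoreOf 2 (Cz z) ∧ x * x = 1 ∧ Lr x} := fun s t hst =>
      subset_closure ⟨hR (TT_mem k1.1 (hw s t)), Tc_mul_self (FV.iso _) (star_one F),
        _, fun h => hst (h2 s t h), rfl⟩
    have m1 := hm 1 1 (by simp)
    have m2 := hm 1 0 (by simp)
    have m3 := hm 0 1 (by simp)
    simp only [one_smul, zero_smul, add_zero, zero_add] at m1 m2 m3
    have m4 := mul_mem (mul_mem m1 m2) m3
    rwa [← qq_eq_TT hp, ← h3] at m4

end H18.SPOXS
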