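import Cfsg.Agent.H25.STWr2

/-! STD-S, wreath case: `JobW1`. -/

set_option autoImplicit false
set_option linter.unusedSectionVars false

namespace H18.STW1

open H64.SG Subgroup H25.ST
open H98 (stab mem_stab le_stab_iff le_normalizer_stab conj_mem_of_mem_normalizer
  le_normalizer_inf le_normalizer_sup mem_normalizer_of_cj_le)
open H67.SA (cm mem_cjs conj_mem_cjs card_cjs cm_eq_one)
open scoped commutatorElement

universe u

section Gen

theorem exists_aut {D N : Type*} [Group D] [Group N] [Finite N] (f : D →* N)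
    (hf : Function.Surjective f) (φ : MulAut D) (h : ∀ x, f x = 1 → f (φ x) = 1)
    (ho : Odd (orderOf φ)) : ∃ α : MulAut N, Odd (orderOf α) ∧ ∀ x, α (f x) = f (φ x) := by
  let g : N →* N := f.liftOfSurjective hf ⟨f.comp φ.toMonoidHom, fun x hx => h x hx⟩
  have hg : ∀ x, g (f x) = f (φ x) := fun x => f.liftOfRightInverse_comp_apply _ _ _ x
  have hs : Function.Surjective g := fun y => by
    obtain ⟨x, rfl⟩ := hf y
    exact ⟨f (φ.symm x), by rw [hg, φ.apply_symm_apply]⟩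
  let α : MulAut N := MulEquiv.ofBijective g (Finite.surjective_iff_bijective.1 hs)
  have h1 : ∀ k x, (α ^ k) (f x) = f ((φ ^ k) x) := fun k => by
    induction k with
    | zero => exact fun _ => rfl
    | succ k ih => exact fun x => by rw [pow_succ', pow_succ', MulAut.mul_apply, ih]; exact hg _
  refine ⟨α, odd_orderOf_of_pow ho (MulEquiv.ext fun y => ?_), hg⟩
  obtain ⟨x, rfl⟩ := hf y
  rw [h1, pow_orderOf_eq_one]; rfl

variable {G : Type u} [Group G] {A A' Z P M : Subgroup G} {g t : G}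

theorem stab_sup (hA : A ≤ Ns Z) (hA' : A' ≤ Ns Z) : stab A Z ⊓ stab A' Z ≤ stab (A ⊔ A') Z :=
  le_stab_iff.2 ⟨inf_le_left.trans fun _ h => h.1, by
    rw [commutator_comm]
    exact (le_stab_iff.1 (sup_le
      (le_stab_iff.2 ⟨hA, by rw [commutator_comm]; exact (le_stab_iff.1 inf_le_left).2⟩)
      (le_stab_iff.2 ⟨hA', by rw [commutator_comm]; exact (le_stab_iff.1 inf_le_right).2⟩))).2⟩

theorem stab_anti (h : A ≤ A') : stab A' Z ≤ stab A Z := fun _ k => ⟨k.1, fun c hc => k.2 c (h hc)⟩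

theorem mem_stab_of (hA : A ≤ Ns Z) (h1 : g ∈ Ns Z) (h2 : g ∈ Cs A) : g ∈ stab (A ⊔ Z) Z :=
  stab_sup hA le_normalizer ⟨⟨h1, fun c hc => by
    rw [commutatorElement_eq_one_iff_mul_comm.2 (h2 c hc)]; exact one_mem _⟩, h1, fun c hc => by
      simpa only [commutatorElement_def, mul_assoc] using
        mul_mem hc (conj_mem_of_mem_normalizer h1 (inv_mem hc))⟩

theorem cj_stab (h : g ∈ stab A Z) (ht : t ∈ Ns Z) : t * g * t⁻¹ ∈ stab (cjs t A) Z := by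
  refine ⟨mul_mem (mul_mem ht h.1) (inv_mem ht), ?_⟩
  rintro _ ⟨c, hc, rfl⟩
  have := conj_mem_of_mem_normalizer ht (h.2 c hc)
  rwa [conjugate_commutatorElement] at this

theorem exists_sqrt (ho : Odd (orderOf g)) : ∃ y ∈ zpowers g, y * y = g := by
  obtain ⟨k, hk⟩ := ho
  exact ⟨g ^ (k + 1), pow_mem (mem_zpowers g) _, by
    rw [← pow_add, show k + 1 + (k + 1) = 2 * k + 1 + 1 by ring, pow_succ, ← hk,
      pow_orderOf_eq_one, one_mul]⟩

variable [Finite G]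

theorem stab_le_Ns : stab P (sqs P) ≤ Ns P := fun g h => mem_normalizer_of_cj_le (by
  rintro _ ⟨c, hc, rfl⟩
  have := mul_mem hc (sqs_le P (h.2 _ (inv_mem hc)))
  simpa [commutatorElement_def, mul_assoc] using this)

theorem cen_of_odd (hP : IsPGroup 2 P) (h : g ∈ stab P (sqs P)) (ho : Odd (orderOf g)) :
    g ∈ Cs P := by
  have h1 : sqs P ≤ H46.frattiniOf P := (closure_le _).2 (by
    rintro _ ⟨x, hx, rfl⟩
    exact pow_two x ▸ H46.pow_mem_frattiniOf Nat.prime_two hP hx)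
  refine H1.le_centralizer_of_commutator_le_frattini (A := zpowers g)
    (zpowers_le.2 (stab_le_Ns h)) ?_ ((le_stab_iff.1 (zpowers_le.2 h)).2.trans h1) (mem_zpowers g)
  obtain ⟨n, hn⟩ := IsPGroup.iff_card.1 hP
  rw [Nat.card_zpowers, hn]
  exact (Nat.coprime_two_right.2 ho).pow_right n

theorem stab_le (uf : UF M t) (hP : IsPGroup 2 P) (ht : t ∈ Ns P) (hc : Cs P ≤ M) :
    stab P (sqs P) ≤ M := by
  have h1 : zpowers t ≤ Ns (stab P (sqs P)) :=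
    le_normalizer_stab (zpowers_le.2 ht) (zpowers_le.2 (Ns_le_Ns_sqs P ht))
  refine le_sup_left.trans (H67.SA.jobK11 uf (IsConj.refl t) uf.mem (stab P (sqs P) ⊔ zpowers t)
    (mem_sup_right (mem_zpowers t)) fun y hy ho => hc (cen_of_odd hP (mem_of_sq_mem ?_ ho) ho))
  obtain ⟨n, hn, s, hs, rfl⟩ := (H98.mem_sup_right_norm h1).1 hy
  have : n * s * (n * s) = n * (s * n * s⁻¹) * (s * s) := by group
  rw [this, show s * s = 1 by
    rcases (mem_zp2 uf.inv.1).1 hs with rfl | rfl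
    exacts [one_mul 1, uf.inv.1], mul_one]
  exact mul_mem hn (conj_mem_of_mem_normalizer (h1 hs) hn)

end Gen

variable {X : Type} [Group X] {G : Type u} [Group G] [Finite G] {e : X →* G} {t o : G}
  {B W : Subgroup G} {c : Cov X B} {z : X} {S U U₁ U₂ : Subgroup X} {z1 : G}

/-- The fact `oi` for one subgroup. -/
def OI (S U : Subgroup X) : Prop := ∀ N : Subgroup (MulAut X), IsPGroup 2 N → cI S ≤ N →
  ∀ α : MulAut N, Odd (orderOf α) → (cN U N).map α.toMonoidHom = cN U N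

section

variable (hz : ZL c z z1) (hE : FEd z S U₁ U₂) (h : CW e t c) (hF : F0 X) (hW : IsPGroup 2 W)
  (h1 : U12 c t S ≤ W) (ho : o ∈ Ns W) (od : Odd (orderOf o))
include hz hE h hF hW h1 ho

include od in
theorem fix_z (h2 : W ≤ MM t B) : o * z1 * o⁻¹ = z1 := by
  refine (hz.perm hE h hF hW h1 h2 ho).elim id fun k => ?_
  rcases (hz.cj t).perm hE h.symm hF hW (h.U12_symm S ▸ h1) (h.MM_symm ▸ h2) ho with k' | k'
  · have : z1 = t * z1 * t⁻¹ := (MulAut.conj o).injective (k.trans k'.symm)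
    exact k.trans this.symm
  · rw [hz.back h, ← k] at k'
    have : o * o ∈ Cz z1 := mem_Cz.2 (mul_inv_eq_iff_eq_mul.1 (Eq.trans (by group) k')).symm
    rw [← mem_Cz.1 (mem_of_sq_mem this od), mul_inv_cancel_right]

theorem norm_D (h2 : W ≤ Ns B) (fz : o * z1 * o⁻¹ = z1) : o ∈ Ns (W ⊓ Cs (Up c S)) := by
  have hS : Up c S ≤ W := le_sup_left.trans h1
  have k1 : W ≤ Ns (cjs o (W ⊓ Cs B)) := by
    rw [← cj_Ns]
    exact (mem_Ns_iff.1 ho).ge.trans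
      (map_mono (le_normalizer_inf le_normalizer (H98.le_normalizer_centralizer h2)))
  have k2 : z1 ∉ cjs o (W ⊓ Cs B) := fun k => by
    rw [← fz, conj_mem_cjs] at k
    exact hE.zI.ne (hF.cen _ (by rw [← hz.pi, ← c.ac_of_mem hz.mem, c.ac_of_Cs k.2]))
  have k3 : ∀ x ∈ W ⊓ Cs B, o * x * o⁻¹ ∈ Cs (Up c S) := fun x hx s hs => by
    have hy := conj_mem_cjs (g := o).2 hx
    have hy' := conj_mem_of_mem_normalizer ho hx.1
    generalize o * x * o⁻¹ = y at hy hy'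
    refine (cm_eq_one.1 (by_contra fun k => k2 (hz.mem_of_norm hE hF (hS.trans k1) ?_ ?_ k))).symm
    · simpa only [cm, mul_assoc] using
        mul_mem hy (conj_mem_of_mem_normalizer (k1 (hS hs)) (inv_mem hy))
    · exact mul_mem (conj_mem_of_mem_normalizer (ZL.le_Ns hE hW hS h2 hy') hs) (inv_mem hs)
  refine mem_normalizer_of_cj_le ?_
  rintro _ ⟨x, hx, rfl⟩
  refine ⟨conj_mem_of_mem_normalizer ho hx.1, (hz.cen_Up hE (h2 hx.1) hx.2).elim
    (fun k => k3 x ⟨hx.1, k⟩) fun k => ?_⟩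
  have := k3 _ ⟨mul_mem (hS (hz.mem_Up hE)) hx.1, k⟩
  rw [← conj_mul, fz] at this
  exact (mul_mem_cancel_left (hz.mem_Cs hE)).1 this

include od in
theorem half (h2 : W ≤ M0 t B) (fz : o * (t * z1 * t⁻¹) * o⁻¹ = t * z1 * t⁻¹) (hU : U ≤ S)
    (oi : OI S U) {u : G} (hu : u ∈ Up c U) :
    ∃ a ∈ Up c U, o * u * o⁻¹ = a ∨ o * u * o⁻¹ = a * (t * z1 * t⁻¹) := by
  have := hF.finite_aut
  have hy := hz.cj t
  have nD := norm_D hy hE h.symm hF hW (h.U12_symm S ▸ h1) ho (h2.trans inf_le_right) fz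
  have hD : W ⊓ Cs (Up (c.cj t) S) ≤ Ns B := inf_le_left.trans (h2.trans inf_le_left)
  let f := c.acH.comp (inclusion hD)
  have kf : ∀ x ∈ W ⊓ Cs (Up (c.cj t) S), c.ac x = 1 → x = 1 ∨ x = t * z1 * t⁻¹ := fun x hx k => by
    have k1 := c.ac_ker x (hD hx) k
    have x2 := isPGroup_iff_is2.1 hW x hx.1
    have kk : ∀ {y}, y ∈ Cs B → y ∈ Cs (cjs t B) → Is2 y → y = 1 := fun a b d =>
      h.eq_one_C1 (by rw [G1, Cs, H98.centralizer_sup]; exact ⟨a, b⟩) d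
    refine (hy.cen_Up hE (h2 hx.1).2 hx.2).imp (fun k => kk k1 k x2) fun k => ?_
    have := kk (mul_mem (h.comm' hy.mem) k1) k (hy.is2.mul x2 (hx.2 _ (hy.mem_Up hE)))
    rw [eq_inv_of_mul_eq_one_right this, inv_eq_of_mul_eq_one_right (hy.inv2 hE).1]
  have sD : Up c S ≤ W ⊓ Cs (Up (c.cj t) S) := le_inf (le_sup_left.trans h1)
    ((Up_le c S).trans (h.comm.trans (centralizer_le (Up_le _ S))))
  obtain ⟨α, a1, a2⟩ := exists_aut f.rangeRestrict f.rangeRestrict_surjective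
    (normalizerMonoidHom _ ⟨o, nD⟩) (fun x hx => Subtype.ext (by
      change c.ac (o * x * o⁻¹) = 1
      rcases kf x x.2 (congrArg Subtype.val hx) with k | k
      · rw [k, mul_one, mul_inv_cancel, c.ac_one]
      · rw [k, fz, c.ac_of_Cs (h.comm' hy.mem)]))
    (od.of_dvd_nat ((orderOf_map_dvd _ _).trans (by rw [← orderOf_coe])))
  have a3 := oi f.range ((hW.to_le inf_le_left).of_surjective _ f.rangeRestrict_surjective) (by
    rintro _ ⟨s, hs, rfl⟩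
    obtain ⟨l, hl, rfl⟩ := exists_Up (c := c) hE.two hs
    exact ⟨⟨l, sD hl⟩, c.ac_of_mem (Up_le c S hl)⟩) α a1
  have hU2 := hE.two.to_le hU
  have uD := sD (Up_mono hU hu)
  obtain ⟨x, hx, e1⟩ : α (f.rangeRestrict ⟨u, uD⟩) ∈ cN U f.range := a3.le ⟨_,
    ⟨c.pi u, ((mem_Up hU2).1 hu).2.2, (c.ac_of_mem (Up_le c U hu)).symm⟩, rfl⟩
  rw [a2] at e1
  change _ = c.ac (o * u * o⁻¹) at e1
  obtain ⟨a, ha, rfl⟩ := exists_Up (c := c) hU2 hx
  have aD := sD (Up_mono hU ha)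
  have oD := conj_mem_of_mem_normalizer nD uD
  refine ⟨a, ha, (kf _ (mul_mem (inv_mem aD) oD) ?_).imp (fun k => (inv_mul_eq_one.1 k).symm)
    fun k => by rw [← k, mul_inv_cancel_left]⟩
  rw [c.ac_mul _ (inv_mem (hD aD)) _ (hD oD), c.ac_inv (hD aD), ← e1, c.ac_of_mem (Up_le c U ha),
    inv_mul_cancel]

end

/-- `U₁ Φ(U₁ U₂)` -/
abbrev BB (c : Cov X B) (t : G) (U : Subgroup X) : Subgroup G := Up c U ⊔ sqs (U12 c t U)

theorem z_mem (hz : ZL c z z1) (hU : IsPGroup 2 U) (zU : z ∈ sqs U) : z1 ∈ sqs (Up c U) := by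
  rw [sqs_Up hU]; exact mem_Up_of hz.mem hz.is2 (hz.pi ▸ zU)

theorem Ns_U12 (h : CW e t c) {w : G} (h1 : w ∈ B) (h2 : w ∈ Ns (Up c U)) : w ∈ Ns (U12 c t U) :=
  le_normalizer_sup (zpowers_le.2 h2) (zpowers_le.2 (Cs_le_Ns _
    (centralizer_le (map_mono (Up_le c U)) (h.comm h1)))) (mem_zpowers w)

theorem Ns_Up (h : CW e t c) (hU : IsPGroup 2 U) {m : G} (h1 : m ∈ Ns B) (h2 : m ∈ Ns (U12 c t U)) :
    m ∈ Ns (Up c U) := by
  have : U12 c t U ⊓ B = Up c U := le_antisymm (fun g hg => by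
    obtain ⟨a, ha, b, hb, rfl⟩ := h.mem_U12.1 hg.1
    rwa [h.eq_one ((mul_mem_cancel_left (Up_le c U ha)).1 hg.2) (map_mono (Up_le c U) hb)
      (isPGroup_iff_is2.1 ((isPGroup_Up hU).map _) b hb), mul_one])
    (le_inf le_sup_left (Up_le c U))
  rw [← this]
  exact le_normalizer_inf (zpowers_le.2 h2) (zpowers_le.2 h1) (mem_zpowers m)

theorem key (h : GW e t c) (hF : F0 X) (hU : IsPGroup 2 U) (cu : Cs (U.map e) ≤ MM t B)
    (hz : ZL c z z1) (z0 : z ≠ 1) (zU : z ∈ sqs U) (o0 : o ∈ Ns (U12 c t U))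
    (o1 : o ∈ Ns (BB c t U)) (o2 : o ∈ Ns (BB (c.cj t) t U))
    (o3 : ∀ u ∈ sqs (Up c U), o * u * o⁻¹ ∈ B) (f1 : o * z1 * o⁻¹ = z1)
    (f2 : o * (t * z1 * t⁻¹) * o⁻¹ = t * z1 * t⁻¹) :
    O2 (ivs (Ns U)) ≤ c.im (B ⊓ (MM t B).comap (MulAut.conj o).toMonoidHom) := by
  have hc := h.toCW
  rw [BB, hc.U12_symm, cj_Up] at o2
  rw [BB] at o1
  have z2 := z_mem hz hU zU
  have nΦ := Ns_le_Ns_sqs (U12 c t U)
  have tP := hc.t_mem_Ns_U12 U
  have a1 : Up c U ≤ Ns (sqs (U12 c t U)) := le_sup_left.trans (le_normalizer.trans nΦ)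
  have a2 : cjs t (Up c U) ≤ Ns (sqs (U12 c t U)) := le_sup_right.trans (le_normalizer.trans nΦ)
  have n2 : stab (Up c U ⊔ sqs (U12 c t U)) (sqs (U12 c t U)) ⊓
      stab (cjs t (Up c U) ⊔ sqs (U12 c t U)) (sqs (U12 c t U)) ≤ MM t B :=
    (inf_le_inf (stab_anti le_sup_left) (stab_anti le_sup_left)).trans ((stab_sup a1 a2).trans
      (stab_le h.uf (hc.isPGroup_U12 hU) tP ((centralizer_le (hc.map_e_le hU)).trans cu)))
  have nT : ∀ {A : Subgroup G} {g}, g ∈ Ns (A ⊔ sqs (U12 c t U)) → g ∈ Ns (U12 c t U) →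
      g ∈ Ns (stab (A ⊔ sqs (U12 c t U)) (sqs (U12 c t U))) := fun a b =>
    le_normalizer_stab (zpowers_le.2 a) (zpowers_le.2 (nΦ b)) (mem_zpowers _)
  have nB : ∀ {A : Subgroup G} {g}, g ∈ Ns A → g ∈ Ns (U12 c t U) →
      g ∈ Ns (A ⊔ sqs (U12 c t U)) := fun a b =>
    le_normalizer_sup (zpowers_le.2 a) (zpowers_le.2 (nΦ b)) (mem_zpowers _)
  have c1 : cjs t (Up c U ⊔ sqs (U12 c t U)) = cjs t (Up c U) ⊔ sqs (U12 c t U) := by
    rw [cjs_sup, mem_Ns_iff.1 (nΦ tP)]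
  have c2 : cjs t (cjs t (Up c U) ⊔ sqs (U12 c t U)) = Up c U ⊔ sqs (U12 c t U) := by
    rw [← c1, cjs_tt hc.tt]
  have s2 : ∀ w ∈ B, w ∈ Ns (Up c U) →
      w ∈ stab (cjs t (Up c U) ⊔ sqs (U12 c t U)) (sqs (U12 c t U)) := fun w a b =>
    mem_stab_of a2 (nΦ (Ns_U12 hc a b)) (centralizer_le (map_mono (Up_le c U)) (hc.comm a))
  have s2' : ∀ w ∈ B, w ∈ Ns (Up c U) →
      o * w * o⁻¹ ∈ stab (cjs t (Up c U) ⊔ sqs (U12 c t U)) (sqs (U12 c t U)) := fun w a b =>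
    conj_mem_of_mem_normalizer (nT o2 o0) (s2 w a b)
  generalize hT : stab (Up c U ⊔ sqs (U12 c t U)) (sqs (U12 c t U)) = T1 at n2
  have nL : M0 t B ⊓ Ns (U12 c t U) ≤ Ns T1 := fun m hm =>
    hT ▸ nT (nB (Ns_Up hc hU hm.1.1 hm.2) hm.2) hm.2
  have iv : ivs (B ⊓ Ns (Up c U)) ≤
      (T1 ⊔ M0 t B ⊓ Ns (U12 c t U)).comap (MulAut.conj o).toMonoidHom := (closure_le _).2 (by
    rintro p ⟨⟨p1, p2⟩, p3⟩
    change o * p * o⁻¹ ∈ T1 ⊔ M0 t B ⊓ Ns (U12 c t U)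
    have r0 := mul_mem (mul_mem o0 (Ns_U12 hc p1 p2)) (inv_mem o0)
    have r1 := mul_mem (mul_mem o1 (nB p2 (Ns_U12 hc p1 p2))) (inv_mem o1)
    have r2 := s2' p p1 p2
    have r3 : o * p * o⁻¹ * (o * p * o⁻¹) = 1 := by rw [conj_mul, p3, mul_one, mul_inv_cancel]
    have r4 : o * p * o⁻¹ * z1 * (o * p * o⁻¹)⁻¹ ∈ B := by
      have := o3 _ (conj_mem_of_mem_normalizer (Ns_le_Ns_sqs _ p2) z2)
      rw [← f1]; convert this using 1; group
    have r5 : t * (o * p * o⁻¹) * t⁻¹ * z1 = z1 * (t * (o * p * o⁻¹) * t⁻¹) := by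
      rw [← hz.back hc, ← f2, conj_mul, conj_mul, conj_mul, conj_mul, hc.cm12 p1 (hz.cj t).mem]
    generalize o * p * o⁻¹ = r at r0 r1 r2 r3 r4 r5
    have q0 := mul_mem (mul_mem tP r0) (inv_mem tP)
    have q1 : t * r * t⁻¹ ∈ T1 := by rw [← hT, ← c2]; exact cj_stab r2 (nΦ tP)
    have q2 : t * r * t⁻¹ ∈ Ns (cjs t (Up c U) ⊔ sqs (U12 c t U)) := by
      rw [← c1, ← cj_Ns]; exact conj_mem_cjs.2 r1
    have ri := inv_eq_of_mul_eq_one_right r3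
    have k1 : r * (t * r * t⁻¹) ∈ MM t B := h.uf.uf _ (by
      have : r * (t * r * t⁻¹) * t * (r * (t * r * t⁻¹))⁻¹ = cm r (t * r * t⁻¹) * t := by
        simp only [cm, mul_inv_rev, hc.ti, ri, mul_assoc]
        rw [← mul_assoc t t, hc.tt, one_mul, mul_one]
      rw [this]
      refine mul_mem (n2 (mem_inf.2
        ⟨mul_mem (conj_mem_of_mem_normalizer (hT ▸ nT r1 r0) q1) (inv_mem q1), ?_⟩)) hc.t_mem
      simpa only [cm, mul_assoc] using
        mul_mem r2 (conj_mem_of_mem_normalizer (nT q2 q0) (inv_mem r2)))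
    have k2 : r * (t * r * t⁻¹) ∈ M0 t B := hc.mem_M0_of k1 hz.mem hz.is2 (hz.ne z0) (by
      rw [mul_assoc r, r5]; convert r4 using 1; group)
    have : r = r * (t * r * t⁻¹) * (t * r * t⁻¹)⁻¹ := by group
    rw [this]
    exact mul_mem (mem_sup_right ⟨k2, mul_mem r0 q0⟩) (mem_sup_left (inv_mem q1)))
  have sq : ∀ w ∈ ivs (B ⊓ Ns (Up c U)), o * (w * w) * o⁻¹ ∈ MM t B := fun w hw => by
    obtain ⟨τ, hτ, K, hK, e1⟩ := (H98.mem_sup_right_norm nL).1 (iv hw)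
    change o * w * o⁻¹ = _ at e1
    have hK2 := mul_mem hK hK
    obtain ⟨x, hx⟩ := hF.inn_sq (c.ac K)
    obtain ⟨l, hl, rfl⟩ := c.surj x
    have l1 : K * K * l⁻¹ ∈ Cs B := c.ac_ker _ (mul_mem hK2.1.1 (inv_mem (le_normalizer hl))) (by
      rw [c.ac_mul _ hK2.1.1 _ (inv_mem (le_normalizer hl)), c.ac_mul _ hK.1.1 _ hK.1.1, hx,
        c.ac_inv (le_normalizer hl), c.ac_of_mem hl, mul_inv_cancel])
    have l2 := centralizer_le (Up_le c U) l1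
    have l3 : l ∈ Ns (Up c U) := by
      simpa [mul_assoc] using mul_mem (inv_mem (Cs_le_Ns _ l2)) (Ns_Up hc hU hK2.1.1 hK2.2)
    have l4 : K * K * l⁻¹ ∈ T1 :=
      hT ▸ mem_stab_of a1 (nΦ (mul_mem hK2.2 (inv_mem (Ns_U12 hc hl l3)))) l2
    have w1 := ivs_le _ (mul_mem hw hw)
    refine (mul_mem_cancel_right (inv_mem (hc.M0_le (hc.B_le hl)))).1
      (n2 (mem_inf.2 ⟨?_, mul_mem (s2' _ w1.1 w1.2) (inv_mem (s2 l hl l3))⟩))
    have : o * (w * w) * o⁻¹ * l⁻¹ = τ * (K * τ * K⁻¹) * (K * K * l⁻¹) := by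
      rw [← conj_mul, e1]; group
    rw [this]
    exact mul_mem (mul_mem hτ (conj_mem_of_mem_normalizer (nL hK) hτ)) l4
  have im : ivs (Ns U) ≤ c.im (ivs (B ⊓ Ns (Up c U))) := (closure_le _).2 (by
    rintro v ⟨v1, v2⟩
    obtain ⟨l, l1, l2, rfl⟩ := c.exists_lift2 (is2_of_sq v2)
    exact c.pi_mem_im (mem_ivs ⟨l1, mem_Ns_Up (le_normalizer l1)
      (by rw [c.ac_of_mem l1]; exact mem_Ns_iff.1 v1)⟩ (c.sq_of_pi l1 l2 v2)) l1)
  refine (closure_le _).2 ?_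
  rintro y ⟨y1, y2⟩
  obtain ⟨x, hx, e1⟩ := exists_sqrt y2
  obtain ⟨w, hw, wB, rfl⟩ := c.mem_im.1 (im (zpowers_le.2 y1 hx))
  exact c.mem_im.2 ⟨w * w, ⟨mul_mem wB wB, sq w hw⟩, mul_mem wB wB, by rw [c.pi_mul _ wB _ wB, e1]⟩

/-- `o` normalises `U₁ ⟨z2⟩`. -/
def Hf (c : Cov X B) (t z1 o : G) (U : Subgroup X) : Prop :=
  ∀ u ∈ Up c U, ∃ a ∈ Up c U, o * u * o⁻¹ = a ∨ o * u * o⁻¹ = a * (t * z1 * t⁻¹)

theorem Hf.le (k : Hf c t z1 o U) (hU : IsPGroup 2 U) (hz : ZL c z z1) (zU : z ∈ sqs U) :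
    cjs o (Up c U) ≤ BB c t U := by
  rintro _ ⟨u, hu, rfl⟩
  change o * u * o⁻¹ ∈ _
  obtain ⟨a, ha, k | k⟩ := k u hu
  · exact mem_sup_left (k ▸ ha)
  · exact k ▸ mul_mem (mem_sup_left ha) (mem_sup_right
      (sqs_mono le_sup_right (cj_Up (c := c) t ▸ z_mem (hz.cj t) hU zU)))

theorem key' (h : GW e t c) (hF : F0 X) (hU : IsPGroup 2 U) (cu : Cs (U.map e) ≤ MM t B)
    (hz : ZL c z z1) (zI : I z) (zU : z ∈ sqs U) (k1 : Hf c t z1 o U)
    (k2 : Hf (c.cj t) t (t * z1 * t⁻¹) o U) (f1 : o * z1 * o⁻¹ = z1)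
    (f2 : o * (t * z1 * t⁻¹) * o⁻¹ = t * z1 * t⁻¹) :
    O2 (ivs (Ns U)) ≤ c.im (B ⊓ (MM t B).comap (MulAut.conj o).toMonoidHom) := by
  have hc := h.toCW
  have l1 := k1.le hU hz zU
  have l2 := k2.le hU (hz.cj t) zU
  have o0 : o ∈ Ns (U12 c t U) := mem_normalizer_of_cj_le (by
    refine (cjs_sup _ _ _).le.trans (sup_le (l1.trans (sup_le le_sup_left (sqs_le _))) ?_)
    rw [← cj_Up, ← hc.U12_symm]
    exact l2.trans (sup_le le_sup_left (sqs_le _)))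
  have nΦ := (mem_Ns_iff.1 (Ns_le_Ns_sqs _ o0)).le
  refine key h hF hU cu hz zI.ne zU o0 (mem_normalizer_of_cj_le
    ((cjs_sup _ _ _).le.trans (sup_le l1 (nΦ.trans le_sup_right)))) (mem_normalizer_of_cj_le
    ((cjs_sup _ _ _).le.trans (sup_le l2 (by rw [BB, hc.U12_symm]; exact nΦ.trans le_sup_right))))
    (fun u hu => (closure_le (B.comap (MulAut.conj o).toMonoidHom)).2 ?_ hu) f1 f2
  rintro _ ⟨u, hu, rfl⟩
  change o * (u * u) * o⁻¹ ∈ B
  obtain ⟨a, ha, k | k⟩ := k1 u hu <;> rw [← conj_mul, k]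
  · exact mul_mem (Up_le c U ha) (Up_le c U ha)
  · rw [mul_assoc, ← mul_assoc _ a, ← hc.cm12 (Up_le c U ha) (hz.cj t).mem, mul_assoc,
      (hz.cj t).sq zI.sq, mul_one]
    exact mul_mem (Up_le c U ha) (Up_le c U ha)

theorem side (hz : ZL c z z1) (hE : FEd z S U₁ U₂) (h : GW e t c) (hF : F0 X) (cu : CU e t B S)
    (hW : IsPGroup 2 W) (h1 : U12 c t S ≤ W) (h2 : W ≤ M0 t B) (ho : o ∈ Ns W)
    (od : Odd (orderOf o)) : cjs o B ≤ G1 t B := by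
  have hc := h.toCW
  have hy := hz.cj t
  have h1' : U12 (c.cj t) t S ≤ W := hc.U12_symm S ▸ h1
  have f1 := fix_z hz hE hc hF hW h1 ho od (h2.trans hc.M0_le)
  have f2 := fix_z hy hE hc.symm hF hW h1' ho od (hc.MM_symm ▸ h2.trans hc.M0_le)
  have k : ∀ {U}, SC U → Lnk S U → z ∈ sqs U → OI S U →
      O2 (ivs (Ns U)) ≤ c.im (B ⊓ (MM t B).comap (MulAut.conj o).toMonoidHom) :=
    fun a b d i => key' h hF (hE.two.to_le b.le) (cu _ a b) hz hE.zI d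
      (fun _ => half hz hE hc hF hW h1 ho od h2 f2 b.le i)
      (fun _ => half hy hE hc.symm hF hW h1' ho od (hc.M0_symm ▸ h2) (by rw [hz.back hc, f1]) b.le i)
      f1 f2
  have k1 : c.im (B ⊓ (MM t B).comap (MulAut.conj o).toMonoidHom) = ⊤ :=
    top_le_iff.1 (hE.gen.ge.trans (sup_le (sup_le (fun s hs => by
      obtain ⟨l, hl, rfl⟩ := exists_Up (c := c) hE.two hs
      exact c.pi_mem_im ⟨Up_le c S hl, hc.M0_le (h2 (conj_mem_of_mem_normalizer ho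
        (h1 (mem_sup_left hl))))⟩ (Up_le c S hl))
      (k hE.sc1 hE.lk1 hE.z1 fun N a b α d => (hE.oi N a b α d).1))
      (k hE.sc2 hE.lk2 hE.z2 fun N a b α d => (hE.oi N a b α d).2)))
  have k2 : ∀ a ∈ B, ∃ y ∈ B ⊓ (MM t B).comap (MulAut.conj o).toMonoidHom, y⁻¹ * a ∈ Cs B :=
    fun a ha => by
      obtain ⟨y, y1, y2, y3⟩ := c.mem_im.1 (k1.ge (mem_top (c.pi a)))
      exact ⟨y, y1, c.ker_cen _ (mul_mem (inv_mem y2) ha) (by
        rw [c.pi_mul _ (inv_mem y2) _ ha, c.pi_inv y2, y3, inv_mul_cancel])⟩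
  refine hc.perf_le hF (map_le_iff_le_comap.2 (hc.perf.trans (commutator_le.2 fun a ha b hb => ?_)))
    (map_perf _ hc.perf)
  obtain ⟨x, x1, x2⟩ := k2 a ha
  obtain ⟨y, y1, y2⟩ := k2 b hb
  have : ⁅a, b⁆ = ⁅x, y⁆ := by
    calc ⁅a, b⁆ = x * ((x⁻¹ * a) * b) * a⁻¹ * b⁻¹ := by rw [commutatorElement_def]; group
      _ = x * y * ((y⁻¹ * b) * x⁻¹) * b⁻¹ := by rw [← x2 b hb]; group
      _ = _ := by rw [← y2 _ (inv_mem x1.1), commutatorElement_def]; group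
  rw [this, commutatorElement_def]
  exact mul_mem (mul_mem (mul_mem x1.2 y1.2) (inv_mem x1.2)) (inv_mem y1.2)

theorem jobW1 : H25.ST.JobW1.{u} := by
  intro X _ G _ _ e t hF B c z S U₁ U₂ hE h cu W o hW h2 h1 _ ho od
  have hc := h.toCW
  obtain ⟨z1, hz⟩ := exists_ZL c hE.zI.sq
  have k0 := hz.Ns_le hE hc hF hW h1 h2 ho
  have k1 : U12 c t S ≤ W ⊓ M0 t B :=
    le_inf h1 ((sup_le_sup (Up_le c S) (map_mono (Up_le c S))).trans hc.G1_le)
  have k2 := side (hz.cj t) hE h.symm hF (fun U a b => hc.MM_symm ▸ cu U a b)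
    (hW.to_le inf_le_left) (hc.U12_symm S ▸ k1) (hc.M0_symm ▸ inf_le_right) k0 od
  rw [hc.G1_symm] at k2
  exact mem_normalizer_of_cj_le ((cjs_sup _ _ _).le.trans
    (sup_le (side hz hE h hF cu (hW.to_le inf_le_left) k1 inf_le_right k0 od) k2))

end H18.STW1
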