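import Cfsg.Agent.H67.SWDef
import Cfsg.Agent.H26.SPFO
import Cfsg.Agent.H54.SpCard

/-! STD-SP, wreath endgame, slot FT of `blueprints/STDSPW.md`. -/

set_option autoImplicit false

namespace H18.SWFT

open H64.SG (fx mem_fx)
open Matrix Subgroup H67.SP H54 Cfsg
open H67.UA (XU)

theorem jobFT : H67.SW.JobFT := by
  intro n F _ _ _ _ _ p b _ o β h2 ho
  refine ⟨o.a4 β h2 ho, ?_⟩
  have : Fact (Nat.Prime 2) := ⟨Nat.prime_two⟩
  obtain ⟨g, σ, s2, s1, rfl⟩ := o.std β h2 ho
  obtain ⟨φ, hφ⟩ := H26.SP.exists_tr (n := n) (F := F)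
  have c := H57.card_eq_card_fixedSub_pow σ
  rw [orderOf_eq_prime ((pow_two σ).trans s2) s1] at c
  have := Fintype.ofFinite F
  obtain ⟨r, -, hr⟩ := FiniteField.card F 2
  obtain ⟨a, -, ha⟩ := (Nat.dvd_prime_pow Nat.prime_two).1
    (show Nat.card (H57.fixedSub σ) ∣ 2 ^ (r : ℕ) by
      rw [← hr, ← Nat.card_eq_fintype_card, c]; exact dvd_pow_self _ two_ne_zero)
  have : Finite (symplecticGroup (Fin (kk n)) (H57.fixedSub σ)) := inferInstance
  obtain ⟨P, hP⟩ := Sylow.exists_subgroup_card_pow_prime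
    (G := symplecticGroup (Fin (kk n)) (H57.fixedSub σ)) 2 (n := a * kk n ^ 2) (by
      rw [card_sp, Fintype.card_fin, spOrder_def, ha, pow_mul]; exact dvd_mul_right _ _)
  let j : symplecticGroup (Fin (kk n)) (H57.fixedSub σ) →* XU n F :=
    (MulAut.conj g).toMonoidHom.comp
      (φ.symm.toMonoidHom.comp (spMap (Fin (kk n)) (H57.fixedSub σ).subtype))
  have ji : Function.Injective j := (MulAut.conj g).injective.comp
    (φ.symm.injective.comp (spMap_injective _ (H57.fixedSub σ).subtype.injective))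
  refine ⟨P.map j, ?_, (IsPGroup.of_card hP).map j, ?_⟩
  · rintro _ ⟨y, -, rfl⟩
    have e : fs n F σ (φ.symm (spMap (Fin (kk n)) (H57.fixedSub σ).subtype y)) =
        φ.symm (spMap (Fin (kk n)) (H57.fixedSub σ).subtype y) := φ.injective (by
      rw [hφ, φ.apply_symm_apply]
      exact Subtype.ext (Matrix.ext fun i j => H57.mem_fixedSub.1 (y.1 i j).2))
    refine mem_fx.2 ?_
    simp [j, mul_assoc, e]
  · rw [card_map_of_injective ji, hP, FW.cardU, c, ha, ← pow_mul, ← pow_mul, ← pow_mul]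
    exact le_of_eq (by ring)

end H18.SWFT
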