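import Cfsg.Agent.S3736
import Cfsg.Agent.S3993
import Cfsg.Agent.H4.Schmidt
import Cfsg.Agent.H4.Carter
import Cfsg.Agent.H4.System
import Cfsg.Agent.H18.HHGroup
import Cfsg.Agent.H1.CoprimeGen
import Cfsg.Agent.H9.PBasic
import Cfsg.Agent.H3.FrattiniP
import Cfsg.Agent.H46.Coprime

/-! p-solvable groups whose Sylow p-subgroup is that of a Schmidt group (row S4394). -/

namespace H18.SS
open Cfsg Subgroup H46
open scoped commutatorElement
universe u v

/-- The properties of the normal Sylow subgroup of a Schmidt group that are used. -/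
structure SE (p : ℕ) (P : Type u) [Group P] : Prop where
  cz : ∀ x y : P, ⁅x, y⁆ ∈ center P
  pz : ∀ x : P, x ^ p ∈ center P
  on : ∀ x : P, x ∉ center P → ∀ z ∈ center P, ∃ y, ⁅x, y⁆ = z
  sm : p ≤ 3 → Nat.card P = p ^ 3 → Nat.card (center P) = p → ∀ x : P, x ^ p = 1 → x ∈ center P

theorem mem_center_equiv {P : Type u} {Q : Type v} [Group P] [Group Q] (e : Q ≃* P) {x : Q} :
    e x ∈ center P ↔ x ∈ center Q := by
  simp only [mem_center_iff]
  constructor
  · intro h g
    apply e.injective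
    rw [map_mul, map_mul, h]
  · intro h g
    obtain ⟨g, rfl⟩ := e.surjective g
    rw [← map_mul, ← map_mul, h]

theorem SE.of_equiv {p : ℕ} {P : Type u} {Q : Type v} [Group P] [Group Q] (h : SE p P)
    (e : Q ≃* P) : SE p Q := by
  refine ⟨fun x y => ?_, fun x => ?_, fun x hx z hz => ?_, fun h1 h2 h3 x hx => ?_⟩
  · rw [← mem_center_equiv e, map_commutatorElement]; exact h.cz _ _
  · rw [← mem_center_equiv e, map_pow]; exact h.pz _
  · obtain ⟨y, hy⟩ := h.on (e x) (by rwa [mem_center_equiv]) (e z) (by rwa [mem_center_equiv])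
    obtain ⟨y, rfl⟩ := e.surjective y
    exact ⟨y, e.injective (by rw [map_commutatorElement, hy])⟩
  · rw [← mem_center_equiv e]
    refine h.sm h1 (by rw [← h2, Nat.card_congr e.toEquiv]) ?_ _ (by rw [← map_pow, hx, map_one])
    rw [← h3]
    exact Nat.card_congr (centerCongr e).symm.toEquiv

theorem se_of_abelian {p : ℕ} {P : Type u} [Group P] (h : ∀ x y : P, x * y = y * x) : SE p P := by
  have hc : ∀ x : P, x ∈ center P := fun x => mem_center_iff.2 fun g => h g x
  exact ⟨fun _ _ => hc _, fun _ => hc _, fun x hx => absurd (hc x) hx, fun _ _ _ x _ => hc x⟩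

theorem cm_mul {G : Type u} [Group G] {x y w : G} (h : Commute x ⁅y, w⁆) (h' : Commute ⁅y, w⁆ ⁅x, w⁆) :
    ⁅x * y, w⁆ = ⁅x, w⁆ * ⁅y, w⁆ := by
  rw [commutatorElement_mul_left_eq_conj_mul, h.eq, mul_inv_cancel_right, h'.eq]

theorem se_of_aut {p q : ℕ} [hp : Fact p.Prime] (hq : q.Prime) (hne : q ≠ p) {P : Type u} [Group P]
    [Finite P] (hP : IsPGroup p P) (α : MulAut P) (hα : α ^ q = 1)
    (h1 : frattini P = center P) (h2 : commutator P = center P)
    (hZ : ∀ z ∈ center P, α z = z)
    (hirr : ∀ U : Subgroup P, center P ≤ U → (∀ x ∈ U, α x ∈ U) → U = center P ∨ U = ⊤) :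
    SE p P := by
  classical
  have := Fact.mk hq
  have cz : ∀ x y : P, ⁅x, y⁆ ∈ center P := fun x y =>
    h2 ▸ commutator_mem_commutator (mem_top x) (mem_top y)
  have cc : ∀ z ∈ center P, ∀ x, Commute x z := fun z hz x => mem_center_iff.1 hz x
  have nf : ∀ x : P, α x ∈ center P ⊔ zpowers x → x ∈ center P := by
    intro x hx
    rcases hirr (center P ⊔ zpowers x) le_sup_left (fun y hy => by
      obtain ⟨z, hz, k, rfl⟩ := H9.mem_sup_zpowers.1 hy
      rw [map_mul, map_zpow, hZ z hz]
      exact mul_mem (mem_sup_left hz) (zpow_mem hx k)) with h | h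
    · exact h ▸ mem_sup_right (mem_zpowers x)
    · rw [mem_center_iff]
      intro g
      obtain ⟨z, hz, k, rfl⟩ := H9.mem_sup_zpowers.1 (h ▸ mem_top g : g ∈ center P ⊔ zpowers x)
      exact (((cc z hz x).mul_right (Commute.self_zpow x k)).symm).eq
  have fix : ∀ (W : P → Prop) (hW : ∀ x, W (α x) ↔ W x), (∀ x, W x → x ∉ center P) →
      q ∣ Nat.card {x // W x} := by
    intro W hW hW'
    have := Fintype.ofFinite P
    by_contra hd
    obtain ⟨y, hy⟩ := Equiv.Perm.exists_fixed_point_of_prime (p := q) (n := 1)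
      (σ := Equiv.Perm.subtypePerm (p := W) α.toEquiv hW)
      (by rw [← Nat.card_eq_fintype_card]; exact hd) (by
        rw [pow_one, Equiv.Perm.subtypePerm_pow]
        ext x
        change ((α.toEquiv : Equiv.Perm P) ^ q) x = x
        have : ((α.toEquiv : Equiv.Perm P) ^ q) = MulAut.toPerm P (α ^ q) := by rw [map_pow]; rfl
        rw [this, hα, map_one]; rfl)
    have h3 : α y = y := congrArg Subtype.val hy
    exact hW' y y.2 (nf y (by rw [h3]; exact mem_sup_right (mem_zpowers _)))
  refine ⟨cz, fun x => h1 ▸ H3.pow_mem_frattini_pgroup hP x, fun x hx z hz => ?_, ?_⟩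
  · let f : P →* P := MonoidHom.mk' (fun y => ⁅y, x⁆) fun a b =>
      cm_mul (cc _ (cz _ _) _) (cc _ (cz _ _) _)
    have hY : f.range ≤ center P := by rintro _ ⟨y, rfl⟩; exact cz _ _
    have : f.range.Normal := ⟨fun n hn g => by
      rw [(cc n (hY hn) g).eq, mul_inv_cancel_right]; exact hn⟩
    rcases hirr (H9.centralMod f.range) (fun y hy => H9.mem_centralMod.2 fun g => by
        rw [commutatorElement_eq_one_iff_commute.2 (cc y hy g).symm]; exact one_mem _)
      (fun y hy => H9.mem_centralMod.2 fun g => by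
        obtain ⟨g, rfl⟩ := α.surjective g
        rw [← map_commutatorElement, hZ _ (cz _ _)]
        exact H9.mem_centralMod.1 hy g) with h | h
    · exfalso
      apply hx
      rw [← h, H9.mem_centralMod]
      intro g
      rw [← commutatorElement_inv]
      exact inv_mem ⟨g, rfl⟩
    · have h3 : commutator P ≤ f.range := by
        rw [commutator_def, commutator_le]
        intro a _ b _
        exact H9.mem_centralMod.1 (h ▸ mem_top a) b
      obtain ⟨y, hy⟩ := h3 (h2 ▸ inv_mem hz)
      refine ⟨y, ?_⟩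
      rw [← commutatorElement_inv]
      exact inv_eq_iff_eq_inv.2 hy
  · intro hp3 hc hz x hx
    by_contra hxZ
    have hαZ : ∀ x, α x ∈ center P ↔ x ∈ center P := fun x => mem_center_equiv α
    have hcompl : Nat.card {x : P // x ∉ center P} = p ^ 3 - p := by
      have := Fintype.ofFinite P
      rw [Nat.card_eq_fintype_card, Fintype.card_subtype_compl, ← Nat.card_eq_fintype_card,
        ← Nat.card_eq_fintype_card, hc]
      congr 1
    have hp2 := hp.out.two_le
    obtain rfl | rfl : p = 2 ∨ p = 3 := by omega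
    · have h3 := fix (fun x => x ∉ center P ∧ x ^ 2 = 1) (fun x => by
        rw [hαZ, ← map_pow, EmbeddingLike.map_eq_one_iff]) fun x h => h.1
      have h4 := Cfsg.Agent.S3993.result (G := P) 2 (by rw [hc]; norm_num)
      have := Fintype.ofFinite P
      have h5 : Nat.card {g : P // g ^ 2 = 1} = 2 + Nat.card {x : P // x ∉ center P ∧ x ^ 2 = 1} := by
        have e1 : (Finset.univ.filter fun g : P => g ^ 2 = 1).filter (fun g => g ∈ center P)
            = Finset.univ.filter fun g : P => g ∈ center P := by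
          ext g
          simp only [Finset.mem_filter, Finset.mem_univ, true_and, and_iff_right_iff_imp]
          intro hg
          have := pow_card_eq_one' (G := center P) (x := ⟨g, hg⟩)
          rw [hz] at this
          exact congrArg Subtype.val this
        rw [Nat.card_eq_fintype_card, Fintype.card_subtype, Nat.card_eq_fintype_card,
          Fintype.card_subtype, ← Finset.card_filter_add_card_filter_not (fun g => g ∈ center P), e1,
          Finset.filter_filter, ← Fintype.card_subtype, ← Nat.card_eq_fintype_card]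
        congr 1
        simp only [and_comm]
      have h6 : Nat.card {g : P // g ^ 2 = 1} ≤ 8 :=
        (Nat.card_le_card_of_injective _ Subtype.val_injective).trans (by rw [hc]; norm_num)
      have h7 : 0 < Nat.card {x : P // x ∉ center P ∧ x ^ 2 = 1} :=
        Nat.card_pos_iff.2 ⟨⟨⟨x, hxZ, hx⟩⟩, inferInstance⟩
      have h8 : Nat.card {g : P // g ^ 2 = 1} = 8 := by
        rw [h5] at h4 h6 ⊢
        generalize Nat.card {x : P // x ∉ center P ∧ x ^ 2 = 1} = w at *
        have : w = 2 ∨ w = 4 ∨ w = 6 := by omega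
        rcases this with rfl | rfl | rfl
        · exact absurd ((Nat.prime_dvd_prime_iff_eq hq Nat.prime_two).1 h3) hne
        · exact absurd ((Nat.prime_dvd_prime_iff_eq hq Nat.prime_two).1
            (hq.dvd_of_dvd_pow (n := 2) h3)) hne
        · rfl
      have h9 : ∀ g : P, g ^ 2 = 1 := by
        have := (Subtype.val_injective (p := fun g : P => g ^ 2 = 1)).bijective_of_nat_card_le
          (by rw [h8, hc]; norm_num)
        intro g
        obtain ⟨y, rfl⟩ := this.2 g
        exact y.2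
      exact hxZ (mem_center_iff.2 fun g => (Commute.of_orderOf_dvd_two
        (fun g => orderOf_dvd_of_pow_eq_one (h9 g)) g x).eq)
    · have h3 := fix (fun x => x ∉ center P) (fun x => by rw [hαZ]) fun x h => h
      rw [hcompl] at h3
      have h4 : q = 2 := by
        have : q ∣ 2 ^ 3 * 3 := h3
        rcases hq.dvd_mul.1 this with h | h
        · exact (Nat.prime_dvd_prime_iff_eq hq Nat.prime_two).1 (hq.dvd_of_dvd_pow h)
        · exact absurd ((Nat.prime_dvd_prime_iff_eq hq Nat.prime_three).1 h) hne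
      subst h4
      have h5 : α (α x) = x := by
        have := DFunLike.congr_fun hα x
        rwa [sq] at this
      have h6 : x * α x ∈ center P := nf _ (by
        rw [map_mul, h5]
        have : α x * x = ⁅α x, x⁆ * (x * α x) := by simp [commutatorElement_def, mul_assoc]
        rw [this]
        exact mul_mem (mem_sup_left (cz _ _)) (mem_sup_right (mem_zpowers _)))
      refine hxZ (nf x ?_)
      have : α x = x⁻¹ * (x * α x) := by group
      rw [this]
      exact mul_mem (inv_mem (mem_sup_right (mem_zpowers _))) (mem_sup_left h6)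

theorem se_of_schmidt {X : Type u} [Group X] [Finite X] {p : ℕ} [hp : Fact p.Prime]
    (hX : IsMinimalNonNilpotent X) (P : Sylow p X) (hPn : (P : Subgroup X).Normal)
    (hP1 : (P : Subgroup X) ≠ ⊥) : SE p (P : Subgroup X) := by
  obtain ⟨q, r, hq, hr, hne, Q, g, hN, hQ, hg, htop, hc⟩ := H4.schmidt_structure hX.1 hX.2
  have := Fact.mk hq
  have := Fact.mk hr
  obtain ⟨C, hC⟩ := H4.exists_sylow_of_isPiHall_singleton hg
  obtain ⟨Q, rfl⟩ := H4.exists_sylow_of_isPiHall_singleton hQ
  have hCq : IsPGroup q (zpowers g) := hC ▸ C.2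
  have hco := H4.coprime_card_of_isPGroup hq hr hne hCq Q.2
  have hpr : p = r := by
    by_contra hpr
    by_cases hpq : p = q
    · subst hpq
      have := Sylow.unique_of_normal P hPn
      have hn : (zpowers g).Normal := by rw [← hC, Subsingleton.elim C P]; exact hPn
      apply hc
      rw [mem_centralizer_iff]
      intro h hh
      exact (commute_of_normal_of_disjoint _ _ hn hN (disjoint_of_coprime_natCard hco) g h
        (mem_zpowers g) hh).eq.symm
    · have h1 : p ∣ Nat.card X := by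
        obtain ⟨k, hk⟩ := P.2.exists_card_eq
        refine dvd_trans ?_ (card_subgroup_dvd_card (P : Subgroup X))
        rw [hk]
        refine dvd_pow_self p fun h => hP1 ?_
        rw [h, pow_zero] at hk
        exact card_eq_one.1 hk
      have h2 : IsSd (Q : Subgroup X) (zpowers g) ⊤ := ⟨by rw [Nrm, normalizer_eq_top]; exact le_top,
        (disjoint_of_coprime_natCard hco.symm).eq_bot, by rw [sup_comm, htop]⟩
      rw [← card_top, ← h2.card] at h1
      obtain ⟨a, ha⟩ := hCq.exists_card_eq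
      obtain ⟨b, hb⟩ := Q.2.exists_card_eq
      rw [ha, hb] at h1
      rcases hp.out.dvd_mul.1 h1 with h | h
      · exact hpr ((Nat.prime_dvd_prime_iff_eq hp.out hr).1 (hp.out.dvd_of_dvd_pow h))
      · exact hpq ((Nat.prime_dvd_prime_iff_eq hp.out hq).1 (hp.out.dvd_of_dvd_pow h))
  subst hpr
  have := Sylow.unique_of_normal P hPn
  obtain rfl : P = Q := Subsingleton.elim _ _
  have hnil : ∀ U A : Subgroup X, U ≤ P → A ≤ zpowers g → U ⊔ A ≠ ⊤ → A ≤ Cent U := by
    intro U A hU hA h
    have := hX.2 _ h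
    exact H4.le_centralizer_of_nilpotent (L := U ⊔ A) le_sup_right le_sup_left
      (coprime_of_le hco hA hU)
  have hmin : ∀ U : Subgroup X, U < P → zpowers g ≤ Nrm U → zpowers g ≤ Cent U := by
    intro U hU hn
    refine hnil U _ hU.le le_rfl fun h => hU.ne ?_
    exact H4.eq_of_le_sup_of_coprime hn hU.le (by rw [sup_comm, h]; exact le_top) hco.symm
  obtain ⟨-, h1, h2, -⟩ := Cfsg.Agent.S3736.result (p := p) (zpowers g) (zpowers g) (P : Subgroup X)
    P.2 (by rw [normalizer_eq_top]; exact le_top) le_rfl le_normalizer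
    (by obtain ⟨a, ha⟩ := hCq.exists_card_eq
        rw [ha]; exact Nat.Coprime.pow_left _ ((Nat.coprime_primes hq hr).2 hne))
    (fun h => hc (commutator_eq_bot_iff'.1 h (mem_zpowers g)))
    (fun U hU hn => commutator_eq_bot_iff'.2 (hmin U hU hn))
  by_cases hab : ∀ x y : (P : Subgroup X), x * y = y * x
  · exact se_of_abelian hab
  rcases h1 with h1 | h1
  · exact absurd h1.1.is_comm.comm hab
  have hinv : ∀ U : Subgroup (P : Subgroup X), (∀ x ∈ U, MulAut.conjNormal g x ∈ U) →
      zpowers g ≤ Nrm (U.map (P : Subgroup X).subtype) := by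
    intro U hU
    rw [zpowers_le]
    apply mem_nrm_of_cj_le
    rintro _ ⟨_, ⟨x, hx, rfl⟩, rfl⟩
    exact ⟨_, hU x hx, rfl⟩
  refine se_of_aut hq hne P.2 (MulAut.conjNormal g) ?_ h1.2.1 h1.2.2 ?_ ?_
  · have h3 : zpowers (g ^ q) ≤ Cent (P : Subgroup X) := by
      refine hnil _ _ le_rfl (zpowers_le_of_mem (pow_mem (mem_zpowers g) q)) fun h => ?_
      have hsd : ∀ A : Subgroup X, A ≤ zpowers g → (P : Subgroup X) ⊔ A = ⊤ →
          Nat.card (P : Subgroup X) * Nat.card A = Nat.card (⊤ : Subgroup X) := fun A hA h =>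
        IsSd.card ⟨by rw [Nrm, normalizer_eq_top]; exact le_top,
          (disjoint_of_coprime_natCard (coprime_of_le hco hA le_rfl).symm).eq_bot, h⟩
      have h4 := hsd _ (zpowers_le_of_mem (pow_mem (mem_zpowers g) q)) h
      rw [← hsd _ le_rfl (by rw [sup_comm, htop]), Nat.card_zpowers, Nat.card_zpowers] at h4
      have h5 := Nat.eq_of_mul_eq_mul_left Nat.card_pos h4
      obtain ⟨a, ha⟩ := hCq.exists_card_eq
      rw [Nat.card_zpowers] at ha
      have h6 : q ∣ orderOf g := by
        rw [ha]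
        refine dvd_pow_self q fun h => hc ?_
        rw [h, pow_zero, orderOf_eq_one_iff] at ha
        rw [ha]; exact one_mem _
      rw [orderOf_pow_of_dvd hq.ne_zero h6] at h5
      exact (Nat.div_lt_self (orderOf_pos g) hq.one_lt).ne h5
    rw [← map_pow]
    ext x
    have := mem_cent.1 (h3 (mem_zpowers _)) x x.2
    simp only [MulAut.conjNormal_apply, MulAut.one_apply]
    rw [← this, mul_inv_cancel_right]
  · intro z hz
    have h3 := hmin ((center (P : Subgroup X)).map (P : Subgroup X).subtype)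
      (lt_of_le_of_ne (map_subtype_le _) fun h => hab fun x y => by
        obtain ⟨w, hw, e⟩ := (h.ge y.2)
        obtain rfl : w = y := Subtype.ext e
        exact mem_center_iff.1 hw x)
      (hinv _ fun x hx => (mem_center_equiv _).2 hx)
    have := mem_cent.1 (h3 (mem_zpowers g)) z ⟨z, hz, rfl⟩
    ext
    simp only [MulAut.conjNormal_apply]
    rw [← this, mul_inv_cancel_right]
  · intro U hU hU'
    rcases h2 (U.map (P : Subgroup X).subtype) (map_mono (h1.2.1 ▸ hU)) (map_subtype_le _)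
      (hinv U hU') with h | h
    · left
      rw [h1.2.1] at h
      exact map_injective (subtype_injective _) h
    · right
      apply map_injective (subtype_injective _)
      rw [h, ← MonoidHom.range_eq_map, range_subtype]

section main
variable {G : Type u} [Group G] [Finite G] {p : ℕ} [hp : Fact p.Prime]

theorem sylow_le_pCore (hG : IsPSolvable p G) (h0 : pPrimeCore p G = ⊥) (S₀ : Sylow p G)
    (h : SE p (S₀ : Subgroup G)) : (S₀ : Subgroup G) ≤ pCore p G := by
  set S : Subgroup G := (S₀ : Subgroup G) with hS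
  set T := pCore p G with hT
  have hCT : Cent T ≤ T := centralizer_pCore_le hG h0
  have hTp : IsPGroup p T := isPGroup_pCore p
  have hTS : T ≤ S := hTp.le_sylow_of_normal S₀
  have hc : ∀ x : S, x ∈ center S ↔ (x : G) ∈ Zc S := fun x => by
    rw [mem_center_iff, mem_inf, mem_cent]
    exact ⟨fun h => ⟨x.2, fun y hy => congrArg Subtype.val (h ⟨y, hy⟩)⟩,
      fun h y => Subtype.ext (h.2 y y.2)⟩
  have hmap : (center S).map S.subtype = Zc S := by
    ext x
    exact ⟨by rintro ⟨y, hy, rfl⟩; exact (hc y).1 hy, fun h => ⟨⟨x, h.1⟩, (hc _).2 h, rfl⟩⟩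
  set Z := Zc S with hZ
  have cz : ∀ x ∈ S, ∀ y ∈ S, ⁅x, y⁆ ∈ Z := fun x hx y hy => (hc _).1 (h.cz ⟨x, hx⟩ ⟨y, hy⟩)
  have pz : ∀ x ∈ S, x ^ p ∈ Z := fun x hx => (hc _).1 (h.pz ⟨x, hx⟩)
  have on : ∀ x ∈ S, x ∉ Z → ∀ z ∈ Z, ∃ y ∈ S, ⁅x, y⁆ = z := fun x hx hx' z hz => by
    obtain ⟨y, hy⟩ := h.on ⟨x, hx⟩ (fun h => hx' ((hc _).1 h)) ⟨z, hz.1⟩ ((hc _).2 hz)
    exact ⟨y, y.2, congrArg Subtype.val hy⟩
  have cc : ∀ z ∈ Z, ∀ x ∈ S, Commute x z := fun z hz x hx => mem_cent.1 hz.2 x hx
  have hZT : Z ≤ T := inf_le_right.trans ((cent_anti hTS).trans hCT)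
  have cmul : ∀ x ∈ S, ∀ y ∈ S, ∀ w ∈ S, ⁅x * y, w⁆ = ⁅x, w⁆ * ⁅y, w⁆ := fun x hx y hy w hw =>
    cm_mul (cc _ (cz _ hy _ hw) _ hx) (cc _ (cz _ hx _ hw) _ (cz _ hy _ hw).1)
  have czpow : ∀ x ∈ S, ∀ w ∈ S, ∀ k : ℤ, ⁅x ^ k, w⁆ = ⁅x, w⁆ ^ k := fun x hx w hw k => by
    let f : S →* G := MonoidHom.mk' (fun y => ⁅(y : G), w⁆) fun a b => cmul _ a.2 _ b.2 _ hw
    exact f.map_zpow ⟨x, hx⟩ k
  have NZ : ∀ d ∈ Nrm Z, d ∈ Nrm S := by
    intro d hd
    let St : Subgroup G :=
      { carrier := {g | (∀ t ∈ T, ⁅g, t⁆ ∈ Z) ∧ g ∈ Cent Z}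
        one_mem' := ⟨fun t _ => by simp [one_mem], one_mem _⟩
        mul_mem' := fun {a b} ha hb => ⟨fun t ht => by
          rw [commutatorElement_mul_left_eq_conj_mul, ← mem_cent.1 ha.2 _ (hb.1 t ht),
            mul_inv_cancel_right]
          exact mul_mem (hb.1 t ht) (ha.1 t ht), mul_mem ha.2 hb.2⟩
        inv_mem' := fun {a} ha => ⟨fun t ht => by
          have h1 : ⁅t, a⁆ ∈ Z := by rw [← commutatorElement_inv]; exact inv_mem (ha.1 t ht)
          rw [commutatorElement_inv_left, mul_assoc, mem_cent.1 ha.2 _ h1, inv_mul_cancel_left]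
          exact h1, inv_mem ha.2⟩ }
    have hSt : IsPGroup p St := by
      rintro ⟨g, hg⟩
      obtain ⟨k, hk⟩ := (hTp.to_le hZT).exists_card_eq
      have h1 : ∀ t ∈ T, ∀ n : ℕ, ⁅g ^ n, t⁆ = ⁅g, t⁆ ^ n := by
        intro t ht n
        induction n with
        | zero => simp
        | succ n ih =>
          rw [pow_succ', commutatorElement_mul_left_eq_conj_mul, ih,
            ← mem_cent.1 hg.2 _ (pow_mem (hg.1 t ht) n), mul_inv_cancel_right, pow_succ]
      have h2 : g ^ p ^ k ∈ T := hCT (mem_cent.2 fun t ht => by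
        have h3 := pow_card_eq_one' (G := Z) (x := ⟨_, hg.1 t ht⟩)
        rw [hk] at h3
        have h4 : ⁅g ^ p ^ k, t⁆ = 1 := (h1 t ht _).trans (congrArg Subtype.val h3)
        exact (commutatorElement_eq_one_iff_commute.1 h4).eq.symm)
      obtain ⟨j, hj⟩ := hTp ⟨_, h2⟩
      exact ⟨k + j, Subtype.ext (by
        have := congrArg Subtype.val hj
        simpa [pow_add, pow_mul] using this)⟩
    have hSS : S ≤ St := fun x hx => ⟨fun t ht => cz x hx t (hTS ht),
      mem_cent.2 fun z hz => (cc z hz x hx).eq.symm⟩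
    have he : St = S := S₀.3 hSt hSS
    apply mem_nrm_of_cj_le
    intro x hx
    rw [mem_cj] at hx
    rw [← he] at hx ⊢
    refine ⟨fun t ht => ?_, ?_⟩
    · have h1 := conj_mem_of_mem_nrm hd (hx.1 (d⁻¹ * t * d) (by
        simpa using (inferInstance : T.Normal).conj_mem t ht d⁻¹))
      rw [conjugate_commutatorElement] at h1
      simpa [mul_assoc] using h1
    · have h1 := conj_mem_of_mem_nrm (nrm_le_nrm_cent Z hd) hx.2
      simpa [mul_assoc] using h1
  by_contra hST
  let f := QuotientGroup.mk' T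
  have hf : ∀ x, f x = 1 ↔ x ∈ T := fun x => QuotientGroup.eq_one_iff x
  have hG' := isPSolvable_quotient hG T
  have hCF := centralizer_pPrimeCore_le hG' (pCore_quotient_pCore p)
  set F := pPrimeCore p (G ⧸ T) with hF
  have hSp : IsPGroup p (S.map f) := S₀.2.map f
  have hco : (Nat.card (S.map f)).Coprime (Nat.card F) := by
    obtain ⟨k, hk⟩ := hSp.exists_card_eq
    rw [hk]; exact Nat.Coprime.pow_left _ (coprime_card_pPrimeCore p).symm
  have hinf := inf_eq_bot_of_coprime' hco
  have hcomm : IsMulCommutative (S.map f) := ⟨⟨by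
    rintro ⟨_, x, hx, rfl⟩ ⟨_, y, hy, rfl⟩
    apply Subtype.ext
    change f x * f y = f y * f x
    rw [← commutatorElement_eq_one_iff_mul_comm, ← map_commutatorElement, hf]
    exact hZT (cz x hx y hy)⟩⟩
  apply hST
  suffices hs : F ≤ Cent (S.map f) by
    intro x hx
    rw [← hf, ← mem_bot, ← hinf]
    exact ⟨mem_map_of_mem f hx, hCF (le_cent_symm hs (mem_map_of_mem f hx))⟩
  refine H1.le_of_cocyclic_centralizer_le (by rw [normalizer_eq_top]; exact le_top) hco _ ?_
  intro Y hY hcy d hd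
  obtain ⟨d, rfl⟩ := QuotientGroup.mk'_surjective T d
  suffices hs : d ∈ Nrm Z by
    rw [mem_cent]
    rintro _ ⟨x, hx, rfl⟩
    rw [← commutatorElement_eq_one_iff_mul_comm, ← mem_bot, ← hinf]
    refine ⟨?_, ?_⟩
    · rw [← map_commutatorElement]
      refine mem_map_of_mem f ?_
      rw [commutatorElement_def, mul_assoc, mul_assoc, ← mul_assoc d]
      exact mul_mem hx (conj_mem_of_mem_nrm (NZ d hs) (inv_mem hx))
    · rw [commutatorElement_def]
      exact mul_mem ((inferInstance : F.Normal).conj_mem _ hd.1 _) (F.inv_mem hd.1)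
  set P := Y.comap f with hP
  have hTP : T ≤ P := fun t ht => by rw [hP, mem_comap, (hf t).2 ht]; exact one_mem _
  have hPS : P ≤ S := fun x hx => by
    obtain ⟨y, hy, e⟩ := hY hx
    have : y⁻¹ * x ∈ T := by rw [← hf, map_mul, map_inv, e, inv_mul_cancel]
    simpa using mul_mem hy (hTS this)
  have hdP : d ∈ Nrm P := by
    apply mem_nrm_of_cj_le
    intro x hx
    rw [mem_cj, hP, mem_comap] at hx
    have h1 := mem_cent.1 hd.2 _ hx
    rw [hP, mem_comap]
    have : f x = f (d⁻¹ * x * d) := by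
      have h2 : f x = f d * f (d⁻¹ * x * d) * (f d)⁻¹ := by simp [mul_assoc]
      rw [h2]
      erw [← h1]
      rw [mul_inv_cancel_right]
    rwa [this]
  have hdT : d ∈ Nrm T := by rw [Nrm, normalizer_eq_top]; exact mem_top d
  obtain ⟨s, hs, hgen⟩ : ∃ s ∈ S, ∀ x ∈ S, ∃ k : ℤ, ∃ y ∈ P, x = s ^ k * y := by
    obtain ⟨σ, hσ⟩ := hcy.exists_generator
    obtain ⟨⟨_, s, hs, rfl⟩, rfl⟩ := QuotientGroup.mk_surjective σ
    refine ⟨s, hs, fun x hx => ?_⟩
    obtain ⟨k, hk⟩ := hσ (QuotientGroup.mk ⟨f x, x, hx, rfl⟩)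
    refine ⟨k, (s ^ k)⁻¹ * x, ?_, by group⟩
    simp only at hk
    rw [← QuotientGroup.mk_zpow, QuotientGroup.eq, mem_subgroupOf] at hk
    rw [hP, mem_comap, map_mul, map_inv, map_zpow]
    exact hk
  by_cases h1 : T ⊓ Cent P ≤ Z
  · have : Z = T ⊓ Cent P := le_antisymm (le_inf hZT (inf_le_right.trans (cent_anti hPS))) h1
    rw [this]
    exact nrm_inf (A := zpowers d) (zpowers_le.2 hdT) (nrm_cent (zpowers_le.2 hdP)) (mem_zpowers d)
  obtain ⟨t, ht, htZ⟩ := SetLike.not_le_iff_exists.1 h1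
  have htS := hTS ht.1
  have hZz : Z = zpowers ⁅s, t⁆ := by
    refine le_antisymm (fun z hz => ?_) (zpowers_le.2 (cz s hs t htS))
    obtain ⟨x, hx, e⟩ := on t htS htZ z⁻¹ (inv_mem hz)
    obtain ⟨k, y, hy, rfl⟩ := hgen x hx
    rw [← commutatorElement_inv, inv_inj, cmul _ (zpow_mem hs k) _ (hPS hy) _ htS,
      czpow _ hs _ htS, commutatorElement_eq_one_iff_mul_comm.2 (mem_cent.1 ht.2 y hy), mul_one] at e
    exact ⟨k, e⟩
  have hne : ⁅s, t⁆ ≠ 1 := fun e => htZ ⟨htS, mem_cent.2 fun x hx => by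
    obtain ⟨k, y, hy, rfl⟩ := hgen x hx
    exact (((commutatorElement_eq_one_iff_commute.1 e).zpow_left k).mul_left
      (mem_cent.1 ht.2 y hy)).eq⟩
  have hZc : Nat.card Z = p := by
    rw [hZz, Nat.card_zpowers]
    refine orderOf_eq_prime ?_ hne
    have := czpow s hs t htS p
    rw [zpow_natCast, zpow_natCast] at this
    rw [← this, commutatorElement_eq_one_iff_commute]
    exact (cc _ (pz s hs) t htS).symm
  have hZeq : ∀ W : Subgroup G, W ≤ Z → W ≠ ⊥ → W = Z := fun W hW hW0 => by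
    have := Fact.mk (hZc ▸ hp.out : (Nat.card Z).Prime)
    rcases (W.subgroupOf Z).eq_bot_or_eq_top_of_prime_card with h | h
    · rw [subgroupOf_eq_bot] at h
      exact absurd (h.eq_bot_of_le hW) hW0
    · exact le_antisymm hW (subgroupOf_eq_top.1 h)
  by_cases h2 : ⁅T, P⁆ = ⊥
  swap
  · rw [← hZeq _ (commutator_le.2 fun a ha b hb => cz a (hTS ha) b (hPS hb)) h2]
    exact nrm_commutator (A := zpowers d) (zpowers_le.2 hdT) (zpowers_le.2 hdP) (mem_zpowers d)
  have hPT : P ≤ T := (commutator_eq_bot_iff'.1 h2).trans hCT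
  have hTc : T ≤ Cent T := hTP.trans (commutator_eq_bot_iff'.1 h2)
  by_cases h3 : ∃ u ∈ T, u ^ p ≠ 1
  · obtain ⟨u, hu, hu'⟩ := h3
    have h4 := hZeq (zpowers (u ^ p)) (zpowers_le.2 (pz u (hTS hu))) (by rwa [Ne, zpowers_eq_bot])
    apply mem_nrm_of_cj_le
    conv_lhs => rw [← h4, cj_zpowers, ← conj_pow]
    exact zpowers_le.2 (pz _ (hTS (conj_mem_of_mem_nrm hdT hu)))
  push Not at h3
  exfalso
  have hsT : s ∉ T := fun hs' => hST fun x hx => by
    obtain ⟨k, y, hy, rfl⟩ := hgen x hx
    exact mul_mem (zpow_mem hs' k) (hPT hy)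
  by_cases hp3 : p ≤ 3
  · have e1 : T = Z ⊔ zpowers t := by
      refine le_antisymm (fun u hu => ?_) (sup_le hZT (zpowers_le.2 ht.1))
      have h4 : ⁅u, s⁆⁻¹ ∈ zpowers ⁅s, t⁆ := hZz ▸ inv_mem (cz u (hTS hu) s hs)
      obtain ⟨k, hk⟩ := h4
      simp only at hk
      rw [← commutatorElement_inv t, inv_zpow, inv_inj, ← czpow t htS s hs] at hk
      have h5 : u * (t ^ k)⁻¹ ∈ T := mul_mem hu (inv_mem (T.zpow_mem ht.1 k))
      have h6 : u * (t ^ k)⁻¹ ∈ Z := ⟨hTS h5, mem_cent.2 fun x hx => by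
        obtain ⟨j, y, hy, rfl⟩ := hgen x hx
        have h7 : ⁅u * (t ^ k)⁻¹, s⁆ = 1 := by
          rw [cmul _ (hTS hu) _ (inv_mem (zpow_mem htS k)) _ hs, ← zpow_neg_one,
            czpow _ (zpow_mem htS k) _ hs, hk, zpow_neg_one, mul_inv_cancel]
        exact (((commutatorElement_eq_one_iff_commute.1 h7).symm.zpow_left j).mul_left
          (mem_cent.1 (hTc h5) y (hPT hy))).eq⟩
      have : u = u * (t ^ k)⁻¹ * t ^ k := by group
      rw [this]
      exact mul_mem (mem_sup_left h6) (mem_sup_right (zpow_mem (mem_zpowers t) k))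
    have e2 : S = T ⊔ zpowers s := by
      refine le_antisymm (fun x hx => ?_) (sup_le hTS (zpowers_le.2 hs))
      obtain ⟨k, y, hy, rfl⟩ := hgen x hx
      exact mul_mem (mem_sup_right (zpow_mem (mem_zpowers s) k)) (mem_sup_left (hPT hy))
    have c1 : Nat.card T = p * p := by
      rw [e1, H9.card_sup_zpowers_of_normalizes (p := p) (nrm_zc le_nrm_self htS) htZ (pz t htS), hZc]
    have c2 : Nat.card S = p ^ 3 := by
      rw [e2, H9.card_sup_zpowers (p := p) hsT (hZT (pz s hs)), c1]; ring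
    refine htZ ((hc ⟨t, htS⟩).1 (h.sm hp3 c2 ?_ _ (Subtype.ext (h3 t ht.1))))
    rw [← hZc, ← hmap, card_map_of_injective (subtype_injective _)]
  · rcases hh_comm hG ⟨comm_iff_le_cent.2 hTc, h3⟩ hCT (x := s) (n := 0) (by simpa using hsT)
      (by simpa using hZT (pz s hs)) 2 (fun v hv => by
        have h4 := cz s hs v (hTS hv)
        change s * (s * v * s⁻¹ * v⁻¹) * s⁻¹ * (s * v * s⁻¹ * v⁻¹)⁻¹ = 1
        rw [← commutatorElement_def, ← commutatorElement_def, commutatorElement_eq_one_iff_commute]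
        exact cc _ h4 s hs) with h4 | ⟨q, k, l, m, -, -, h4, -, -, -, h5⟩
    · simp at h4; omega
    · obtain rfl : k = 0 := by omega
      simp at h5; omega

theorem pLengthLE_of_se (hG : IsPSolvable p G) (S : Sylow p G) (h : SE p (S : Subgroup G)) :
    PLengthLE p 1 G := by
  refine pLengthLE_of_quotient_coprime (pPrimeCore p G) (coprime_card_pPrimeCore p) ?_
  let f := QuotientGroup.mk' (pPrimeCore p G)
  let S' := S.mapSurjective (QuotientGroup.mk'_surjective (pPrimeCore p G))
  have hinj : Function.Injective (f.subgroupMap (S : Subgroup G)) := by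
    rw [injective_iff_map_eq_one]
    intro x hx
    have h1 : (x : G) ∈ pPrimeCore p G := (QuotientGroup.eq_one_iff _).1 (congrArg Subtype.val hx)
    obtain ⟨k, hk⟩ := S.2.exists_card_eq
    have h2 := inf_eq_bot_of_coprime' (A := (S : Subgroup G)) (K := pPrimeCore p G)
      (by rw [hk]; exact Nat.Coprime.pow_left _ (coprime_card_pPrimeCore p).symm)
    exact Subtype.ext (mem_bot.1 (h2 ▸ ⟨x.2, h1⟩))
  have h' : SE p (S' : Subgroup (G ⧸ pPrimeCore p G)) :=
    h.of_equiv (MulEquiv.ofBijective _ ⟨hinj, f.subgroupMap_surjective _⟩).symm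
  have h1 := sylow_le_pCore (isPSolvable_quotient hG _) (pPrimeCore_quotient_pPrimeCore p) S' h'
  refine pLengthLE_of_index_coprime (pCore p _) ?_ (pLengthLE_one_of_isPGroup (isPGroup_pCore p))
  exact ((Nat.Prime.coprime_iff_not_dvd hp.out).2 fun hd =>
    S'.not_dvd_index (hd.trans (index_dvd_of_le h1))).symm

end main

end H18.SS
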