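/- The universal minimal non-`p`-nilpotent group: field lemmas. -/
import Cfsg.Agent.Base

set_option autoImplicit false

open Polynomial

namespace H18.SchU

universe u

/-- `K` is the field generated over `F_p` by a primitive `q`-th root of unity `ζ` -/
structure Fd (p q a : ℕ) (K : Type u) [Field K] (ζ : K) : Prop where
  pp : p.Prime
  pq : q.Prime
  ne : p ≠ q
  ord : a = orderOf (p : ZMod q)
  card : Nat.card K = p ^ a
  root : orderOf ζ = q

variable {p q a : ℕ} {K : Type u} [Field K] [Finite K] [CharP K p] {ζ η : K}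

omit [Finite K] [CharP K p] in
theorem Fd.of_root (h : Fd p q a K ζ) (e : orderOf η = q) : Fd p q a K η :=
  ⟨h.pp, h.pq, h.ne, h.ord, h.card, e⟩

omit [Finite K] [CharP K p] in
theorem Fd.pow (h : Fd p q a K ζ) : ζ ^ q = 1 := h.root ▸ pow_orderOf_eq_one ζ

omit [Finite K] [CharP K p] in
theorem Fd.ne_zero (h : Fd p q a K ζ) : ζ ≠ 0 := fun e => by
  have := h.pow
  rw [e, zero_pow h.pq.ne_zero] at this
  exact zero_ne_one this

omit [Finite K] [CharP K p] in
theorem Fd.pow_eq_iff (h : Fd p q a K ζ) {i j : ℕ} : ζ ^ i = ζ ^ j ↔ (i : ZMod q) = j := by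
  rw [ZMod.natCast_eq_natCast_iff, ← h.root]
  exact (isOfFinOrder_iff_pow_eq_one.2 ⟨q, h.pq.pos, h.pow⟩).pow_eq_pow_iff_modEq

theorem Fd.sub (h : Fd p q a K ζ) (R : Subring K) (hR : ζ ∈ R) : R = ⊤ := by
  classical
  haveI := Fact.mk h.pp
  haveI := Fintype.ofFinite R
  have hc : CharP R p := CharP.subring K p R
  letI := Fintype.fieldOfDomain R
  obtain ⟨d, -, hd⟩ := @FiniteField.card R _ _ p hc
  have e : ζ ^ p ^ (d : ℕ) = ζ ^ 1 := by
    have := congrArg Subtype.val (FiniteField.pow_card (⟨ζ, hR⟩ : R))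
    rw [hd] at this
    rw [pow_one]; exact this
  rw [h.pow_eq_iff, Nat.cast_pow, Nat.cast_one, ← orderOf_dvd_iff_pow_eq_one, ← h.ord] at e
  have l : Nat.card K ≤ Nat.card R := by
    rw [h.card, Nat.card_eq_fintype_card, hd]
    exact Nat.pow_le_pow_right h.pp.pos (Nat.le_of_dvd d.pos e)
  exact Subring.toAddSubgroup_injective
    (AddSubgroup.eq_top_of_le_card R.toAddSubgroup l)

theorem Fd.irr (h : Fd p q a K ζ) (M : AddSubgroup K) (hM : ∀ x ∈ M, ζ * x ∈ M) :
    M = ⊥ ∨ M = ⊤ := by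
  let R : Subring K :=
    { carrier := {α | ∀ x ∈ M, α * x ∈ M}
      mul_mem' := fun {α β} h1 h2 x hx => by rw [mul_assoc]; exact h1 _ (h2 x hx)
      one_mem' := fun x hx => by rwa [one_mul]
      add_mem' := fun {α β} h1 h2 x hx => by rw [add_mul]; exact M.add_mem (h1 x hx) (h2 x hx)
      zero_mem' := fun x _ => by rw [zero_mul]; exact M.zero_mem
      neg_mem' := fun {α} h1 x hx => by rw [neg_mul]; exact M.neg_mem (h1 x hx) }
  refine or_iff_not_imp_left.2 fun h0 => eq_top_iff.2 fun y _ => ?_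
  obtain ⟨⟨x, hx⟩, hx0⟩ := AddSubgroup.ne_bot_iff_exists_ne_zero.1 h0
  have x0 : x ≠ 0 := fun e => hx0 (Subtype.ext e)
  have := (h.sub R hM).ge (Subring.mem_top (y * x⁻¹)) x hx
  rwa [inv_mul_cancel_right₀ x0] at this

theorem Fd.lin (h : Fd p q a K ζ) [Fact p.Prime] {W : Type*} [AddCommGroup W] [Module (ZMod p) W]
    [Finite W] (f : Module.End (ZMod p) W) (h1 : f ^ q = 1) (h2 : f ≠ 1)
    (hs : ∀ S : Submodule (ZMod p) W, (∀ v ∈ S, f v ∈ S) → S = ⊥ ∨ S = ⊤) :
    ∃ (l : ℕ) (ε : W ≃+ K), ¬ q ∣ l ∧ ∀ v, ε ((f ^ l) v) = ζ * ε v := by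
  letI := ZMod.algebra K p
  have hW : Nontrivial W := by
    by_contra e
    rw [not_nontrivial_iff_subsingleton] at e
    exact h2 (Subsingleton.elim _ _)
  have hi : IsIntegral (ZMod p) f := Algebra.IsIntegral.isIntegral f
  have pr : IsPrimitiveRoot ζ q := h.root ▸ IsPrimitiveRoot.orderOf ζ
  have dv : minpoly (ZMod p) f ∣ X ^ q - 1 := minpoly.dvd _ _ (by simp [h1])
  have dv' := Polynomial.map_dvd (algebraMap (ZMod p) K) dv
  simp only [Polynomial.map_sub, Polynomial.map_pow, map_X, Polynomial.map_one] at dv'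
  obtain ⟨η, hη⟩ := ((X_pow_sub_one_splits pr).of_dvd (X_pow_sub_C_ne_zero h.pq.pos 1)
    dv').exists_eval_eq_zero (by rw [degree_map]; exact (minpoly.degree_pos hi).ne')
  have ηq : η ^ q = 1 := by
    have := eval_eq_zero_of_dvd_of_eval_eq_zero dv' hη
    simpa [sub_eq_zero] using this
  rw [eval_map_algebraMap] at hη
  have hj : IsIntegral (ZMod p) η := Algebra.IsIntegral.isIntegral η
  obtain ⟨g, hg⟩ := minpoly.dvd _ _ hη
  have k : aeval f (minpoly (ZMod p) η) = 0 := by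
    rcases hs (LinearMap.ker (aeval f (minpoly (ZMod p) η))) (fun v hv => by
      have := congrArg (aeval f) (mul_comm (minpoly (ZMod p) η) X)
      rw [map_mul, map_mul, aeval_X] at this
      rw [LinearMap.mem_ker, ← Module.End.mul_apply, this, Module.End.mul_apply,
        LinearMap.mem_ker.1 hv, map_zero]) with e | e
    · have g0 : g ≠ 0 := fun e => minpoly.ne_zero hi (by rw [hg, e, mul_zero])
      have : aeval f g = 0 := LinearMap.ext fun v => LinearMap.ker_eq_bot'.1 e _ (by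
        rw [← Module.End.mul_apply, ← map_mul, ← hg, minpoly.aeval]; rfl)
      have l := natDegree_le_of_dvd (minpoly.dvd _ _ this) g0
      rw [hg, natDegree_mul (minpoly.ne_zero hj) g0] at l
      have := minpoly.natDegree_pos hj
      omega
    · exact LinearMap.ker_eq_top.1 e
  have η1 : η ≠ 1 := fun e => h2 (by
    rw [e, minpoly.one] at k
    simpa [sub_eq_zero] using k)
  haveI := Fact.mk h.pq
  have oη : orderOf η = q := orderOf_eq_prime ηq η1
  let pb := PowerBasis.ofAdjoinEqTop' hj (Subalgebra.toSubring_injective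
    ((h.of_root oη).sub _ (Algebra.self_mem_adjoin_singleton _ η)))
  have gen : pb.gen = η := PowerBasis.ofAdjoinEqTop'_gen _ _
  let θ := pb.lift f (gen ▸ k)
  have θη : θ η = f := gen ▸ pb.lift_gen f _
  obtain ⟨v, hv⟩ := exists_ne (0 : W)
  let ι : K →ₗ[ZMod p] W := (LinearMap.applyₗ v).comp θ.toLinearMap
  have hι : ∀ α β, ι (α * β) = θ α (ι β) := fun α β =>
    congrArg (fun t : Module.End (ZMod p) W => t v) (map_mul θ α β)
  have ι1 : ι 1 = v := congrArg (fun t : Module.End (ZMod p) W => t v) (map_one θ)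
  have bij : Function.Bijective ι := ⟨(injective_iff_map_eq_zero ι).2 fun α e => by
      by_contra h0
      exact hv (by rw [← ι1, ← inv_mul_cancel₀ h0, hι, e, map_zero]),
    LinearMap.range_eq_top.1 ((hs _ (by
      rintro _ ⟨α, rfl⟩; exact ⟨η * α, by rw [hι, θη]⟩)).resolve_left fun e =>
        hv ((Submodule.eq_bot_iff _).1 e v ⟨1, ι1⟩))⟩
  obtain ⟨l, -, hl⟩ := (oη ▸ IsPrimitiveRoot.orderOf η : IsPrimitiveRoot η q).eq_pow_of_pow_eq_one h.pow
  refine ⟨l, (LinearEquiv.ofBijective ι bij).symm.toAddEquiv, fun e => ?_, fun w => ?_⟩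
  · obtain ⟨c, rfl⟩ := e
    rw [pow_mul, ηq, one_pow] at hl
    exact h.pq.one_lt.ne (by rw [← h.root, ← hl, orderOf_one])
  · obtain ⟨α, rfl⟩ := bij.2 w
    have : (f ^ l) (ι α) = ι (ζ * α) := by rw [hι, ← hl, map_pow, θη]
    rw [this]
    exact ((LinearEquiv.ofBijective ι bij).symm_apply_apply _).trans
      (congrArg _ ((LinearEquiv.ofBijective ι bij).symm_apply_apply _).symm)

omit [CharP K p] in
theorem card_le_roots {n : ℕ} (hn : 1 < n) (c : K) (S : AddSubgroup K)
    (hS : ∀ x ∈ S, x ^ n = c * x) : Nat.card S ≤ n := by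
  classical
  have hd : (X ^ n - C c * X : K[X]).natDegree = n := by
    rw [natDegree_sub_eq_left_of_natDegree_lt, natDegree_X_pow]
    rw [natDegree_X_pow]
    exact lt_of_le_of_lt (by compute_degree) hn
  have h0 : (X ^ n - C c * X : K[X]) ≠ 0 := fun e => by rw [e] at hd; simp at hd; omega
  have : (S : Set K) ⊆ (X ^ n - C c * X : K[X]).roots.toFinset := fun x hx => by
    simp [h0, hS x hx]
  calc Nat.card S ≤ _ := Set.ncard_le_ncard this
    _ ≤ n := by
      rw [Set.ncard_coe_finset]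
      exact (Multiset.toFinset_card_le _).trans ((card_roots' _).trans hd.le)

omit [Finite K] [CharP K p] in
theorem Fd.pos (h : Fd p q a K ζ) : 0 < a := by
  haveI := Fact.mk h.pq
  rw [h.ord]
  refine IsOfFinOrder.orderOf_pos (isOfFinOrder_iff_pow_eq_one.2 ⟨q - 1, ?_, ?_⟩)
  · have := h.pq.two_le; omega
  · exact ZMod.pow_card_sub_one_eq_one fun e => h.ne
      ((Nat.prime_dvd_prime_iff_eq h.pq h.pp).1 ((ZMod.natCast_eq_zero_iff _ _).1 e)).symm

omit [Finite K] [CharP K p] in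
theorem Fd.half (h : Fd p q (2 * a) K ζ) : ζ ^ p ^ a * ζ = 1 := by
  haveI := Fact.mk h.pq
  have h1 : ((p : ZMod q) ^ a) ^ 2 = 1 := by rw [← pow_mul, mul_comm, h.ord, pow_orderOf_eq_one]
  have h2 : (p : ZMod q) ^ a ≠ 1 := fun e => by
    have := Nat.le_of_dvd (by have := h.pos; omega) (h.ord ▸ orderOf_dvd_of_pow_eq_one e)
    have := h.pos
    omega
  rw [← pow_succ, ← pow_zero ζ, h.pow_eq_iff]
  push_cast
  rw [(sq_eq_one_iff.1 h1).resolve_left h2, neg_add_cancel]

omit [CharP K p] in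
theorem card_range_ge {n : ℕ} (hn : 1 < n) (c : K) (τ : K →+ K) (h : ∀ x, τ x = x ^ n - c * x) :
    Nat.card K ≤ Nat.card τ.range * n := by
  rw [← τ.ker.index_mul_card, AddSubgroup.index_ker]
  exact Nat.mul_le_mul_left _ (card_le_roots hn c _ fun x hx => sub_eq_zero.1 (h x ▸ hx))

theorem Fd.form (h : Fd p q a K ζ) {A : Type*} [AddCommGroup A] (B : K →+ K →+ A)
    (alt : ∀ u, B u u = 0) (inv : ∀ u v, B (ζ * u) (ζ * v) = B u v) :
    ∃ S : AddSubgroup A, (∀ u v, B u v ∈ S) ∧ Finite S ∧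
      Nat.card S ≤ if a % 2 = 1 then 1 else p ^ (a / 2) := by
  haveI := Fact.mk h.pp
  have z0 := h.ne_zero
  have adj : ∀ u v, B (ζ * u) v = B u (ζ⁻¹ * v) := fun u v => by
    rw [← inv u, mul_inv_cancel_left₀ z0]
  have skew : ∀ u v, B u v + B v u = 0 := fun u v => by
    have := alt (u + v)
    simp only [map_add, AddMonoidHom.add_apply, alt, zero_add, add_zero] at this
    rwa [add_comm]
  have c1 : ∀ j, ζ ^ p ^ j * ζ = 1 → ∀ α u v, B (α * u) v = B u (α ^ p ^ j * v) := by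
    intro j hj α
    let M : AddSubgroup K :=
      { carrier := {α | ∀ u v, B (α * u) v = B u (iterateFrobenius K p j α * v)}
        add_mem' := fun {α β} h1 h2 u v => by
          simp only [add_mul, map_add, AddMonoidHom.add_apply, h1 u v, h2 u v]
        zero_mem' := fun u v => by simp
        neg_mem' := fun {α} h1 u v => by
          simp only [neg_mul, map_neg, AddMonoidHom.neg_apply, h1 u v] }
    have := (h.irr M fun α h1 u v => by
      rw [mul_assoc, adj, h1, map_mul (iterateFrobenius K p j), iterateFrobenius_def p j ζ, eq_inv_of_mul_eq_one_left hj,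
        mul_assoc, mul_left_comm]).resolve_left fun e =>
      one_ne_zero (AddSubgroup.mem_bot.1 (e.le (show (1 : K) ∈ M from fun u v => by simp)))
    exact this.ge (AddSubgroup.mem_top α)
  have c2 : ∀ j, ζ ^ p ^ j * ζ = 1 → (∀ u v, B u v = B 1 (u ^ p ^ j * v)) ∧
      ∀ w, B 1 (w ^ p ^ j + w) = 0 := fun j hj =>
    ⟨fun u v => by rw [← c1 j hj, mul_one], fun w => by
      rw [map_add, ← skew w 1, ← mul_one (w ^ p ^ j), ← c1 j hj, mul_one]⟩
  obtain ⟨c, rfl | rfl⟩ := Nat.even_or_odd' a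
  · obtain ⟨d1, d2⟩ := c2 c h.half
    refine ⟨(B 1).range, fun u v => ⟨_, (d1 u v).symm⟩, Set.finite_range _, ?_⟩
    rw [if_neg (by omega), show 2 * c / 2 = c by omega]
    have hn : 1 < p ^ c := Nat.one_lt_pow (by have := h.pos; omega) h.pp.one_lt
    let τ : K →+ K := (iterateFrobenius K p c).toAddMonoidHom + AddMonoidHom.id K
    have l1 : τ.range ≤ (B 1).ker := by rintro _ ⟨w, rfl⟩; exact d2 w
    have l2 := (B 1).ker.index_mul_card
    rw [AddSubgroup.index_ker] at l2
    have l3 := card_range_ge hn (-1) τ fun x => by simp [τ, iterateFrobenius_def]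
    have l4 := AddSubgroup.card_le_of_le l1
    refine Nat.le_of_mul_le_mul_right ?_ (Nat.card_pos (α := (B 1).ker))
    rw [l2, mul_comm]
    exact l3.trans (Nat.mul_le_mul_right _ l4)
  refine ⟨⊥, ?_, inferInstance, by rw [if_pos (by omega), AddSubgroup.card_bot]⟩
  by_contra h0
  letI := ZMod.algebra K p
  have pw : ∀ (n : ℕ) u v, B (ζ ^ n * u) v = B u (ζ⁻¹ ^ n * v) := fun n => by
    induction n with
    | zero => simp
    | succ n ih => intro u v; rw [pow_succ', mul_assoc, adj, ih, pow_succ, mul_assoc]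
  have pl : ∀ (f : (ZMod p)[X]) u v, B (aeval ζ f * u) v = B u (aeval ζ⁻¹ f * v) := fun f => by
    induction f using Polynomial.induction_on' with
    | add f g h1 h2 => intro u v; simp only [add_mul, map_add, AddMonoidHom.add_apply, h1, h2]
    | monomial n c =>
      intro u v
      obtain ⟨k, rfl⟩ := ZMod.natCast_zmod_surjective c
      rw [aeval_monomial, aeval_monomial, map_natCast, mul_assoc, mul_assoc,
        ← nsmul_eq_mul k (ζ ^ n * u), ← nsmul_eq_mul k (ζ⁻¹ ^ n * v), map_nsmul, map_nsmul,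
        AddMonoidHom.nsmul_apply, pw]
  have rt : aeval ζ⁻¹ (minpoly (ZMod p) ζ) = 0 := by
    by_contra e
    refine h0 fun u v => AddSubgroup.mem_bot.2 ?_
    rw [← mul_inv_cancel_left₀ e v, ← pl, minpoly.aeval, zero_mul, map_zero]; rfl
  obtain ⟨σ, hσ⟩ := minpoly.exists_algEquiv_of_root' (Algebra.IsAlgebraic.isAlgebraic ζ) rt
  obtain ⟨j, hj⟩ := FiniteField.exists_forall_apply_eq_pow (ZMod p) p K σ
  rw [hj, Nat.card_zmod] at hσ
  have e1 : ζ ^ p ^ j * ζ = 1 := by rw [hσ, inv_mul_cancel₀ z0]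
  obtain ⟨d1, d2⟩ := c2 j e1
  rw [← pow_succ, ← pow_zero ζ, h.pow_eq_iff] at e1
  push_cast at e1
  have e2 : 2 * c + 1 ∣ j * 2 := h.ord ▸ orderOf_dvd_of_pow_eq_one (by
    rw [pow_mul, eq_neg_of_add_eq_zero_left e1, neg_one_sq])
  obtain ⟨i, rfl⟩ := (Nat.coprime_two_right.2 (odd_two_mul_add_one c)).dvd_of_dvd_mul_right e2
  rw [pow_mul, h.ord, pow_orderOf_eq_one, one_pow, one_add_one_eq_two] at e1
  have q2 : q = 2 := (Nat.prime_dvd_prime_iff_eq h.pq Nat.prime_two).1
    ((ZMod.natCast_eq_zero_iff 2 q).1 (by exact_mod_cast e1))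
  have t0 : (2 : K) ≠ 0 := fun e => h.ne (((Nat.prime_dvd_prime_iff_eq h.pp Nat.prime_two).1
    ((CharP.cast_eq_zero_iff K p 2).1 (by exact_mod_cast e))).trans q2.symm)
  haveI := Fintype.ofFinite K
  refine h0 fun u v => AddSubgroup.mem_bot.2 ?_
  have := d2 (2⁻¹ * (u ^ p ^ ((2 * c + 1) * i) * v))
  rwa [pow_mul p, ← h.card, Nat.card_eq_fintype_card, FiniteField.pow_card_pow, ← two_mul,
    mul_inv_cancel_left₀ t0, ← Nat.card_eq_fintype_card, h.card, ← pow_mul, ← d1] at this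

end H18.SchU
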