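/- The universal minimal non-`p`-nilpotent group: central covers and the model groups. -/
import Cfsg.Agent.H18.SchU
import Cfsg.Agent.H7.Frobenius
import Cfsg.Agent.H5.ThompsonCond

set_option autoImplicit false

open Subgroup Cfsg Function
open scoped commutatorElement

namespace H18.SchU

universe u

/-- minimal non-`p`-nilpotent -/
def Mn (p : ℕ) (X : Type u) [Group X] : Prop :=
  ¬ HasNormalPComplement p X ∧ ∀ K : Subgroup X, K ≠ ⊤ → HasNormalPComplement p K

/-- central cover with kernel a `p`-group -/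
structure Cov (p : ℕ) {X M : Type u} [Group X] [Group M] (π : X →* M) : Prop where
  sur : Surjective π
  cen : π.ker ≤ center X
  pg : IsPGroup p π.ker

section Abs

variable {p : ℕ} [Fact p.Prime] {X M H : Type u} [Group X] [Group M] [Group H] [Finite X] [Finite M]
  {π : X →* M}

omit [Fact p.Prime] [Finite X] [Finite M] in
theorem Cov.card (h : Cov p π) : Nat.card X = Nat.card π.ker * Nat.card M := by
  rw [← π.ker.card_mul_index, index_ker, MonoidHom.range_eq_top.2 h.sur, card_top]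

omit [Fact p.Prime] [Finite X] [Finite M] in
theorem Cov.comp (h : Cov p π) (f : H →* X) (hf : Injective f) (hs : Surjective (π.comp f)) :
    Cov p (π.comp f) :=
  ⟨hs, fun x hx => mem_center_iff.2 fun y => hf (by
    rw [map_mul, map_mul]; exact mem_center_iff.1 (h.cen hx) _), h.pg.comap_of_injective f hf⟩

theorem Mn.npc (hM : Mn p M) (hc : π.ker ≤ center X) (hs : ¬ Surjective π) :
    HasNormalPComplement p X :=
  H7.hasNPC_of_quotient_le_center _ hc (H7.hasNPC_of_equiv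
    (hM.2 _ fun e => hs (MonoidHom.range_eq_top.1 e)) (QuotientGroup.quotientKerEquivRange π).symm)

omit [Finite M] in
theorem Mn.surj (hX : Mn p X) (hM : Mn p M) (f : H →* X) (hs : Surjective (π.comp f)) :
    Surjective f := by
  by_contra e
  refine hM.1 (H7.hasNPC_of_surjective (hX.2 f.range fun e' => e (MonoidHom.range_eq_top.1 e'))
    (π.comp f.range.subtype) fun m => ?_)
  obtain ⟨x, rfl⟩ := hs m
  exact ⟨⟨f x, x, rfl⟩, rfl⟩

theorem Cov.ex_min (h : Cov p π) (hM : Mn p M) :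
    ∃ H : Subgroup X, Cov p (π.comp H.subtype) ∧ Mn p H := by
  obtain ⟨H, hH, hm⟩ := exists_minimal_of_wellFoundedLT
    (fun H : Subgroup X => Surjective (π.comp H.subtype)) ⟨⊤, fun m => by
      obtain ⟨x, rfl⟩ := h.sur m
      exact ⟨⟨x, trivial⟩, rfl⟩⟩
  have hc := h.comp _ H.subtype_injective hH
  refine ⟨H, hc, fun e => hM.1 (H7.hasNPC_of_surjective e _ hH), fun K hK => ?_⟩
  refine hM.npc (π := (π.comp H.subtype).comp K.subtype) (fun x hx => mem_center_iff.2 fun y =>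
    Subtype.ext (mem_center_iff.1 (hc.cen hx) _)) fun e => hK (eq_top_iff.2 fun x _ => ?_)
  obtain ⟨y, hy, e'⟩ := hm (y := K.map H.subtype) (fun m => by
    obtain ⟨x, rfl⟩ := e m
    exact ⟨⟨x, x, x.2, rfl⟩, rfl⟩) (map_subtype_le K) x.2
  exact Subtype.ext e' ▸ hy

theorem univ {a n b : ℕ} (hM : Mn p M) (cM : Nat.card M = p ^ a * n)
    (hA : ∀ (X : Type u) [Group X] [Finite X], Mn p X → (∃ t, Nat.card X = p ^ t * n) →
      ∃ π : X →* M, Cov p π ∧ Nat.card π.ker ≤ b)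
    (h : Cov p π) (hb : ∀ H : Subgroup X, Surjective (π.comp H.subtype) →
      b ≤ Nat.card (π.comp H.subtype).ker) :
    ∃ (G : Type u) (_ : Group G) (_ : Finite G), Mn p G ∧ Nat.card G = b * (p ^ a * n) ∧
      ∀ (X : Type u) [Group X] [Finite X], Mn p X → (∃ t, Nat.card X = p ^ t * n) →
        ∃ φ : G →* X, Surjective φ ∧ φ.ker ≤ center G := by
  have key : ∀ (Y : Type u) [Group Y] [Finite Y] (ρ : Y →* M), Cov p ρ → Mn p Y →
      Nat.card Y ≤ b * (p ^ a * n) := fun Y _ _ ρ h1 h2 => by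
    obtain ⟨s, hs⟩ := h1.pg.exists_card_eq
    obtain ⟨σ, h3, h4⟩ := hA Y h2 ⟨s + a, by rw [h1.card, hs, cM, pow_add, mul_assoc]⟩
    rw [h3.card, cM]
    exact Nat.mul_le_mul_right _ h4
  obtain ⟨G, h1, h2⟩ := h.ex_min hM
  have cG : Nat.card G = b * (p ^ a * n) := (key G _ h1 h2).antisymm (by
    rw [h1.card, cM]; exact Nat.mul_le_mul_right _ (hb G h1.sur))
  refine ⟨G, inferInstance, inferInstance, h2, cG, fun Y _ _ h3 h4 => ?_⟩
  obtain ⟨σ, h5, -⟩ := hA Y h3 h4
  generalize π.comp G.subtype = ρ at h1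
  let E := (ρ.comp (MonoidHom.fst G Y)).eqLocus (σ.comp (MonoidHom.snd G Y))
  have hE : Cov p ((ρ.comp (MonoidHom.fst G Y)).comp E.subtype) := by
    refine ⟨fun m => ?_, fun x hx => mem_center_iff.2 fun y => Subtype.ext (Prod.ext
      (mem_center_iff.1 (h1.cen hx) _) (mem_center_iff.1 (h5.cen (x.2.symm.trans hx)) _)),
      fun x => ?_⟩
    · obtain ⟨x, rfl⟩ := h1.sur m
      obtain ⟨y, hy⟩ := h5.sur (ρ x)
      exact ⟨⟨(x, y), hy.symm⟩, rfl⟩
    · obtain ⟨i, hi⟩ := h1.pg ⟨x.1.1.1, x.2⟩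
      obtain ⟨j, hj⟩ := h5.pg ⟨x.1.1.2, x.1.2.symm.trans x.2⟩
      refine ⟨i + j, Subtype.ext (Subtype.ext (Prod.ext ?_ ?_))⟩
      · have := congrArg Subtype.val hi
        change x.1.1.1 ^ _ = 1 at this ⊢
        rw [pow_add, pow_mul, this, one_pow]
      · have := congrArg Subtype.val hj
        change x.1.1.2 ^ _ = 1 at this ⊢
        rw [pow_add, mul_comm, pow_mul, this, one_pow]
  obtain ⟨L, h6, h7⟩ := hE.ex_min hM
  let f1 : L →* G := (MonoidHom.fst G Y).comp (E.subtype.comp L.subtype)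
  let f2 : L →* Y := (MonoidHom.snd G Y).comp (E.subtype.comp L.subtype)
  have s1 : Surjective f1 := h2.surj hM (π := ρ) f1 h6.sur
  have s2 : Surjective f2 := h3.surj hM (π := σ) f2 fun m => by
    obtain ⟨x, rfl⟩ := h6.sur m
    exact ⟨x, x.1.2.symm⟩
  let ε := MulEquiv.ofBijective f1 (s1.bijective_of_nat_card_le (cG ▸ key L _ h6 h7))
  refine ⟨f2.comp ε.symm.toMonoidHom, s2.comp ε.symm.surjective, fun x hx => h1.cen ?_⟩
  obtain ⟨y, rfl⟩ := ε.surjective x
  have : f2 (ε.symm (ε y)) = 1 := hx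
  rw [ε.symm_apply_apply] at this
  exact y.1.2.trans ((congrArg σ this).trans (map_one σ))

omit [Fact p.Prime] [Finite X] [Finite M] in
theorem comm_congr (hc : π.ker ≤ center X) {x x' w w' : X} (h1 : π x = π x') (h2 : π w = π w') :
    ⁅x, w⁆ = ⁅x', w'⁆ := by
  have e1 := mem_center_iff.1 (hc (π.eq_iff.1 h1.symm))
  have e2 := mem_center_iff.1 (hc (π.eq_iff.1 h2.symm))
  obtain ⟨z, rfl⟩ : ∃ z, x' = x * z := ⟨x⁻¹ * x', by group⟩
  obtain ⟨t, rfl⟩ : ∃ t, w' = w * t := ⟨w⁻¹ * w', by group⟩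
  rw [inv_mul_cancel_left] at e1 e2
  calc ⁅x, w⁆ = x * (w * z) * z⁻¹ * (x⁻¹ * t) * t⁻¹ * w⁻¹ := by group
    _ = x * z * (w * (z⁻¹ * t)) * x⁻¹ * t⁻¹ * w⁻¹ := by rw [e1 w, e2 x⁻¹]; group
    _ = _ := by rw [e2 z⁻¹]; group

omit [Fact p.Prime] [Finite M] in
theorem exists_hom (Q : Subgroup X) [Q.Normal] {y : X} (hc : Q.IsComplement' (zpowers y))
    (e : Q →* M) {Y : M} (ho : orderOf Y ∣ orderOf y)
    (h : ∀ v, e (MulAut.conjNormal y v) = Y * e v * Y⁻¹) :
    ∃ π : X →* M, (∀ v : Q, π v = e v) ∧ π y = Y := by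
  have hg : ∀ x : zpowers y, x ∈ zpowers (⟨y, mem_zpowers y⟩ : zpowers y) := by
    rintro ⟨_, k, rfl⟩; exact ⟨k, rfl⟩
  let κ := monoidHomOfForallMemZpowers hg (ho.trans (orderOf_mk ..).symm.dvd)
  have hκ : κ ⟨y, mem_zpowers y⟩ = Y := monoidHomOfForallMemZpowers_apply_gen ..
  have key : ∀ a : zpowers y, ∀ v, e (MulAut.conjNormal a.1 v) = κ a * e v * (κ a)⁻¹ := by
    intro a
    obtain ⟨k, rfl⟩ := mem_powers_iff_mem_zpowers.2 (hg a)
    induction k with
    | zero => simp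
    | succ k ih =>
      intro v
      simp only [pow_succ', coe_mul, map_mul, MulAut.mul_apply, h, hκ] at ih ⊢
      rw [ih]; group
  let F := SemidirectProduct.lift e κ (φ := (Q.normalizerMonoidHom).comp
    (inclusion (Q.normalizer_eq_top ▸ le_top))) fun a => MonoidHom.ext fun v => key a v
  let ε := SemidirectProduct.mulEquivSubgroup hc
  refine ⟨F.comp ε.symm.toMonoidHom, fun v => ?_, ?_⟩
  · have : ε (SemidirectProduct.inl v) = v := by simp [ε]
    exact (congrArg F (ε.symm_apply_eq.2 this.symm)).trans (SemidirectProduct.lift_inl ..)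
  · have : ε (SemidirectProduct.inr ⟨y, mem_zpowers y⟩) = y := by simp [ε]
    exact (congrArg F (ε.symm_apply_eq.2 this.symm)).trans ((SemidirectProduct.lift_inr ..).trans hκ)

end Abs

end H18.SchU
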