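/- The universal minimal non-`p`-nilpotent group: the model groups. -/
import Cfsg.Agent.H18.SchU2
import Cfsg.Agent.H46.Nil

set_option autoImplicit false

open Subgroup Cfsg Function
open scoped commutatorElement IsMulCommutative

namespace H18.SchU

universe u

/-- data of a model group -/
structure Co (n : ℕ) (K A : Type u) [Field K] [AddCommGroup A] where
  χ : AddChar (ZMod n) K
  β : K →+ K →+ A
  inv : ∀ k u v, β (χ k * u) (χ k * v) = β u v

variable {n : ℕ} {K A : Type u} [Field K] [AddCommGroup A]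

/-- the model group -/
@[ext] structure D (c : Co n K A) where
  u : K
  z : A
  k : ZMod n

variable {c : Co n K A}

instance : Mul (D c) :=
  ⟨fun x y => ⟨x.u + c.χ x.k * y.u, x.z + y.z + c.β x.u (c.χ x.k * y.u), x.k + y.k⟩⟩
instance : One (D c) := ⟨⟨0, 0, 0⟩⟩
instance : Inv (D c) := ⟨fun x => ⟨-(c.χ (-x.k) * x.u), -x.z + c.β x.u x.u, -x.k⟩⟩

@[simp] theorem mul_u (x y : D c) : (x * y).u = x.u + c.χ x.k * y.u := rfl
@[simp] theorem mul_z (x y : D c) : (x * y).z = x.z + y.z + c.β x.u (c.χ x.k * y.u) := rfl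
@[simp] theorem mul_k (x y : D c) : (x * y).k = x.k + y.k := rfl
@[simp] theorem one_u : (1 : D c).u = 0 := rfl
@[simp] theorem one_z : (1 : D c).z = 0 := rfl
@[simp] theorem one_k : (1 : D c).k = 0 := rfl
@[simp] theorem inv_u (x : D c) : x⁻¹.u = -(c.χ (-x.k) * x.u) := rfl
@[simp] theorem inv_z (x : D c) : x⁻¹.z = -x.z + c.β x.u x.u := rfl
@[simp] theorem inv_k (x : D c) : x⁻¹.k = -x.k := rfl

instance : Group (D c) := Group.ofLeftAxioms
  (fun x y w => by
    ext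
    · simp only [mul_u, mul_k, AddChar.map_add_eq_mul]; ring
    · simp only [mul_u, mul_k, mul_z, AddChar.map_add_eq_mul, map_add, AddMonoidHom.add_apply,
        mul_add, mul_assoc, c.inv]
      abel
    · simp only [mul_k, add_assoc])
  (fun x => by ext <;> simp)
  (fun x => by ext <;> simp [c.inv])

theorem pow_k (x : D c) (m : ℕ) : (x ^ m).k = m * x.k := by
  induction m with
  | zero => simp
  | succ m ih => rw [pow_succ, mul_k, ih]; push_cast; ring

/-- the model group as a set -/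
def eqv (c : Co n K A) : D c ≃ K × A × ZMod n :=
  ⟨fun x => (x.u, x.z, x.k), fun x => ⟨x.1, x.2.1, x.2.2⟩, fun _ => rfl, fun _ => rfl⟩

instance [Finite K] [Finite A] [NeZero n] : Finite (D c) := Finite.of_equiv _ (eqv c).symm

/-- the Frobenius-like quotient -/
abbrev Mo (χ : AddChar (ZMod n) K) : Type u := D (⟨χ, 0, fun _ _ _ => rfl⟩ : Co n K PUnit)

/-- the projection -/
def pr (c : Co n K A) : D c →* Mo c.χ := MonoidHom.mk' (fun x => ⟨x.u, 0, x.k⟩) fun _ _ => rfl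

variable {χ : AddChar (ZMod n) K}

theorem Mo.ext {x y : Mo χ} (h1 : x.u = y.u) (h2 : x.k = y.k) : x = y := D.ext h1 rfl h2

theorem Mo.card : Nat.card (Mo χ) = Nat.card K * n := by
  rw [Nat.card_congr (eqv _), Nat.card_prod, Nat.card_prod, Nat.card_zmod, @Nat.card_unique PUnit,
    one_mul]

/-- translations -/
def tr (χ : AddChar (ZMod n) K) : Multiplicative K →* Mo χ :=
  MonoidHom.mk' (fun u => ⟨u.toAdd, 0, 0⟩) fun _ _ => Mo.ext (by simp) (by simp)

theorem mem_ker_pr {x : D c} : x ∈ (pr c).ker ↔ x.u = 0 ∧ x.k = 0 :=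
  ⟨fun h => ⟨congrArg D.u h, congrArg D.k h⟩, fun h => Mo.ext h.1 h.2⟩

theorem cov_pr {p : ℕ} (h : ∀ z : A, p • z = 0) : Cov p (pr c) := by
  refine ⟨fun x => ⟨⟨x.u, 0, x.k⟩, rfl⟩, fun x hx => mem_center_iff.2 fun y => ?_, fun x => ⟨1, ?_⟩⟩
  · obtain ⟨h1, h2⟩ := mem_ker_pr.1 hx
    ext <;> simp [h1, h2, add_comm]
  · obtain ⟨⟨u, z, k⟩, hx⟩ := x
    obtain ⟨rfl, rfl⟩ := mem_ker_pr.1 hx
    have : ∀ m : ℕ, (⟨0, z, 0⟩ : D c) ^ m = ⟨0, m • z, 0⟩ := fun m => by
      induction m with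
      | zero => ext <;> simp
      | succ m ih => rw [pow_succ, ih]; ext <;> simp [succ_nsmul]
    exact Subtype.ext ((this _).trans (by rw [pow_one, h]; rfl))

theorem Mo.eq_top (H : Subgroup (Mo χ)) (h1 : ∀ u, tr χ u ∈ H) {h : Mo χ} (h2 : h ∈ H)
    (h3 : IsUnit h.k) [NeZero n] : H = ⊤ := eq_top_iff.2 fun x _ => by
  obtain ⟨m, hm⟩ := ZMod.natCast_zmod_surjective (x.k * h3.unit⁻¹.1)
  have e : (h ^ m).k = x.k := by rw [pow_k, hm, mul_assoc, h3.val_inv_mul, mul_one]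
  have : x = tr χ (Multiplicative.ofAdd (x.u - (h ^ m).u)) * h ^ m :=
    Mo.ext (by simp [tr]) (by simp [tr, e])
  exact this ▸ H.mul_mem (h1 _) (H.pow_mem h2 m)

theorem Mo.pow_one (m : ℕ) : (⟨0, 0, 1⟩ : Mo χ) ^ m = ⟨0, 0, m⟩ := by
  induction m with
  | zero => exact Mo.ext rfl (by simp)
  | succ m ih => rw [pow_succ, ih]; exact Mo.ext (by simp) (by simp)

theorem Mo.conj (x : Mo χ) (u : K) :
    x * tr χ (Multiplicative.ofAdd u) * x⁻¹ = tr χ (Multiplicative.ofAdd (χ x.k * u)) :=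
  mul_inv_eq_iff_eq_mul.2 (Mo.ext (by simp [tr, add_comm]) (by simp [tr]))

variable {p q a r : ℕ} [Finite K] [CharP K p] [NeZero n]

omit [Finite K] [CharP K p] in
theorem chi_eq (χ : AddChar (ZMod n) K) (k : ZMod n) : χ k = χ 1 ^ k.val := by
  rw [← AddChar.map_nsmul_eq_pow, nsmul_one, ZMod.natCast_zmod_val]

theorem Mo.mn [Fact p.Prime] (h : Fd p q a K (χ 1)) (hn : n = q ^ r) : Mn p (Mo χ) := by
  haveI := Fact.mk h.pq
  constructor
  · intro e
    have := H7.mem_centralizer_of_hasNPC' e (Q := (tr χ).range) (g := ⟨0, 0, 1⟩)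
      ((IsPGroup.of_card (G := Multiplicative K) h.card).of_surjective _
        (tr χ).rangeRestrict_surjective) (mem_normalizer_fintype (by
          rintro _ ⟨u, rfl⟩; exact ⟨_, (Mo.conj _ _).symm⟩))
      (Nat.Coprime.coprime_dvd_left (orderOf_dvd_of_pow_eq_one (n := q ^ r) (by
        rw [Mo.pow_one, ← hn, ZMod.natCast_self]; rfl))
        (Nat.Coprime.pow_left _ ((Nat.coprime_primes h.pq h.pp).2 h.ne.symm)))
    have := congrArg D.u (this _ ⟨Multiplicative.ofAdd 1, rfl⟩)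
    simp only [tr, mul_u, MonoidHom.mk'_apply, toAdd_ofAdd, mul_zero, add_zero, mul_one,
      zero_add] at this
    exact h.pq.one_lt.ne (by rw [← h.root, ← this, orderOf_one])
  intro H hH
  suffices ∀ x ∈ H, ∀ y ∈ H, x * y = y * x by
    haveI := H46.nil_of_comm (H := H) ⟨⟨fun x y => Subtype.ext (this _ x.2 _ y.2)⟩⟩
    exact H5.hasNPC_of_isNilpotent p
  by_cases h1 : ∀ x ∈ H, χ x.k = 1
  · exact fun x hx y hy => Mo.ext (by simp [h1 x hx, h1 y hy, add_comm]) (add_comm _ _)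
  push Not at h1
  obtain ⟨w, hw, h1⟩ := h1
  have h2 : orderOf (χ w.k) = q :=
    orderOf_eq_prime (by rw [chi_eq, ← pow_mul, mul_comm, pow_mul, h.pow, one_pow]) h1
  rcases (h.of_root h2).irr (H.comap (tr χ)).toAddSubgroup' (fun u hu =>
    (Mo.conj w u ▸ H.mul_mem (H.mul_mem hw hu) (H.inv_mem hw) : tr χ (.ofAdd (χ w.k * u)) ∈ H))
    with e | e
  · intro x hx y hy
    have h3 : ⁅x, y⁆ = tr χ (Multiplicative.ofAdd ⁅x, y⁆.u) :=
      Mo.ext rfl (by simp [commutatorElement_def, tr])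
    have h4 : ⁅x, y⁆.u ∈ (H.comap (tr χ)).toAddSubgroup' := by
      change tr χ (.ofAdd _) ∈ H
      rw [← h3]
      exact H.mul_mem (H.mul_mem (H.mul_mem hx hy) (H.inv_mem hx)) (H.inv_mem hy)
    rw [AddSubgroup.mem_bot.1 (e.le h4), ofAdd_zero, map_one] at h3
    exact commutatorElement_eq_one_iff_mul_comm.1 h3
  refine absurd (Mo.eq_top H (fun u => e.ge (AddSubgroup.mem_top u.toAdd)) hw ?_) hH
  rw [← ZMod.natCast_zmod_val w.k, ZMod.isUnit_iff_coprime]
  refine (Nat.Coprime.pow_right r ((Nat.Prime.coprime_iff_not_dvd h.pq).2 ?_).symm).of_dvd_right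
    hn.dvd
  rintro ⟨j, hj⟩
  exact h1 (by rw [chi_eq, hj, pow_mul, h.pow, one_pow])

omit [NeZero n] in
theorem bound (h : Fd p q a K (χ 1)) {X : Type u} [Group X] [Finite X] {π : X →* Mo χ}
    (hs : Surjective π) (hc : π.ker ≤ center X) (Q : Subgroup X) (hQ : ∀ v ∈ Q, (π v).k = 0) :
    Nat.card (⁅Q, Q⁆ : Subgroup X) ≤ if a % 2 = 1 then 1 else p ^ (a / 2) := by
  choose s hs' using fun u => hs (tr χ (Multiplicative.ofAdd u))
  obtain ⟨y, hy⟩ := hs ⟨0, 0, 1⟩
  have h1 : ∀ u v, ⁅s u, s v⁆ ∈ center X := fun u v => hc (by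
    rw [MonoidHom.mem_ker, map_commutatorElement, hs', hs', ← map_commutatorElement,
      commutatorElement_eq_one_iff_mul_comm.2 (mul_comm _ _), map_one])
  have cj : ∀ g u v, g * ⁅s u, s v⁆ * g⁻¹ = ⁅s u, s v⁆ := fun g u v => by
    rw [mem_center_iff.1 (h1 u v), mul_inv_cancel_right]
  have h2 : ∀ u v, π (s (u + v)) = π (s u * s v) := fun u v => by
    rw [map_mul, hs', hs', hs', ofAdd_add, map_mul]
  have h3 : ∀ u, π (s (χ 1 * u)) = π (y * s u * y⁻¹) := fun u => by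
    rw [map_mul, map_mul, map_inv, hy, hs', hs', Mo.conj]
  let B : K →+ K →+ Additive (center X) := AddMonoidHom.mk' (fun u => AddMonoidHom.mk'
    (fun v => Additive.ofMul ⟨_, h1 u v⟩) fun v w => congrArg Additive.ofMul (Subtype.ext (by
      change ⁅s u, s (v + w)⁆ = ⁅s u, s v⁆ * ⁅s u, s w⁆
      rw [comm_congr hc rfl (h2 v w), ← cj (s v) u w]
      group))) fun u v => AddMonoidHom.ext fun w => congrArg Additive.ofMul (Subtype.ext (by
      change ⁅s (u + v), s w⁆ = ⁅s u, s w⁆ * ⁅s v, s w⁆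
      rw [comm_congr hc (h2 u v) rfl, mem_center_iff.1 (h1 v w), ← cj (s u) v w]
      group))
  obtain ⟨S, h4, -, h5⟩ := h.form B
    (fun u => congrArg Additive.ofMul (Subtype.ext (commutatorElement_self _)))
    fun u v => congrArg Additive.ofMul (Subtype.ext (by
      change ⁅s (χ 1 * u), s (χ 1 * v)⁆ = ⁅s u, s v⁆
      rw [comm_congr hc (h3 u) (h3 v), ← conjugate_commutatorElement, cj]))
  refine (card_le_of_le (K := S.toSubgroup'.map (center X).subtype) (commutator_le.2 fun v hv w hw =>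
    ⟨_, h4 (π v).u (π w).u, comm_congr hc ?_ ?_⟩)).trans ?_
  · exact (hs' _).trans (Mo.ext rfl (hQ v hv).symm)
  · exact (hs' _).trans (Mo.ext rfl (hQ w hw).symm)
  · rwa [card_map_of_injective (subtype_injective _)]

end H18.SchU
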