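/- The universal minimal non-`p`-nilpotent group. -/
import Cfsg.Agent.H18.SchU3
import Cfsg.Agent.S3736
import Cfsg.Agent.H22.BaseChange
import Cfsg.Agent.H5.FrobAction
import Cfsg.Agent.H3.FrattiniP

set_option autoImplicit false

open Subgroup Cfsg Function H46
open scoped commutatorElement

namespace H18.SchU

universe u

theorem Mn.struct {p q r t : ℕ} [hp : Fact p.Prime] (hq : q.Prime) (ne : p ≠ q) (hr : r ≠ 0)
    {X : Type u} [Group X] [Finite X] (hX : Mn p X) (hc : Nat.card X = p ^ t * q ^ r) :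
    ∃ (Q : Subgroup X) (g : X), Q.Normal ∧ IsPGroup p Q ∧ orderOf g = q ^ r ∧
      Nat.card Q * q ^ r = Nat.card X ∧ Q ⊔ zpowers g = ⊤ ∧ g ∉ Cent Q ∧ g ^ q ∈ Cent Q ∧
      ∀ U < Q, g ∈ Nrm U → g ∈ Cent U := by
  obtain ⟨Q, hQ, g, hg, hgp, hgc⟩ : ∃ Q : Subgroup X, IsPGroup p Q ∧ ∃ g ∈ Nrm Q,
      (orderOf g).Coprime p ∧ g ∉ Cent Q := by
    by_contra! e
    exact hX.1 (H7.hasNPC_of_normalizer_centralizer e)
  have k1 : ∀ (U : Subgroup X) (x : X), U ≤ Q → x ∈ Nrm U → (orderOf x).Coprime p →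
      x ∉ Cent U → U ⊔ zpowers x = ⊤ ∧ Nat.card U * orderOf x = Nat.card X := by
    intro U x hU hx hco hn
    have e : U ⊔ zpowers x = ⊤ := by
      by_contra e
      exact hn (H7.mem_centralizer_of_hasNPC (hX.2 _ e) le_sup_left
        (sup_le le_normalizer (zpowers_le.2 hx)) (hQ.to_le hU) (mem_sup_right (mem_zpowers x)) hco)
    obtain ⟨s, hs⟩ := (hQ.to_le hU).exists_card_eq
    refine ⟨e, ?_⟩
    rw [← Nat.card_zpowers, IsSd.card ⟨zpowers_le.2 hx, (disjoint_of_coprime_natCard ?_).eq_bot, e⟩,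
      card_top]
    rw [hs, Nat.card_zpowers]
    exact hco.symm.pow_left _
  obtain ⟨h1, h2⟩ := k1 Q g le_rfl hg hgp hgc
  obtain ⟨s, hs⟩ := hQ.exists_card_eq
  have og : orderOf g = q ^ r := Nat.dvd_antisymm
    ((hgp.pow_right t).dvd_of_dvd_mul_left (hc ▸ orderOf_dvd_natCard g))
    ((Nat.coprime_pow_primes r s hq hp.out ne.symm).dvd_of_dvd_mul_left
      (by rw [← hs, h2, hc]; exact dvd_mul_left _ _))
  refine ⟨Q, g, normalizer_eq_top_iff.1 (eq_top_iff.2 (h1.ge.trans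
    (sup_le le_normalizer (zpowers_le.2 hg)))), hQ, og, og ▸ h2, h1, hgc, ?_, fun U hU hn => ?_⟩
  · by_contra e
    have := Nat.eq_of_mul_eq_mul_left Nat.card_pos ((k1 Q _ le_rfl (pow_mem hg q)
      (hgp.of_dvd_left (orderOf_pow_dvd q)) e).2.trans h2.symm)
    rw [orderOf_pow_of_dvd hq.ne_zero (og ▸ dvd_pow_self q hr)] at this
    exact (Nat.div_lt_self (orderOf_pos g) hq.one_lt).ne this
  · by_contra e
    exact hU.ne (eq_of_le_of_card_ge hU.le (Nat.eq_of_mul_eq_mul_right (orderOf_pos g)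
      ((k1 U g hU.le hn hgp e).2.trans h2.symm)).ge)

variable {n p q a r : ℕ} {K : Type u} [Field K] [Finite K] [CharP K p] [NeZero n]
  {χ : AddChar (ZMod n) K}

theorem of_min [hp : Fact p.Prime] (h : Fd p q a K (χ 1)) (hn : n = q ^ r) (hr : r ≠ 0)
    (X : Type u) [Group X] [Finite X] (hX : Mn p X) (hc : ∃ t, Nat.card X = p ^ t * n) :
    ∃ π : X →* Mo χ, Cov p π ∧ Nat.card π.ker ≤ if a % 2 = 1 then 1 else p ^ (a / 2) := by
  obtain ⟨t, hc⟩ := hc
  obtain ⟨Q, g, hN, hQ, og, cQ, top, h1, h2, h3⟩ := hX.struct h.pq h.ne hr (hn ▸ hc)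
  have nQ : ∀ A : Subgroup X, A ≤ Nrm Q := fun A => le_top.trans Q.normalizer_eq_top.ge
  have co : ∀ i j, (q ^ i).Coprime (p ^ j) := fun i j =>
    Nat.coprime_pow_primes i j h.pq h.pp h.ne.symm
  obtain ⟨h4, h5, h6, -⟩ := Cfsg.Agent.S3736.result (p := p) (zpowers g) (zpowers g) Q hQ (nQ _)
    le_rfl le_normalizer (by rw [Nat.card_zpowers, og]; simpa using co r 1)
    (fun e => h1 (commutator_eq_bot_iff'.1 e (mem_zpowers g)))
    fun U hU e => commutator_eq_bot_iff'.2 (zpowers_le.2 (h3 U hU (e (mem_zpowers g))))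
  have lt : frattiniOf Q < Q := frattiniOf_lt fun e => h1 (by rw [e]; simp)
  have f1 : frattiniOf Q ≤ ⁅Q, Q⁆ ∧ Q ≤ Cent (frattiniOf Q) := by
    rcases h5 with e | e
    · rw [(frattiniOf_eq_bot_iff h.pp hQ).2 e]; simp
    · refine ⟨by rw [frattiniOf, e.2.1, ← e.2.2, map_subtype_commutator], ?_⟩
      rintro v hv _ ⟨w, hw, rfl⟩
      exact (congrArg Subtype.val (mem_center_iff.1 (e.2.1.le hw) ⟨v, hv⟩)).symm
  have f2 : frattiniOf Q ≤ center X := fun x hx => mem_center_iff.2 fun w =>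
    ((top.ge.trans (sup_le f1.2 (zpowers_le.2 (h3 _ lt (nrm_frattiniOf (nQ ⊤) trivial)))))
      (mem_top w) x hx).symm
  haveI : H22.IsEA p (Q ⧸ frattini Q) := ⟨fun x y => by
      obtain ⟨x, rfl⟩ := QuotientGroup.mk_surjective x
      obtain ⟨y, rfl⟩ := QuotientGroup.mk_surjective y
      refine QuotientGroup.eq.2 (H3.commutator_le_frattini_pgroup hQ ?_)
      have := commutator_mem_commutator (mem_top y⁻¹) (mem_top x⁻¹)
      rwa [commutatorElement_def, inv_inv, inv_inv, mul_assoc, ← mul_inv_rev] at this, fun x => by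
      obtain ⟨x, rfl⟩ := QuotientGroup.mk_surjective x
      exact (QuotientGroup.eq_one_iff _).2 (H3.pow_mem_frattini_pgroup hQ x)⟩
  let ρ := H22.eaRep p (H5.quotAut (MulAut.conjNormal : X →* MulAut Q) (frattini Q)
    fun x _ hv => (characteristic_iff_le_comap.1 inferInstance (MulAut.conjNormal x)) hv)
  let μ : Q → H22.EA p (Q ⧸ frattini Q) := fun v => H22.toEA p (v : Q ⧸ frattini Q)
  have m1 : ∀ x v, ρ x (μ v) = μ (MulAut.conjNormal x v) := fun x v => rfl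
  have m2 : ∀ v w, μ (v * w) = μ v + μ w := fun v w => rfl
  have m3 : Surjective μ := QuotientGroup.mk_surjective
  have m4 : ∀ v, μ v = 0 ↔ v ∈ frattini Q := fun v => QuotientGroup.eq_one_iff v
  have m5 : ∀ v, μ v⁻¹ = -μ v := fun v => rfl
  obtain ⟨l, ε, hl, hε⟩ := h.lin (ρ g) (LinearMap.ext fun w => by
      obtain ⟨v, rfl⟩ := m3 w
      rw [← map_pow, m1]
      exact congrArg μ (Subtype.ext (mul_inv_eq_iff_eq_mul.2 (h2 v v.2).symm)))
    (fun e => lt.not_ge (h4.ge.trans (commutator_le.2 fun v hv w hw => by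
      obtain ⟨k, rfl⟩ := mem_powers_iff_mem_zpowers.2 hw
      refine ⟨⟨v, hv⟩ * MulAut.conjNormal (g ^ k) ⟨v, hv⟩⁻¹, (m4 _).1 ?_,
        (by group : v * (g ^ k * v⁻¹ * (g ^ k)⁻¹) = ⁅v, g ^ k⁆)⟩
      rw [m2, ← m1, map_pow, e, one_pow, m5]
      exact add_neg_cancel _)))
    fun S hS => by
      let U : Subgroup Q :=
        { carrier := {v | μ v ∈ S}
          mul_mem' := fun h1 h2 => S.add_mem h1 h2
          one_mem' := S.zero_mem
          inv_mem' := fun h1 => S.neg_mem h1 }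
      refine (h6 (U.map Q.subtype) (map_mono fun v hv => (show μ v ∈ S from (m4 v).2 hv ▸ S.zero_mem))
        (map_subtype_le _) (zpowers_le.2 (mem_normalizer_fintype ?_))).imp (fun e => ?_) fun e => ?_
      · rintro _ ⟨v, hv, rfl⟩
        exact ⟨MulAut.conjNormal g v, hS _ hv, rfl⟩
      · refine eq_bot_iff.2 fun w hw => ?_
        obtain ⟨v, rfl⟩ := m3 w
        exact (m4 v).2 ((map_injective Q.subtype_injective e).le hw)
      · refine eq_top_iff.2 fun w _ => ?_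
        obtain ⟨v, rfl⟩ := m3 w
        obtain ⟨v', h1, h2⟩ := e.ge v.2
        exact Subtype.ext h2 ▸ h1
  have oy : orderOf (g ^ l) = n := by
    rw [Nat.Coprime.orderOf_pow (og ▸ (h.pq.coprime_iff_not_dvd.2 hl).pow_left r), og, hn]
  obtain ⟨s, hs⟩ := hQ.exists_card_eq
  have cp : Q.IsComplement' (zpowers (g ^ l)) := isComplement'_of_coprime
    (by rw [Nat.card_zpowers, oy, hn, cQ]) (by rw [Nat.card_zpowers, oy, hn, hs]; exact (co _ _).symm)
  obtain ⟨π, p1, p2⟩ := exists_hom Q cp (Y := (⟨0, 0, 1⟩ : Mo χ))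
    (MonoidHom.mk' (fun v => tr χ (.ofAdd (ε (μ v)))) fun v w => by
      rw [m2, map_add, ofAdd_add, map_mul])
    (orderOf_dvd_of_pow_eq_one (by rw [oy, Mo.pow_one, ZMod.natCast_self]; rfl)) fun v => by
      rw [MonoidHom.mk'_apply, Mo.conj, ← m1, map_pow, hε]
  have sur : Surjective π := MonoidHom.range_eq_top.1 (Mo.eq_top _ (fun u => by
    obtain ⟨v, hv⟩ := m3 (ε.symm u.toAdd)
    exact ⟨v, by rw [p1, MonoidHom.mk'_apply, hv, ε.apply_symm_apply]; rfl⟩) ⟨_, p2⟩ isUnit_one)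
  have ker : π.ker ≤ frattiniOf Q := fun x hx => by
    obtain ⟨⟨v, w, hw⟩, rfl⟩ := cp.2 x
    obtain ⟨k, rfl⟩ := mem_powers_iff_mem_zpowers.2 hw
    have e : π (v * (g ^ l) ^ k) = 1 := hx
    rw [map_mul, map_pow, p1, p2, Mo.pow_one] at e
    have e1 : (0 : ZMod n) + k = 0 := congrArg D.k e
    have e2 : ε (μ v) + _ * 0 = 0 := congrArg D.u e
    rw [zero_add, ZMod.natCast_eq_zero_iff, ← oy, orderOf_dvd_iff_pow_eq_one] at e1
    rw [mul_zero, add_zero, map_eq_zero_iff _ ε.injective, m4] at e2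
    exact ⟨v, e2, by simp [e1]⟩
  refine ⟨π, ⟨sur, ker.trans f2, hQ.to_le (ker.trans lt.le)⟩, (card_le_of_le (ker.trans f1.1)).trans
    (bound h sur (ker.trans f2) Q fun v hv => congrArg D.k (p1 ⟨v, hv⟩))⟩

omit [Finite K] [NeZero n] in
theorem comm_mem {c : Co n K K} (H : Subgroup (D c)) (hH : Surjective ((pr c).comp H.subtype))
    (u v : K) : ⟨0, c.β u v - c.β v u, 0⟩ ∈ H := by
  obtain ⟨⟨⟨u1, z1, k1⟩, hx⟩, e1⟩ := hH ⟨u, 0, 0⟩
  obtain ⟨⟨⟨u2, z2, k2⟩, hy⟩, e2⟩ := hH ⟨v, 0, 0⟩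
  obtain rfl : u = u1 := (congrArg D.u e1).symm
  obtain rfl : 0 = k1 := (congrArg D.k e1).symm
  obtain rfl : v = u2 := (congrArg D.u e2).symm
  obtain rfl : 0 = k2 := (congrArg D.k e2).symm
  convert H.mul_mem (H.mul_mem hx hy) (H.inv_mem (H.mul_mem hy hx)) using 1
  rw [eq_mul_inv_iff_mul_eq]
  ext <;> simp [add_comm, add_left_comm]

theorem example_even [hp : Fact p.Prime] (h : Fd p q (2 * a) K (χ 1)) :
    ∃ c : Co n K K, c.χ = χ ∧ ∀ H : Subgroup (D c), Surjective ((pr c).comp H.subtype) →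
      p ^ a ≤ Nat.card ((pr c).comp H.subtype).ker := by
  let σ := iterateFrobenius K p a
  refine ⟨⟨χ, AddMonoidHom.mul.comp σ.toAddMonoidHom, fun k u v => ?_⟩, rfl, fun H hH => ?_⟩
  · change σ (χ k * u) * (χ k * v) = σ u * v
    rw [map_mul, mul_mul_mul_comm, chi_eq, map_pow, ← mul_pow, iterateFrobenius_def, h.half,
      one_pow, one_mul]
  let τ : K →+ K := σ.toAddMonoidHom - AddMonoidHom.id K
  have l := card_range_ge (Nat.one_lt_pow (by have := h.pos; omega) h.pp.one_lt : 1 < p ^ a) 1 τ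
    fun x => by simp [τ, σ, iterateFrobenius_def]
  rw [h.card, two_mul, pow_add] at l
  refine (Nat.le_of_mul_le_mul_right l (pow_pos h.pp.pos a)).trans
    (Nat.card_le_card_of_injective (fun w => ⟨⟨⟨0, w.1, 0⟩, ?_⟩, rfl⟩)
      fun w w' e => Subtype.ext (congrArg (fun x => x.1.1.z) e))
  obtain ⟨_, v, rfl⟩ := w
  convert comm_mem H hH v 1 using 2
  simp [τ]

theorem main' [hp : Fact p.Prime] (h : Fd p q a K (χ 1)) (hn : n = q ^ r) (hr : r ≠ 0) {a₀ : ℕ}
    (ha₀ : a₀ = if a % 2 = 1 then a else 3 * a / 2) :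
    ∃ (G : Type u) (_ : Group G) (_ : Finite G), Mn p G ∧ Nat.card G = p ^ a₀ * n ∧
      ∀ (X : Type u) [Group X] [Finite X], Mn p X → (∃ t, Nat.card X = p ^ t * n) →
        ∃ φ : G →* X, Surjective φ ∧ φ.ker ≤ center G := by
  have hM := Mo.mn h hn
  have cM : Nat.card (Mo χ) = p ^ a * n := by rw [Mo.card, h.card]
  have hA := of_min h hn hr
  obtain ⟨c, rfl | rfl⟩ := Nat.even_or_odd' a
  · rw [if_neg (by omega), show 2 * c / 2 = c by omega] at hA
    rw [if_neg (by omega), show 3 * (2 * c) / 2 = c + 2 * c by omega] at ha₀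
    obtain ⟨d, rfl, hd⟩ := example_even h
    rw [ha₀, pow_add, mul_assoc]
    exact univ hM cM hA (cov_pr fun z => by simp) hd
  · rw [if_pos (by omega)] at hA ha₀
    rw [ha₀, ← one_mul (_ * _)]
    exact univ hM cM hA (π := MonoidHom.id _) ⟨surjective_id, by simp, by
      rw [MonoidHom.ker_id]; exact IsPGroup.of_bot⟩ fun _ _ => Nat.card_pos

theorem main (p q r : ℕ) [hp : Fact p.Prime] [hq : Fact q.Prime] (hpq : p ≠ q) (hr : 1 ≤ r) (a a₀ : ℕ)
    (ha : a = orderOf (p : ZMod q)) (ha₀ : a₀ = if a % 2 = 1 then a else 3 * a / 2) :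
    ∃ (G : Type u) (_ : Group G) (_ : Finite G), Mn p G ∧ Nat.card G = p ^ a₀ * q ^ r ∧
      ∀ (X : Type u) [Group X] [Finite X], Mn p X → (∃ t, Nat.card X = p ^ t * q ^ r) →
        ∃ φ : G →* X, Surjective φ ∧ φ.ker ≤ center G := by
  have a0 : a ≠ 0 := by
    rw [ha]
    refine (IsOfFinOrder.orderOf_pos (isOfFinOrder_iff_pow_eq_one.2 ⟨q - 1, ?_, ?_⟩)).ne'
    · have := hq.out.two_le; omega
    · exact ZMod.pow_card_sub_one_eq_one fun e => hpq
        ((Nat.prime_dvd_prime_iff_eq hq.out hp.out).1 ((ZMod.natCast_eq_zero_iff _ _).1 e)).symm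
  let K := ULift.{u} (GaloisField p a)
  have cK : Nat.card K = p ^ a := by rw [Nat.card_ulift, GaloisField.card p a a0]
  obtain ⟨ζ, hζ⟩ := exists_prime_orderOf_dvd_card' (G := Kˣ) q (by
    rw [Nat.card_units, cK, ← ZMod.natCast_eq_zero_iff, Nat.cast_pred (pow_pos hp.out.pos a),
      Nat.cast_pow, ha, pow_orderOf_eq_one, sub_self])
  rw [← orderOf_units] at hζ
  haveI : NeZero (q ^ r) := ⟨pow_ne_zero r hq.out.ne_zero⟩
  let χ := AddChar.zmodChar (q ^ r) (ζ := (ζ : K))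
    (orderOf_dvd_iff_pow_eq_one.1 (hζ ▸ dvd_pow_self _ (by omega)))
  have h : Fd p q a K (χ 1) := ⟨hp.out, hq.out, hpq, ha, cK, by
    rw [← Nat.cast_one, AddChar.zmodChar_apply', pow_one, hζ]⟩
  exact main' h rfl (by omega) ha₀

end H18.SchU
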