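/- Strongly closed abelian subgroups of `Qd(p)`-free groups; elements lying in `O_{p',p}` of every
constrained overgroup. -/
import Cfsg.Agent.Base
import Cfsg.Agent.H13.Ctrl3
import Cfsg.Agent.H13.ZJ3
import Cfsg.Agent.H11.QdSylow
import Cfsg.Agent.H11.QuadAct
import Cfsg.Agent.H46.Misc
import Cfsg.Agent.H51.Api2
import Cfsg.Agent.H94.Involves

set_option autoImplicit false
open Cfsg hiding pRank
open H46 Subgroup

namespace H18

universe u
variable {p : ℕ} [hp : Fact p.Prime]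

theorem not_isSolvable_sl (h3 : 3 < p) :
    ¬ Group.IsSolvable (Matrix.SpecialLinearGroup (Fin 2) (ZMod p)) := by
  intro h
  have h2 : (2 : ZMod p) ≠ 0 := fun e => by
    have := (ZMod.natCast_eq_zero_iff 2 p).1 (by exact_mod_cast e)
    have := Nat.le_of_dvd (by norm_num) this
    omega
  have h4 : (2 : ZMod p) ^ 2 ≠ 1 := fun e => by
    have : ((3 : ℕ) : ZMod p) = 0 := by push_cast; linear_combination e
    have := Nat.le_of_dvd (by norm_num) ((ZMod.natCast_eq_zero_iff 3 p).1 this)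
    omega
  have h5 := Matrix.SL2.commutator_eq_top h2 h4
  have : Nontrivial (Matrix.SpecialLinearGroup (Fin 2) (ZMod p)) := by
    by_contra hn
    rw [not_nontrivial_iff_subsingleton] at hn
    exact H11.not_isPGroup_commutator_sl (F := ZMod p) p fun g => ⟨0, Subsingleton.elim _ _⟩
  exact (IsSolvable.commutator_lt_top_of_nontrivial _).ne h5

variable {G : Type u} [Group G] [Finite G]

theorem not_involves_qd_of_local_solvable (h3 : 3 < p)
    (h : ∀ Q : Subgroup G, IsPGroup p Q → Q ≠ ⊥ → Group.IsSolvable (Nrm Q)) :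
    ¬ Involves (qd p) G := fun hq => by
  obtain ⟨Q, hQ, hQ1, N, hN, f, hf⟩ := H11.exists_local_of_involves_qd hq
  have := sol_of_le (h Q hQ hQ1) hN
  exact not_isSolvable_sl h3 (solvable_of_surjective hf)

theorem le_pPrimePCore_of_qdFree (h2 : p ≠ 2) (hq : ¬ Involves (qd p) G) (hc : IsPConstrained p G)
    (S : Sylow p G) {A : Subgroup G} (hA : IsMulCommutative A) (hn : (S : Subgroup G) ≤ Nrm A) :
    A ≤ pPrimePCore p G := by
  let f := QuotientGroup.mk' (pPrimeCore p G)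
  have hf : Function.Surjective f := QuotientGroup.mk'_surjective _
  have hc' := H10.isPConstrained_iff_isCharP_quotient.1 hc
  have hq' : ¬ Involves (qd p) (G ⧸ pPrimeCore p G) := fun h =>
    hq (H94.involves_trans h (H94.involves_quotient _))
  rw [pPrimePCore, ← Subgroup.map_le_iff_le_comap,
    ← H2.comap_pCore_quotient (Cent (pCore p (G ⧸ pPrimeCore p G)))
      ((H2.pCore_isPGroup p _).to_le hc')]
  intro a ha
  refine H11.isPStableOn_of_not_involves_qd h2 hq' _ (H2.pCore_isPGroup p _) a ?_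
  have h1 : pCore p (G ⧸ pPrimeCore p G) ≤ Nrm (A.map f) :=
    (H2.pCore_le_sylow (S.mapSurjective hf)).trans
      ((Subgroup.map_mono hn).trans (Subgroup.le_normalizer_map f))
  rw [H46.commutator_eq_bot_iff]
  exact ((commutator_mono le_rfl (zpowers_le_of_mem ha)).trans (commutator_le_right' h1)).trans
    ((comm_iff_le_cent.1 inferInstance).trans (cent_anti (zpowers_le_of_mem ha)))

theorem le_Op'p_of_qdFree (h2 : p ≠ 2) {H R A : Subgroup G} (hq : ¬ Involves (qd p) H)
    (hc : IsPConstrained p H) (hR : IsSylowOf p R H) (hAH : A ≤ H) (hA : IsMulCommutative A)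
    (hn : R ≤ Nrm A) : A ≤ Op'p p H := by
  obtain ⟨S, rfl⟩ := hR.exists_sylow
  refine H51.le_map_subtype_of_subgroupOf_le hAH
    (le_pPrimePCore_of_qdFree h2 hq hc S inferInstance ?_)
  have := H51.subgroupOf_le_nrm hn H
  rwa [subgroupOf_map_subtype_self] at this

/-- Glauberman: `Z(J(P))` is a strongly closed abelian subgroup of a `Qd(p)`-free group. -/
theorem exists_stronglyClosed_comm (h2 : p ≠ 2) (hq : ¬ Involves (qd p) G) (P : Sylow p G)
    (hP : (P : Subgroup G) ≠ ⊥) : ∃ Z : Subgroup G, Z ≠ ⊥ ∧ IsMulCommutative Z ∧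
      IsStronglyClosed Z P ∧ H13.Ctrl (Nrm Z) P ⊤ := by
  have h := H13.ctrl_zjD_of_not_involves_qd h2 (dvd_zero p) hq P (H13.sc_self _)
  refine ⟨H13.zj 0 P, H13.zj_ne_bot (dvd_zero p) P.2 hP, ?_, ⟨H13.zj_le 0 _, fun x hx g hg => ?_⟩, h⟩
  · obtain ⟨A, hA⟩ := H13.maxAb_nonempty 0 (P : Subgroup G)
    exact comm_of_le hA.2.1.1 (H13.zj_le_of_mem hA)
  · obtain ⟨n, hn, e⟩ := h (zpowers x) (zpowers_le_of_mem (H13.zj_le 0 _ hx)) g (mem_top g)
      (by change cj g (zpowers x) ≤ _; rw [cj_zpowers]; exact zpowers_le_of_mem hg)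
    rw [e x (mem_zpowers x)]
    exact conj_mem_of_mem_nrm hn hx

/-- a subgroup of a strongly closed abelian subgroup lies in `O_{p',p}` of each constrained
`Qd(p)`-free overgroup. -/
theorem le_Op'p_of_stronglyClosed (h2 : p ≠ 2) (P : Sylow p G) {Z X H : Subgroup G}
    (hZ : IsMulCommutative Z) (hs : IsStronglyClosed Z P) (hX : X ≤ Z) (hXH : X ≤ H)
    (hq : ¬ Involves (qd p) H) (hc : IsPConstrained p H) : X ≤ Op'p p H := by
  obtain ⟨R, hR, hXR⟩ := exists_sylow_ge hp.out (P.2.to_le (hX.trans hs.1)) hXH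
  obtain ⟨g, -, hg⟩ := sylow_le_cj hp.out (isSylowOf_top P) (hR.isPGroup hp.out) le_top
  refine le_trans ?_ (le_Op'p_of_qdFree h2 hq hc hR (A := R ⊓ cj g Z) (inf_le_left.trans hR.le)
    (comm_of_le (comm_cj hZ g) inf_le_right) (nrm_inf le_nrm_self (hg.trans ?_)))
  · refine le_inf hXR fun x hx => mem_cj.2 ?_
    have := hs.2 x (hX hx) g⁻¹ (by simpa using mem_cj.1 (hg (hXR hx)))
    simpa using this
  · rw [← cj_nrm]
    exact cj_mono g (H13.sc_le_normalizer hs)

theorem exists_elt_le_Op'p (h2 : p ≠ 2) (hq : ¬ Involves (qd p) G) (hd : p ∣ Nat.card G) :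
    ∃ x : G, orderOf x = p ∧ ∀ H : Subgroup G, x ∈ H → IsPConstrained p H → zpowers x ≤ Op'p p H := by
  obtain ⟨P⟩ : Nonempty (Sylow p G) := inferInstance
  obtain ⟨Z, hZ1, hZ, hs, -⟩ := exists_stronglyClosed_comm h2 hq P (P.ne_bot_of_dvd_card hd)
  obtain ⟨x, hx, hxp⟩ := cauchy hp.out
    ((isPi_of_isPGroup hp.out (P.2.to_le hs.1)).prime_and_dvd hZ1).2
  exact ⟨x, hxp, fun H hH hc => le_Op'p_of_stronglyClosed h2 P hZ hs (zpowers_le_of_mem hx)
    (zpowers_le_of_mem hH) (fun h => hq (H94.involves_trans h (H94.involves_subgroup H))) hc⟩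

end H18
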