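import Cfsg.Agent.H86.TP.Spec
import Cfsg.Agent.H14.FEKit
import Cfsg.Agent.H88.ASBase

/-! # S1308, chapter TE part 1: job SU -/

set_option autoImplicit false

namespace H18.TP

open Cfsg Subgroup MulAction H14 H98 H1.Gold H31.S2 H14.GC H14.FE H14.NF H86.TP
open scoped commutatorElement

universe u

theorem jSU : JobSU.{u} := by
  intro a3 cq tr G _ _ Q Q' T R E P L fu r hr
  by_cases r1 : r = 1
  · exact ⟨1, one_mem _, by rw [r1, one_mul]⟩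
  have ER : E ≤ R := L.eq ▸ inf_le_left
  have ET : E ≤ cen T := L.eq ▸ inf_le_right
  have RQ : R ≤ Q := L.sylR.le
  have EQ : E ≤ Q := ER.trans RQ
  have PR : P ≤ R := L.eqP ▸ inf_le_left
  have PF : P ≤ nor (E ⊔ T) := L.eqP ▸ inf_le_right
  have TQ' : T ≤ Q' := L.syl.le.trans inf_le_left
  have TN : T ≤ nor Q := L.syl.le.trans inf_le_right
  have QF : ∀ f ∈ E ⊔ T, f ∈ Q → f ∈ E := fun f hf hq => by
    obtain ⟨e, he, t, ht, rfl⟩ := (L.memF f).1 hf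
    rw [L.dis t ht ((Q.mul_mem_cancel_left (EQ he)).1 hq), mul_one]
    exact he
  obtain ⟨g, hg⟩ := L.vx
  have te' : IsTightlyEmbedded Q' := hg ▸ H14.te_cj L.tq.te g
  have EQ' : ∀ e ∈ E, e ∈ Q' → e = 1 := fun e he hq => by
    by_contra e1
    have h1 := H88.AS.same L.tq.te (g := g) (g' := 1) (inv_iff.1 ⟨e1, L.elE e he⟩) (hg ▸ hq)
      (by rw [cj_one]; exact EQ he)
    rw [cj_one, ← hg] at h1
    exact L.ne h1
  obtain ⟨y₀, hy₀, hn₀⟩ := SetLike.exists_of_lt L.ltP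
  obtain ⟨h, hh, hhr⟩ := tr G Q Q' T R E P L fu _ (L.sqE y₀ hy₀) (a3 G Q Q' T R E P L y₀ hy₀ hn₀)
    r hr r1
  have hQ : h ∈ nor Q := te_mem_normalizer L.tq.te (inv_iff.1 ⟨r1, L.elE r hr⟩) (EQ hr)
    (hhr ▸ conj_mem_cj (EQ (L.sqE y₀ hy₀)))
  set w := h * y₀ * h⁻¹ with hw
  have wQ : w ∈ Q := conj_mem_of_mem_normalizer hQ (RQ (PR hy₀))
  have wF : w ∈ nor (E ⊔ T) := mul_mem (mul_mem hh (PF hy₀)) (inv_mem hh)
  have ww : w * w = r := by rw [← hhr, hw]; group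
  have wE : w ∈ cen E := fun e he => by
    have h1 : h⁻¹ * e * h⁻¹⁻¹ ∈ E := QF _
      (conj_mem_of_mem_normalizer (inv_mem hh) (mem_sup_left he))
      (conj_mem_of_mem_normalizer (inv_mem hQ) (EQ he))
    have h2 := L.cenE hy₀ _ h1
    calc e * w = h * ((h⁻¹ * e * h⁻¹⁻¹) * y₀) * h⁻¹ := by rw [hw]; group
      _ = h * (y₀ * (h⁻¹ * e * h⁻¹⁻¹)) * h⁻¹ := by rw [h2]
      _ = w * e := by rw [hw]; group
  obtain ⟨t, ht, ti⟩ := four_exists_inv L.four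
  have tw : ⁅t, w⁆ ∈ E := QF _ (comm_mem_left (mem_sup_right ht) wF) (comm_mem_right (TN ht) wQ)
  obtain ⟨y₁, hy₁, e₁⟩ := fu t ht ti.1 _ tw
  set c := y₁⁻¹ * w with hc
  have cQ : c ∈ Q := mul_mem (inv_mem (RQ (PR hy₁))) wQ
  have cF : c ∈ nor (E ⊔ T) := mul_mem (inv_mem (PF hy₁)) wF
  have ct : c * t * c⁻¹ = t := by
    have h1 : y₁ * t⁻¹ * y₁⁻¹ = w * t⁻¹ * w⁻¹ := by
      have h2 := congrArg (t⁻¹ * ·) e₁
      simp only [commutatorElement_def, mul_assoc, inv_mul_cancel_left] at h2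
      simpa only [mul_assoc] using h2
    calc c * t * c⁻¹ = y₁⁻¹ * (w * t⁻¹ * w⁻¹)⁻¹ * y₁ := by rw [hc]; group
      _ = y₁⁻¹ * (y₁ * t⁻¹ * y₁⁻¹)⁻¹ * y₁ := by rw [h1]
      _ = t := by group
  have cN : c ∈ nor Q' := te_mem_normalizer te' (inv_iff.1 ti) (TQ' ht)
    (ct ▸ conj_mem_cj (TQ' ht))
  have cC : c ∈ cen (E ⊔ T) := fun f hf => by
    obtain ⟨e, he, s, hs, rfl⟩ := (L.memF f).1 hf
    have h1 : e * c = c * e := (mul_mem (inv_mem (L.cenE hy₁)) wE : c ∈ cen E) e he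
    have h2 : ⁅c, s⁆ = 1 := EQ' _
      (QF _ (comm_mem_right cF (mem_sup_right hs)) (comm_mem_left cQ (TN hs)))
      (comm_mem_right cN (TQ' hs))
    have h3 := commutatorElement_eq_one_iff_mul_comm.1 h2
    rw [mul_assoc, ← h3, ← mul_assoc, h1, mul_assoc]
  have hn₁ : y₁ ∉ E := fun hE => by
    have h1 : y₁ ∈ cen (E ⊔ T) := fun f hf => by
      obtain ⟨e, he, s, hs, rfl⟩ := (L.memF f).1 hf
      rw [mul_assoc, ET hE s hs, ← mul_assoc, L.cenE hy₁ e he, mul_assoc]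
    have h2 : w ∈ cen (E ⊔ T) := by
      have := mul_mem h1 cC
      rwa [hc, mul_inv_cancel_left] at this
    have h3 := h2 _ (conj_mem_of_mem_normalizer hh (mem_sup_right ht))
    refine L.nd y₀ hy₀ hn₀ t ht ti.1 (commutatorElement_eq_one_iff_mul_comm.2 ?_)
    calc t * y₀ = h⁻¹ * (h * t * h⁻¹ * w) * h := by rw [hw]; group
      _ = h⁻¹ * (w * (h * t * h⁻¹)) * h := by rw [h3]
      _ = y₀ * t := by rw [hw]; group
  refine ⟨y₁, hy₁, ?_⟩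
  rw [← cq G Q Q' T R E P L y₁ hy₁ hn₁ w wQ ⟨2, ?_⟩ cC, ww]
  rw [show 2 ^ 2 = 2 + 2 from rfl, pow_add, pow_two, ww, L.elE r hr]

end H18.TP
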