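/- Flavell's theorem: a finite group all of whose `2`-generator subgroups are solvable is solvable.
Part 1: the local analysis of a minimal counterexample. -/
import Cfsg.Agent.H18.StClosed
import Cfsg.Agent.H18.Misc
import Cfsg.Agent.H48.Two2
import Cfsg.Agent.H52.Sec6c
import Cfsg.Agent.H83.BaerSuzuki
import Cfsg.Agent.S3815

set_option autoImplicit false
set_option linter.unusedSectionVars false
open Cfsg hiding pRank
open H46 Subgroup
open scoped commutatorElement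

namespace H18.TG

universe u
variable {G : Type u} [Group G] [Finite G] {p : ℕ} {H K X W U Y D R R' : Subgroup G} {g x c : G}

theorem cj_Op'p_le (p : ℕ) (g : G) (H : Subgroup G) : cj g (Op'p p H) ≤ Op'p p (cj g H) := by
  rintro _ ⟨_, ⟨x, hx, rfl⟩, rfl⟩
  rw [← H10.comap_pPrimePCore_of_coprime_ker (p := p) (cjEquiv g H).toMonoidHom
    (cjEquiv g H).surjective (by
      rw [(MonoidHom.ker_eq_bot_iff _).2 (cjEquiv g H).injective]; simp)] at hx
  exact ⟨_, hx, rfl⟩

/-- a minimal counterexample -/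
structure MC (G : Type u) [Group G] : Prop where
  simple : IsSimpleGroup G
  nsol : ¬ Group.IsSolvable G
  prop : ∀ H : Subgroup G, H ≠ ⊤ → Group.IsSolvable H
  two : ∀ a b : G, zpowers a ⊔ zpowers b ≠ ⊤

/-- a subgroup of order `p` that lies in `O_{p',p}` of each proper overgroup -/
def St (p : ℕ) (X : Subgroup G) : Prop :=
  Nat.card X = p ∧ ∀ H : Subgroup G, H ≠ ⊤ → X ≤ H → X ≤ Op'p p H

/-- `X`-invariant `p'`-subgroups -/
def Inv (p : ℕ) (X Y : Subgroup G) : Prop := IsPi {p}ᶜ Y ∧ X ≤ Nrm Y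

theorem St.cj (h : St p X) (g : G) : St p (cj g X) :=
  ⟨by rw [card_cj, h.1], fun H hH hX => by
    have := cj_mono g (h.2 (H46.cj g⁻¹ H) (by rwa [Ne, cj_eq_top]) (cj_le_iff.1 hX))
    refine this.trans ((cj_Op'p_le p g _).trans ?_)
    rw [← cj_mul, mul_inv_cancel, cj_of_mem (one_mem H)]⟩

theorem Inv.cj (h : Inv p X Y) (g : G) : Inv p (cj g X) (cj g Y) :=
  ⟨h.1.cj g, by rw [← cj_nrm]; exact cj_mono g h.2⟩

theorem inv_Op' (h : X ≤ H) : Inv p X (Op' p H) := ⟨isPi_piCoreOf _ _, h.trans (le_nrm_piCoreOf _ _)⟩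

theorem Inv.inf (h : Inv p X Y) (hH : X ≤ H) : Inv p X (Y ⊓ H) :=
  ⟨h.1.inf_left, nrm_inf h.2 (nrm_of_le hH)⟩

theorem comm_elt_mem (hX : x ∈ X) (hc : c ∈ Y) (h : X ≤ Nrm Y) : ⁅c, x⁆ ∈ Y :=
  commutator_le_left' h (commutator_mem_commutator hc hX)

theorem comm_elt_mem_sup (hX : x ∈ X) (c : G) : ⁅c, x⁆ ∈ X ⊔ cj c X := by
  rw [commutatorElement_def]
  exact mul_mem (mem_sup_right (conj_mem_cj.2 hX)) (mem_sup_left (inv_mem hX))

namespace MC

variable (h : MC G)
include h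

theorem sol_top (hs : Group.IsSolvable (⊤ : Subgroup G)) : False :=
  h.nsol (solvable_of_surjective (f := (topEquiv : (⊤ : Subgroup G) ≃* G).toMonoidHom)
    topEquiv.surjective)

theorem ne_top (hs : Group.IsSolvable H) : H ≠ ⊤ := fun e => h.sol_top (e ▸ hs)

theorem nrm_ne_top (hs : Group.IsSolvable H) (h1 : H ≠ ⊥) : Nrm H ≠ ⊤ := fun e =>
  haveI := h.simple
  ((normalizer_eq_top_iff.1 e).eq_bot_or_eq_top).elim h1 (h.ne_top hs)

theorem cent1_ne_top (h1 : c ≠ 1) : Cent1 c ≠ ⊤ := fun e =>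
  h.nrm_ne_top (sol_of_comm inferInstance) (fun e => h1 (zpowers_eq_bot.1 e))
    (top_le_iff.1 (e.ge.trans (cent1_le_nrm_zpowers c)))

theorem sup_ne_top (hX : (Nat.card X).Prime) (g : G) : X ⊔ zpowers g ≠ ⊤ := by
  obtain ⟨x, rfl⟩ := cyclic_iff_exists_zpowers.1 (cyclic_of_card_prime hX)
  exact h.two x g

theorem sup_ne_top' (hX : (Nat.card X).Prime) (hW : (Nat.card W).Prime) : X ⊔ W ≠ ⊤ := by
  obtain ⟨x, rfl⟩ := cyclic_iff_exists_zpowers.1 (cyclic_of_card_prime hW)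
  exact h.sup_ne_top hX x

variable [hp : Fact p.Prime]

/-- centralizers of `p`-elements have trivial `p'`-core -/
theorem Op'_cent1 (hc : IsPiElt {p} c) (h1 : c ≠ 1) : Op' p (Cent1 c) = ⊥ := by
  refine eq_bot_iff.2 fun d hd => ?_
  have hd' : IsPiElt {p}ᶜ d := (isPi_piCoreOf _ _).elt hd
  have hcd : Commute d c := mem_cent1.1 (piCoreOf_le _ _ hd)
  have key : d ∈ pPrimeCore p G := by
    refine Cfsg.Agent.S3815.result d ((pnat_compl_singleton_iff_coprime hp.out).1 hd') fun g hg => ?_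
    have hcH : c ∈ zpowers (d * c) := hcd.eq ▸ mem_zpowers_mul_of_coprime hcd.symm (hc.coprime hd')
    have hdH : d ∈ zpowers (d * c) := mem_zpowers_mul_of_coprime hcd (hc.coprime hd').symm
    have hs := h.prop _ (h.two (d * c) g)
    have h2 := H51.p'core_cent_le hp.out hs (zpowers_le_of_mem (mem_sup_left hcH))
      ((isPi_zpowers.2 hc).isPGroup hp.out)
    rw [cent_zpowers] at h2
    have h3 : d ∈ Op' p (zpowers (d * c) ⊔ zpowers g) :=
      h2 (inf_piCoreOf_le inf_le_right ⟨⟨mem_sup_left hdH, piCoreOf_le _ _ hd⟩, hd⟩)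
    have h4 := (isPi_piCoreOf {p}ᶜ (zpowers (d * c) ⊔ zpowers g)).sup
      (isPi_zpowers.2 ((pnat_compl_singleton_iff_coprime hp.out).2 hg))
      (le_sup_right.trans (le_nrm_piCoreOf _ _))
    exact (pnat_compl_singleton_iff_coprime hp.out).1
      (h4.elt (mul_mem (mem_sup_left h3) (mem_sup_right (mem_zpowers g))))
  have := h.simple
  rcases (inferInstance : (pPrimeCore p G).Normal).eq_bot_or_eq_top with e | e
  · rwa [e] at key
  · exfalso
    have h5 : IsPi {p}ᶜ (pPrimeCore p G) :=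
      (isPi_compl_singleton_iff_coprime hp.out).2 (H2.coprime_card_pPrimeCore p G)
    exact h1 (hc.eq_one (h5.elt (e ▸ mem_top c)))

variable (hX : St p X)
include hX

omit h in
theorem prime : (Nat.card X).Prime := hX.1 ▸ hp.out

omit h in
theorem isPi : IsPi {p} X := (isPi_of_card_prime hp.out hX.1).2 rfl

omit h in
theorem sol : Group.IsSolvable X := (isPi hX).sol

omit h in
theorem comm_le (hH : H ≠ ⊤) (hXH : X ≤ H) (hY : Inv p X Y) (hYH : Y ≤ H) : ⁅Y, X⁆ ≤ Op' p H :=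
  H51.commutator_le_Op' hp.out hYH hY.1 (hX.2 H hH hXH) hY.2

theorem exists_inv : ∃ D : Subgroup G, Inv p X D ∧ ¬ X ≤ Cent D := by
  by_contra! hn
  have h1 := H83.baer_suzuki_subgroup (p := p) X fun g => by
    have hW := hX.cj g
    have hH := h.sup_ne_top' (prime hX) (prime hW)
    have hc : X ⊔ cj g X ≤ Cent (Op' p (X ⊔ cj g X)) := by
      refine sup_le (hn _ (inv_Op' le_sup_left)) ?_
      have := hn _ ((inv_Op' (p := p) (le_sup_right : cj g X ≤ X ⊔ cj g X)).cj g⁻¹ |> fun e => by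
        rwa [← cj_mul, inv_mul_cancel, cj_of_mem (one_mem X)] at e)
      rwa [← cj_cent, ← cj_le_iff] at this
    have hO : X ⊔ cj g X ≤ Op'p p (X ⊔ cj g X) :=
      sup_le (hX.2 _ hH le_sup_left) (hW.2 _ hH le_sup_right)
    have hnil : Group.IsNilpotent ↥(X ⊔ cj g X) := by
      refine nil_of_quo_of_central (le_cent_symm hc) (IsPi.nil (p := p) ?_)
      refine (isPi_piCoreOf {p} ((X ⊔ cj g X) ⧸ₙ Op' p (X ⊔ cj g X))).of_le ?_
      rw [quo_le_iff (le_nrm_piCoreOf _ _), ← Op'p_eq_qpre hp.out]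
      exact hO
    exact (isPGroup_Op hp.out _).to_le (sup_le (nil_le_piCoreOf hnil le_sup_left (isPi hX))
      (nil_le_piCoreOf hnil le_sup_right (isPi hW)))
  have := h.simple
  rcases (normalClosure_normal (s := (X : Set G))).eq_bot_or_eq_top with e | e
  · exact ne_bot_of_card_prime (prime hX) (eq_bot_of_le le_normalClosure e)
  · exact h.ne_top (isPi_of_isPGroup hp.out h1).sol e

theorem exists_min_inv : ∃ D : Subgroup G, Inv p X D ∧ ¬ X ≤ Cent D ∧
    ∃ d ∈ D, D ≤ X ⊔ cj d X := by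
  obtain ⟨D, ⟨hD, hc⟩, hm⟩ := (wellFounded_lt (α := Subgroup G)).has_min
    {D | Inv p X D ∧ ¬ X ≤ Cent D} (h.exists_inv hX)
  obtain ⟨x, rfl⟩ := cyclic_iff_exists_zpowers.1 (cyclic_of_card_prime (prime hX))
  have : ∃ d ∈ D, d * x ≠ x * d := by
    by_contra! hn
    exact hc (zpowers_le_of_mem (mem_cent.2 hn))
  obtain ⟨d, hd, hdx⟩ := this
  refine ⟨D, hD, hc, d, hd, ?_⟩
  by_contra hn
  refine hm _ ⟨hD.inf (le_sup_left (b := cj d (zpowers x))), fun e => hdx ?_⟩ (inf_lt_left.2 hn)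
  have h1 : ⁅d, x⁆ ∈ D := comm_elt_mem (mem_zpowers x) hd hD.2
  have h2 : Commute ⁅d, x⁆ x :=
    mem_cent.1 (e (mem_zpowers x)) _ ⟨h1, comm_elt_mem_sup (mem_zpowers x) d⟩
  have hx : IsPiElt {p} x := isPi_zpowers.1 (isPi hX)
  have h3 : Commute (d * x * d⁻¹) x⁻¹ := by
    have := h2.mul_left (Commute.refl x)
    rw [commutatorElement_def, inv_mul_cancel_right] at this
    exact this.inv_right
  have h4 := ((isPiElt_conj (g := d)).2 hx).mul hx.inv h3
  exact commutatorElement_eq_one_iff_mul_comm.1 (h4.eq_one (hD.1.elt h1))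

/-- `X` is the only subgroup of order `p` of its centralizer -/
theorem mem_of_cent {a : G} (ha : a ∈ Cent X) (hap : orderOf a = p) : a ∈ X := by
  by_contra hn
  obtain ⟨D, hD, hc, d, hd, hle⟩ := h.exists_min_inv hX
  have hH := h.sup_ne_top (prime hX) (d * a)
  set H := X ⊔ zpowers (d * a) with hHd
  have hda : d * a ∈ H := mem_sup_right (mem_zpowers _)
  have hXH : X ≤ H := le_sup_left
  have hDH : D ≤ H := by
    refine hle.trans (sup_le hXH ?_)
    rw [← cj_of_le_cent ha, ← cj_mul, ← cj_of_mem hda]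
    exact cj_mono _ hXH
  have haH : a ∈ H := by simpa using mul_mem (inv_mem (hDH hd)) hda
  have haX : zpowers a ≤ Cent X := zpowers_le_of_mem ha
  have hXc : IsMulCommutative X := comm_of_cyclic (cyclic_of_card_prime (prime hX))
  have hA : IsMulCommutative ↥(X ⊔ zpowers a) := comm_sup hXc inferInstance haX
  have hap' : Nat.card (zpowers a) = p := by rw [card_zpowers', hap]
  have hAp : IsPi {p} (X ⊔ zpowers a) :=
    (isPi hX).sup ((isPi_of_card_prime hp.out hap').2 rfl) (nrm_of_le_cent haX)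
  have hK : Op' p H ≤ Cent X := by
    refine coprime_abelian_gen_cent1 hA (fun hcyc => hn ?_)
      ((sup_le hXH (zpowers_le_of_mem haH)).trans (le_nrm_piCoreOf _ _))
      (hAp.coprime (isPi_piCoreOf _ _)) fun b hb hb1 => ?_
    · rw [eq_of_cyclic_of_card_eq hcyc le_sup_left le_sup_right (hX.1.trans hap'.symm)]
      exact mem_zpowers a
    · have hXb : X ≤ Cent1 b := le_sup_left.trans ((comm_iff_le_cent.1 hA).trans (cent_le_cent1 hb))
      have := comm_le hX (h.cent1_ne_top hb1) hXb ((inv_Op' hXH).inf hXb) inf_le_right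
      rwa [h.Op'_cent1 (hAp.elt hb) hb1, le_bot_iff, H46.commutator_eq_bot_iff] at this
  exact hc (coprime_commGG1P hD.2 ((isPi hX).coprime hD.1) (Or.inl (sol hX))
    (le_cent_symm ((comm_le hX hH hXH hD hDH).trans hK)))

variable (h2 : p ≠ 2)
include h2

theorem inf_cent (hY : IsPi {p}ᶜ Y) : Y ⊓ Cent X = ⊥ := by
  obtain ⟨x, rfl⟩ := cyclic_iff_exists_zpowers.1 (cyclic_of_card_prime (prime hX))
  have h1 : x ≠ 1 := fun e => ne_bot_of_card_prime (prime hX) (zpowers_eq_bot.2 e)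
  have h3 := cent_fittingOf_le (h.prop _ (h.cent1_ne_top h1))
  rw [fittingOf_eq_Op (h.Op'_cent1 (isPi_zpowers.1 (isPi hX)) h1)] at h3
  rw [cent_zpowers]
  refine (isPi_piCoreOf {p} (Cent1 x)).of_le (h3.trans' (le_inf inf_le_right ?_)) |>.eq_bot hY.inf_left
  refine H52.coprime_odd_faithful_Ohm1 hp.out h2 (isPGroup_Op hp.out _)
    (inf_le_right.trans (le_nrm_piCoreOf _ _))
    ((isPi_compl_singleton_iff_coprime hp.out).1 hY.inf_left) fun a ha hap => ?_
  have := h.mem_of_cent hX (a := a) (by rw [cent_zpowers]; exact piCoreOf_le _ _ ha) hap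
  exact inf_le_right.trans (cent1_le_of_mem_zpowers this)

theorem inv_le (hH : H ≠ ⊤) (hXH : X ≤ H) (hY : Inv p X Y) (hYH : Y ≤ H) : Y ≤ Op' p H := by
  rw [← coprime_commutator_eq_self hY.2 ((isPi hX).coprime hY.1) (Or.inl (sol hX))
    (h.inf_cent hX h2 hY.1)]
  exact comm_le hX hH hXH hY hYH

theorem inv_nil (hY : Inv p X Y) : Group.IsNilpotent Y :=
  (semiregular_of_prime (prime hX) (h.inf_cent hX h2 hY.1)).nil hY.2
    (ne_bot_of_card_prime (prime hX))

theorem inv_sup : ∀ (n : ℕ) (Y Y' : Subgroup G), Inv p X Y → Inv p X Y' → Y ⊓ Y' ≠ ⊥ →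
    Nat.card G ≤ Nat.card ↥(Y ⊓ Y') + n → Inv p X (Y ⊔ Y') := by
  intro n
  induction n with
  | zero =>
    intro Y Y' hY hY' _ hn
    have : Y ⊓ Y' = ⊤ := eq_top_of_card_eq _ (le_antisymm (card_le_card_group _) hn)
    exact (h.ne_top (sol_of_nil (h.inv_nil hX h2 hY)) (top_le_iff.1 (this.ge.trans inf_le_left))).elim
  | succ n ih =>
    intro Y Y' hY hY' h1 hn
    by_cases e : Y ≤ Y'
    · rwa [sup_eq_right.2 e]
    by_cases e' : Y' ≤ Y
    · rwa [sup_eq_left.2 e']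
    have hnil := h.inv_nil hX h2 hY
    have hH := h.nrm_ne_top (sol_of_le (sol_of_nil hnil) inf_le_left) h1
    have hXH : X ≤ Nrm (Y ⊓ Y') := nrm_inf hY.2 hY'.2
    have l1 := (nil_lt_inf_nrm hnil (inf_lt_left.2 e)).trans_le (le_inf inf_le_left
      (h.inv_le hX h2 hH hXH (hY.inf hXH) inf_le_right))
    have l2 := (nil_lt_inf_nrm (h.inv_nil hX h2 hY') (inf_lt_right.2 e')).trans_le (le_inf
      (le_sup_of_le_right (a := Y) (h.inv_le hX h2 hH hXH (hY'.inf hXH) inf_le_right)) inf_le_left)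
    have k1 := ih _ _ hY (inv_Op' hXH) (ne_bot_of_gt l1) (by have := card_lt_of_lt l1; omega)
    have k2 := ih _ _ k1 hY' (ne_bot_of_gt l2) (by have := card_lt_of_lt l2; omega)
    exact ⟨k2.1.of_le (sup_le_sup_right le_sup_left _), nrm_sup hY.2 hY'.2⟩

/-- every conjugate of `X` is a conjugate under an `X`-invariant `p'`-subgroup -/
theorem exists_cj (hW : St p W) : ∃ b ∈ Op' p (X ⊔ W), W = cj b X := by
  have hH := h.sup_ne_top' (prime hX) (prime hW)
  have hO : Op'p p (X ⊔ W) = X ⊔ W := le_antisymm (H51.Op'p_normal _ _).1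
    (sup_le (hX.2 _ hH le_sup_left) (hW.2 _ hH le_sup_right))
  obtain ⟨S, hS, hXS⟩ := exists_sylow_ge hp.out ((isPi hX).isPGroup hp.out) (le_sup_left (b := W))
  obtain ⟨g, hg, hWS⟩ := sylow_le_cj hp.out hS ((isPi hW).isPGroup hp.out) le_sup_right
  have e := H48.Op'_sup_sylow hp.out (H := X ⊔ W) (P := S) (by rwa [hO])
  rw [hO] at e
  obtain ⟨b, hb, s, hs, rfl⟩ := (mem_sup_of_nrm (hS.le.trans (le_nrm_piCoreOf _ _))).1 (e.ge hg)
  rw [cj_mul, cj_of_mem hs] at hWS
  refine ⟨b, hb, ?_⟩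
  obtain ⟨z, hz, hzp⟩ := cauchy hp.out ((hS.isPi.inf_left (H := Cent S)).prime_and_dvd
    (zc_ne_bot_of_isPGroup hp.out (hS.isPGroup hp.out)
      (ne_bot_of_le hXS (ne_bot_of_card_prime (prime hX))))).2
  have hz1 : z ≠ 1 := fun e => hp.out.one_lt.ne (by rw [← hzp, e, orderOf_one])
  have hXZ : S ≤ Cent X := by
    rw [← eq_zpowers_of_card_prime (prime hX) (h.mem_of_cent hX (cent_anti hXS hz.2) hzp) hz1,
      cent_zpowers]
    exact le_cent1_iff.2 hz.2
  obtain ⟨w, rfl⟩ := cyclic_iff_exists_zpowers.1 (cyclic_of_card_prime (prime hW))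
  refine eq_of_le_of_card_eq (zpowers_le_of_mem (mem_cj.2 (h.mem_of_cent hX
    (hXZ (mem_cj.1 (hWS (mem_zpowers w)))) ?_))) (by rw [card_cj, hX.1, hW.1])
  have := orderOf_conj b⁻¹ w
  rw [inv_inv] at this
  rw [this, ← card_zpowers', hW.1]

end MC

end H18.TG
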