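/- Flavell's theorem: a finite group all of whose `2`-generator subgroups are solvable is solvable.
Part 2: the linear space on the conjugates of `X`. -/
import Cfsg.Agent.H18.TwoGen
import Cfsg.Agent.H5.FrobThm
import Cfsg.Agent.S0144

set_option autoImplicit false
set_option linter.unusedSectionVars false
open Cfsg hiding pRank
open H46 Subgroup
open scoped commutatorElement

namespace H18.TG

universe u
variable {G : Type u} [Group G] [Finite G] {p : ℕ} {H K X W U Y D R R' R₀ : Subgroup G}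
  {g x b c n r r' : G}

/-- maximal `X`-invariant `p'`-subgroups -/
def Mx (p : ℕ) (X R : Subgroup G) : Prop :=
  Inv p X R ∧ ∀ Y : Subgroup G, Inv p X Y → Y ⊓ R ≠ ⊥ → Y ≤ R

theorem Mx.cj (h : Mx p X R) (g : G) : Mx p (cj g X) (cj g R) :=
  ⟨h.1.cj g, fun Y hY h1 => by
    have h2 := hY.cj g⁻¹
    rw [← cj_mul, inv_mul_cancel, cj_of_mem (one_mem X)] at h2
    refine le_cj_iff.2 (h.2 _ h2 fun e => h1 ?_)
    rwa [← cj_eq_bot (g := g), cj_inf, ← cj_mul, mul_inv_cancel, cj_of_mem (one_mem Y)] at e⟩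

theorem Mx.cj_of_mem (h : Mx p X R) (hr : r ∈ R) : Mx p (H46.cj r X) R := by
  have := h.cj r
  rwa [H46.cj_of_mem hr] at this

theorem cj_inv_cj' (g : G) (X : Subgroup G) : cj g⁻¹ (cj g X) = X := by
  rw [← cj_mul, inv_mul_cancel, cj_of_mem (one_mem X)]

namespace MC

variable (h : MC G) [hp : Fact p.Prime] (h2 : p ≠ 2) (hX : St p X)
include h h2 hX

theorem exists_mx (hY : Inv p X Y) (h1 : Y ≠ ⊥) : ∃ R, Mx p X R ∧ Y ≤ R := by
  obtain ⟨R, ⟨hR, hle⟩, hm⟩ := (wellFounded_gt (α := Subgroup G)).has_min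
    {R | Inv p X R ∧ Y ≤ R} ⟨Y, hY, le_rfl⟩
  refine ⟨R, ⟨hR, fun Z hZ h3 => ?_⟩, hle⟩
  by_contra hn
  exact hm _ ⟨h.inv_sup hX h2 (Nat.card G) Z R hZ hR h3 (Nat.le_add_left _ _),
    hle.trans le_sup_right⟩ (right_lt_sup.2 hn)

theorem inf_ne_bot (hR : Inv p X R) (hr : r ∈ R) (h1 : r ≠ 1) (hH : X ⊔ cj r X ≤ H) :
    R ⊓ H ≠ ⊥ := fun e => by
  have : r ∈ R ⊓ Cent X := ⟨hr, mem_cent.2 fun x hx => by
    have h3 : ⁅r, x⁆ ∈ R ⊓ H := ⟨comm_elt_mem hx hr hR.2, hH (comm_elt_mem_sup hx r)⟩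
    rw [e, mem_bot] at h3
    exact (commutatorElement_eq_one_iff_mul_comm.1 h3).symm⟩
  rw [h.inf_cent hX h2 hR.1] at this
  exact h1 this

theorem Op'_le (hR : Mx p X R) (hr : r ∈ R) (h1 : r ≠ 1) (hH : X ⊔ cj r X ≤ H) (ht : H ≠ ⊤) :
    Op' p H ≠ ⊥ ∧ Op' p H ≤ R := by
  have hXH := le_sup_left.trans hH
  have h3 := h.inv_le hX h2 ht hXH (hR.1.inf hXH) inf_le_right
  have h4 := h.inf_ne_bot h2 hX hR.1 hr h1 hH
  exact ⟨ne_bot_of_le h3 h4, hR.2 _ (inv_Op' hXH) (ne_bot_of_le (le_inf h3 inf_le_left) h4)⟩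

/-- two points lie on only one line -/
theorem mx_eq (hR : Mx p X R) (hR' : Mx p X R') (hr : r ∈ R) (hr' : r' ∈ R')
    (e : cj r X = cj r' X) (hne : cj r X ≠ X) : R = R' := by
  have h1 : ∀ s : G, cj s X ≠ X → s ≠ 1 := fun s hs e => hs (by rw [e, cj_of_mem (one_mem X)])
  have ht := h.sup_ne_top' (prime hX) (prime (hX.cj r))
  have k1 := h.Op'_le h2 hX hR hr (h1 r hne) le_rfl ht
  have k2 := h.Op'_le h2 hX hR' hr' (h1 r' (e ▸ hne)) (by rw [e]) (H := X ⊔ cj r X) ht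
  have k3 := ne_bot_of_le (le_inf k1.2 k2.2) k1.1
  exact le_antisymm (hR'.2 _ hR.1 k3) (hR.2 _ hR'.1 (by rwa [inf_comm]))

theorem exists_line (hW : St p W) (hne : W ≠ X) : ∃ R r, Mx p X R ∧ r ∈ R ∧ W = cj r X := by
  obtain ⟨b, hb, e⟩ := h.exists_cj hX h2 hW
  obtain ⟨R, hR, hle⟩ := h.exists_mx h2 hX (inv_Op' (le_sup_left (b := W)))
    (ne_bot_of_mem hb fun e' => hne (by rw [e, e', cj_of_mem (one_mem X)]))
  exact ⟨R, b, hR, hle hb, e⟩

theorem nrm_le (hR : Mx p X R) : Nrm X ≤ Nrm R := by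
  intro n hn
  by_cases h1 : R = ⊥
  · rw [mem_nrm_iff_cj, h1, cj_bot]
  obtain ⟨b, hb, hb1⟩ := exists_ne_one_of_ne_bot h1
  have ht := h.sup_ne_top (prime hX) (n * b)
  have hnb : n * b ∈ X ⊔ zpowers (n * b) := mem_sup_right (mem_zpowers _)
  have k := h.Op'_le h2 hX hR (inv_mem hb) (inv_ne_one.2 hb1) (H := X ⊔ zpowers (n * b)) (by
    refine sup_le le_sup_left ?_
    have e : cj b⁻¹ X = cj (n * b)⁻¹ X := by rw [mul_inv_rev, cj_mul, cj_of_mem_nrm (inv_mem hn)]
    exact e.le.trans ((cj_mono _ le_sup_left).trans (cj_of_mem (inv_mem hnb)).le)) ht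
  have k2 : Op' p (X ⊔ zpowers (n * b)) ≤ cj n R := by
    have := cj_mono (n * b) k.2
    rwa [cj_of_mem_nrm (le_nrm_piCoreOf {p}ᶜ _ hnb), cj_mul, cj_of_mem hb] at this
  have k3 := hR.1.cj n
  rw [cj_of_mem_nrm hn] at k3
  exact mem_nrm_of_cj_le (hR.2 _ k3 (ne_bot_of_le (le_inf k2 k.2) k.1))

theorem cj_line (hR : Mx p X R) (hc : c ∈ R) (hn : n ∈ Nrm X) :
    ∃ r ∈ R, cj n (cj c X) = cj r (cj c X) :=
  ⟨n * c * n⁻¹ * c⁻¹, mul_mem (conj_mem_of_mem_nrm (h.nrm_le h2 hX hR hn) hc) (inv_mem hc), by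
    rw [← cj_mul, ← cj_mul, inv_mul_cancel_right, cj_mul _ n⁻¹, cj_of_mem_nrm (inv_mem hn)]⟩

/-- an element fixing two points fixes all points off their line -/
theorem fix_off (hR₀ : Mx p X R₀) (hb : b ∈ R₀) (hne : cj b X ≠ X) (hR : Mx p X R) (hc : c ∈ R)
    (hRR : R ≠ R₀) (hn : n ∈ Nrm X) (hn' : n ∈ Nrm (cj b X)) : n ∈ Nrm (cj c X) := by
  by_cases e0 : cj c X = cj b X
  · rwa [e0]
  obtain ⟨R', e, hR', he, e1⟩ := h.exists_line h2 (hX.cj b) (hX.cj c) e0
  obtain ⟨r, hr, e2⟩ := h.cj_line h2 hX hR hc hn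
  obtain ⟨r', hr', e3⟩ := h.cj_line h2 (hX.cj b) hR' he hn'
  rw [← e1] at e3
  by_contra hU
  have k := hR'.cj_of_mem he
  rw [← e1] at k
  have k1 := h.mx_eq h2 (hX.cj c) (hR.cj_of_mem hc) k hr hr' (e2.symm.trans e3)
    (by rw [← e2]; exact fun e => hU (mem_nrm_iff_cj.2 e))
  subst k1
  have e4 : cj (e⁻¹ * c) X = cj b X := by rw [cj_mul, e1, cj_inv_cj']
  exact hRR (h.mx_eq h2 hX hR hR₀ (mul_mem (inv_mem he) hc) hb e4 (e4 ▸ hne))

theorem fix_all (hne : cj g X ≠ X) (hn : n ∈ Nrm X) (hn' : n ∈ Nrm (cj g X)) (k : G) :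
    n ∈ Nrm (cj k X) := by
  obtain ⟨R₀, b, hR₀, hb, e⟩ := h.exists_line h2 hX (hX.cj g) hne
  rw [e] at hne hn'
  by_cases e0 : cj k X = X
  · rwa [e0]
  obtain ⟨R, c, hR, hc, e1⟩ := h.exists_line h2 hX (hX.cj k) e0
  rw [e1]
  by_cases hRR : R = R₀
  swap
  · exact h.fix_off h2 hX hR₀ hb hne hR hc hRR hn hn'
  subst hRR
  have : ∃ l : G, ¬ cj l X ≤ R ⊔ X := by
    by_contra! hl
    have hs := sol_sup hR.1.2 (sol_of_nil (h.inv_nil hX h2 hR.1)) (sol hX)
    have := h.simple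
    rcases (normalClosure_normal (s := (X : Set G))).eq_bot_or_eq_top with e | e
    · exact ne_bot_of_card_prime (prime hX) (eq_bot_of_le le_normalClosure e)
    refine h.ne_top hs (top_le_iff.1 (e.ge.trans ((closure_le _).2 fun y hy => ?_)))
    obtain ⟨a, ha, hc⟩ := Group.mem_conjugatesOfSet_iff.1 hy
    obtain ⟨l, rfl⟩ := isConj_iff.1 hc
    exact hl l (conj_mem_cj.2 ha)
  obtain ⟨l, hl⟩ := this
  obtain ⟨R₁, d, hR₁, hd, e2⟩ := h.exists_line h2 hX (hX.cj l) fun e => hl (e.le.trans le_sup_right)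
  have hne1 : R₁ ≠ R := by
    rintro rfl
    exact hl (e2.le.trans ((cj_mono d le_sup_right).trans (cj_of_mem (mem_sup_left hd)).le))
  exact h.fix_off h2 hX hR₁ hd (fun e => hl (by rw [e2, e]; exact le_sup_right)) hR hc hne1.symm hn
    (h.fix_off h2 hX hR₀ hb hne hR₁ hd hne1 hn hn')

theorem false_of_st : False := by
  have := h.simple
  have h1 := ne_bot_of_card_prime (prime hX)
  have ht := h.nrm_ne_top (sol hX) h1
  have hF : IsFrobeniusComplement (Nrm X) := by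
    refine (H5.isFrobeniusComplement_iff _).2 ⟨ne_bot_of_le le_nrm_self h1, ht, fun g n hn hn1 hg => ?_⟩
    by_contra hgn
    have k := h.fix_all h2 hX (g := g⁻¹) (fun e => hgn (inv_mem_iff.1 (mem_nrm_iff_cj.2 e))) hn
      (by rw [← cj_nrm, mem_cj, inv_inv]; exact hg)
    rcases (normalCore_normal (Nrm X)).eq_bot_or_eq_top with e | e
    · refine hn1 (mem_bot.1 (e ▸ fun l => ?_))
      have := k l⁻¹
      rwa [← cj_nrm, mem_cj, inv_inv] at this
    · exact ht (top_le_iff.1 (e.ge.trans (normalCore_le _)))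
  rcases (H5.frobKer_normal hF).eq_bot_or_eq_top with e | e
  · exact H5.frobKer_ne_bot hF e
  · have := (H5.frobKer_isComplement' hF).disjoint
    rw [e, top_disjoint] at this
    exact hF.1 this

end MC

theorem exists_prime_gt_three (h : ¬ Group.IsSolvable G) :
    ∃ p : ℕ, p.Prime ∧ 3 < p ∧ p ∣ Nat.card G := by
  by_contra! hn
  obtain ⟨a, m, hm, e⟩ := Nat.exists_eq_pow_mul_and_not_dvd (Nat.card_pos (α := G)).ne' 2 (by decide)
  have hm0 : m ≠ 0 := fun e0 => hm (e0 ▸ dvd_zero 2)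
  obtain ⟨b, hb⟩ := (pnat_singleton_iff Nat.prime_three hm0).1 fun q hq hd => by
    have h1 : ¬ 3 < q := fun h3 => hn q hq h3 (e ▸ hd.mul_left _)
    have h2 : q ≠ 2 := fun e2 => hm (e2 ▸ hd)
    have := hq.two_le
    show q = 3
    omega
  exact h (Cfsg.Agent.S0144.result 2 3 a b Nat.prime_two Nat.prime_three (hb ▸ e))

theorem MC.false (h : MC G) : False := by
  obtain ⟨p, hp, h3, hd⟩ := exists_prime_gt_three h.nsol
  have := Fact.mk hp
  obtain ⟨x, hx, hH⟩ := exists_elt_le_Op'p (by omega) (not_involves_qd_of_local_solvable h3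
    fun Q hQ h1 => h.prop _ (h.nrm_ne_top (isPi_of_isPGroup hp hQ).sol h1)) hd
  exact h.false_of_st (p := p) (by omega) (X := zpowers x) ⟨by rw [card_zpowers', hx],
    fun H ht hle => haveI := h.prop H ht
      hH H (hle (mem_zpowers x)) (H51.isPConstrained_of_solvable H p)⟩

/-- Flavell's theorem -/
theorem solvable_of_two_gen : ∀ (G : Type u) [Group G] [Finite G],
    (∀ a b : G, Group.IsSolvable ↥(zpowers a ⊔ zpowers b)) → Group.IsSolvable G := by
  refine @H18.induction_card _ ?_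
  intro G _ _ ih h
  by_contra hn
  have prop : ∀ H : Subgroup G, H ≠ ⊤ → Group.IsSolvable H := fun H hH =>
    ih H (by simpa using card_lt_of_lt (lt_top_iff_ne_top.2 hH)) fun a b => by
      have := h a b
      rw [← H.coe_subtype, ← MonoidHom.map_zpowers, ← MonoidHom.map_zpowers, ← Subgroup.map_sup] at this
      exact Group.isSolvable_of_surjective
        (f := (equivMapOfInjective _ _ H.subtype_injective).symm.toMonoidHom) (MulEquiv.surjective _)
  have nt : Nontrivial G := by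
    by_contra h1
    rw [not_nontrivial_iff_subsingleton] at h1
    exact hn inferInstance
  refine MC.false (G := G) ⟨⟨fun N hN => ?_⟩, hn, prop, fun a b e => hn ?_⟩
  · by_contra! h1
    have h2 := prop N h1.2
    have h3 := ih (G ⧸ N) (by
      rw [← N.card_mul_index, index_eq_card]
      exact lt_mul_of_one_lt_left Nat.card_pos (one_lt_card.2 h1.1)) fun a b => by
        obtain ⟨a, rfl⟩ := QuotientGroup.mk'_surjective N a
        obtain ⟨b, rfl⟩ := QuotientGroup.mk'_surjective N b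
        have := h a b
        rw [← MonoidHom.map_zpowers, ← MonoidHom.map_zpowers, ← Subgroup.map_sup]
        exact Group.isSolvable_of_surjective ((QuotientGroup.mk' N).subgroupMap_surjective _)
    exact hn (Group.isSolvable_of_ker_le_range N.subtype (QuotientGroup.mk' N) (by simp))
  · have := h a b
    rw [e] at this
    exact Group.isSolvable_of_surjective (f := (topEquiv : (⊤ : Subgroup G) ≃* G).toMonoidHom)
      topEquiv.surjective

theorem closure_pair (a b : G) : Subgroup.closure ({a, b} : Set G) = zpowers a ⊔ zpowers b := by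
  rw [zpowers_eq_closure, zpowers_eq_closure, ← Subgroup.closure_union]
  rfl

end H18.TG
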