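import Cfsg.Agent.H78.YUDef

/-! STD-SP (row S3129), endgame, unitary models: job GC of `blueprints/STDSP_YU.md`. -/

set_option autoImplicit false
set_option linter.unusedSectionVars false

namespace H18.YUGC

open H67 H67.UA H64.YE H78.YU Subgroup Matrix
open H67.SP (Qx bc fa mid iv IsIns ins Alt kk vx xb)

section W

variable {n : ℕ} {K : Type} [Field K] [StarRing K] [CharP K 2]

theorem hf_W {v w : Vn n K} (hv : Wk (kk n) v) (hw : Wk (kk n) w) : hf v w = 0 :=
  Finset.sum_eq_zero fun i _ => by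
    by_cases hi : kk n ≤ i.val
    · rw [hv i hi, zero_mul]
    · rw [hw i.rev (by have := i.2; rw [Fin.val_rev]; unfold kk at *; omega), star_zero, mul_zero]

theorem fix_W {g : XU n K} (hg : ∀ w, Wk (kk n) (ac g w + w)) {z : Vn n K} (hz : Wk (kk n) z) :
    ac g z = z := by
  have e : ac g⁻¹ z = z := eq_of_hf fun y => by
    have h1 := hf_W (hg y) hz
    rw [hf_add_left, hf_ac_left] at h1
    rw [← star_hf, ← star_hf y z]
    congr 1
    linear_combination h1 - hf y z * two0 K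
  conv_lhs => rw [← e, ac_ac_inv]

end W

variable {n : ℕ} {F : Type} [Field F] [StarRing F] [TrivialStar F] [CharP F 2] [Finite F]
  {K : Type} [Field K] [StarRing K] [CharP K 2] [Finite K] {x : Qx F K} {h : ∀ a : K, star a = x.σ a}

theorem vx_zero (m : ℕ) : vx x.φ (0 : Vn m F) = 0 := funext fun _ => map_zero x.φ

theorem nf (f0 : F0 x h) (dc : DC n F) (al : AL n x h) {u : XU n F} (hu : u * u = 1) :
    ∃ (g : XU n F) (g' : XU n K) (v : Vn n F), Wk (kk n) v ∧ (Alt u ↔ v = 0) ∧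
      iU n x h (TT v) = TT (vx x.φ v) ∧
      iU n x h u = iU n x h g * g' * iU n x h (TT v) * (ta n K (iU n x h g * g'))⁻¹ := by
  obtain ⟨g, u', v, e, h1, h2, h3, h4⟩ := dc u hu
  obtain ⟨g', k1, k2⟩ := al u' h1 h2
  have fx : ∀ p, ta n K (iU n x h p) = iU n x h p := fun p => (f0.fix n _).2 ⟨p, rfl⟩
  have e1 : iU n x h (TT v) = TT (vx x.φ v) := by
    rw [f0.ee n _ _ _ (ok_zero (hf_W h3 h3) (star_one F)), vx_zero, map_one]
  have hz : Wk (kk n) (vx x.φ v) := fun i hi => by rw [vx, h3 i hi, map_zero]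
  have c1 : g' * iU n x h (TT v) * g'⁻¹ = iU n x h (TT v) := by
    rw [e1, Tc_conj (hf_W hz hz) (star_one K), fix_W k1 hz]
  have c2 := congrArg (ta n K) c1
  rw [map_mul, map_mul, map_inv, fx, mul_inv_eq_iff_eq_mul] at c2
  refine ⟨g, g', v, h3, h4, e1, ?_⟩
  have c3 : (ta n K g')⁻¹ * iU n x h (TT v) = iU n x h (TT v) * (ta n K g')⁻¹ := by
    rw [inv_mul_eq_iff_eq_mul, ← mul_assoc, c2, mul_inv_cancel_right]
  rw [e, map_mul, map_mul, map_mul, map_mul, map_inv, fx, k2, mul_assoc g', c3]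
  group

theorem jobGC : H78.YU.JobGC := by
  intro n F _ _ _ _ _ _ b _ _ K _ _ _ _ x h f0 i1 f1 dc al
  have fx : ∀ p, ta n K (iU n x h p) = iU n x h p := fun p => (f0.fix n _).2 ⟨p, rfl⟩
  refine ⟨fun u hu ha => ?_, fun u hu ha => ?_, fun u hu => ?_⟩
  · obtain ⟨g, g', v, -, h1, -, e⟩ := nf f0 dc al hu
    rw [h1.1 ha, TT, Tc, EE_zero_left, map_one, mul_one] at e
    exact ⟨_, e⟩
  · obtain ⟨g, g', v, hv, h1, -, e⟩ := nf f0 dc al hu.1
    obtain ⟨p, hp⟩ := b.w1 v fun e => ha (h1.2 e)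
    have i0 : Iso (ev 0 : Vn n F) := by
      have := (show Iso v from hf_W hv hv).ac p⁻¹
      rwa [← hp, ac_inv_ac] at this
    rw [← hp, TT, ← Tc_conj i0 (star_one F)] at e
    refine ⟨iU n x h g * g' * iU n x h p, e.trans ?_⟩
    simp only [map_mul, map_inv, fx]
    group
  · obtain ⟨g, g', v, hv, -, e1, e⟩ := nf f0 dc al hu
    have := hfK x h
    obtain ⟨η, hη⟩ := H59.UM.exists_tr (star_one K)
    have iz : Iso (vx x.φ v) := by rw [Iso, f0.hv, hf_W hv hv, map_zero]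
    have ok : Ok (iv (vx x.φ v)) (ev (mid n)) η :=
      ⟨(i1.hh _ _).trans iz, hf_symm (i1.hm _), hη.trans i1.mm.symm⟩
    have i0 : iv (0 : Vn n K) = 0 := by simpa using i1.smul 0 0
    have t : EE (iv (vx x.φ v)) (ev (mid n)) η * (ta (n + 1) K (EE (iv (vx x.φ v)) (ev (mid n)) η))⁻¹ =
        ins n K (iU n x h (TT v)) := by
      rw [ta_EE ok, i1.bi, f0.bv, br_ev, EE_inv ok.star, star_star, EE_mul ok ok, v_add_self,
        CharTwo.add_self_eq_zero, zero_add, i1.mm, e1, i1.ee _ _ _ (ok_zero iz (star_one K)), i0]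
    refine ⟨ins n K (iU n x h g * g') * EE (iv (vx x.φ v)) (ev (mid n)) η, ?_⟩
    rw [f1.sq, e, map_mul (ta (n + 1) K), i1.tc, map_mul (ins n K), map_mul (ins n K), map_inv, ← t]
    group

end H18.YUGC
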